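import Mathlib

/-!
Basic facts on `SL`, `PSL`, `PGL`: orders, generation by transvections, perfectness, simplicity.
-/

set_option autoImplicit false

namespace H7

open Matrix Matrix.SpecialLinearGroup
open scoped MatrixGroups commutatorElement

section Orders

variable {ι F : Type*} [Fintype ι] [DecidableEq ι] [Field F]

/-- `SL` is the kernel of `det` on `GL`. -/
noncomputable def slEquivKerDet :
    Matrix.SpecialLinearGroup ι F ≃* (Matrix.GeneralLinearGroup.det : GL ι F →* Fˣ).ker :=
  MulEquiv.ofBijective
    ((Matrix.SpecialLinearGroup.toGL : Matrix.SpecialLinearGroup ι F →* GL ι F).codRestrict _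
      (fun g => by simp [MonoidHom.mem_ker]))
    ⟨fun a b h => Matrix.SpecialLinearGroup.toGL_injective (congrArg Subtype.val h),
     fun ⟨g, hg⟩ => ⟨⟨g.1, by
        have := congrArg Units.val (MonoidHom.mem_ker.1 hg)
        simpa using this⟩, by
        apply Subtype.ext; apply Units.ext; rfl⟩⟩

theorem range_toGL :
    (Matrix.SpecialLinearGroup.toGL : Matrix.SpecialLinearGroup ι F →* GL ι F).range =
      (Matrix.GeneralLinearGroup.det : GL ι F →* Fˣ).ker := by
  ext g
  constructor
  · rintro ⟨a, rfl⟩
    simp [MonoidHom.mem_ker]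
  · intro hg
    refine ⟨⟨g.1, ?_⟩, Units.ext rfl⟩
    have := congrArg Units.val (MonoidHom.mem_ker.1 hg)
    simpa using this

theorem card_units_mul_card_sl [Nonempty ι] :
    Nat.card Fˣ * Nat.card (Matrix.SpecialLinearGroup ι F) = Nat.card (GL ι F) := by
  rw [Nat.card_congr (slEquivKerDet (ι := ι) (F := F)).toEquiv]
  have h := Subgroup.card_mul_index (Matrix.GeneralLinearGroup.det : GL ι F →* Fˣ).ker
  rw [Subgroup.index_ker, MonoidHom.range_eq_top.2 Matrix.GeneralLinearGroup.det_surjective] at h
  rw [← h, mul_comm, Subgroup.card_top]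

theorem card_units_eq [Fintype F] {q : ℕ} (hF : Fintype.card F = q) : Nat.card Fˣ = q - 1 := by
  rw [Nat.card_units, Nat.card_eq_fintype_card, hF]

theorem card_gl [Fintype F] {q : ℕ} (hF : Fintype.card F = q) (n : ℕ) :
    Nat.card (GL (Fin n) F) = ∏ i : Fin n, (q ^ n - q ^ (i : ℕ)) := by
  rw [Matrix.card_GL_field, hF]

theorem card_sl [Fintype F] {q : ℕ} (hF : Fintype.card F = q) (n : ℕ) (hn : 1 ≤ n) :
    (q - 1) * Nat.card (Matrix.SpecialLinearGroup (Fin n) F) =
      ∏ i : Fin n, (q ^ n - q ^ (i : ℕ)) := by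
  haveI : Nonempty (Fin n) := ⟨⟨0, hn⟩⟩
  rw [← card_units_eq hF, card_units_mul_card_sl, card_gl hF]

theorem card_rootsOfUnity [Fintype F] {q : ℕ} (hF : Fintype.card F = q) (n : ℕ) :
    Nat.card (rootsOfUnity n F) = Nat.gcd n (q - 1) := by
  have h : rootsOfUnity n F = (powMonoidHom n : Fˣ →* Fˣ).ker := by
    ext x; simp [mem_rootsOfUnity, MonoidHom.mem_ker]
  rw [h, IsCyclic.card_powMonoidHom_ker, card_units_eq hF, Nat.gcd_comm]

theorem card_center_sl [Fintype F] {q : ℕ} (hF : Fintype.card F = q) (n : ℕ) (hn : 1 ≤ n) :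
    Nat.card (Subgroup.center (Matrix.SpecialLinearGroup (Fin n) F)) = Nat.gcd n (q - 1) := by
  rw [Nat.card_congr (Matrix.SpecialLinearGroup.center_equiv_rootsOfUnity'
    (n := Fin n) (R := F) ⟨0, hn⟩).toEquiv, Fintype.card_fin, card_rootsOfUnity hF]

theorem card_center_mul_card_psl :
    Nat.card (Subgroup.center (Matrix.SpecialLinearGroup ι F)) *
      Nat.card (Matrix.ProjectiveSpecialLinearGroup ι F) =
      Nat.card (Matrix.SpecialLinearGroup ι F) := by
  rw [Subgroup.card_eq_card_quotient_mul_card_subgroup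
    (Subgroup.center (Matrix.SpecialLinearGroup ι F)), mul_comm]

theorem card_psl [Fintype F] {q : ℕ} (hF : Fintype.card F = q) (n : ℕ) (hn : 1 ≤ n) :
    Nat.gcd n (q - 1) * ((q - 1) * Nat.card (Matrix.ProjectiveSpecialLinearGroup (Fin n) F)) =
      ∏ i : Fin n, (q ^ n - q ^ (i : ℕ)) := by
  rw [← card_sl hF n hn, ← card_center_mul_card_psl, card_center_sl hF n hn]
  ring

theorem scalar_gl_injective [Nonempty ι] :
    Function.Injective (Matrix.GeneralLinearGroup.scalar ι : Fˣ →* GL ι F) := by
  intro a b h
  obtain ⟨i⟩ := ‹Nonempty ι›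
  have := congrArg (fun g : GL ι F => (g : Matrix ι ι F) i i) h
  apply Units.ext
  simpa using this

theorem card_center_gl [Nonempty ι] :
    Nat.card (Subgroup.center (GL ι F)) = Nat.card Fˣ := by
  rw [Matrix.GeneralLinearGroup.center_eq_range_scalar]
  exact (Nat.card_congr (MonoidHom.ofInjective scalar_gl_injective).toEquiv).symm

theorem card_pgl_eq_card_sl [Finite F] :
    Nat.card (Matrix.ProjGenLinGroup ι F) = Nat.card (Matrix.SpecialLinearGroup ι F) := by
  cases isEmpty_or_nonempty ι with
  | inl h =>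
    haveI : Subsingleton (Matrix.ProjGenLinGroup ι F) :=
      Matrix.ProjGenLinGroup.mk_surjective.subsingleton
    rw [Nat.card_of_subsingleton (1 : Matrix.ProjGenLinGroup ι F),
      Nat.card_of_subsingleton (1 : Matrix.SpecialLinearGroup ι F)]
  | inr h =>
    have h1 := card_units_mul_card_sl (ι := ι) (F := F)
    have h2 := Subgroup.card_eq_card_quotient_mul_card_subgroup (Subgroup.center (GL ι F))
    rw [card_center_gl, ← h1, mul_comm] at h2
    have hpos : 0 < Nat.card Fˣ := Nat.card_pos
    exact (Nat.eq_of_mul_eq_mul_right hpos h2).symm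

theorem card_sl_two [Fintype F] {q : ℕ} (hF : Fintype.card F = q) :
    Nat.card SL(2, F) = q * (q ^ 2 - 1) := by
  have h := card_sl hF 2 (by norm_num)
  have hq : 1 < q := hF ▸ Fintype.one_lt_card
  obtain ⟨r, rfl⟩ : ∃ r, q = r + 1 := ⟨q - 1, by omega⟩
  have hr : 0 < r := by omega
  simp only [Fin.prod_univ_two, Fin.val_zero, pow_zero, Fin.val_one, pow_one,
    Nat.add_sub_cancel] at h
  apply Nat.eq_of_mul_eq_mul_left hr
  rw [h]
  have : (r + 1) ^ 2 - (r + 1) = r * (r + 1) := by
    apply Nat.sub_eq_of_eq_add; ring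
  rw [this]; ring

theorem card_gl_two [Fintype F] {q : ℕ} (hF : Fintype.card F = q) :
    Nat.card (GL (Fin 2) F) = q * (q - 1) ^ 2 * (q + 1) := by
  rw [card_gl hF]
  have hq : 1 < q := hF ▸ Fintype.one_lt_card
  obtain ⟨r, rfl⟩ : ∃ r, q = r + 1 := ⟨q - 1, by omega⟩
  simp only [Fin.prod_univ_two, Fin.val_zero, pow_zero, Fin.val_one, pow_one,
    Nat.add_sub_cancel]
  have h1 : (r + 1) ^ 2 - (r + 1) = r * (r + 1) := by
    apply Nat.sub_eq_of_eq_add; ring
  have h2 : (r + 1) ^ 2 - 1 = r * (r + 2) := by
    apply Nat.sub_eq_of_eq_add; ring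
  rw [h1, h2]; ring

theorem card_psl_two [Fintype F] {q : ℕ} (hF : Fintype.card F = q) :
    Nat.gcd 2 (q - 1) * Nat.card PSL(2, F) = q * (q ^ 2 - 1) := by
  rw [← card_sl_two hF, ← card_center_mul_card_psl, card_center_sl hF 2 (by norm_num)]

end Orders

section Generation

variable {ι F : Type*} [Fintype ι] [DecidableEq ι] [Field F]

theorem diag2n_decompose {i j : ι} (hij : i ≠ j) (a : F) (ha : a ≠ 0) :
    diag2n hij a ha = transvection hij a * transvection hij.symm (- a⁻¹) * transvection hij a *
      transvection hij (-1) * transvection hij.symm 1 * transvection hij (-1) := by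
  apply Subtype.ext
  have h1 : (diag2n hij a ha).1 = 1 + single i i (a - 1) + single j j (a⁻¹ - 1) := by
    rw [diag2n_coe]
    ext k l
    by_cases hkl : k = l
    · subst hkl
      by_cases hki : k = i
      · subst hki; simp [hij.symm]
      · by_cases hkj : k = j
        · subst hkj; simp [hki, Ne.symm hki]
        · simp [hki, hkj, Ne.symm hki, Ne.symm hkj]
    · simp [hkl, single_apply]
      rw [if_neg (by rintro ⟨rfl, rfl⟩; exact hkl rfl), if_neg (by rintro ⟨rfl, rfl⟩; exact hkl rfl)]
      simp
  rw [h1]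
  simp only [coe_mul, transvection_coe, mul_add, add_mul, mul_one, one_mul, single_mul_single_same,
    single_mul_single_of_ne _ _ _ _ hij, single_mul_single_of_ne _ _ _ _ hij.symm, add_zero,
    zero_mul]
  ext k l
  simp only [Matrix.add_apply, single_apply]
  split_ifs <;> simp_all <;> field_simp <;> ring

/-- `SL` over a field is generated by the elementary transvections. -/
theorem sl_transvection_induction (P : Matrix.SpecialLinearGroup ι F → Prop) (h1 : P 1)
    (htransvec : ∀ (i j : ι) (h : i ≠ j) c, P (transvection h c))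
    (hmul : ∀ A B, P A → P B → P (A * B)) (A : Matrix.SpecialLinearGroup ι F) : P A := by
  cases subsingleton_or_nontrivial ι with
  | inl h => rw [Subsingleton.elim A 1]; exact h1
  | inr h =>
    refine diagonal_transvection_induction' P _ (fun i j hij c hc ↦ ?_) htransvec hmul
    rw [diag2n_decompose hij c hc]
    refine hmul _ _ (hmul _ _ (hmul _ _ (hmul _ _ (hmul _ _ ?_ ?_) ?_) ?_) ?_) ?_
    all_goals exact htransvec _ _ _ _

theorem sl_eq_top_of_transvection_mem (H : Subgroup (Matrix.SpecialLinearGroup ι F))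
    (h : ∀ (i j : ι) (hij : i ≠ j) c, SpecialLinearGroup.transvection hij c ∈ H) : H = ⊤ :=
  eq_top_iff.2 fun A _ => sl_transvection_induction (· ∈ H) H.one_mem h (fun _ _ => H.mul_mem) A

theorem commutator_transvection {R : Type*} [CommRing R] {i j k : ι} (hik : i ≠ k) (hkj : k ≠ j)
    (hij : i ≠ j) (a b : R) :
    ⁅transvection hik a, transvection hkj b⁆ = transvection hij (a * b) := by
  rw [commutatorElement_def, transvection_inv, transvection_inv]
  apply Subtype.ext
  simp only [coe_mul, transvection_coe, mul_add, add_mul, mul_one, one_mul, single_mul_single_same,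
    single_mul_single_of_ne _ _ _ _ hij.symm, single_mul_single_of_ne _ _ _ _ hik.symm,
    single_mul_single_of_ne _ _ _ _ hkj.symm, add_zero, zero_mul]
  simp only [← single_neg, mul_neg, neg_mul]
  abel

theorem sl_commutator_eq_top (h3 : 3 ≤ Fintype.card ι) :
    commutator (Matrix.SpecialLinearGroup ι F) = ⊤ := by
  apply sl_eq_top_of_transvection_mem
  intro i j hij c
  obtain ⟨k, hki, hkj⟩ : ∃ k, k ≠ i ∧ k ≠ j := by
    by_contra! h
    have : (Finset.univ : Finset ι) ⊆ {i, j} := by
      intro k _
      by_cases hk : k = i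
      · simp [hk]
      · simp [h k hk]
    have h2 := Finset.card_le_card this
    have h4 : ({i, j} : Finset ι).card ≤ 2 := Finset.card_le_two
    rw [Finset.card_univ] at h2
    omega
  rw [← mul_one c, ← commutator_transvection hki.symm hkj hij]
  exact Subgroup.commutator_mem_commutator (Subgroup.mem_top _) (Subgroup.mem_top _)

open scoped LinearAlgebra.Projectivization

theorem transvection_mem_lineStab' {i j : ι} (hij : i ≠ j) (b : F) :
    transvection hij b ∈ lineStab (Submodule.span F {(Pi.single i (1 : F) : ι → F)}) :=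
  SL2Gen.transvection_mem_lineStab hij b

theorem iSup_lineStab_eq_top :
    (⨆ p : ℙ F (ι → F), lineStab p.submodule) = (⊤ : Subgroup (Matrix.SpecialLinearGroup ι F)) := by
  apply sl_eq_top_of_transvection_mem
  intro i j hij c
  have h := transvection_mem_lineStab' hij c
  rw [← Projectivization.submodule_mk (K := F) _ (Pi.single_ne_zero_iff.2 one_ne_zero)] at h
  exact Subgroup.mem_iSup_of_mem _ h

/-- The Iwasawa structure on `PSL`. -/
noncomputable def pslIwasawa :
    MulAction.IwasawaStructure (Matrix.ProjectiveSpecialLinearGroup ι F) (ℙ F (ι → F)) where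
  T := PSL.iwasawaT
  is_comm p := by
    have hSL : IsMulCommutative (lineStab (F := F) (ι := ι) p.submodule) := by
      rw [← Projectivization.mk_rep p, Projectivization.submodule_mk]
      exact lineStab_isMulCommutative_of_span p.rep p.rep_nonzero
    exact Subgroup.map_isMulCommutative _ _
  is_conj g p := by
    obtain ⟨g_SL, rfl⟩ := QuotientGroup.mk_surjective g
    rw [Matrix.ProjectiveSpecialLinearGroup.smul_proj_mk]
    change Subgroup.map _ _ = _
    rw [PSL.smul_submodule, Matrix.SpecialLinearGroup.lineStab_smul,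
      PSL.iwasawaT_map_conj]
  is_generator := by
    have step1 : iSup (PSL.iwasawaT (F := F) (ι := ι)) =
        Subgroup.map (QuotientGroup.mk' (Subgroup.center (Matrix.SpecialLinearGroup ι F)))
          (⨆ p : ℙ F (ι → F),
            Matrix.SpecialLinearGroup.lineStab (F := F) (ι := ι) p.submodule) := by
      rw [Subgroup.map_iSup]
    rw [step1, iSup_lineStab_eq_top]
    exact Subgroup.map_top_of_surjective _ (QuotientGroup.mk'_surjective _)

theorem psl_simple (h3 : 3 ≤ Fintype.card ι) :
    IsSimpleGroup (Matrix.ProjectiveSpecialLinearGroup ι F) := by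
  haveI : Nontrivial ι := Fintype.one_lt_card_iff_nontrivial.1 (by omega)
  have : Group.IsPerfect (Matrix.SpecialLinearGroup ι F) := ⟨sl_commutator_eq_top h3⟩
  have h : Group.IsPerfect (Matrix.ProjectiveSpecialLinearGroup ι F) := inferInstance
  exact MulAction.IwasawaStructure.isSimpleGroup h.commutator_eq_top pslIwasawa inferInstance

end Generation

end H7
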