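import Mathlib
import Cfsg.Agent.H7.SL
import Cfsg.Agent.H16.SmallRec

/-!
Tools for small isomorphisms: homomorphisms from invariant families, transport along field
isomorphisms, quotients by the centre.
-/

set_option autoImplicit false
set_option backward.isDefEq.respectTransparency false

namespace H7

open Matrix
open scoped MatrixGroups

/-- An isomorphism of groups induces an isomorphism of the central quotients. -/
def quotCenterCongr {G H : Type*} [Group G] [Group H] (e : G ≃* H) :
    G ⧸ Subgroup.center G ≃* H ⧸ Subgroup.center H :=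
  QuotientGroup.congr _ _ e (by
    ext y
    constructor
    · rintro ⟨x, hx, rfl⟩
      rw [Subgroup.mem_center_iff]
      intro z
      obtain ⟨w, rfl⟩ := e.surjective z
      have := Subgroup.mem_center_iff.1 hx w
      simpa using congrArg e this
    · intro hy
      refine ⟨e.symm y, ?_, by simp⟩
      rw [SetLike.mem_coe, Subgroup.mem_center_iff]
      intro z
      apply e.injective
      simpa using Subgroup.mem_center_iff.1 hy (e z))

/-- A group with trivial centre is isomorphic to its central quotient. -/
noncomputable def quotCenterEquivOfBot {G : Type*} [Group G] (h : Subgroup.center G = ⊥) :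
    G ⧸ Subgroup.center G ≃* G :=
  (QuotientGroup.quotientMulEquivOfEq h).trans QuotientGroup.quotientBot

/-- A field isomorphism induces an isomorphism of special linear groups. -/
def slCongr {ι F K : Type*} [Fintype ι] [DecidableEq ι] [CommRing F] [CommRing K] (e : F ≃+* K) :
    Matrix.SpecialLinearGroup ι F ≃* Matrix.SpecialLinearGroup ι K where
  toFun := Matrix.SpecialLinearGroup.map e.toRingHom
  invFun := Matrix.SpecialLinearGroup.map e.symm.toRingHom
  left_inv g := by ext i j; simp
  right_inv g := by ext i j; simp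
  map_mul' := map_mul _

/-- A field isomorphism induces an isomorphism of projective special linear groups. -/
def pslCongr {ι F K : Type*} [Fintype ι] [DecidableEq ι] [CommRing F] [CommRing K] (e : F ≃+* K) :
    Matrix.ProjectiveSpecialLinearGroup ι F ≃* Matrix.ProjectiveSpecialLinearGroup ι K :=
  quotCenterCongr (slCongr e)

/-- A field isomorphism induces an isomorphism of symplectic groups. -/
def spCongr {l F K : Type*} [Fintype l] [DecidableEq l] [CommRing F] [CommRing K] (e : F ≃+* K) :
    Matrix.symplecticGroup l F ≃* Matrix.symplecticGroup l K where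
  toFun A := ⟨A.1.map e, SymplecticGroup.map_mem A.2 e⟩
  invFun A := ⟨A.1.map e.symm, SymplecticGroup.map_mem A.2 e.symm⟩
  left_inv g := by ext i j; simp
  right_inv g := by ext i j; simp
  map_mul' a b := Subtype.ext (Matrix.map_mul (f := e.toRingHom))

theorem nonempty_ringEquiv_zmod {F : Type*} [Field F] [Fintype F] (p : ℕ) [Fact p.Prime]
    (hF : Fintype.card F = p) : Nonempty (F ≃+* ZMod p) :=
  ⟨FiniteField.ringEquivOfCardEq (by rw [hF, ZMod.card])⟩

theorem exists_hom_of_family {G H Y X : Type*} [Group G] [Group H] [MulAction G Y] [MulAction H X]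
    [FaithfulSMul H X] (S : X → Y → Prop) (hS : Function.Injective S)
    (h : ∀ g : G, ∃ k : H, ∀ x y, S x y ↔ S (k • x) (g • y)) :
    ∃ φ : G →* H, ∀ g x y, S x y ↔ S (φ g • x) (g • y) := by
  choose φ hφ using h
  refine ⟨MonoidHom.mk' φ (fun a b => ?_), hφ⟩
  apply eq_of_smul_eq_smul (α := X)
  intro x
  apply hS
  ext y
  obtain ⟨y, rfl⟩ := MulAction.surjective (a * b) y
  simp only
  rw [← hφ, mul_smul, mul_smul, ← hφ, ← hφ]

theorem exists_perm_hom_of_family {G Y X : Type*} [Group G] [MulAction G Y] [Finite X]
    (S : X → Y → Prop) (hS : ∀ x x', (∀ y, S x y → S x' y) → x = x')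
    (h : ∀ (g : G) x, ∃ x', ∀ y, S x y → S x' (g • y)) :
    ∃ φ : G →* Equiv.Perm X, ∀ g x y, S x y ↔ S (φ g x) (g • y) := by
  have hinj : Function.Injective S := fun x x' hx => hS x x' fun y hy => hx ▸ hy
  have h2 : ∀ (g : G) x, ∃ x', ∀ y, S x y ↔ S x' (g • y) := by
    intro g x
    obtain ⟨x', hx'⟩ := h g x
    obtain ⟨x'', hx''⟩ := h g⁻¹ x'
    have : x = x'' := hS _ _ fun y hy => by simpa using hx'' _ (hx' y hy)
    subst this
    exact ⟨x', fun y => ⟨hx' y, fun hy => by simpa using hx'' _ hy⟩⟩
  apply exists_hom_of_family S hinj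
  intro g
  choose π hπ using h2 g
  have hπi : Function.Injective π := fun a b hab => hinj (by
    ext y; rw [hπ a y, hπ b y, hab])
  exact ⟨Equiv.ofBijective π (Finite.injective_iff_bijective.1 hπi), hπ⟩

/-- A non-trivial homomorphism killing the centre induces an embedding of a simple central
quotient. -/
theorem exists_injective_of_simple {G H : Type*} [Group G] [Group H]
    [IsSimpleGroup (G ⧸ Subgroup.center G)] (φ : G →* H) (hZ : Subgroup.center G ≤ φ.ker)
    (hne : ∃ g, φ g ≠ 1) : ∃ ψ : G ⧸ Subgroup.center G →* H, Function.Injective ψ := by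
  refine ⟨QuotientGroup.lift _ φ hZ, ?_⟩
  rw [← MonoidHom.ker_eq_bot_iff]
  rcases (MonoidHom.normal_ker (QuotientGroup.lift _ φ hZ)).eq_bot_or_eq_top with h | h
  · exact h
  · obtain ⟨g, hg⟩ := hne
    exfalso; apply hg
    have : (g : G ⧸ Subgroup.center G) ∈ (QuotientGroup.lift _ φ hZ).ker := by rw [h]; trivial
    exact this

theorem sl_transvection_induction_zmod {ι : Type*} [Fintype ι] [DecidableEq ι] (p : ℕ)
    [Fact p.Prime] (P : Matrix.SpecialLinearGroup ι (ZMod p) → Prop) (h1 : P 1)
    (ht : ∀ (i j : ι) (h : i ≠ j), P (Matrix.SpecialLinearGroup.transvection h 1))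
    (hmul : ∀ A B, P A → P B → P (A * B)) (A : Matrix.SpecialLinearGroup ι (ZMod p)) : P A := by
  refine sl_transvection_induction P h1 (fun i j h c => ?_) hmul A
  obtain ⟨n, rfl⟩ := ZMod.natCast_zmod_surjective c
  induction n with
  | zero => simpa using h1
  | succ n ih =>
    rw [Nat.cast_succ, Matrix.SpecialLinearGroup.transvection_add]
    exact hmul _ _ ih (ht i j h)

theorem transvection_smul_apply {ι R : Type*} [Fintype ι] [DecidableEq ι] [CommRing R] {i j : ι}
    (h : i ≠ j) (c : R) (v : ι → R) (k : ι) :
    (Matrix.SpecialLinearGroup.transvection h c • v) k = v k + if k = i then c * v j else 0 := by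
  rw [Matrix.SpecialLinearGroup.smul_def, Matrix.SpecialLinearGroup.transvection_coe,
    Matrix.smul_eq_mulVec, Matrix.add_mulVec, Matrix.one_mulVec, Matrix.single_mulVec_eq]
  simp [Pi.single_apply]

/-- `PSL₂(q)` embeds in the symmetric group on `q + 1` letters. -/
theorem exists_psl2_perm {F : Type*} [Field F] [Fintype F] {q : ℕ} (hF : Fintype.card F = q) :
    ∃ f : PSL(2, F) →* Equiv.Perm (Fin (q + 1)), Function.Injective f := by
  have h : Nat.card (Projectivization F (Fin 2 → F)) = q + 1 := by
    rw [Projectivization.card_of_finrank_two F _ (by simp), Nat.card_eq_fintype_card, hF]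
  have : Finite (Projectivization F (Fin 2 → F)) := inferInstance
  let e := Finite.equivFinOfCardEq h
  exact ⟨(e.permCongrHom : _ →* _).comp Projectivization.PSLAction.toPermHom,
    e.permCongrHom.injective.comp Matrix.ProjectiveSpecialLinearGroup.toPermHom_injective⟩

theorem center_sl_eq_bot {F : Type*} [Field F] [Fintype F] {q : ℕ} (hF : Fintype.card F = q) (n : ℕ)
    (hn : 1 ≤ n) (h : Nat.gcd n (q - 1) = 1) :
    Subgroup.center (Matrix.SpecialLinearGroup (Fin n) F) = ⊥ := by
  rw [← Subgroup.card_eq_one, card_center_sl hF n hn, h]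

theorem sl2_two_equiv_perm {F : Type*} [Field F] [Fintype F] (hF : Fintype.card F = 2) :
    Nonempty (SL(2, F) ≃* Equiv.Perm (Fin 3)) := by
  obtain ⟨f, hf⟩ := exists_psl2_perm hF
  have h := card_psl_two hF
  obtain ⟨e⟩ := H16.equiv_perm_of_injective f hf (by simpa [Nat.factorial] using h)
  exact ⟨(quotCenterEquivOfBot (center_sl_eq_bot hF 2 (by norm_num) (by norm_num))).symm.trans e⟩

theorem psl2_three_equiv_A4 {F : Type*} [Field F] [Fintype F] (hF : Fintype.card F = 3) :
    Nonempty (PSL(2, F) ≃* alternatingGroup (Fin 4)) := by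
  obtain ⟨f, hf⟩ := exists_psl2_perm hF
  have h := card_psl_two hF
  exact H16.equiv_alternating_of_injective f hf (by simpa [Nat.factorial] using h)

theorem psl2_four_equiv_A5 {F : Type*} [Field F] [Fintype F] (hF : Fintype.card F = 4) :
    Nonempty (PSL(2, F) ≃* alternatingGroup (Fin 5)) := by
  obtain ⟨f, hf⟩ := exists_psl2_perm hF
  have h := card_psl_two hF
  refine H16.equiv_alternating_of_injective f hf ?_
  norm_num at h
  rw [h]; rfl

theorem psl2_five_equiv_A5 {F : Type*} [Field F] [Fintype F] (hF : Fintype.card F = 5) :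
    Nonempty (PSL(2, F) ≃* alternatingGroup (Fin 5)) := by
  have := Matrix.ProjectiveSpecialLinearGroup.rank_two_simple (F := F)
    (by rw [Nat.card_eq_fintype_card, hF]; norm_num)
  have h := card_psl_two hF
  norm_num at h
  exact H16.equiv_A5_of_simple (by omega)

end H7
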