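import Mathlib

/-!
Recognition of dihedral and generalised quaternion groups from generators and relations.
-/

set_option autoImplicit false

namespace H7

variable {G : Type*} [Group G]

/-- `x ^ i` for `i : ZMod n`. -/
def zmodPow {n : ℕ} (x : G) (i : ZMod n) : G := x ^ (i.cast : ℤ)

theorem zmodPow_intCast {n : ℕ} {x : G} (hx : x ^ n = 1) (k : ℤ) :
    zmodPow x (k : ZMod n) = x ^ k := by
  unfold zmodPow
  rw [ZMod.coe_intCast]
  exact (zpow_eq_zpow_emod' k hx).symm

theorem conj_zpow_of_inv {x s : G} (h : s * x * s⁻¹ = x⁻¹) (k : ℤ) :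
    x ^ k * s = s * x ^ (-k) := by
  have h1 : s⁻¹ * x * s = x⁻¹ := by
    have : s * x⁻¹ * s⁻¹ = x := by
      have := congrArg (·⁻¹) h
      simpa [mul_assoc] using this
    calc s⁻¹ * x * s = s⁻¹ * (s * x⁻¹ * s⁻¹) * s := by rw [this]
      _ = x⁻¹ := by group
  have h2 : s⁻¹ * x ^ k * s = x ^ (-k) := by
    have := conj_zpow (a := s⁻¹) (b := x) (i := k)
    rw [inv_inv, h1] at this
    rw [← this, inv_zpow']
  rw [← h2]; group

/-- The homomorphism from the dihedral group given by generators satisfying the relations. -/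
def dihedralHom (n : ℕ) (x s : G) (hx : x ^ n = 1) (hs : s * s = 1) (h : s * x * s⁻¹ = x⁻¹) :
    DihedralGroup n →* G :=
  MonoidHom.mk' (fun g => match g with
    | DihedralGroup.r i => zmodPow x i
    | DihedralGroup.sr i => s * zmodPow x i) (by
    rintro (i | i) (j | j) <;> obtain ⟨i, rfl⟩ := ZMod.intCast_surjective i <;>
      obtain ⟨j, rfl⟩ := ZMod.intCast_surjective j
    · simp only [DihedralGroup.r_mul_r, ← Int.cast_add, zmodPow_intCast hx, zpow_add]
    · simp only [DihedralGroup.r_mul_sr, ← Int.cast_sub, zmodPow_intCast hx]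
      rw [← mul_assoc, conj_zpow_of_inv h]; group
    · simp only [DihedralGroup.sr_mul_r, ← Int.cast_add, zmodPow_intCast hx, zpow_add, mul_assoc]
    · simp only [DihedralGroup.sr_mul_sr, ← Int.cast_sub, zmodPow_intCast hx]
      rw [mul_assoc, ← mul_assoc (x ^ i), conj_zpow_of_inv h, ← mul_assoc, ← mul_assoc, hs]; group)

theorem dihedralHom_r (n : ℕ) (x s : G) (hx : x ^ n = 1) (hs : s * s = 1) (h : s * x * s⁻¹ = x⁻¹)
    (k : ℤ) : dihedralHom n x s hx hs h (DihedralGroup.r k) = x ^ k := zmodPow_intCast hx k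

theorem dihedralHom_sr (n : ℕ) (x s : G) (hx : x ^ n = 1) (hs : s * s = 1) (h : s * x * s⁻¹ = x⁻¹)
    (k : ℤ) : dihedralHom n x s hx hs h (DihedralGroup.sr k) = s * x ^ k :=
  congrArg (s * ·) (zmodPow_intCast hx k)

theorem dihedralHom_injective (n : ℕ) (x s : G) (hx : x ^ n = 1) (hs : s * s = 1)
    (h : s * x * s⁻¹ = x⁻¹) (ho : orderOf x = n) (hns : s ∉ Subgroup.zpowers x) :
    Function.Injective (dihedralHom n x s hx hs h) := by
  rw [injective_iff_map_eq_one]
  rintro (i | i) hi <;> obtain ⟨i, rfl⟩ := ZMod.intCast_surjective i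
  · rw [dihedralHom_r, ← orderOf_dvd_iff_zpow_eq_one, ho] at hi
    rw [(ZMod.intCast_zmod_eq_zero_iff_dvd i n).2 hi]; rfl
  · rw [dihedralHom_sr] at hi
    exact absurd ⟨-i, by simp only [zpow_neg]; exact (eq_inv_of_mul_eq_one_left hi).symm⟩ hns

/-- Recognition of a dihedral group, with a covering hypothesis. -/
theorem nonempty_equiv_dihedral (n : ℕ) (x s : G) (ho : orderOf x = n) (hs : s * s = 1)
    (h : s * x * s⁻¹ = x⁻¹) (hns : s ∉ Subgroup.zpowers x)
    (hgen : ∀ g : G, g ∈ Subgroup.zpowers x ∨ s⁻¹ * g ∈ Subgroup.zpowers x) :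
    Nonempty (G ≃* DihedralGroup n) := by
  have hx : x ^ n = 1 := ho ▸ pow_orderOf_eq_one x
  refine ⟨(MulEquiv.ofBijective (dihedralHom n x s hx hs h)
    ⟨dihedralHom_injective n x s hx hs h ho hns, fun g => ?_⟩).symm⟩
  rcases hgen g with ⟨k, hk⟩ | ⟨k, hk⟩
  · exact ⟨_, (dihedralHom_r n x s hx hs h k).trans hk⟩
  · refine ⟨_, (dihedralHom_sr n x s hx hs h k).trans ?_⟩
    have hk' : x ^ k = s⁻¹ * g := hk
    rw [hk']; group

/-- Recognition of a dihedral group, with a cardinality hypothesis. -/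
theorem nonempty_equiv_dihedral_of_card (n : ℕ) (hn : n ≠ 0) (x s : G) (ho : orderOf x = n)
    (hs : s * s = 1) (h : s * x * s⁻¹ = x⁻¹) (hns : s ∉ Subgroup.zpowers x)
    (hG : Nat.card G = 2 * n) : Nonempty (G ≃* DihedralGroup n) := by
  have hx : x ^ n = 1 := ho ▸ pow_orderOf_eq_one x
  have : Finite G := Nat.finite_of_card_ne_zero (by omega)
  refine ⟨(MulEquiv.ofBijective (dihedralHom n x s hx hs h) ?_).symm⟩
  exact (dihedralHom_injective n x s hx hs h ho hns).bijective_of_nat_card_le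
    (by rw [hG, DihedralGroup.nat_card])

/-- The homomorphism from the generalised quaternion group given by generators satisfying the
relations. -/
def quaternionHom (n : ℕ) (x y : G) (hx : x ^ (2 * n) = 1) (hy : y * y = x ^ n)
    (h : y * x * y⁻¹ = x⁻¹) : QuaternionGroup n →* G :=
  MonoidHom.mk' (fun g => match g with
    | QuaternionGroup.a i => zmodPow x i
    | QuaternionGroup.xa i => y * zmodPow x i) (by
    rintro (i | i) (j | j) <;> obtain ⟨i, rfl⟩ := ZMod.intCast_surjective i <;>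
      obtain ⟨j, rfl⟩ := ZMod.intCast_surjective j
    · simp only [QuaternionGroup.a_mul_a, ← Int.cast_add, zmodPow_intCast hx, zpow_add]
    · simp only [QuaternionGroup.a_mul_xa, ← Int.cast_sub, zmodPow_intCast hx]
      rw [← mul_assoc, conj_zpow_of_inv h]; group
    · simp only [QuaternionGroup.xa_mul_a, ← Int.cast_add, zmodPow_intCast hx, zpow_add, mul_assoc]
    · have e : ((n : ZMod (2 * n)) + (j : ZMod (2 * n)) - (i : ZMod (2 * n))) =
          (((n : ℤ) + j - i : ℤ) : ZMod (2 * n)) := by push_cast; ring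
      simp only [QuaternionGroup.xa_mul_xa, e, zmodPow_intCast hx]
      rw [mul_assoc, ← mul_assoc (x ^ i), conj_zpow_of_inv h, ← mul_assoc, ← mul_assoc, hy]; group)

theorem quaternionHom_a (n : ℕ) (x y : G) (hx : x ^ (2 * n) = 1) (hy : y * y = x ^ n)
    (h : y * x * y⁻¹ = x⁻¹) (k : ℤ) :
    quaternionHom n x y hx hy h (QuaternionGroup.a k) = x ^ k := zmodPow_intCast hx k

theorem quaternionHom_xa (n : ℕ) (x y : G) (hx : x ^ (2 * n) = 1) (hy : y * y = x ^ n)
    (h : y * x * y⁻¹ = x⁻¹) (k : ℤ) :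
    quaternionHom n x y hx hy h (QuaternionGroup.xa k) = y * x ^ k :=
  congrArg (y * ·) (zmodPow_intCast hx k)

theorem quaternionHom_injective (n : ℕ) (x y : G) (hx : x ^ (2 * n) = 1) (hy : y * y = x ^ n)
    (h : y * x * y⁻¹ = x⁻¹) (ho : orderOf x = 2 * n) (hns : y ∉ Subgroup.zpowers x) :
    Function.Injective (quaternionHom n x y hx hy h) := by
  rw [injective_iff_map_eq_one]
  rintro (i | i) hi <;> obtain ⟨i, rfl⟩ := ZMod.intCast_surjective i
  · rw [quaternionHom_a, ← orderOf_dvd_iff_zpow_eq_one, ho] at hi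
    rw [(ZMod.intCast_zmod_eq_zero_iff_dvd i (2 * n)).2 hi]; rfl
  · rw [quaternionHom_xa] at hi
    exact absurd ⟨-i, by simp only [zpow_neg]; exact (eq_inv_of_mul_eq_one_left hi).symm⟩ hns

/-- Recognition of a generalised quaternion group, with a covering hypothesis. -/
theorem nonempty_equiv_quaternion (n : ℕ) (x y : G) (ho : orderOf x = 2 * n) (hy : y * y = x ^ n)
    (h : y * x * y⁻¹ = x⁻¹) (hns : y ∉ Subgroup.zpowers x)
    (hgen : ∀ g : G, g ∈ Subgroup.zpowers x ∨ y⁻¹ * g ∈ Subgroup.zpowers x) :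
    Nonempty (G ≃* QuaternionGroup n) := by
  have hx : x ^ (2 * n) = 1 := ho ▸ pow_orderOf_eq_one x
  refine ⟨(MulEquiv.ofBijective (quaternionHom n x y hx hy h)
    ⟨quaternionHom_injective n x y hx hy h ho hns, fun g => ?_⟩).symm⟩
  rcases hgen g with ⟨k, hk⟩ | ⟨k, hk⟩
  · exact ⟨_, (quaternionHom_a n x y hx hy h k).trans hk⟩
  · refine ⟨_, (quaternionHom_xa n x y hx hy h k).trans ?_⟩
    have hk' : x ^ k = y⁻¹ * g := hk
    rw [hk']; group

/-- Recognition of a generalised quaternion group, with a cardinality hypothesis. -/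
theorem nonempty_equiv_quaternion_of_card (n : ℕ) (hn : n ≠ 0) (x y : G) (ho : orderOf x = 2 * n)
    (hy : y * y = x ^ n) (h : y * x * y⁻¹ = x⁻¹) (hns : y ∉ Subgroup.zpowers x)
    (hG : Nat.card G = 4 * n) : Nonempty (G ≃* QuaternionGroup n) := by
  have hx : x ^ (2 * n) = 1 := ho ▸ pow_orderOf_eq_one x
  have : Finite G := Nat.finite_of_card_ne_zero (by omega)
  have : NeZero n := ⟨hn⟩
  refine ⟨(MulEquiv.ofBijective (quaternionHom n x y hx hy h) ?_).symm⟩
  exact (quaternionHom_injective n x y hx hy h ho hns).bijective_of_nat_card_le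
    (by rw [hG, Nat.card_eq_fintype_card, QuaternionGroup.card])

/-- A subgroup isomorphic to a generalised quaternion group, from two elements. -/
theorem exists_subgroup_equiv_quaternion (n : ℕ) (x y : G) (ho : orderOf x = 2 * n)
    (hy : y * y = x ^ n) (h : y * x * y⁻¹ = x⁻¹) (hns : y ∉ Subgroup.zpowers x) :
    ∃ Q : Subgroup G, x ∈ Q ∧ y ∈ Q ∧ (∀ g ∈ Q, ∃ k : ℤ, g = x ^ k ∨ g = y * x ^ k) ∧
      Nonempty (Q ≃* QuaternionGroup n) := by
  have hx : x ^ (2 * n) = 1 := ho ▸ pow_orderOf_eq_one x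
  refine ⟨(quaternionHom n x y hx hy h).range, ⟨_, (quaternionHom_a n x y hx hy h 1).trans (by simp)⟩,
    ⟨_, (quaternionHom_xa n x y hx hy h 0).trans (by simp)⟩, ?_,
    ⟨(MonoidHom.ofInjective (quaternionHom_injective n x y hx hy h ho hns)).symm⟩⟩
  rintro _ ⟨(i | i), rfl⟩ <;> obtain ⟨i, rfl⟩ := ZMod.intCast_surjective i
  · exact ⟨i, Or.inl (quaternionHom_a n x y hx hy h i)⟩
  · exact ⟨i, Or.inr (quaternionHom_xa n x y hx hy h i)⟩

/-- A subgroup isomorphic to a dihedral group, from two elements. -/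
theorem exists_subgroup_equiv_dihedral (n : ℕ) (x s : G) (ho : orderOf x = n)
    (hs : s * s = 1) (h : s * x * s⁻¹ = x⁻¹) (hns : s ∉ Subgroup.zpowers x) :
    ∃ D : Subgroup G, x ∈ D ∧ s ∈ D ∧ (∀ g ∈ D, ∃ k : ℤ, g = x ^ k ∨ g = s * x ^ k) ∧
      Nonempty (D ≃* DihedralGroup n) := by
  have hx : x ^ n = 1 := ho ▸ pow_orderOf_eq_one x
  refine ⟨(dihedralHom n x s hx hs h).range, ⟨_, (dihedralHom_r n x s hx hs h 1).trans (by simp)⟩,
    ⟨_, (dihedralHom_sr n x s hx hs h 0).trans (by simp)⟩, ?_,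
    ⟨(MonoidHom.ofInjective (dihedralHom_injective n x s hx hs h ho hns)).symm⟩⟩
  rintro _ ⟨(i | i), rfl⟩ <;> obtain ⟨i, rfl⟩ := ZMod.intCast_surjective i
  · exact ⟨i, Or.inl (dihedralHom_r n x s hx hs h i)⟩
  · exact ⟨i, Or.inr (dihedralHom_sr n x s hx hs h i)⟩

end H7
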