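import Mathlib
import Cfsg.Agent.H7.SL

/-!
Sylow `p`-subgroups of `GL₂(q)` and `SL₂(q)` in the defining characteristic.
-/

set_option autoImplicit false

namespace H7

open Matrix Matrix.SpecialLinearGroup
open scoped MatrixGroups Pointwise

section Generic

variable {H F : Type*} [Group H] [Field F] (φ : H →* Matrix (Fin 2) (Fin 2) F)

theorem phi_mul_inv (g : H) : φ g * φ g⁻¹ = 1 := by rw [← map_mul, mul_inv_cancel, map_one]

/-- Upper triangular elements. -/
def borel2 : Subgroup H where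
  carrier := {g | φ g 1 0 = 0}
  mul_mem' {a b} ha hb := by
    simp only [Set.mem_setOf_eq, map_mul, Matrix.mul_apply, Fin.sum_univ_two] at *
    rw [ha, hb]; ring
  one_mem' := by simp
  inv_mem' {a} ha := by
    simp only [Set.mem_setOf_eq] at *
    have h := phi_mul_inv φ a
    have h10 := congrFun (congrFun h 1) 0
    have h11 := congrFun (congrFun h 1) 1
    simp only [Matrix.mul_apply, Fin.sum_univ_two, ha, zero_mul, zero_add, Matrix.one_apply] at h10 h11
    simp at h10 h11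
    rcases h10 with h10 | h10
    · rw [h10] at h11; simp at h11
    · exact h10

/-- Upper unitriangular elements. -/
def unip2 : Subgroup H where
  carrier := {g | φ g 0 0 = 1 ∧ φ g 1 0 = 0 ∧ φ g 1 1 = 1}
  mul_mem' {a b} ha hb := by
    simp only [Set.mem_setOf_eq, map_mul, Matrix.mul_apply, Fin.sum_univ_two] at *
    obtain ⟨h1, h2, h3⟩ := ha
    obtain ⟨h4, h5, h6⟩ := hb
    simp [h1, h2, h3, h4, h5, h6]
  one_mem' := by simp
  inv_mem' {a} ha := by
    simp only [Set.mem_setOf_eq] at *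
    obtain ⟨h1, h2, h3⟩ := ha
    have h := phi_mul_inv φ a
    have h00 := congrFun (congrFun h 0) 0
    have h10 := congrFun (congrFun h 1) 0
    have h11 := congrFun (congrFun h 1) 1
    simp [Matrix.mul_apply, Fin.sum_univ_two, h1, h2, h3] at h00 h10 h11
    simp [h10] at h00
    exact ⟨h00, h10, h11⟩

theorem mem_borel2 {g : H} : g ∈ borel2 φ ↔ φ g 1 0 = 0 := Iff.rfl

theorem mem_unip2 {g : H} : g ∈ unip2 φ ↔ φ g 0 0 = 1 ∧ φ g 1 0 = 0 ∧ φ g 1 1 = 1 := Iff.rfl

theorem unip2_le_borel2 : unip2 φ ≤ borel2 φ := fun _ h => h.2.1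

theorem conj_mem_unip2 {g x : H} (hg : g ∈ borel2 φ) (hx : x ∈ unip2 φ) :
    g * x * g⁻¹ ∈ unip2 φ := by
  have hg' := (borel2 φ).inv_mem hg
  rw [mem_borel2] at hg hg'
  obtain ⟨h1, h2, h3⟩ := hx
  have h := phi_mul_inv φ g
  have h00 := congrFun (congrFun h 0) 0
  have h11 := congrFun (congrFun h 1) 1
  simp [Matrix.mul_apply, Fin.sum_univ_two, hg, hg'] at h00 h11
  rw [mem_unip2]
  simp [Matrix.mul_apply, Fin.sum_univ_two, h1, h2, h3, hg, hg', h00, h11]

theorem mem_borel2_of_conj_mem {g x : H} (hx : x ∈ unip2 φ) (hx1 : φ x ≠ 1)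
    (h : g * x * g⁻¹ ∈ unip2 φ) : g ∈ borel2 φ := by
  obtain ⟨h1, h2, h3⟩ := hx
  obtain ⟨h4, h5, h6⟩ := h
  have ht : φ x 0 1 ≠ 0 := by
    intro h0
    apply hx1
    ext i j
    fin_cases i <;> fin_cases j <;> simp [h0, h1, h2, h3]
  have e : φ (g * x * g⁻¹) * φ g = φ g * φ x := by
    rw [← map_mul, ← map_mul]; congr 1; group
  have e11 := congrFun (congrFun e 1) 1
  simp only [Matrix.mul_apply, Fin.sum_univ_two, h3, h5, h6] at e11
  rw [mem_borel2]
  have : φ g 1 0 * φ x 0 1 = 0 := by linear_combination -e11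
  exact (mul_eq_zero.1 this).resolve_right ht

theorem normalizer_unip2 (hne : ∃ x ∈ unip2 φ, φ x ≠ 1) :
    Subgroup.normalizer (unip2 φ : Set H) = borel2 φ := by
  ext g
  constructor
  · intro hg
    obtain ⟨x, hx, hx1⟩ := hne
    exact mem_borel2_of_conj_mem φ hx hx1 ((Subgroup.mem_normalizer_iff.1 hg x).1 hx)
  · intro hg
    rw [Subgroup.mem_normalizer_iff]
    intro x
    refine ⟨conj_mem_unip2 φ hg, fun h => ?_⟩
    have := conj_mem_unip2 φ ((borel2 φ).inv_mem hg) h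
    simpa [mul_assoc] using this

/-- Trivial intersection property of the conjugates of the unitriangular group. -/
theorem conj_unip2_inf (hφ : Function.Injective φ) (g : H) (hg : g ∉ borel2 φ) :
    (MulAut.conj g • unip2 φ) ⊓ unip2 φ = ⊥ := by
  rw [eq_bot_iff]
  rintro y ⟨hy1, hy2⟩
  obtain ⟨x, hx, rfl⟩ := hy1
  by_contra hne
  apply hg
  refine mem_borel2_of_conj_mem φ hx (fun h1 => hne ?_) hy2
  have : x = 1 := hφ (by rw [h1, map_one])
  simp [this]

theorem conj_unip2_eq {g : H} (hg : g ∈ borel2 φ) : MulAut.conj g • unip2 φ = unip2 φ := by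
  ext y
  constructor
  · rintro ⟨x, hx, rfl⟩
    exact conj_mem_unip2 φ hg hx
  · intro hy
    refine ⟨g⁻¹ * y * g⁻¹⁻¹, conj_mem_unip2 φ ((borel2 φ).inv_mem hg) hy, ?_⟩
    simp [mul_assoc]

theorem card_unip2 (hφ : Function.Injective φ) (hs : ∀ t : F, ∃ x : H, φ x = !![1, t; 0, 1]) :
    Nat.card (unip2 φ) = Nat.card F := by
  apply Nat.card_congr
  refine Equiv.ofBijective (fun x => φ x.1 0 1) ⟨?_, ?_⟩
  · rintro ⟨x, h1, h2, h3⟩ ⟨y, h4, h5, h6⟩ h
    apply Subtype.ext
    apply hφ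
    ext i j
    fin_cases i <;> fin_cases j <;> simp_all
  · intro t
    obtain ⟨x, hx⟩ := hs t
    exact ⟨⟨x, by rw [mem_unip2, hx]; simp⟩, by simp [hx]⟩

end Generic

section Sylow

variable {H F : Type*} [Group H] [Finite H] [Field F] [Fintype F]

theorem exists_card_eq_pow (p : ℕ) [Fact p.Prime] [CharP F p] :
    ∃ k : ℕ, 1 ≤ k ∧ Fintype.card F = p ^ k := by
  obtain ⟨k, -, hk⟩ := FiniteField.card F p
  exact ⟨k, k.2, hk⟩

theorem char_dvd_card (p : ℕ) [Fact p.Prime] [CharP F p] : p ∣ Fintype.card F := by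
  obtain ⟨k, hk, h⟩ := exists_card_eq_pow (F := F) p
  rw [h]; exact dvd_pow_self p (by omega)

theorem not_char_dvd_card_pow_sub_one (p : ℕ) [hp : Fact p.Prime] [CharP F p] (k : ℕ) (hk : 1 ≤ k) :
    ¬ p ∣ Fintype.card F ^ k - 1 := by
  intro h
  have h1 : p ∣ Fintype.card F ^ k := (char_dvd_card p).trans (dvd_pow_self _ (by omega))
  have h2 : 1 ≤ Fintype.card F ^ k := Nat.one_le_pow _ _ Fintype.card_pos
  have := (Nat.dvd_sub h1 h)
  rw [Nat.sub_sub_self h2] at this
  exact hp.out.one_lt.ne' (Nat.dvd_one.1 this)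

theorem not_char_dvd_card_add_one (p : ℕ) [hp : Fact p.Prime] [CharP F p] :
    ¬ p ∣ Fintype.card F + 1 := by
  intro h
  have := (Nat.dvd_add_right (char_dvd_card (F := F) p)).1 h
  exact hp.out.one_lt.ne' (Nat.dvd_one.1 this)

/-- A subgroup of order a power of `|F|` and index prime to the characteristic is Sylow. -/
theorem exists_sylow_eq (p : ℕ) [hp : Fact p.Prime] [CharP F p] (U : Subgroup H) (e m : ℕ)
    (hU : Nat.card U = Fintype.card F ^ e) (hH : Nat.card H = Fintype.card F ^ e * m)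
    (hm : ¬ p ∣ m) : ∃ P : Sylow p H, (P : Subgroup H) = U := by
  obtain ⟨k, hk, h⟩ := exists_card_eq_pow (F := F) p
  have hUp : IsPGroup p U := IsPGroup.of_card (n := k * e) (by rw [hU, h, pow_mul])
  have hidx : U.index = m := by
    have := U.card_mul_index
    rw [hU, hH] at this
    exact Nat.eq_of_mul_eq_mul_left (Nat.pow_pos Fintype.card_pos) this
  exact ⟨hUp.toSylow (hidx ▸ hm), rfl⟩

theorem card_sylow_eq (p : ℕ) [hp : Fact p.Prime] [CharP F p] (e m : ℕ)
    (hH : Nat.card H = Fintype.card F ^ e * m) (hm : ¬ p ∣ m) (P : Sylow p H) :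
    Nat.card P = Fintype.card F ^ e := by
  obtain ⟨k, hk, h⟩ := exists_card_eq_pow (F := F) p
  rw [Sylow.card_eq_multiplicity, hH, h, ← pow_mul]
  have hm0 : m ≠ 0 := by rintro rfl; exact hm (dvd_zero p)
  rw [Nat.factorization_mul (pow_ne_zero _ hp.out.ne_zero) hm0]
  simp [hp.out.factorization_pow, Nat.factorization_eq_zero_of_not_dvd hm]

end Sylow

section GL2

variable {F : Type*} [Field F]

/-- `GL₂` as matrices. -/
abbrev gl2Mat (F : Type*) [Field F] : GL (Fin 2) F →* Matrix (Fin 2) (Fin 2) F :=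
  Units.coeHom _

/-- `SL₂` as matrices. -/
abbrev sl2Mat (F : Type*) [Field F] : SL(2, F) →* Matrix (Fin 2) (Fin 2) F :=
  Matrix.SpecialLinearGroup.coeMonoidHom

theorem gl2Mat_inj : Function.Injective (gl2Mat F) := Units.val_injective
theorem sl2Mat_inj : Function.Injective (sl2Mat F) := Subtype.val_injective

theorem sl2_exists_unip (t : F) : ∃ x : SL(2, F), sl2Mat F x = !![1, t; 0, 1] :=
  ⟨⟨!![1, t; 0, 1], by simp [Matrix.det_fin_two]⟩, rfl⟩

theorem gl2_exists_unip (t : F) : ∃ x : GL (Fin 2) F, gl2Mat F x = !![1, t; 0, 1] := by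
  obtain ⟨x, hx⟩ := sl2_exists_unip t
  exact ⟨toGL x, hx⟩

theorem unip_ne_one : (!![1, 1; 0, 1] : Matrix (Fin 2) (Fin 2) F) ≠ 1 := by
  intro h
  have := congrFun (congrFun h 0) 1
  simp at this

theorem normalizer_unip2_gl :
    Subgroup.normalizer (unip2 (gl2Mat F) : Set (GL (Fin 2) F)) = borel2 (gl2Mat F) := by
  apply normalizer_unip2
  obtain ⟨x, hx⟩ := gl2_exists_unip (1 : F)
  exact ⟨x, by rw [mem_unip2, hx]; simp, hx ▸ unip_ne_one⟩

theorem normalizer_unip2_sl :
    Subgroup.normalizer (unip2 (sl2Mat F) : Set SL(2, F)) = borel2 (sl2Mat F) := by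
  apply normalizer_unip2
  obtain ⟨x, hx⟩ := sl2_exists_unip (1 : F)
  exact ⟨x, by rw [mem_unip2, hx]; simp, hx ▸ unip_ne_one⟩

theorem card_borel2_gl [Fintype F] {q : ℕ} (hF : Fintype.card F = q) :
    Nat.card (borel2 (gl2Mat F)) = q * (q - 1) ^ 2 := by
  have : Nat.card (borel2 (gl2Mat F)) = Nat.card (F × Fˣ × Fˣ) := by
    symm
    apply Nat.card_congr
    refine Equiv.ofBijective (fun x => ⟨Matrix.GeneralLinearGroup.mkOfDetNeZero
      !![(x.2.1 : F), x.1; 0, (x.2.2 : F)] (by simp [Matrix.det_fin_two]), by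
        rw [mem_borel2]; simp⟩) ⟨?_, ?_⟩
    · rintro ⟨t, a, d⟩ ⟨t', a', d'⟩ h
      have h' := congrArg (fun g : borel2 (gl2Mat F) => (g.1 : Matrix (Fin 2) (Fin 2) F)) h
      have h1 := congrFun (congrFun h' 0) 0
      have h2 := congrFun (congrFun h' 0) 1
      have h3 := congrFun (congrFun h' 1) 1
      simp at h1 h2 h3
      simp [Units.ext h1, h2, Units.ext h3]
    · rintro ⟨g, hg⟩
      have hg' : (g : Matrix (Fin 2) (Fin 2) F) 1 0 = 0 := hg
      have hdet : (g : Matrix (Fin 2) (Fin 2) F).det ≠ 0 := g.det_ne_zero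
      rw [Matrix.det_fin_two, hg', mul_zero, sub_zero] at hdet
      refine ⟨⟨(g : Matrix (Fin 2) (Fin 2) F) 0 1, Units.mk0 _ (left_ne_zero_of_mul hdet),
        Units.mk0 _ (right_ne_zero_of_mul hdet)⟩, ?_⟩
      apply Subtype.ext
      apply Units.ext
      ext i j
      fin_cases i <;> fin_cases j <;> simp [hg']
  rw [this, Nat.card_prod, Nat.card_prod, card_units_eq hF, Nat.card_eq_fintype_card, hF]
  ring

theorem exists_sylow_gl2 [Fintype F] (p : ℕ) [hp : Fact p.Prime] [CharP F p] :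
    ∃ P : Sylow p (GL (Fin 2) F), (P : Subgroup (GL (Fin 2) F)) = unip2 (gl2Mat F) := by
  refine exists_sylow_eq (F := F) p _ 1 ((Fintype.card F - 1) ^ 2 * (Fintype.card F + 1)) ?_ ?_ ?_
  · rw [card_unip2 _ gl2Mat_inj gl2_exists_unip, Nat.card_eq_fintype_card, pow_one]
  · rw [card_gl_two rfl]; ring
  · intro h
    rcases (Nat.Prime.dvd_mul hp.out).1 h with h | h
    · have := not_char_dvd_card_pow_sub_one (F := F) p 1 le_rfl
      rw [pow_one] at this
      exact this (hp.out.dvd_of_dvd_pow h)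
    · exact not_char_dvd_card_add_one p h

theorem exists_sylow_sl2 [Fintype F] (p : ℕ) [hp : Fact p.Prime] [CharP F p] :
    ∃ P : Sylow p SL(2, F), (P : Subgroup SL(2, F)) = unip2 (sl2Mat F) := by
  refine exists_sylow_eq (F := F) p _ 1 (Fintype.card F ^ 2 - 1) ?_ ?_ ?_
  · rw [card_unip2 _ sl2Mat_inj sl2_exists_unip, Nat.card_eq_fintype_card, pow_one]
  · rw [card_sl_two rfl]; ring
  · exact not_char_dvd_card_pow_sub_one (F := F) p 2 (by norm_num)

/-- Every Sylow subgroup is a conjugate of a given one, as subgroups. -/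
theorem sylow_eq_conj {H : Type*} [Group H] [Finite H] {p : ℕ} [Fact p.Prime] (P Q : Sylow p H) :
    ∃ g : H, (Q : Subgroup H) = MulAut.conj g • (P : Subgroup H) := by
  obtain ⟨g, rfl⟩ := MulAction.exists_smul_eq H P Q
  exact ⟨g, rfl⟩

theorem card_normalizer_sylow_gl2 [Fintype F] {q : ℕ} (hF : Fintype.card F = q) (p : ℕ)
    [hp : Fact p.Prime] [CharP F p] (P : Sylow p (GL (Fin 2) F)) :
    Nat.card (Subgroup.normalizer ((P : Subgroup (GL (Fin 2) F)) : Set (GL (Fin 2) F))) =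
      q * (q - 1) ^ 2 := by
  obtain ⟨P₀, hP₀⟩ := exists_sylow_gl2 (F := F) p
  have h1 := P.card_eq_index_normalizer
  have h2 := P₀.card_eq_index_normalizer
  have h3 := (Subgroup.normalizer ((P : Subgroup (GL (Fin 2) F)) : Set (GL (Fin 2) F))).card_mul_index
  have h4 := (Subgroup.normalizer ((P₀ : Subgroup (GL (Fin 2) F)) : Set (GL (Fin 2) F))).card_mul_index
  have h5 : Nat.card (Subgroup.normalizer ((P₀ : Subgroup (GL (Fin 2) F)) : Set (GL (Fin 2) F))) =
      q * (q - 1) ^ 2 := by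
    rw [hP₀, normalizer_unip2_gl, card_borel2_gl hF]
  have hpos : 0 < Nat.card (Sylow p (GL (Fin 2) F)) := Nat.card_pos
  apply Nat.eq_of_mul_eq_mul_right hpos
  rw [← h5]
  calc _ = Nat.card (GL (Fin 2) F) := by rw [h1]; exact h3
    _ = _ := by rw [h2]; exact h4.symm

theorem card_sylow_gl2 [Fintype F] {q : ℕ} (hF : Fintype.card F = q) (p : ℕ)
    [hp : Fact p.Prime] [CharP F p] : Nat.card (Sylow p (GL (Fin 2) F)) = q + 1 := by
  obtain ⟨P, -⟩ := exists_sylow_gl2 (F := F) p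
  have h1 := P.card_eq_index_normalizer
  have h3 := (Subgroup.normalizer ((P : Subgroup (GL (Fin 2) F)) : Set (GL (Fin 2) F))).card_mul_index
  rw [card_normalizer_sylow_gl2 hF, card_gl_two hF] at h3
  have hq : 1 < q := hF ▸ Fintype.one_lt_card
  have hpos : 0 < q * (q - 1) ^ 2 := Nat.mul_pos (by omega) (Nat.pow_pos (by omega))
  rw [h1]
  exact Nat.eq_of_mul_eq_mul_left hpos h3

theorem sylow_inf_eq_bot_aux {H : Type*} [Group H] [Finite H] (φ : H →* Matrix (Fin 2) (Fin 2) F)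
    (hφ : Function.Injective φ) {p : ℕ} [Fact p.Prime] (P₀ : Sylow p H)
    (hP₀ : (P₀ : Subgroup H) = unip2 φ) (P Q : Sylow p H) (h : P ≠ Q) :
    (P : Subgroup H) ⊓ Q = ⊥ := by
  obtain ⟨a, ha⟩ := sylow_eq_conj P₀ P
  obtain ⟨b, hb⟩ := sylow_eq_conj P₀ Q
  rw [hP₀] at ha hb
  have hab : b⁻¹ * a ∉ borel2 φ := by
    intro hh
    apply h
    apply Sylow.ext
    rw [ha, hb]
    conv_rhs => rw [← conj_unip2_eq φ hh]
    rw [smul_smul, ← map_mul]; simp
  have := conj_unip2_inf φ hφ _ hab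
  have h2 := congrArg (fun K : Subgroup H => MulAut.conj b • K) this
  simp only [Subgroup.smul_inf, smul_smul, ← map_mul, mul_inv_cancel_left, Subgroup.smul_bot] at h2
  rw [ha, hb, h2]

theorem sylow_inf_eq_bot_gl2 [Fintype F] (p : ℕ) [Fact p.Prime] [CharP F p]
    (P Q : Sylow p (GL (Fin 2) F)) (h : P ≠ Q) :
    (P : Subgroup (GL (Fin 2) F)) ⊓ Q = ⊥ := by
  obtain ⟨P₀, hP₀⟩ := exists_sylow_gl2 (F := F) p
  exact sylow_inf_eq_bot_aux _ gl2Mat_inj P₀ hP₀ P Q h

theorem sylow_inf_eq_bot_sl2 [Fintype F] (p : ℕ) [Fact p.Prime] [CharP F p]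
    (P Q : Sylow p SL(2, F)) (h : P ≠ Q) :
    (P : Subgroup SL(2, F)) ⊓ Q = ⊥ := by
  obtain ⟨P₀, hP₀⟩ := exists_sylow_sl2 (F := F) p
  exact sylow_inf_eq_bot_aux _ sl2Mat_inj P₀ hP₀ P Q h

/-- The unitriangular group and any conjugate by a non-triangular element generate `SL₂`. -/
theorem unip2_sup_conj_eq_top (g : SL(2, F)) (hg : g ∉ borel2 (sl2Mat F)) :
    unip2 (sl2Mat F) ⊔ MulAut.conj g • unip2 (sl2Mat F) = ⊤ := by
  have hc : g 1 0 ≠ 0 := hg
  have hdet : g 0 0 * g 1 1 - g 0 1 * g 1 0 = 1 := by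
    have := g.2; rwa [Matrix.det_fin_two] at this
  have hU : ∀ t : F, SpecialLinearGroup.transvection (zero_ne_one (α := Fin 2)) t ∈
      unip2 (sl2Mat F) := by
    intro t; rw [mem_unip2]; simp [transvection_coe]
  apply sl_eq_top_of_transvection_mem
  intro i j hij c
  fin_cases i <;> fin_cases j
  · exact absurd rfl hij
  · exact Subgroup.mem_sup_left (hU c)
  · have key : (SpecialLinearGroup.transvection hij c : SL(2, F)) =
        SpecialLinearGroup.transvection (zero_ne_one (α := Fin 2)) (-(g 0 0 / g 1 0)) *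
        (g * SpecialLinearGroup.transvection (zero_ne_one (α := Fin 2)) (-(c / (g 1 0) ^ 2)) * g⁻¹) *
        SpecialLinearGroup.transvection (zero_ne_one (α := Fin 2)) (g 0 0 / g 1 0) := by
      apply Subtype.ext
      simp only [coe_mul, coe_inv, transvection_coe, Matrix.adjugate_fin_two]
      have h01 : g 0 1 = (g 0 0 * g 1 1 - 1) / g 1 0 := by field_simp; linear_combination -hdet
      ext k l
      fin_cases k <;> fin_cases l <;>
        simp [Matrix.mul_apply, Fin.sum_univ_two, Matrix.single_apply, Matrix.one_apply, h01] <;>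
        field_simp <;> ring
    rw [key]
    refine Subgroup.mul_mem _ (Subgroup.mul_mem _ (Subgroup.mem_sup_left (hU _))
      (Subgroup.mem_sup_right ⟨_, hU _, rfl⟩)) (Subgroup.mem_sup_left (hU _))
  · exact absurd rfl hij

theorem sylow_sup_eq_top_sl2 [Fintype F] (p : ℕ) [Fact p.Prime] [CharP F p]
    (P Q : Sylow p SL(2, F)) (h : P ≠ Q) :
    (P : Subgroup SL(2, F)) ⊔ Q = ⊤ := by
  obtain ⟨P₀, hP₀⟩ := exists_sylow_sl2 (F := F) p
  obtain ⟨a, ha⟩ := sylow_eq_conj P₀ P
  obtain ⟨b, hb⟩ := sylow_eq_conj P₀ Q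
  rw [hP₀] at ha hb
  have hab : a⁻¹ * b ∉ borel2 (sl2Mat F) := by
    intro hh
    apply h
    apply Sylow.ext
    rw [ha, hb]
    conv_lhs => rw [← conj_unip2_eq _ hh]
    rw [smul_smul, ← map_mul]; simp
  have := unip2_sup_conj_eq_top _ hab
  have h2 := congrArg (fun K : Subgroup SL(2, F) => MulAut.conj a • K) this
  simp only [Subgroup.smul_sup, smul_smul, ← map_mul, mul_inv_cancel_left] at h2
  rw [ha, hb, h2]
  exact Subgroup.map_top_of_surjective _ (MulAut.conj a).surjective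

theorem card_centralizer_unip_gl2 [Fintype F] {q : ℕ} (hF : Fintype.card F = q)
    (a : GL (Fin 2) F) (ha : a ∈ unip2 (gl2Mat F)) (ha1 : a ≠ 1) :
    Nat.card (Subgroup.centralizer ({a} : Set (GL (Fin 2) F))) = q * (q - 1) := by
  obtain ⟨h1, h2, h3⟩ := ha
  change (a : Matrix (Fin 2) (Fin 2) F) 0 0 = 1 at h1
  change (a : Matrix (Fin 2) (Fin 2) F) 1 0 = 0 at h2
  change (a : Matrix (Fin 2) (Fin 2) F) 1 1 = 1 at h3
  have ht : (a : Matrix (Fin 2) (Fin 2) F) 0 1 ≠ 0 := by
    intro h0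
    apply ha1
    apply Units.ext
    ext i j
    fin_cases i <;> fin_cases j <;> simp [h0, h1, h2, h3]
  have : Nat.card (Subgroup.centralizer ({a} : Set (GL (Fin 2) F))) = Nat.card (F × Fˣ) := by
    symm
    apply Nat.card_congr
    refine Equiv.ofBijective (fun x => ⟨Matrix.GeneralLinearGroup.mkOfDetNeZero
      !![(x.2 : F), x.1; 0, (x.2 : F)] (by simp [Matrix.det_fin_two]), by
        rw [Subgroup.mem_centralizer_singleton_iff]
        apply Units.ext
        ext i j
        fin_cases i <;> fin_cases j <;>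
          simp [Matrix.mul_apply, Fin.sum_univ_two, h1, h2, h3]
        ring⟩) ⟨?_, ?_⟩
    · rintro ⟨t, a⟩ ⟨t', a'⟩ h
      have h' := congrArg (fun g : Subgroup.centralizer _ => ((g.1 : GL (Fin 2) F) : Matrix (Fin 2) (Fin 2) F)) h
      have h1 := congrFun (congrFun h' 0) 0
      have h2 := congrFun (congrFun h' 0) 1
      simp at h1 h2
      simp [Units.ext h1, h2]
    · rintro ⟨g, hg⟩
      have hg2 := Subgroup.mem_centralizer_singleton_iff.1 hg
      have hg3 := congrArg Units.val hg2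
      have e00 := congrFun (congrFun hg3 0) 0
      have e01 := congrFun (congrFun hg3 0) 1
      simp [Matrix.mul_apply, Fin.sum_univ_two, h1, h2, h3, ht] at e00 e01
      have e : (g : Matrix (Fin 2) (Fin 2) F) 1 1 = (g : Matrix (Fin 2) (Fin 2) F) 0 0 := by
        apply mul_left_cancel₀ ht; linear_combination -e01
      have hdet : (g : Matrix (Fin 2) (Fin 2) F).det ≠ 0 := g.det_ne_zero
      rw [Matrix.det_fin_two, e00, mul_zero, sub_zero] at hdet
      refine ⟨⟨(g : Matrix (Fin 2) (Fin 2) F) 0 1, Units.mk0 _ (left_ne_zero_of_mul hdet)⟩, ?_⟩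
      apply Subtype.ext
      apply Units.ext
      ext i j
      fin_cases i <;> fin_cases j <;> simp [e00, e]
  rw [this, Nat.card_prod, card_units_eq hF, Nat.card_eq_fintype_card, hF]

theorem card_centralizer_conj {H : Type*} [Group H] (g a : H) :
    Nat.card (Subgroup.centralizer ({g * a * g⁻¹} : Set H)) =
      Nat.card (Subgroup.centralizer ({a} : Set H)) := by
  apply Nat.card_congr
  refine ⟨fun x => ⟨g⁻¹ * x * g, ?_⟩, fun x => ⟨g * x * g⁻¹, ?_⟩, ?_, ?_⟩
  · have := Subgroup.mem_centralizer_singleton_iff.1 x.2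
    rw [Subgroup.mem_centralizer_singleton_iff]
    calc g⁻¹ * x * g * a = g⁻¹ * (x * (g * a * g⁻¹)) * g := by group
      _ = _ := by rw [this]; group
  · have := Subgroup.mem_centralizer_singleton_iff.1 x.2
    rw [Subgroup.mem_centralizer_singleton_iff]
    calc g * x * g⁻¹ * (g * a * g⁻¹) = g * (x * a) * g⁻¹ := by group
      _ = _ := by rw [this]; group
  · intro x; apply Subtype.ext; simp [mul_assoc]
  · intro x; apply Subtype.ext; simp [mul_assoc]

theorem card_centralizer_sylow_gl2 [Fintype F] {q : ℕ} (hF : Fintype.card F = q) (p : ℕ)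
    [Fact p.Prime] [CharP F p] (P : Sylow p (GL (Fin 2) F)) (a : GL (Fin 2) F) (ha : a ∈ P)
    (ha1 : a ≠ 1) :
    Nat.card (Subgroup.centralizer ({a} : Set (GL (Fin 2) F))) = q * (q - 1) := by
  obtain ⟨P₀, hP₀⟩ := exists_sylow_gl2 (F := F) p
  obtain ⟨g, hg⟩ := sylow_eq_conj P₀ P
  have ha' : a ∈ (P : Subgroup (GL (Fin 2) F)) := ha
  rw [hg, hP₀] at ha'
  obtain ⟨x, hx, rfl⟩ := ha'
  have hx1 : x ≠ 1 := by rintro rfl; simp at ha1
  exact (card_centralizer_conj g x).trans (card_centralizer_unip_gl2 hF x hx hx1)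

end GL2

theorem prod_pow_sub_pow (q n : ℕ) :
    ∏ i : Fin n, (q ^ n - q ^ (i : ℕ)) =
      q ^ (n * (n - 1) / 2) * ∏ i : Fin n, (q ^ (n - i) - 1) := by
  rw [← Finset.sum_range_id, ← Finset.prod_pow_eq_pow_sum, ← Fin.prod_univ_eq_prod_range,
    ← Finset.prod_mul_distrib]
  apply Finset.prod_congr rfl
  intro i _
  rw [Nat.mul_sub, mul_one, ← pow_add, Nat.add_sub_cancel' i.2.le]

theorem card_sylow_gl {F : Type*} [Field F] [Fintype F] {q : ℕ} (hF : Fintype.card F = q) (p : ℕ)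
    [hp : Fact p.Prime] [CharP F p] (n : ℕ) (P : Sylow p (GL (Fin n) F)) :
    Nat.card P = q ^ (n * (n - 1) / 2) := by
  subst hF
  refine card_sylow_eq (F := F) p _ (∏ i : Fin n, (Fintype.card F ^ (n - i) - 1)) ?_ ?_ P
  · rw [card_gl rfl, prod_pow_sub_pow]
  · intro h
    obtain ⟨i, -, hi⟩ := (hp.out.prime.dvd_finset_prod_iff _).1 h
    exact not_char_dvd_card_pow_sub_one (F := F) p _ (by have := i.2; omega) hi

end H7
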