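import Mathlib
import Cfsg.Agent.H7.SL

/-!
The projective line: sharp 3-transitivity of `PGL₂`, 3-transitivity of `SL₂`.
-/

set_option autoImplicit false

namespace H7

open Matrix Projectivization MulAction
open scoped MatrixGroups LinearAlgebra.Projectivization commutatorElement

variable {F : Type*} [Field F]

theorem is_three_pretransitive_iff {G α : Type*} [Group G] [MulAction G α] :
    IsMultiplyPretransitive G α 3 ↔
      ∀ (a b c a' b' c' : α), a ≠ b → a ≠ c → b ≠ c → a' ≠ b' → a' ≠ c' → b' ≠ c' →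
        ∃ g : G, g • a = a' ∧ g • b = b' ∧ g • c = c' := by
  have hinj : ∀ a b c : α, a ≠ b → a ≠ c → b ≠ c → Function.Injective ![a, b, c] := by
    intro a b c h1 h2 h3 i j hij
    fin_cases i <;> fin_cases j <;> simp_all [eq_comm]
  constructor
  · intro h a b c a' b' c' h1 h2 h3 h4 h5 h6
    obtain ⟨g, hg⟩ := exists_smul_eq G (⟨![a, b, c], hinj _ _ _ h1 h2 h3⟩ : Fin 3 ↪ α)
      ⟨![a', b', c'], hinj _ _ _ h4 h5 h6⟩
    exact ⟨g, congrArg (fun f : Fin 3 ↪ α => f 0) hg, congrArg (fun f : Fin 3 ↪ α => f 1) hg,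
      congrArg (fun f : Fin 3 ↪ α => f 2) hg⟩
  · intro h
    constructor
    intro x y
    obtain ⟨g, h0, h1, h2⟩ := h (x 0) (x 1) (x 2) (y 0) (y 1) (y 2)
      (x.injective.ne (by decide)) (x.injective.ne (by decide)) (x.injective.ne (by decide))
      (y.injective.ne (by decide)) (y.injective.ne (by decide)) (y.injective.ne (by decide))
    refine ⟨g, ?_⟩
    ext i
    fin_cases i
    · exact h0
    · exact h1
    · exact h2

theorem mk_eq_mk_iff_det (u v : Fin 2 → F) (hu : u ≠ 0) (hv : v ≠ 0) :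
    mk F u hu = mk F v hv ↔ u 0 * v 1 - u 1 * v 0 = 0 := by
  rw [mk_eq_mk_iff']
  constructor
  · rintro ⟨a, rfl⟩
    simp; ring
  · intro h
    by_cases h0 : v 0 = 0
    · have h1 : v 1 ≠ 0 := by
        intro h1; apply hv; ext i; fin_cases i <;> simp [h0, h1]
      refine ⟨u 1 / v 1, ?_⟩
      have : u 0 = 0 := by
        rw [h0, mul_zero, sub_zero] at h
        exact (mul_eq_zero.1 h).resolve_right h1
      ext i; fin_cases i <;> simp [h0, h1, this]
    · refine ⟨u 0 / v 0, ?_⟩
      ext i; fin_cases i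
      · simp [h0]
      · simp; field_simp; linear_combination h

theorem e0_ne_zero : (![1, 0] : Fin 2 → F) ≠ 0 := by
  intro h; simpa using congrFun h 0
theorem e1_ne_zero : (![0, 1] : Fin 2 → F) ≠ 0 := by
  intro h; simpa using congrFun h 1
theorem e01_ne_zero (t : F) : (![t, 1] : Fin 2 → F) ≠ 0 := by
  intro h; simpa using congrFun h 1

theorem gl_smul_def {ι : Type*} [Fintype ι] [DecidableEq ι] (g : GL ι F) (v : ι → F) :
    g • v = (g : Matrix ι ι F) *ᵥ v := rfl

theorem exists_gl2_frame (a b c : ℙ F (Fin 2 → F)) (hab : a ≠ b) (hac : a ≠ c) (hbc : b ≠ c) :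
    ∃ g : GL (Fin 2) F, g • mk F ![1, 0] e0_ne_zero = a ∧ g • mk F ![0, 1] e1_ne_zero = b ∧
      g • mk F ![1, 1] (e01_ne_zero 1) = c := by
  induction a using Projectivization.ind with | _ u hu =>
  induction b using Projectivization.ind with | _ v hv =>
  induction c using Projectivization.ind with | _ w hw =>
  rw [Ne, mk_eq_mk_iff_det] at hab hac hbc
  set α := v 0 * w 1 - v 1 * w 0 with hα
  set β := u 0 * w 1 - u 1 * w 0 with hβ
  refine ⟨Matrix.GeneralLinearGroup.mkOfDetNeZero !![α * u 0, -β * v 0; α * u 1, -β * v 1] ?_,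
    ?_, ?_, ?_⟩
  · rw [Matrix.det_fin_two_of]
    have : α * u 0 * (-β * v 1) - -β * v 0 * (α * u 1) = -(α * β * (u 0 * v 1 - u 1 * v 0)) := by
      ring
    rw [this]
    exact neg_ne_zero.2 (mul_ne_zero (mul_ne_zero hbc hac) hab)
  all_goals
    rw [smul_mk, mk_eq_mk_iff_det, gl_smul_def]
    simp [Matrix.mulVec, dotProduct, Fin.sum_univ_two, hα, hβ]
    ring

theorem gl2_three_trans (a b c a' b' c' : ℙ F (Fin 2 → F)) (h1 : a ≠ b) (h2 : a ≠ c) (h3 : b ≠ c)
    (h4 : a' ≠ b') (h5 : a' ≠ c') (h6 : b' ≠ c') :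
    ∃ g : GL (Fin 2) F, g • a = a' ∧ g • b = b' ∧ g • c = c' := by
  obtain ⟨g, g1, g2, g3⟩ := exists_gl2_frame a b c h1 h2 h3
  obtain ⟨k, k1, k2, k3⟩ := exists_gl2_frame a' b' c' h4 h5 h6
  refine ⟨k * g⁻¹, ?_, ?_, ?_⟩
  · rw [← g1, ← k1, smul_smul]; simp
  · rw [← g2, ← k2, smul_smul]; simp
  · rw [← g3, ← k3, smul_smul]; simp

theorem pgl_mk_smul {ι : Type*} [Fintype ι] [DecidableEq ι] (g : GL ι F) (a : ℙ F (ι → F)) :
    (ProjGenLinGroup.mk g) • a = g • a := rfl

theorem pgl2_three_trans : IsMultiplyPretransitive PGL(2, F) (ℙ F (Fin 2 → F)) 3 := by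
  rw [is_three_pretransitive_iff]
  intro a b c a' b' c' h1 h2 h3 h4 h5 h6
  obtain ⟨g, hg⟩ := gl2_three_trans a b c a' b' c' h1 h2 h3 h4 h5 h6
  exact ⟨ProjGenLinGroup.mk g, hg⟩

theorem gl2_mem_center_of_fix (g : GL (Fin 2) F) (a b c : ℙ F (Fin 2 → F)) (hab : a ≠ b)
    (hac : a ≠ c) (hbc : b ≠ c) (ha : g • a = a) (hb : g • b = b) (hc : g • c = c) :
    g ∈ Subgroup.center (GL (Fin 2) F) := by
  obtain ⟨k, rfl, rfl, rfl⟩ := exists_gl2_frame a b c hab hac hbc
  have key : k⁻¹ * g * k ∈ Subgroup.center (GL (Fin 2) F) := by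
    have h1 : (k⁻¹ * g * k) • mk F (![1, 0] : Fin 2 → F) e0_ne_zero =
        mk F (![1, 0] : Fin 2 → F) e0_ne_zero := by
      rw [mul_smul, mul_smul, ha, inv_smul_smul]
    have h2 : (k⁻¹ * g * k) • mk F (![0, 1] : Fin 2 → F) e1_ne_zero =
        mk F (![0, 1] : Fin 2 → F) e1_ne_zero := by
      rw [mul_smul, mul_smul, hb, inv_smul_smul]
    have h3 : (k⁻¹ * g * k) • mk F (![1, 1] : Fin 2 → F) (e01_ne_zero 1) =
        mk F (![1, 1] : Fin 2 → F) (e01_ne_zero 1) := by
      rw [mul_smul, mul_smul, hc, inv_smul_smul]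
    generalize k⁻¹ * g * k = x at h1 h2 h3
    rw [smul_mk, mk_eq_mk_iff_det, gl_smul_def] at h1 h2 h3
    simp [Matrix.mulVec, dotProduct, Fin.sum_univ_two] at h1 h2 h3
    rw [Matrix.GeneralLinearGroup.mem_center_iff_val_mem_range_scalar]
    refine ⟨(x : Matrix (Fin 2) (Fin 2) F) 0 0, ?_⟩
    ext i j
    fin_cases i <;> fin_cases j <;> simp [h1, h2]
    rw [h1, h2] at h3
    linear_combination h3
  have := (Subgroup.normal_of_characteristic (Subgroup.center (GL (Fin 2) F))).conj_mem _ key k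
  simpa [mul_assoc] using this

theorem pgl2_eq_one_of_fix (g : PGL(2, F)) (a b c : ℙ F (Fin 2 → F)) (hab : a ≠ b)
    (hac : a ≠ c) (hbc : b ≠ c) (ha : g • a = a) (hb : g • b = b) (hc : g • c = c) : g = 1 := by
  induction g using ProjGenLinGroup.induction_on with | mk g =>
  rw [ProjGenLinGroup.mk_eq_one]
  exact gl2_mem_center_of_fix g a b c hab hac hbc ha hb hc

theorem sl_smul_eq_toGL {ι : Type*} [Fintype ι] [DecidableEq ι] (g : Matrix.SpecialLinearGroup ι F)
    (a : ℙ F (ι → F)) : g • a = (Matrix.SpecialLinearGroup.toGL g : GL ι F) • a := rfl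

theorem sl2_three_trans_iff [Fintype F] :
    IsMultiplyPretransitive SL(2, F) (ℙ F (Fin 2 → F)) 3 ↔ ringChar F = 2 := by
  constructor
  · intro h
    by_contra h2
    obtain ⟨t, ht⟩ := FiniteField.exists_nonsquare h2
    have ht0 : t ≠ 0 := by rintro rfl; exact ht IsSquare.zero
    rw [is_three_pretransitive_iff] at h
    obtain ⟨g, h1, h2, h3⟩ := h (mk F ![1, 0] e0_ne_zero) (mk F ![0, 1] e1_ne_zero)
      (mk F ![1, 1] (e01_ne_zero 1)) (mk F ![1, 0] e0_ne_zero) (mk F ![0, 1] e1_ne_zero)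
      (mk F ![t, 1] (e01_ne_zero t)) (by simp [mk_eq_mk_iff_det]) (by simp [mk_eq_mk_iff_det])
      (by simp [mk_eq_mk_iff_det]) (by simp [mk_eq_mk_iff_det]) (by simp [mk_eq_mk_iff_det])
      (by simp [mk_eq_mk_iff_det, ht0])
    rw [smul_mk, mk_eq_mk_iff_det, Matrix.SpecialLinearGroup.smul_def] at h1 h2 h3
    simp [Matrix.mulVec, dotProduct, Fin.sum_univ_two] at h1 h2 h3
    have hdet := g.2
    rw [Matrix.det_fin_two] at hdet
    change g 0 0 * g 1 1 - g 0 1 * g 1 0 = 1 at hdet
    rw [h1, h2] at h3 hdet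
    apply ht
    refine ⟨g 0 0, ?_⟩
    linear_combination (-t) * hdet - (g 0 0) * h3
  · intro h2
    rw [is_three_pretransitive_iff]
    intro a b c a' b' c' h1 h2' h3 h4 h5 h6
    obtain ⟨g, hg⟩ := gl2_three_trans a b c a' b' c' h1 h2' h3 h4 h5 h6
    obtain ⟨g', hg'⟩ := ProjectiveSpecialLinearGroup.toPGL_surj_of_roots (n := Fin 2) (R := F)
      (fun r => by
        obtain ⟨s, hs⟩ := FiniteField.isSquare_of_char_two h2 (r : F)
        have hs0 : s ≠ 0 := by rintro rfl; simp at hs
        exact ⟨Units.mk0 s hs0, Units.ext (by simp [hs, sq])⟩) (ProjGenLinGroup.mk g)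
    obtain ⟨k, rfl⟩ := QuotientGroup.mk_surjective g'
    rw [ProjectiveSpecialLinearGroup.toPGL_mk] at hg'
    refine ⟨k, ?_⟩
    simp only [sl_smul_eq_toGL, ← pgl_mk_smul, hg']
    exact hg

theorem sl2_involution_eq_neg_one (h2 : (2 : F) ≠ 0) (g : SL(2, F)) (h1 : g ≠ 1) (hg : g * g = 1) :
    (g : Matrix (Fin 2) (Fin 2) F) = -1 := by
  have hdet := g.2
  rw [Matrix.det_fin_two] at hdet
  change g 0 0 * g 1 1 - g 0 1 * g 1 0 = 1 at hdet
  have h := congrArg Subtype.val hg
  have h00 := congrFun (congrFun h 0) 0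
  have h01 := congrFun (congrFun h 0) 1
  have h10 := congrFun (congrFun h 1) 0
  have h11 := congrFun (congrFun h 1) 1
  simp [Matrix.mul_apply, Fin.sum_univ_two] at h00 h01 h10 h11
  have htr : g 0 0 + g 1 1 ≠ 0 := by
    intro h0
    apply h2
    linear_combination (-1) * hdet - h00 + (g 0 0) * h0
  have hb : g 0 1 = 0 := by
    apply mul_left_cancel₀ htr; linear_combination h01
  have hc : g 1 0 = 0 := by
    apply mul_left_cancel₀ htr; linear_combination h10
  rw [hb] at h00 hdet
  have hd : g 1 1 = g 0 0 := by linear_combination (g 0 0) * hdet - (g 1 1) * h00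
  have ha : g 0 0 = 1 ∨ g 0 0 = -1 := by
    apply mul_self_eq_one_iff.1; linear_combination h00
  rcases ha with ha | ha
  · exfalso; apply h1
    ext i j
    fin_cases i <;> fin_cases j <;> simp [ha, hb, hc, hd]
  · ext i j
    fin_cases i <;> fin_cases j <;> simp [ha, hb, hc, hd]

theorem two_ne_zero_of_odd_card [Fintype F] (hF : Odd (Fintype.card F)) : (2 : F) ≠ 0 := by
  intro h
  have h1 : ringChar F = 2 := by
    have := ringChar.dvd (R := F) (x := 2) (by exact_mod_cast h)
    rcases (Nat.dvd_prime Nat.prime_two).1 this with h1 | h1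
    · exact absurd h1 CharP.ringChar_ne_one
    · exact h1
  have := FiniteField.even_card_of_char_two h1
  rw [Nat.odd_iff] at hF
  omega

theorem gl_commutator_eq_ker_det {ι : Type*} [Fintype ι] [DecidableEq ι]
    (h : Fintype.card ι = 2 → ∃ a : F, a ≠ 0 ∧ a ≠ 1) :
    commutator (GL ι F) = (Matrix.GeneralLinearGroup.det : GL ι F →* Fˣ).ker := by
  apply le_antisymm
  · exact Abelianization.commutator_subset_ker _
  · rw [← range_toGL]
    rintro _ ⟨A, rfl⟩
    by_cases h3 : 3 ≤ Fintype.card ι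
    · have : A ∈ commutator (Matrix.SpecialLinearGroup ι F) := by
        rw [sl_commutator_eq_top h3]; trivial
      have h2 := Subgroup.mem_map_of_mem
        (Matrix.SpecialLinearGroup.toGL : Matrix.SpecialLinearGroup ι F →* GL ι F) this
      rw [commutator_def, Subgroup.map_commutator] at h2
      exact Subgroup.commutator_mono le_top le_top h2
    · refine sl_transvection_induction
        (fun A => (Matrix.SpecialLinearGroup.toGL A : GL ι F) ∈ commutator (GL ι F))
        (by simp) ?_ (fun A B hA hB => by rw [map_mul]; exact mul_mem hA hB) A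
      intro i j hij c
      have h2 : Fintype.card ι = 2 := by
        have : Nontrivial ι := ⟨i, j, hij⟩
        have := Fintype.one_lt_card (α := ι)
        omega
      obtain ⟨a, ha0, ha1⟩ := h h2
      let D : GL ι F := Matrix.GeneralLinearGroup.mkOfDetNeZero
        (Matrix.diagonal (Function.update 1 i a)) (by
          rw [Matrix.det_diagonal, Finset.prod_update_of_mem (Finset.mem_univ i)]; simpa using ha0)
      have hT : ∀ b : F, D * (Matrix.SpecialLinearGroup.toGL
          (Matrix.SpecialLinearGroup.transvection hij b) : GL ι F) =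
          Matrix.SpecialLinearGroup.toGL (Matrix.SpecialLinearGroup.transvection hij (a * b)) * D := by
        intro b
        apply Units.ext
        simp only [Units.val_mul, D, Matrix.GeneralLinearGroup.val_mkOfDetNeZero,
          Matrix.SpecialLinearGroup.coe_GL_coe_matrix, Matrix.SpecialLinearGroup.transvection_coe,
          mul_add, add_mul, mul_one, one_mul]
        congr 1
        ext k l
        simp only [Matrix.diagonal_mul, Matrix.mul_diagonal, Matrix.single_apply]
        split_ifs with hh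
        · obtain ⟨rfl, rfl⟩ := hh
          simp [Function.update_of_ne hij.symm]
        · simp
      have key : (Matrix.SpecialLinearGroup.toGL (Matrix.SpecialLinearGroup.transvection hij c) :
          GL ι F) = ⁅D, (Matrix.SpecialLinearGroup.toGL
            (Matrix.SpecialLinearGroup.transvection hij (c / (a - 1))) : GL ι F)⁆ := by
        rw [commutatorElement_def, hT, mul_inv_cancel_right, ← map_inv, ← map_mul,
          Matrix.SpecialLinearGroup.transvection_inv, ← Matrix.SpecialLinearGroup.transvection_add]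
        congr 2
        have := sub_ne_zero.2 ha1
        field_simp
        ring
      rw [key]
      exact Subgroup.commutator_mem_commutator (Subgroup.mem_top _) (Subgroup.mem_top _)

theorem exists_pgl_hom_ker_psl [Fintype F] {q : ℕ} (hF : Fintype.card F = q) (n : ℕ) (hn : 1 ≤ n) :
    ∃ g : PGL(n, F) →* Multiplicative (ZMod (Nat.gcd n (q - 1))), Function.Surjective g ∧
      g.ker = (Matrix.ProjectiveSpecialLinearGroup.toPGL : PSL(n, F) →* PGL(n, F)).range := by
  have : Nonempty (Fin n) := ⟨⟨0, hn⟩⟩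
  let R : Subgroup Fˣ := (powMonoidHom n : Fˣ →* Fˣ).range
  have hcyc : IsCyclic (Fˣ ⧸ R) := isCyclic_of_surjective _ (QuotientGroup.mk'_surjective R)
  have hcard : Nat.card (Fˣ ⧸ R) = Nat.gcd n (q - 1) := by
    change R.index = _
    rw [Subgroup.index_range, IsCyclic.card_powMonoidHom_ker, card_units_eq hF, Nat.gcd_comm]
  let e : Multiplicative (ZMod (Nat.gcd n (q - 1))) ≃* Fˣ ⧸ R := hcard ▸ zmodCyclicMulEquiv hcyc
  let f : GL (Fin n) F →* Fˣ ⧸ R := (QuotientGroup.mk' R).comp Matrix.GeneralLinearGroup.det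
  have hf : f.comp (Matrix.GeneralLinearGroup.scalar (Fin n)) = 1 := by
    ext u
    simp only [f, MonoidHom.comp_apply, QuotientGroup.mk'_apply, MonoidHom.one_apply,
      QuotientGroup.eq_one_iff]
    exact ⟨u, by simp⟩
  refine ⟨e.symm.toMonoidHom.comp (ProjGenLinGroup.lift f hf), ?_, ?_⟩
  · intro y
    obtain ⟨u, hu⟩ := QuotientGroup.mk_surjective (e y)
    obtain ⟨A, hA⟩ := Matrix.GeneralLinearGroup.det_surjective (n := Fin n) u
    refine ⟨ProjGenLinGroup.mk A, ?_⟩
    simp [f, hA, hu]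
  · ext x
    induction x using ProjGenLinGroup.induction_on with | mk A =>
    simp only [MonoidHom.mem_ker, MonoidHom.comp_apply, ProjGenLinGroup.lift_mk,
      MulEquiv.coe_toMonoidHom, map_eq_one_iff _ e.symm.injective, f, QuotientGroup.mk'_apply,
      QuotientGroup.eq_one_iff]
    constructor
    · rintro ⟨u, hu⟩
      have hdet : (A * Matrix.GeneralLinearGroup.scalar (Fin n) u⁻¹) ∈
          (Matrix.GeneralLinearGroup.det : GL (Fin n) F →* Fˣ).ker := by
        rw [MonoidHom.mem_ker, map_mul, ← hu]; simp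
      rw [← range_toGL] at hdet
      obtain ⟨B, hB⟩ := hdet
      refine ⟨(B : PSL(n, F)), ?_⟩
      rw [ProjectiveSpecialLinearGroup.toPGL_mk, hB, map_mul, ProjGenLinGroup.mk_scalar, mul_one]
    · rintro ⟨B, hB⟩
      obtain ⟨B, rfl⟩ := QuotientGroup.mk_surjective B
      rw [ProjectiveSpecialLinearGroup.toPGL_mk, ProjGenLinGroup.mk_eq_mk_iff] at hB
      obtain ⟨u, rfl⟩ := hB
      exact ⟨u, by simp⟩

end H7
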