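import Mathlib
import Cfsg.Agent.H7.GL2Sylow
import Cfsg.Agent.H7.ProjLine
import Cfsg.Agent.H7.DihQuat

/-!
Anisotropic binary quadratic forms over finite fields as norm forms; the non-split torus of `SL₂`;
Sylow subgroups of `SL₂(q)` in cross characteristic; the orthogonal groups in dimension two.
-/

set_option autoImplicit false
set_option backward.isDefEq.respectTransparency false

namespace H7

open Matrix QuadraticAlgebra
open scoped MatrixGroups Pointwise

variable {F : Type*} [Field F]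

/-- The binary form `z₁² + a z₁ z₂ + b z₂²` is anisotropic. -/
def Aniso (a b : F) : Prop := ∀ z₁ z₂ : F, z₁ ^ 2 + a * z₁ * z₂ + b * z₂ ^ 2 = 0 → z₁ = 0 ∧ z₂ = 0

theorem exists_aniso [Finite F] : ∃ a b : F, Aniso a b := by
  have h : ¬ Function.Surjective (fun p : F × F => (-(p.1 + p.2), p.1 * p.2)) := by
    rw [← Finite.injective_iff_surjective]
    intro h
    have := @h (0, 1) (1, 0) (by simp)
    simp at this
  simp only [Function.Surjective, not_forall, not_exists] at h
  obtain ⟨⟨a, b⟩, hab⟩ := h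
  refine ⟨a, b, fun z₁ z₂ hz => ?_⟩
  by_cases h2 : z₂ = 0
  · subst h2; simpa using hz
  · exfalso
    apply hab (z₁ / z₂, -a - z₁ / z₂)
    ext
    · simp
    · simp only
      field_simp
      linear_combination -hz

theorem Aniso.fact {a b : F} (h : Aniso a b) : Fact (∀ r : F, r ^ 2 ≠ -b + a * r) :=
  ⟨fun r hr => one_ne_zero (h (-r) 1 (by linear_combination hr)).2⟩

theorem Aniso.b_ne_zero {a b : F} (h : Aniso a b) : b ≠ 0 := by
  rintro rfl
  exact one_ne_zero (h 0 1 (by simp)).2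

/-- The quadratic algebra whose norm form is `z₁² + a z₁ z₂ + b z₂²`. -/
abbrev QA (a b : F) := QuadraticAlgebra F (-b) a

theorem qa_norm (a b : F) (z : QA a b) :
    z.norm = z.re ^ 2 + a * z.re * z.im + b * z.im ^ 2 := by
  rw [QuadraticAlgebra.norm_def]; ring

theorem qa_finite [Finite F] (a b : F) : Finite (QA a b) :=
  Finite.of_equiv _ (equivProd (-b) a).symm

theorem qa_card [Fintype F] {q : ℕ} (hF : Fintype.card F = q) (a b : F) :
    Nat.card (QA a b) = q ^ 2 := by
  rw [Nat.card_congr (equivProd (-b) a), Nat.card_prod, Nat.card_eq_fintype_card, hF, sq]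

theorem qa_algebra_norm {a b : F} (z : QA a b) : Algebra.norm F z = z.norm := by
  rw [Algebra.norm_apply, ← det_toLinearMap_eq_norm]
  rfl

theorem Aniso.norm_surjective [Finite F] {a b : F} (h : Aniso a b) :
    Function.Surjective (norm : QA a b → F) := by
  have := h.fact
  have := qa_finite a b
  intro c
  obtain ⟨z, hz⟩ := FiniteField.norm_surjective F (QA a b) c
  exact ⟨z, by rw [← qa_algebra_norm, hz]⟩

theorem Aniso.exists_eq [Finite F] {a b : F} (h : Aniso a b) (c : F) :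
    ∃ z₁ z₂ : F, z₁ ^ 2 + a * z₁ * z₂ + b * z₂ ^ 2 = c := by
  obtain ⟨z, hz⟩ := h.norm_surjective c
  exact ⟨z.re, z.im, by rw [← qa_norm, hz]⟩

/-- The norm-one group is cyclic of order `q + 1`. -/
theorem Aniso.exists_generator [Fintype F] {q : ℕ} (hF : Fintype.card F = q) {a b : F}
    (h : Aniso a b) : ∃ ζ : (QA a b)ˣ, (ζ : QA a b).norm = 1 ∧ orderOf ζ = q + 1 ∧
      ∀ u : QA a b, u.norm = 1 → ∃ k : ℕ, u = (ζ : QA a b) ^ k := by
  have := h.fact
  have := qa_finite a b
  let N : (QA a b)ˣ →* Fˣ := Units.map norm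
  have hN : Function.Surjective N := by
    intro c
    obtain ⟨z, hz⟩ := h.norm_surjective (c : F)
    have hz0 : z ≠ 0 := by rintro rfl; exact c.ne_zero (by simpa using hz.symm)
    exact ⟨Units.mk0 z hz0, Units.ext hz⟩
  have hcard : Nat.card N.ker = q + 1 := by
    have h1 := N.ker.card_mul_index
    rw [Subgroup.index_ker, MonoidHom.range_eq_top.2 hN, Subgroup.card_top, card_units_eq hF,
      Nat.card_units, qa_card hF] at h1
    have hq : 1 < q := hF ▸ Fintype.one_lt_card
    apply Nat.eq_of_mul_eq_mul_right (m := q - 1) (by omega)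
    rw [h1]
    obtain ⟨r, rfl⟩ : ∃ r, q = r + 1 := ⟨q - 1, by omega⟩
    apply Nat.sub_eq_of_eq_add; simp; ring
  obtain ⟨g, hg⟩ := IsCyclic.exists_generator (α := N.ker)
  refine ⟨g, congrArg Units.val g.2, ?_, fun u hu => ?_⟩
  · rw [Subgroup.orderOf_coe, orderOf_eq_card_of_forall_mem_zpowers hg, hcard]
  · have hu0 : u ≠ 0 := by rintro rfl; simp at hu
    obtain ⟨k, hk⟩ := (mem_powers_iff_mem_zpowers).2 (hg ⟨Units.mk0 u hu0, Units.ext hu⟩)
    exact ⟨k, by simpa using (congrArg (fun x : N.ker => ((x : (QA a b)ˣ) : QA a b)) hk).symm⟩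

/-- The matrix of multiplication by `z` in the basis `1, ω`. -/
def mulMat (a b : F) : QA a b →* Matrix (Fin 2) (Fin 2) F where
  toFun z := !![z.re, -b * z.im; z.im, z.re + a * z.im]
  map_one' := by ext i j; fin_cases i <;> fin_cases j <;> simp
  map_mul' z w := by
    ext i j; fin_cases i <;> fin_cases j <;> simp [Matrix.mul_apply, Fin.sum_univ_two] <;> ring

theorem mulMat_apply (a b : F) (z : QA a b) :
    mulMat a b z = !![z.re, -b * z.im; z.im, z.re + a * z.im] := rfl

theorem mulMat_det (a b : F) (z : QA a b) : (mulMat a b z).det = z.norm := by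
  rw [mulMat_apply, det_fin_two_of, qa_norm]; ring

theorem mulMat_injective (a b : F) : Function.Injective (mulMat a b) := by
  intro z w h
  have h1 := congrFun (congrFun h 0) 0
  have h2 := congrFun (congrFun h 1) 0
  simp [mulMat_apply] at h1 h2
  ext <;> assumption

/-- The matrix of conjugation in the basis `1, ω`. -/
def starMat (a : F) : Matrix (Fin 2) (Fin 2) F := !![1, a; 0, -1]

theorem starMat_mul_self (a : F) : starMat a * starMat a = 1 := by
  ext i j; fin_cases i <;> fin_cases j <;> simp [starMat, Matrix.mul_apply, Fin.sum_univ_two]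

theorem starMat_det (a : F) : (starMat a).det = -1 := by simp [starMat, det_fin_two]

theorem starMat_mul_mulMat (a b : F) (z : QA a b) :
    starMat a * mulMat a b z = mulMat a b (star z) * starMat a := by
  ext i j; fin_cases i <;> fin_cases j <;>
    simp [starMat, mulMat_apply, Matrix.mul_apply, Fin.sum_univ_two] <;> ring

theorem mulMat_algebraMap (a b c : F) : mulMat a b (algebraMap F _ c) = c • 1 := by
  ext i j; fin_cases i <;> fin_cases j <;> simp [mulMat_apply]

theorem isSquare_of_two_eq_zero [Finite F] (h2 : (2 : F) = 0) (c : F) : IsSquare c := by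
  apply FiniteField.isSquare_of_char_two
  have := ringChar.dvd (R := F) (x := 2) (by exact_mod_cast h2)
  rcases (Nat.dvd_prime Nat.prime_two).1 this with h1 | h1
  · exact absurd h1 CharP.ringChar_ne_one
  · exact h1

theorem Aniso.disc_ne_zero [Finite F] {a b : F} (h : Aniso a b) : a ^ 2 - 4 * b ≠ 0 := by
  intro hd
  by_cases h2 : (2 : F) = 0
  · obtain ⟨s, hs⟩ := isSquare_of_two_eq_zero h2 b
    have ha : a = 0 := by
      apply pow_eq_zero_iff (two_ne_zero (α := ℕ)) |>.1
      linear_combination hd + 2 * b * h2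
    exact one_ne_zero (h s 1 (by rw [ha, hs]; linear_combination s * s * h2)).2
  · exact h2 (h (-a) 2 (by linear_combination -hd)).2

theorem mulMat_ne_starMat [Finite F] {a b : F} (h : Aniso a b) (z w : QA a b) (hw : w.norm ≠ 0) :
    mulMat a b z ≠ mulMat a b w * starMat a := by
  intro e
  have h00 := congrFun (congrFun e 0) 0
  have h01 := congrFun (congrFun e 0) 1
  have h10 := congrFun (congrFun e 1) 0
  have h11 := congrFun (congrFun e 1) 1
  simp [starMat, mulMat_apply, Matrix.mul_apply, Fin.sum_univ_two] at h00 h01 h10 h11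
  rw [h00, h10] at h11
  rw [h10] at h01
  have e1 : a * w.re + 2 * b * w.im = 0 := by linear_combination -h01
  have e2 : 2 * w.re + a * w.im = 0 := by linear_combination h11
  have hd := h.disc_ne_zero
  have h1 : w.im = 0 := by
    apply mul_left_cancel₀ hd; linear_combination a * e2 - 2 * e1
  have h2 : w.re = 0 := by
    apply mul_left_cancel₀ hd; linear_combination a * e1 - 2 * b * e2
  apply hw
  rw [qa_norm, h1, h2]; ring

theorem star_eq_inv_of_norm {a b : F} (ζ : (QA a b)ˣ) (hζ : (ζ : QA a b).norm = 1) :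
    star (ζ : QA a b) = ((ζ⁻¹ : (QA a b)ˣ) : QA a b) := by
  have h := algebraMap_norm_eq_mul_star (ζ : QA a b)
  rw [hζ, map_one] at h
  exact (Units.inv_eq_of_mul_eq_one_right h.symm).symm

/-- The non-split torus of `SL₂(q)` and an element inverting it. -/
theorem exists_nonsplit_torus [Fintype F] {q : ℕ} (hF : Fintype.card F = q) :
    ∃ x y : SL(2, F), orderOf x = q + 1 ∧ y * y = -1 ∧ y * x * y⁻¹ = x⁻¹ ∧
      y ∉ Subgroup.zpowers x := by
  obtain ⟨a, b, h⟩ := exists_aniso (F := F)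
  obtain ⟨ζ, hζ1, hζ2, -⟩ := h.exists_generator hF
  obtain ⟨c, hc⟩ := h.norm_surjective (-1)
  let x : SL(2, F) := ⟨mulMat a b ζ, by rw [mulMat_det, hζ1]⟩
  let y : SL(2, F) := ⟨mulMat a b c * starMat a, by
    rw [det_mul, mulMat_det, hc, starMat_det]; ring⟩
  have hxk : ∀ k : ℕ, ((x ^ k : SL(2, F)) : Matrix (Fin 2) (Fin 2) F) = mulMat a b (ζ ^ k) := by
    intro k; rw [Matrix.SpecialLinearGroup.coe_pow, map_pow]
  refine ⟨x, y, ?_, ?_, ?_, ?_⟩
  · rw [← hζ2, orderOf_eq_orderOf_iff]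
    intro k
    rw [← Subtype.coe_inj, hxk, Matrix.SpecialLinearGroup.coe_one, ← map_one (mulMat a b),
      (mulMat_injective a b).eq_iff, ← Units.val_pow_eq_pow_val, Units.val_eq_one]
  · apply Subtype.ext
    change mulMat a b c * starMat a * (mulMat a b c * starMat a) = -1
    rw [mul_assoc, ← mul_assoc (starMat a), starMat_mul_mulMat, mul_assoc, starMat_mul_self,
      mul_one, ← map_mul, ← algebraMap_norm_eq_mul_star, hc, mulMat_algebraMap]
    simp
  · rw [mul_inv_eq_iff_eq_mul, eq_inv_mul_iff_mul_eq]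
    apply Subtype.ext
    change mulMat a b ζ * (mulMat a b c * starMat a * mulMat a b ζ) = mulMat a b c * starMat a
    rw [mul_assoc, starMat_mul_mulMat, ← mul_assoc, ← mul_assoc, ← map_mul, ← map_mul,
      star_eq_inv_of_norm ζ hζ1, mul_comm (ζ : QA a b) c, mul_assoc c, Units.mul_inv, mul_one]
  · intro hy
    obtain ⟨k, hk⟩ := (mem_powers_iff_mem_zpowers).2 hy
    have := congrArg Subtype.val hk
    exact mulMat_ne_starMat h _ c (by rw [hc]; simp) ((hxk k).symm.trans this)

/-- The split torus of `SL₂(q)` and an element inverting it. -/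
theorem exists_split_torus [Fintype F] {q : ℕ} (hF : Fintype.card F = q) :
    ∃ x y : SL(2, F), orderOf x = q - 1 ∧ y * y = -1 ∧ y * x * y⁻¹ = x⁻¹ ∧
      y ∉ Subgroup.zpowers x := by
  obtain ⟨ζ, hζ⟩ := IsCyclic.exists_generator (α := Fˣ)
  let f : Fˣ →* SL(2, F) :=
    { toFun := fun u => ⟨!![(u : F), 0; 0, ((u⁻¹ : Fˣ) : F)], by simp [det_fin_two]⟩
      map_one' := by ext i j; fin_cases i <;> fin_cases j <;> simp
      map_mul' := fun u v => by
        ext i j; fin_cases i <;> fin_cases j <;> simp [Matrix.mul_apply, Fin.sum_univ_two, mul_comm] }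
  have hf : Function.Injective f := by
    intro u v h
    have := congrFun (congrFun (congrArg Subtype.val h) 0) 0
    exact Units.ext (by simpa [f] using this)
  let y : SL(2, F) := ⟨!![0, 1; -1, 0], by simp [det_fin_two]⟩
  refine ⟨f ζ, y, ?_, ?_, ?_, ?_⟩
  · rw [orderOf_injective f hf, orderOf_eq_card_of_forall_mem_zpowers hζ, card_units_eq hF]
  · ext i j; fin_cases i <;> fin_cases j <;> simp [y, Matrix.mul_apply, Fin.sum_univ_two]
  · rw [mul_inv_eq_iff_eq_mul, ← map_inv]
    ext i j; fin_cases i <;> fin_cases j <;> simp [y, f, Matrix.mul_apply, Fin.sum_univ_two]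
  · rintro ⟨k, hk⟩
    simp only [← map_zpow] at hk
    have := congrFun (congrFun (congrArg Subtype.val hk) 0) 1
    simp [f, y] at this

theorem sylow_isCyclic_of_orderOf {G : Type*} [Group G] [Finite G] {r : ℕ} [hr : Fact r.Prime]
    (x : G) (m : ℕ) (hG : Nat.card G = orderOf x * m) (hm : ¬ r ∣ m) (R : Sylow r G) :
    IsCyclic R := by
  obtain ⟨S⟩ : Nonempty (Sylow r (Subgroup.zpowers x)) := inferInstance
  have hidx : (Subgroup.zpowers x).index = m := by
    have := (Subgroup.zpowers x).card_mul_index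
    rw [Nat.card_zpowers, hG] at this
    exact Nat.eq_of_mul_eq_mul_left (orderOf_pos x) this
  have hS : IsPGroup r ((S : Subgroup (Subgroup.zpowers x)).map (Subgroup.zpowers x).subtype) :=
    S.isPGroup'.map _
  have hi : ¬ r ∣ ((S : Subgroup (Subgroup.zpowers x)).map (Subgroup.zpowers x).subtype).index := by
    rw [Subgroup.index_map_subtype, hidx]
    intro h
    rcases (Nat.Prime.dvd_mul hr.out).1 h with h | h
    · exact S.not_dvd_index h
    · exact hm h
  have hc : IsCyclic (hS.toSylow hi) :=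
    isCyclic_of_surjective _ (MonoidHom.subgroupMap_surjective (Subgroup.zpowers x).subtype S)
  exact isCyclic_of_surjective _ (Sylow.equiv (hS.toSylow hi) R).surjective

theorem sl2_sylow_isCyclic [Fintype F] (p : ℕ) [hp : Fact p.Prime] [CharP F p] (r : ℕ)
    [hr' : Fact r.Prime] (hr : r ≠ 2) (hrp : r ≠ p) (R : Sylow r SL(2, F)) : IsCyclic R := by
  have hq : 1 < Fintype.card F := Fintype.one_lt_card
  have hrq : ¬ r ∣ Fintype.card F := by
    obtain ⟨k, -, hk⟩ := exists_card_eq_pow (F := F) p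
    rw [hk]
    intro h
    exact hrp ((Nat.prime_dvd_prime_iff_eq hr'.out hp.out).1 (hr'.out.dvd_of_dvd_pow h))
  have hcard := card_sl_two (F := F) rfl
  set q := Fintype.card F with hqdef
  have e : q ^ 2 - 1 = (q + 1) * (q - 1) := by rw [← Nat.sq_sub_sq]
  by_cases h : r ∣ q - 1
  · obtain ⟨x, -, hx, -⟩ := exists_split_torus (F := F) rfl
    refine sylow_isCyclic_of_orderOf x (q * (q + 1)) (by rw [hcard, hx, e]; ring) (fun hd => ?_) R
    rcases (Nat.Prime.dvd_mul hr'.out).1 hd with hd | hd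
    · exact hrq hd
    · have := Nat.dvd_sub hd h
      rw [show q + 1 - (q - 1) = 2 by omega] at this
      exact hr ((Nat.prime_dvd_prime_iff_eq hr'.out Nat.prime_two).1 this)
  · obtain ⟨x, -, hx, -⟩ := exists_nonsplit_torus (F := F) rfl
    refine sylow_isCyclic_of_orderOf x (q * (q - 1)) (by rw [hcard, hx, e]; ring) (fun hd => ?_) R
    rcases (Nat.Prime.dvd_mul hr'.out).1 hd with hd | hd
    · exact hrq hd
    · exact h hd

theorem sl2_exists_quaternion_aux (h2 : (2 : F) ≠ 0) [Finite F] (x y : SL(2, F)) (k m : ℕ)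
    (hx : orderOf x = 2 ^ (k + 1) * m) (hy : y * y = -1) (hyx : y * x * y⁻¹ = x⁻¹)
    (hne : y ∉ Subgroup.zpowers x) :
    ∃ Q : Subgroup SL(2, F), Nonempty (Q ≃* QuaternionGroup (2 ^ k)) := by
  have hm : m ≠ 0 := by
    rintro rfl
    exact (orderOf_pos x).ne' (by simpa using hx)
  have ho : orderOf (x ^ m) = 2 * 2 ^ k := by
    rw [orderOf_pow_of_dvd hm (by rw [hx]; exact Dvd.intro_left _ rfl), hx,
      Nat.mul_div_cancel _ (Nat.pos_of_ne_zero hm)]; ring
  have h1 : (x ^ m) ^ (2 ^ k) ≠ 1 := by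
    apply pow_ne_one_of_lt_orderOf (by positivity)
    rw [ho]; have : 0 < 2 ^ k := by positivity
    omega
  have h3 : (x ^ m) ^ (2 ^ k) * (x ^ m) ^ (2 ^ k) = 1 := by
    rw [← pow_add, ← two_mul, ← ho, pow_orderOf_eq_one]
  obtain ⟨Q, -, -, -, hQ⟩ := exists_subgroup_equiv_quaternion (2 ^ k) (x ^ m) y ho
    (by rw [hy]; exact Subtype.ext (sl2_involution_eq_neg_one h2 _ h1 h3).symm)
    (by rw [← conj_pow, hyx, inv_pow])
    (fun h => hne (Subgroup.zpowers_le_of_mem (Subgroup.npow_mem_zpowers x m) h))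
  exact ⟨Q, hQ⟩

theorem sl2_sylow_two_quaternion [Fintype F] (hF : Odd (Fintype.card F)) (P : Sylow 2 SL(2, F)) :
    ∃ k : ℕ, 1 ≤ k ∧ Nonempty (P ≃* QuaternionGroup (2 ^ k)) := by
  have h2 := two_ne_zero_of_odd_card hF
  have hq : 1 < Fintype.card F := Fintype.one_lt_card
  have hcard := card_sl_two (F := F) rfl
  set q := Fintype.card F with hqdef
  have e : q ^ 2 - 1 = (q + 1) * (q - 1) := by rw [← Nat.sq_sub_sq]
  have key : ∃ (x y : SL(2, F)) (n : ℕ), 4 ∣ orderOf x ∧ Odd n ∧
      Nat.card SL(2, F) = orderOf x * (2 * n) ∧ y * y = -1 ∧ y * x * y⁻¹ = x⁻¹ ∧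
      y ∉ Subgroup.zpowers x := by
    obtain ⟨t, ht⟩ := hF
    rcases Nat.even_or_odd t with ⟨s, hs⟩ | ⟨s, hs⟩
    · obtain ⟨x, y, hx, h⟩ := exists_split_torus (F := F) rfl
      refine ⟨x, y, q * (t + 1), ?_, ?_, ?_, h⟩
      · rw [hx, ← hqdef]; omega
      · exact Odd.mul ⟨t, ht⟩ ⟨s, by omega⟩
      · rw [hcard, hx, e, ← hqdef, show q + 1 = 2 * (t + 1) by omega]; ring
    · obtain ⟨x, y, hx, h⟩ := exists_nonsplit_torus (F := F) rfl
      refine ⟨x, y, q * t, ?_, ?_, ?_, h⟩
      · rw [hx, ← hqdef]; omega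
      · exact Odd.mul ⟨t, ht⟩ ⟨s, by omega⟩
      · rw [hcard, hx, e, ← hqdef, show q - 1 = 2 * t by omega]; ring
  obtain ⟨x, y, n, h4, hn, hc, hy, hyx, hne⟩ := key
  obtain ⟨j, m, hm, hjm⟩ := Nat.exists_eq_two_pow_mul_odd (orderOf_pos x).ne'
  have hj : 2 ≤ j := by
    rw [hjm, show 4 = 2 ^ 2 by norm_num] at h4
    have := (Nat.Coprime.dvd_mul_right (Nat.Coprime.pow_left 2 (Nat.coprime_two_left.2 hm))).1 h4
    exact (Nat.pow_dvd_pow_iff_le_right (by norm_num)).1 this
  obtain ⟨k, rfl⟩ : ∃ k, j = k + 1 := ⟨j - 1, by omega⟩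
  obtain ⟨Q, ⟨eQ⟩⟩ := sl2_exists_quaternion_aux h2 x y k m hjm hy hyx hne
  have hQc : Nat.card Q = 2 ^ (k + 2) := by
    rw [Nat.card_congr eQ.toEquiv, Nat.card_eq_fintype_card, QuaternionGroup.card]; ring
  have hQp : IsPGroup 2 Q := IsPGroup.of_card hQc
  have hi : ¬ 2 ∣ Q.index := by
    have := Q.card_mul_index
    rw [hQc, hc, hjm] at this
    have h5 : Q.index = m * n := by
      apply Nat.eq_of_mul_eq_mul_left (show 0 < 2 ^ (k + 2) by positivity)
      rw [this]; ring
    rw [h5]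
    exact (hm.mul hn).not_two_dvd_nat
  exact ⟨k, by omega, ⟨(Sylow.equiv P (hQp.toSylow hi)).trans eQ⟩⟩

theorem sl2_sq_mem_center (h2 : (2 : F) ≠ 0) (x : SL(2, F)) (hx : x * x = 1) :
    x ∈ Subgroup.center SL(2, F) := by
  by_cases h1 : x = 1
  · rw [h1]; exact Subgroup.one_mem _
  · have := sl2_involution_eq_neg_one h2 x h1 hx
    rw [Matrix.SpecialLinearGroup.mem_center_iff]
    exact ⟨-1, by simp, by rw [this, map_neg, map_one]⟩

theorem sl2_center_sq (z : SL(2, F)) (hz : z ∈ Subgroup.center SL(2, F)) : z ^ 2 = 1 := by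
  obtain ⟨r, hr, hz⟩ := Matrix.SpecialLinearGroup.mem_center_iff.1 hz
  apply Subtype.ext
  rw [Matrix.SpecialLinearGroup.coe_pow, ← hz, ← map_pow]
  simp only [Fintype.card_fin] at hr
  rw [hr]; simp

theorem psl2_sylow_two_kleinFour [Fintype F] {q : ℕ} (hF : Fintype.card F = q)
    (hq : q % 8 = 3 ∨ q % 8 = 5) (P : Sylow 2 PSL(2, F)) : IsKleinFour P := by
  have hodd : Odd (Fintype.card F) := by rw [hF, Nat.odd_iff]; omega
  have h2 := two_ne_zero_of_odd_card hodd
  obtain ⟨m, hm, hqm⟩ : ∃ m, Odd m ∧ q * (q ^ 2 - 1) = 2 ^ 3 * m := by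
    rcases hq with hq | hq
    · obtain ⟨t, rfl⟩ : ∃ t, q = 8 * t + 3 := ⟨q / 8, by omega⟩
      refine ⟨(8 * t + 3) * ((4 * t + 1) * (2 * t + 1)), ?_, ?_⟩
      · exact Odd.mul ⟨4 * t + 1, by ring⟩ (Odd.mul ⟨2 * t, by ring⟩ ⟨t, by ring⟩)
      · have : (8 * t + 3) ^ 2 - 1 = 8 * ((4 * t + 1) * (2 * t + 1)) := by
          apply Nat.sub_eq_of_eq_add; ring
        rw [this]; ring
    · obtain ⟨t, rfl⟩ : ∃ t, q = 8 * t + 5 := ⟨q / 8, by omega⟩
      refine ⟨(8 * t + 5) * ((4 * t + 3) * (2 * t + 1)), ?_, ?_⟩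
      · exact Odd.mul ⟨4 * t + 2, by ring⟩ (Odd.mul ⟨2 * t + 1, by ring⟩ ⟨t, by ring⟩)
      · have : (8 * t + 5) ^ 2 - 1 = 8 * ((4 * t + 3) * (2 * t + 1)) := by
          apply Nat.sub_eq_of_eq_add; ring
        rw [this]; ring
  have hm0 : m ≠ 0 := by rintro rfl; simp at hm
  have hfm : m.factorization 2 = 0 := Nat.factorization_eq_zero_of_not_dvd hm.not_two_dvd_nat
  have hP : Nat.card P = 4 := by
    have h1 := card_psl_two hF
    have hg : Nat.gcd 2 (q - 1) = 2 := Nat.gcd_eq_left (by omega)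
    rw [hg, hqm] at h1
    have h3 : Nat.card PSL(2, F) = 2 ^ 2 * m := by omega
    rw [Sylow.card_eq_multiplicity, h3, Nat.factorization_mul (by norm_num) hm0,
      Nat.prime_two.factorization_pow]
    simp [hfm]
  have hS : ∀ S : Sylow 2 SL(2, F), Nat.card S = 8 := by
    intro S
    rw [Sylow.card_eq_multiplicity, card_sl_two hF, hqm, Nat.factorization_mul (by norm_num) hm0,
      Nat.prime_two.factorization_pow]
    simp [hfm]
  have hexp : ∀ g : P, g ^ 2 = 1 := by
    rintro ⟨g, hg⟩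
    have h4 : g ^ 4 = 1 := by
      have := pow_card_eq_one' (x := (⟨g, hg⟩ : (P : Subgroup PSL(2, F))))
      rw [hP] at this
      exact congrArg Subtype.val this
    obtain ⟨x, rfl⟩ := QuotientGroup.mk_surjective g
    rw [← QuotientGroup.mk_pow, QuotientGroup.eq_one_iff] at h4
    have h8 : x ^ (2 ^ 3) = 1 := by
      have := sl2_center_sq _ h4
      rwa [← pow_mul] at this
    have hxp : IsPGroup 2 (Subgroup.zpowers x) := by
      rw [IsPGroup.iff_card]
      obtain ⟨k, -, hk⟩ := (Nat.dvd_prime_pow Nat.prime_two).1 (orderOf_dvd_of_pow_eq_one h8)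
      exact ⟨k, by rw [Nat.card_zpowers, hk]⟩
    obtain ⟨S, hxS⟩ := hxp.exists_le_sylow
    obtain ⟨k, hk, ⟨e⟩⟩ := sl2_sylow_two_quaternion hodd S
    have hk1 : k = 1 := by
      have := Nat.card_congr e.toEquiv
      rw [hS, Nat.card_eq_fintype_card, QuaternionGroup.card] at this
      have h3 : 2 ^ k = 2 ^ 1 := by omega
      exact Nat.pow_right_injective le_rfl h3
    subst hk1
    have hx4 : x ^ 4 = 1 := by
      have h5 := Monoid.pow_exponent_eq_one (e ⟨x, hxS (Subgroup.mem_zpowers x)⟩)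
      rw [QuaternionGroup.exponent, ← map_pow, map_eq_one_iff _ e.injective] at h5
      exact congrArg Subtype.val h5
    apply Subtype.ext
    change (x : PSL(2, F)) ^ 2 = 1
    rw [← QuotientGroup.mk_pow, QuotientGroup.eq_one_iff]
    exact sl2_sq_mem_center h2 _ (by rw [← pow_add]; exact hx4)
  refine ⟨hP, ?_⟩
  have : Nontrivial P := Finite.one_lt_card_iff_nontrivial.1 (by omega)
  exact (Monoid.exponent_eq_prime_iff Nat.prime_two).2 fun g hg =>
    orderOf_eq_prime (hexp g) hg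

end H7
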