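import Mathlib
import Cfsg.Prelude.Def_Classical
import Cfsg.Agent.H7.QuadAlg

/-!
The orthogonal groups in dimension two are dihedral.
-/

set_option autoImplicit false
set_option backward.isDefEq.respectTransparency false

namespace H7

open Matrix QuadraticAlgebra
open scoped MatrixGroups Pointwise

variable {F : Type*} [Field F]

theorem mem_isometryGroup_iff {ι : Type} [Fintype ι] [DecidableEq ι] (Q : (ι → F) → F)
    (g : GL ι F) : g ∈ Cfsg.isometryGroup F Q ↔ ∀ v, Q ((g : Matrix ι ι F) *ᵥ v) = Q v :=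
  ⟨fun h v => h v v, fun h u _ => h u⟩

/-- Reindexing the coordinates gives an isomorphism of isometry groups. -/
def isometryGroupReindex {ι κ : Type} [Fintype ι] [DecidableEq ι] [Fintype κ] [DecidableEq κ]
    (e : ι ≃ κ) (Q : (ι → F) → F) (Q' : (κ → F) → F) (h : ∀ v, Q' v = Q (v ∘ e)) :
    Cfsg.isometryGroup F Q ≃* Cfsg.isometryGroup F Q' where
  toFun g := ⟨Units.map (Matrix.reindexAlgEquiv F F e).toMonoidHom g.1, by
    rw [mem_isometryGroup_iff]
    intro v
    rw [h, h, ← (mem_isometryGroup_iff Q g.1).1 g.2 (v ∘ e)]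
    congr 1
    ext i
    simp [Matrix.submatrix_mulVec_equiv]⟩
  invFun g := ⟨Units.map (Matrix.reindexAlgEquiv F F e.symm).toMonoidHom g.1, by
    rw [mem_isometryGroup_iff]
    intro v
    have h1 := (mem_isometryGroup_iff Q' g.1).1 g.2 (v ∘ e.symm)
    rw [h, h] at h1
    convert h1 using 2
    · ext i
      simp [Matrix.submatrix_mulVec_equiv]
    · ext i; simp⟩
  left_inv g := by ext i j; simp
  right_inv g := by ext i j; simp
  map_mul' g k := by
    apply Subtype.ext
    exact map_mul _ _ _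

/-- `O⁺₂(q)` is dihedral of order `2 (q - 1)`. -/
theorem isometryGroup_xy_dihedral [Fintype F] {q : ℕ} (hF : Fintype.card F = q) :
    Nonempty (Cfsg.isometryGroup F (fun v : Fin 2 → F => v 0 * v 1) ≃* DihedralGroup (q - 1)) := by
  obtain ⟨ζ, hζ⟩ := IsCyclic.exists_generator (α := Fˣ)
  let G := Cfsg.isometryGroup F (fun v : Fin 2 → F => v 0 * v 1)
  let f : Fˣ →* G :=
    { toFun := fun u => ⟨GeneralLinearGroup.mkOfDetNeZero !![(u : F), 0; 0, ((u⁻¹ : Fˣ) : F)]
        (by simp [det_fin_two]), by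
          rw [mem_isometryGroup_iff]
          intro v
          simp [Matrix.mulVec, dotProduct, Fin.sum_univ_two]
          field_simp⟩
      map_one' := by ext i j; fin_cases i <;> fin_cases j <;> simp
      map_mul' := fun u v => by
        ext i j; fin_cases i <;> fin_cases j <;> simp [Matrix.mul_apply, Fin.sum_univ_two, mul_comm] }
  have hfu : ∀ u : Fˣ, ((f u : GL (Fin 2) F) : Matrix (Fin 2) (Fin 2) F) =
    !![(u : F), 0; 0, ((u⁻¹ : Fˣ) : F)] := fun u => rfl
  have hf : Function.Injective f := by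
    intro u v h
    have := congrArg (fun g : G => ((g : GL (Fin 2) F) : Matrix (Fin 2) (Fin 2) F) 0 0) h
    exact Units.ext (by simpa [f] using this)
  let s : G := ⟨GeneralLinearGroup.mkOfDetNeZero !![0, 1; 1, 0] (by simp [det_fin_two]), by
    rw [mem_isometryGroup_iff]
    intro v
    simp [Matrix.mulVec, dotProduct, Fin.sum_univ_two, mul_comm]⟩
  have hss : s * s = 1 := by
    ext i j; fin_cases i <;> fin_cases j <;> simp [s, Matrix.mul_apply, Fin.sum_univ_two]
  have hdiag : ∀ g : G, ((g : GL (Fin 2) F) : Matrix (Fin 2) (Fin 2) F) 1 0 = 0 →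
      g ∈ Subgroup.zpowers (f ζ) := by
    intro g h10
    have hg := (mem_isometryGroup_iff _ _).1 g.2
    have h1 := hg ![0, 1]
    have h2 := hg ![1, 1]
    simp [Matrix.mulVec, dotProduct, Fin.sum_univ_two, h10] at h1 h2
    have h11 : ((g : GL (Fin 2) F) : Matrix (Fin 2) (Fin 2) F) 1 1 ≠ 0 := by
      intro h0; simp [h0] at h2
    have h01 := h1.resolve_right h11
    rw [h01, add_zero] at h2
    obtain ⟨k, hk⟩ := hζ (Units.mk0 _ (left_ne_zero_of_mul_eq_one h2))
    refine ⟨k, ?_⟩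
    simp only at hk ⊢
    rw [← map_zpow, hk]
    apply Subtype.ext
    apply Units.ext
    rw [hfu]
    conv_rhs => rw [Matrix.eta_fin_two ((g : GL (Fin 2) F) : Matrix (Fin 2) (Fin 2) F), h01, h10,
      eq_inv_of_mul_eq_one_right h2]
    simp
  refine nonempty_equiv_dihedral _ (f ζ) s ?_ hss ?_ ?_ ?_
  · rw [orderOf_injective f hf, orderOf_eq_card_of_forall_mem_zpowers hζ, card_units_eq hF]
  · have e : (f ζ)⁻¹ = f ζ⁻¹ := (f.map_inv ζ).symm
    rw [mul_inv_eq_iff_eq_mul, e]
    apply Subtype.ext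
    apply Units.ext
    rw [Subgroup.coe_mul, Units.val_mul, Subgroup.coe_mul, Units.val_mul, hfu, hfu]
    simp [s]
  · rintro ⟨k, hk⟩
    have hk' : f (ζ ^ k) = s := (f.map_zpow ζ k).trans hk
    have := congrArg (fun g : G => ((g : GL (Fin 2) F) : Matrix (Fin 2) (Fin 2) F) 0 1) hk'
    simp only [hfu] at this
    simp [s] at this
  · intro g
    have h1 := (mem_isometryGroup_iff _ _).1 g.2 ![1, 0]
    simp [Matrix.mulVec, dotProduct, Fin.sum_univ_two] at h1
    rcases h1 with h1 | h1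
    · right
      apply hdiag
      rw [inv_eq_of_mul_eq_one_right hss]
      simp [s, Matrix.mul_apply, Fin.sum_univ_two, h1]
    · exact Or.inl (hdiag g h1)

theorem isometryGroup_plus_one_dihedral [Fintype F] {q : ℕ} (hF : Fintype.card F = q) :
    Nonempty (Cfsg.isometryGroup F (Cfsg.quadFormPlus 1 F) ≃* DihedralGroup (q - 1)) := by
  obtain ⟨e⟩ := isometryGroup_xy_dihedral hF
  exact ⟨(isometryGroupReindex (finSumFinEquiv : Fin 1 ⊕ Fin 1 ≃ Fin 2) _ _ (fun v => by
    simp [Cfsg.quadFormPlus]; rfl)).trans e⟩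

theorem mulMat_mulVec (a b : F) (z : QA a b) (v : Fin 2 → F) :
    mulMat a b z *ᵥ v = ![(z * ⟨v 0, v 1⟩).re, (z * ⟨v 0, v 1⟩).im] := by
  ext i; fin_cases i <;> simp [mulMat_apply, Matrix.mulVec, dotProduct, Fin.sum_univ_two] <;> ring

/-- `O⁻₂(q)` is dihedral of order `2 (q + 1)`. -/
theorem isometryGroup_aniso_dihedral [Fintype F] {q : ℕ} (hF : Fintype.card F = q) {a b : F}
    (h : Aniso a b) :
    Nonempty (Cfsg.isometryGroup F (fun v : Fin 2 → F => v 0 ^ 2 + a * v 0 * v 1 + b * v 1 ^ 2) ≃*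
      DihedralGroup (q + 1)) := by
  obtain ⟨ζ, hζ1, hζ2, hζ3⟩ := h.exists_generator hF
  let G := Cfsg.isometryGroup F (fun v : Fin 2 → F => v 0 ^ 2 + a * v 0 * v 1 + b * v 1 ^ 2)
  have hmem : ∀ u : (QA a b)ˣ, (u : QA a b).norm = 1 → Units.map (mulMat a b) u ∈ G := by
    intro u hu
    rw [mem_isometryGroup_iff]
    intro v
    have h1 := qa_norm a b (u * ⟨v 0, v 1⟩)
    rw [map_mul, hu, one_mul, qa_norm] at h1
    simp only [Units.coe_map, mulMat_mulVec, Matrix.cons_val_zero, Matrix.cons_val_one]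
    exact h1.symm
  let x : G := ⟨Units.map (mulMat a b) ζ, hmem ζ hζ1⟩
  let s : G := ⟨GeneralLinearGroup.mkOfDetNeZero (starMat a) (by simp [starMat_det]), by
    rw [mem_isometryGroup_iff]
    intro v
    simp [starMat, Matrix.mulVec, dotProduct, Fin.sum_univ_two]
    ring⟩
  have hxk : ∀ k : ℕ, (((x ^ k : G) : GL (Fin 2) F) : Matrix (Fin 2) (Fin 2) F) =
      mulMat a b (ζ ^ k) := by
    intro k; simp [x]
  have hss : s * s = 1 := Subtype.ext (Units.ext (starMat_mul_self a))
  have hsx : s * x * s⁻¹ = x⁻¹ := by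
    rw [mul_inv_eq_iff_eq_mul, eq_inv_mul_iff_mul_eq]
    apply Subtype.ext
    apply Units.ext
    change mulMat a b ζ * (starMat a * mulMat a b ζ) = starMat a
    rw [starMat_mul_mulMat, ← mul_assoc, ← map_mul, star_eq_inv_of_norm ζ hζ1, Units.mul_inv,
      map_one, one_mul]
  refine nonempty_equiv_dihedral _ x s ?_ hss hsx ?_ ?_
  · rw [← hζ2, orderOf_eq_orderOf_iff]
    intro k
    rw [← Subtype.coe_inj, ← Units.val_inj, hxk]
    change _ = 1 ↔ _
    rw [← map_one (mulMat a b),
      (mulMat_injective a b).eq_iff, ← Units.val_pow_eq_pow_val, Units.val_eq_one]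
  · intro hy
    have : Finite G := inferInstance
    obtain ⟨k, hk⟩ := (mem_powers_iff_mem_zpowers).2 hy
    have := congrArg (fun g : G => ((g : GL (Fin 2) F) : Matrix (Fin 2) (Fin 2) F)) hk
    refine mulMat_ne_starMat h _ 1 (by simp) ((hxk k).symm.trans (this.trans ?_))
    simp [s]
  · intro g
    have hg := (mem_isometryGroup_iff _ _).1 g.2
    have h1 := hg ![1, 0]
    simp [Matrix.mulVec, dotProduct, Fin.sum_univ_two] at h1
    obtain ⟨k, hk⟩ := hζ3 ⟨(g : GL (Fin 2) F) 0 0, (g : GL (Fin 2) F) 1 0⟩ (by rw [qa_norm]; exact h1)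
    have key : (x ^ k)⁻¹ * g = 1 ∨ (x ^ k)⁻¹ * g = s := by
      have e : x ^ k * ((x ^ k)⁻¹ * g) = g := by group
      generalize (x ^ k)⁻¹ * g = w at e
      have e' := congrArg (fun g : G => ((g : GL (Fin 2) F) : Matrix (Fin 2) (Fin 2) F)) e
      simp only [Subgroup.coe_mul, Units.val_mul, hxk, ← hk] at e'
      have e0 := congrFun (congrFun e' 0) 0
      have e1 := congrFun (congrFun e' 1) 0
      simp [mulMat_apply, Matrix.mul_apply, Fin.sum_univ_two] at e0 e1
      have w10 : (w : GL (Fin 2) F) 1 0 = 0 := by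
        linear_combination ((g : GL (Fin 2) F) 0 0) * e1 - ((g : GL (Fin 2) F) 1 0) * e0 -
          ((w : GL (Fin 2) F) 1 0) * h1
      have w00 : (w : GL (Fin 2) F) 0 0 = 1 := by
        rw [w10] at e0 e1
        linear_combination ((g : GL (Fin 2) F) 0 0 + a * (g : GL (Fin 2) F) 1 0) * e0 +
          b * ((g : GL (Fin 2) F) 1 0) * e1 - ((w : GL (Fin 2) F) 0 0 - 1) * h1
      have hw := (mem_isometryGroup_iff _ _).1 w.2
      have h2 := hw ![0, 1]
      have h3 := hw ![1, 1]
      simp [Matrix.mulVec, dotProduct, Fin.sum_univ_two, w00, w10] at h2 h3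
      have := h.fact
      have h4 : ((⟨(w : GL (Fin 2) F) 0 1, (w : GL (Fin 2) F) 1 1⟩ : QA a b) - ⟨0, 1⟩) *
          (⟨(w : GL (Fin 2) F) 0 1, (w : GL (Fin 2) F) 1 1⟩ - ⟨a, -1⟩) = 0 := by
        ext
        · simp
          linear_combination ((w : GL (Fin 2) F) 0 1) * (h3 - h2) - h2
        · simp
          linear_combination ((w : GL (Fin 2) F) 1 1) * (h3 - h2)
      rcases mul_eq_zero.1 h4 with h4 | h4
      · left
        rw [sub_eq_zero, QuadraticAlgebra.mk.injEq] at h4
        ext i j; fin_cases i <;> fin_cases j <;> simp [w00, w10, h4.1, h4.2]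
      · right
        rw [sub_eq_zero, QuadraticAlgebra.mk.injEq] at h4
        ext i j; fin_cases i <;> fin_cases j <;> simp [s, starMat, w00, w10, h4.1, h4.2]
    rcases key with key | key
    · left
      rw [inv_mul_eq_one] at key
      exact key ▸ Subgroup.npow_mem_zpowers x k
    · right
      rw [inv_mul_eq_iff_eq_mul] at key
      have := conj_zpow_of_inv hsx k
      rw [key, ← zpow_natCast, this, inv_mul_cancel_left]
      exact Subgroup.zpow_mem_zpowers x _

/-- The index type of `quadFormMinus 0`. -/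
def minusZeroEquiv : Fin 2 ≃ (Fin 0 ⊕ Fin 0) ⊕ Fin 2 := (Equiv.emptySum _ _).symm

theorem isometryGroup_minus_zero_dihedral [Fintype F] {q : ℕ} (hF : Fintype.card F = q) {a b : F}
    (h : Aniso a b) :
    Nonempty (Cfsg.isometryGroup F (Cfsg.quadFormMinus 0 F a b) ≃* DihedralGroup (q + 1)) := by
  obtain ⟨e⟩ := isometryGroup_aniso_dihedral hF h
  exact ⟨(isometryGroupReindex minusZeroEquiv _ _ (fun v => by
    simp [Cfsg.quadFormMinus, minusZeroEquiv])).symm.trans e⟩

end H7
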