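import Mathlib
import Cfsg.Prelude.Def_Classical
import Cfsg.Agent.H15.Orth
import Cfsg.Agent.H7.QuadAlg

/-!
The three standard quadratic forms of the Prelude as `QuadraticForm`s, with their polar forms and
non-degeneracy.
-/

set_option autoImplicit false
set_option backward.isDefEq.respectTransparency false

namespace H7

open Module H15

variable (m : ℕ) (F : Type*) [Field F]

/-- `quadFormPlus` as a `QuadraticForm` (definitionally the same function). -/
def qPlus : QuadraticForm F (Fin m ⊕ Fin m → F) :=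
  (∑ i : Fin m, QuadraticMap.proj (R := F) (A := F) (Sum.inl i) (Sum.inr i)).copy
    (Cfsg.quadFormPlus m F) (by
      funext v
      simp [Cfsg.quadFormPlus, QuadraticMap.sum_apply])

/-- `quadFormOdd` as a `QuadraticForm` (definitionally the same function). -/
def qOdd : QuadraticForm F (Unit ⊕ (Fin m ⊕ Fin m) → F) :=
  (QuadraticMap.proj (R := F) (A := F) (Sum.inl ()) (Sum.inl ()) +
    ∑ i : Fin m, QuadraticMap.proj (R := F) (A := F) (Sum.inr (Sum.inl i))
      (Sum.inr (Sum.inr i))).copy
    (Cfsg.quadFormOdd m F) (by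
      funext v
      simp [Cfsg.quadFormOdd, QuadraticMap.sum_apply, sq])

/-- `quadFormMinus` as a `QuadraticForm` (definitionally the same function). -/
def qMinus (a b : F) : QuadraticForm F ((Fin m ⊕ Fin m) ⊕ Fin 2 → F) :=
  ((∑ i : Fin m, QuadraticMap.proj (R := F) (A := F) (Sum.inl (Sum.inl i))
      (Sum.inl (Sum.inr i))) +
    (QuadraticMap.proj (R := F) (A := F) (Sum.inr (0 : Fin 2)) (Sum.inr (0 : Fin 2)) +
      a • QuadraticMap.proj (R := F) (A := F) (Sum.inr (0 : Fin 2)) (Sum.inr (1 : Fin 2)) +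
      b • QuadraticMap.proj (R := F) (A := F) (Sum.inr (1 : Fin 2)) (Sum.inr (1 : Fin 2)))).copy
    (Cfsg.quadFormMinus m F a b) (by
      funext v
      simp [Cfsg.quadFormMinus, QuadraticMap.sum_apply, sq, mul_assoc])

theorem coe_qPlus : ⇑(qPlus m F) = Cfsg.quadFormPlus m F := rfl
theorem coe_qOdd : ⇑(qOdd m F) = Cfsg.quadFormOdd m F := rfl
theorem coe_qMinus (a b : F) : ⇑(qMinus m F a b) = Cfsg.quadFormMinus m F a b := rfl

variable {m F}

theorem qPlus_apply (v : Fin m ⊕ Fin m → F) :
    qPlus m F v = ∑ i : Fin m, v (.inl i) * v (.inr i) := rfl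

theorem qOdd_apply (v : Unit ⊕ (Fin m ⊕ Fin m) → F) :
    qOdd m F v = v (.inl ()) ^ 2 + ∑ i : Fin m, v (.inr (.inl i)) * v (.inr (.inr i)) := rfl

theorem qMinus_apply (a b : F) (v : (Fin m ⊕ Fin m) ⊕ Fin 2 → F) :
    qMinus m F a b v = (∑ i : Fin m, v (.inl (.inl i)) * v (.inl (.inr i)))
      + (v (.inr 0) ^ 2 + a * v (.inr 0) * v (.inr 1) + b * v (.inr 1) ^ 2) := rfl

theorem pol_qPlus (u v : Fin m ⊕ Fin m → F) :
    pol (qPlus m F) u v = ∑ i : Fin m, (u (.inl i) * v (.inr i) + u (.inr i) * v (.inl i)) := by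
  simp only [pol_eq, QuadraticMap.polar, qPlus_apply, Pi.add_apply, ← Finset.sum_sub_distrib]
  exact Finset.sum_congr rfl fun i _ => by ring

theorem pol_qOdd (u v : Unit ⊕ (Fin m ⊕ Fin m) → F) :
    pol (qOdd m F) u v = 2 * u (.inl ()) * v (.inl ()) +
      ∑ i : Fin m, (u (.inr (.inl i)) * v (.inr (.inr i)) +
        u (.inr (.inr i)) * v (.inr (.inl i))) := by
  simp only [pol_eq, QuadraticMap.polar, qOdd_apply, Pi.add_apply, add_mul, mul_add,
    Finset.sum_add_distrib]
  have : ∑ i : Fin m, v (.inr (.inl i)) * u (.inr (.inr i)) =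
      ∑ i : Fin m, u (.inr (.inr i)) * v (.inr (.inl i)) :=
    Finset.sum_congr rfl fun i _ => mul_comm _ _
  rw [this]; ring

theorem pol_qMinus (a b : F) (u v : (Fin m ⊕ Fin m) ⊕ Fin 2 → F) :
    pol (qMinus m F a b) u v =
      ∑ i : Fin m, (u (.inl (.inl i)) * v (.inl (.inr i)) +
        u (.inl (.inr i)) * v (.inl (.inl i))) +
      (2 * u (.inr 0) * v (.inr 0) + a * (u (.inr 0) * v (.inr 1) + u (.inr 1) * v (.inr 0)) +
        2 * b * u (.inr 1) * v (.inr 1)) := by
  simp only [pol_eq, QuadraticMap.polar, qMinus_apply, Pi.add_apply, add_mul, mul_add,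
    Finset.sum_add_distrib]
  have : ∑ i : Fin m, v (.inl (.inl i)) * u (.inl (.inr i)) =
      ∑ i : Fin m, u (.inl (.inr i)) * v (.inl (.inl i)) :=
    Finset.sum_congr rfl fun i _ => mul_comm _ _
  rw [this]; ring

variable (m F) in
theorem qPlus_nondeg : (ofQuad (qPlus m F)).Nondeg := by
  intro x hx
  ext i
  rcases i with i | i
  · have := hx (Pi.single (Sum.inr i) 1)
    change pol _ _ _ = 0 at this
    rw [pol_qPlus] at this
    simpa [Pi.single_apply] using this
  · have := hx (Pi.single (Sum.inl i) 1)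
    change pol _ _ _ = 0 at this
    rw [pol_qPlus] at this
    simpa [Pi.single_apply] using this

variable (m) in
theorem qOdd_nondeg (h2 : (2 : F) ≠ 0) : (ofQuad (qOdd m F)).Nondeg := by
  intro x hx
  ext i
  rcases i with i | i | i
  · have := hx (Pi.single (Sum.inl ()) 1)
    change pol _ _ _ = 0 at this
    rw [pol_qOdd] at this
    simpa [Pi.single_apply, h2] using this
  · have := hx (Pi.single (Sum.inr (Sum.inr i)) 1)
    change pol _ _ _ = 0 at this
    rw [pol_qOdd] at this
    simpa [Pi.single_apply] using this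
  · have := hx (Pi.single (Sum.inr (Sum.inl i)) 1)
    change pol _ _ _ = 0 at this
    rw [pol_qOdd] at this
    simpa [Pi.single_apply] using this

variable (m) in
theorem qMinus_nondeg [Finite F] {a b : F} (h : Aniso a b) :
    (ofQuad (qMinus m F a b)).Nondeg := by
  intro x hx
  have h0 := hx (Pi.single (Sum.inr 0) 1)
  have h1 := hx (Pi.single (Sum.inr 1) 1)
  change pol _ _ _ = 0 at h0 h1
  rw [pol_qMinus] at h0 h1
  simp [Pi.single_apply] at h0 h1
  have hd := h.disc_ne_zero
  ext i
  rcases i with (i | i) | i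
  · have := hx (Pi.single (Sum.inl (Sum.inr i)) 1)
    change pol _ _ _ = 0 at this
    rw [pol_qMinus] at this
    simpa [Pi.single_apply] using this
  · have := hx (Pi.single (Sum.inl (Sum.inl i)) 1)
    change pol _ _ _ = 0 at this
    rw [pol_qMinus] at this
    simpa [Pi.single_apply] using this
  · fin_cases i
    · apply mul_left_cancel₀ hd
      simp only [Fin.zero_eta, Pi.zero_apply]
      linear_combination (-2 * b) * h0 + a * h1
    · apply mul_left_cancel₀ hd
      simp only [Fin.mk_one, Pi.zero_apply]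
      linear_combination a * h0 - 2 * h1

theorem finrank_plus : finrank F (Fin m ⊕ Fin m → F) = 2 * m := by simp [two_mul]

theorem finrank_odd : finrank F (Unit ⊕ (Fin m ⊕ Fin m) → F) = 2 * m + 1 := by
  simp [two_mul, add_comm]

theorem finrank_minus : finrank F ((Fin m ⊕ Fin m) ⊕ Fin 2 → F) = 2 * (m + 1) := by
  simp [two_mul]; ring

end H7
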