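import Mathlib
import Cfsg.Agent.H15.Spinor
import Cfsg.Agent.H7.StdForms
import Cfsg.Agent.H7.O2

/-!
Orders of the isometry groups of non-degenerate alternating, Hermitian and quadratic spaces over a
finite field, and the numbers of singular vectors.
-/

set_option autoImplicit false
set_option backward.isDefEq.respectTransparency false
set_option linter.unusedSectionVars false

namespace H7

open Module H15

universe u v

section General

variable {F : Type*} [Field F] {σ : F →+* F} {V : Type*} [AddCommGroup V] [Module F V]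

theorem form_ext {Φ Ψ : Form σ V} (hB : Φ.B = Ψ.B) (hQ : Φ.Q = Ψ.Q) (hε : Φ.ε = Ψ.ε)
    (hτ : Φ.τ = Ψ.τ) : Φ = Ψ := by
  cases Φ; cases Ψ
  simp only at hB hQ hε hτ
  subst hB hQ hε hτ
  rfl

theorem comap_ofQuad {W : Type*} [AddCommGroup W] [Module F W] (Q : QuadraticForm F V)
    (f : W →ₗ[F] V) : (ofQuad Q).comap f = ofQuad (Q.comp f) := by
  refine form_ext ?_ rfl rfl rfl
  ext x y
  simp [QuadraticMap.polar]

/-- A single hyperbolic pair. -/
structure HypPair (Φ : Form σ V) (e f : V) : Prop where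
  ee : Φ.B e e = 0
  ff : Φ.B f f = 0
  ef : Φ.B e f = 1
  Qe : Φ.Q e = 0
  Qf : Φ.Q f = 0

/-- The perpendicular space of a pair of vectors. -/
abbrev hypPerp (Φ : Form σ V) (e f : V) : Submodule F V :=
  Φ.perp (Submodule.span F {e} ⊔ Submodule.span F {f})

theorem mem_hypPerp {Φ : Form σ V} {e f x : V} :
    x ∈ hypPerp Φ e f ↔ Φ.B e x = 0 ∧ Φ.B f x = 0 := by
  rw [hypPerp, Form.perp_sup, Submodule.mem_inf, Form.mem_perp_singleton,
    Form.mem_perp_singleton]

theorem exists_hypPair [FiniteDimensional F V] {Φ : Form σ V} (h : Φ.Nondeg) {e : V} (he : e ≠ 0)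
    (hee : Φ.B e e = 0) (hQ : Φ.Q e = 0) : ∃ f, HypPair Φ e f := by
  obtain ⟨f, -, h1, h2, h3⟩ := h.exists_hyp_partner (H := ⊥) (p := e) (by simpa using he) hee hQ
    (fun x hx => by rw [Submodule.mem_bot] at hx; simp [hx])
  exact ⟨f, hee, h2, h1, hQ, h3⟩

namespace HypPair

variable {Φ : Form σ V} {e f : V} (H : HypPair Φ e f)
include H

theorem fe : Φ.B f e = Φ.ε := Φ.B_symm_one H.ef

theorem e_ne_zero : e ≠ 0 := by
  rintro rfl
  simpa using H.ef

theorem f_ne_zero : f ≠ 0 := by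
  rintro rfl
  simpa using H.ef

theorem f_notMem : f ∉ Submodule.span F {e} := by
  intro h
  obtain ⟨c, rfl⟩ := Submodule.mem_span_singleton.1 h
  simpa [H.ee] using H.ef

theorem disjoint : Disjoint (Submodule.span F {e} ⊔ Submodule.span F {f}) (hypPerp Φ e f) := by
  rw [Submodule.disjoint_def]
  intro x hx hx'
  obtain ⟨a, ha, b, hb, rfl⟩ := Submodule.mem_sup.1 hx
  obtain ⟨c, rfl⟩ := Submodule.mem_span_singleton.1 ha
  obtain ⟨d, rfl⟩ := Submodule.mem_span_singleton.1 hb
  rw [mem_hypPerp] at hx'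
  simp [H.ee, H.ff, H.ef, H.fe, Φ.eps_ne_zero] at hx'
  simp [hx'.1, hx'.2]

theorem finrank_span [FiniteDimensional F V] :
    finrank F (Submodule.span F {e} ⊔ Submodule.span F {f} : Submodule F V) = 2 := by
  rw [Submodule.finrank_sup_span_singleton H.f_notMem, finrank_span_singleton H.e_ne_zero]

theorem finrank_perp [FiniteDimensional F V] (h : Φ.Nondeg) :
    finrank F (hypPerp Φ e f) + 2 = finrank F V := by
  rw [← h.finrank_perp (Submodule.span F {e} ⊔ Submodule.span F {f}), H.finrank_span, add_comm]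

theorem perp_nondeg [FiniteDimensional F V] (h : Φ.Nondeg) :
    (Φ.restrict (hypPerp Φ e f)).Nondeg := h.restrict_perp H.disjoint

theorem proj_mem (v : V) : v - (Φ.B f v / Φ.ε) • e - Φ.B e v • f ∈ hypPerp Φ e f := by
  rw [mem_hypPerp]
  simp [H.ee, H.ff, H.ef, H.fe, Φ.eps_ne_zero]

/-- Coordinates with respect to a hyperbolic pair. -/
def equiv : F × F × hypPerp Φ e f ≃ V where
  toFun x := x.1 • e + x.2.1 • f + x.2.2
  invFun v := (Φ.B f v / Φ.ε, Φ.B e v, ⟨v - (Φ.B f v / Φ.ε) • e - Φ.B e v • f, H.proj_mem v⟩)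
  left_inv x := by
    obtain ⟨a, b, w, hw⟩ := x
    have hw' := mem_hypPerp.1 hw
    simp [H.ee, H.ff, H.ef, H.fe, Φ.eps_ne_zero, hw'.1, hw'.2]
    abel
  right_inv v := by
    simp only
    abel

theorem equiv_apply (x : F × F × hypPerp Φ e f) : H.equiv x = x.1 • e + x.2.1 • f + x.2.2 := rfl

theorem exists_eq (v : V) : ∃ (a b : F) (w : V), w ∈ hypPerp Φ e f ∧ v = a • e + b • f + w := by
  obtain ⟨⟨a, b, w⟩, rfl⟩ := H.equiv.surjective v
  exact ⟨a, b, w, w.2, rfl⟩

theorem card_sub (P : V → Prop) :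
    Nat.card {v // P v} =
      Nat.card {x : F × F × hypPerp Φ e f // P (x.1 • e + x.2.1 • f + x.2.2)} :=
  (Nat.card_congr (H.equiv.subtypeEquiv fun _ => Iff.rfl)).symm

theorem B_e (a b : F) {w : V} (hw : w ∈ hypPerp Φ e f) : Φ.B e (a • e + b • f + w) = b := by
  simp [H.ee, H.ef, (mem_hypPerp.1 hw).1]

theorem Q_eq (a b : F) {w : V} (hw : w ∈ hypPerp Φ e f) :
    Φ.Q (a • e + b • f + w) = Φ.τ * σ a * b + Φ.Q w := by
  rw [Φ.Q_add, Φ.Q_add, Φ.Q_smul, Φ.Q_smul, H.Qe, H.Qf]
  simp [H.ef, (mem_hypPerp.1 hw).1, (mem_hypPerp.1 hw).2]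
  ring

/-- The inductive step for the order of the isometry group. -/
theorem card_isom [FiniteDimensional F V] (h : Φ.Nondeg) :
    Nat.card Φ.Isom = Nat.card {u // u ≠ 0 ∧ Φ.B u u = 0 ∧ Φ.Q u = 0} *
      Nat.card {u // Φ.B e u = 1 ∧ Φ.B u u = 0 ∧ Φ.Q u = 0} *
      Nat.card (Φ.restrict (hypPerp Φ e f)).Isom := by
  have h1 := h.card_fixer ⊥ (u := e) (by simpa using H.e_ne_zero)
  have h2 := h.card_fixer (Submodule.span F {e}) H.f_notMem
  rw [Form.fixer_bot, Subgroup.card_top, bot_sup_eq, h2,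
    Nat.card_congr (h.fixerEquiv H.disjoint).toEquiv] at h1
  rw [h1]
  have e1 : Nat.card {u' : V // u' ∉ (⊥ : Submodule F V) ∧
      (∀ x ∈ (⊥ : Submodule F V), Φ.B x u' = Φ.B x e) ∧ Φ.B u' u' = Φ.B e e ∧ Φ.Q u' = Φ.Q e} =
      Nat.card {u // u ≠ 0 ∧ Φ.B u u = 0 ∧ Φ.Q u = 0} := by
    refine Nat.card_congr (Equiv.subtypeEquivRight fun u => ?_)
    simp [H.ee, H.Qe]
  have e2 : Nat.card {u' : V // u' ∉ Submodule.span F {e} ∧
      (∀ x ∈ Submodule.span F {e}, Φ.B x u' = Φ.B x f) ∧ Φ.B u' u' = Φ.B f f ∧ Φ.Q u' = Φ.Q f} =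
      Nat.card {u // Φ.B e u = 1 ∧ Φ.B u u = 0 ∧ Φ.Q u = 0} := by
    refine Nat.card_congr (Equiv.subtypeEquivRight fun u => ?_)
    rw [H.ff, H.Qf]
    constructor
    · rintro ⟨-, h2, h3⟩
      exact ⟨by rw [h2 e (Submodule.mem_span_singleton_self e), H.ef], h3⟩
    · rintro ⟨h2, h3⟩
      refine ⟨fun hm => ?_, fun x hx => ?_, h3⟩
      · obtain ⟨c, rfl⟩ := Submodule.mem_span_singleton.1 hm
        simp [H.ee] at h2
      · obtain ⟨c, rfl⟩ := Submodule.mem_span_singleton.1 hx
        simp [h2, H.ef]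
  rw [e1, e2]
  ring

end HypPair

theorem card_isom_of_subsingleton [Subsingleton V] (Φ : Form σ V) : Nat.card Φ.Isom = 1 := by
  rw [Nat.card_eq_one_iff_unique]
  exact ⟨⟨fun g h => Form.Isom.ext fun _ => Subsingleton.elim _ _⟩, ⟨1⟩⟩

theorem card_ne_zero_and {α : Type*} [Finite α] [Zero α] (P : α → Prop) (h0 : P 0) :
    Nat.card {u // u ≠ 0 ∧ P u} + 1 = Nat.card {u // P u} := by
  classical
  rw [← Finite.card_option]
  refine Nat.card_congr (Equiv.ofBijective (fun x => match x with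
    | none => ⟨0, h0⟩
    | some u => ⟨u.1, u.2.2⟩) ⟨?_, ?_⟩)
  · rintro (_ | u) (_ | w) h
    · rfl
    · exact absurd (congrArg Subtype.val h).symm w.2.1
    · exact absurd (congrArg Subtype.val h) u.2.1
    · have h' : u.1 = w.1 := congrArg (Subtype.val (p := P)) h
      exact congrArg some (Subtype.ext h')
  · rintro ⟨u, hu⟩
    by_cases h : u = 0
    · exact ⟨none, Subtype.ext h.symm⟩
    · exact ⟨some ⟨u, h, hu⟩, rfl⟩

theorem card_eq_pow [Fintype F] [FiniteDimensional F V] {n : ℕ} (hn : finrank F V = n) :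
    Nat.card V = Fintype.card F ^ n := by
  rw [Module.natCard_eq_pow_finrank (K := F), hn, Nat.card_eq_fintype_card]

end General

/-! ### Alternating forms -/

section Alt

variable {F : Type u} [Field F] [Fintype F] {σ : F →+* F}

theorem card_isom_alt (m : ℕ) : ∀ (V : Type v) [AddCommGroup V] [Module F V]
    [FiniteDimensional F V] (Φ : Form σ V), Φ.Nondeg → Φ.IsAlt → finrank F V = 2 * m →
    Nat.card Φ.Isom = Fintype.card F ^ (m ^ 2) *
      ∏ i ∈ Finset.range m, (Fintype.card F ^ (2 * (i + 1)) - 1) := by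
  induction m with
  | zero =>
    intro V _ _ _ Φ _ _ hV
    have : Subsingleton V := finrank_zero_iff.1 hV
    simp [card_isom_of_subsingleton]
  | succ m ih =>
    intro V _ _ _ Φ h hA hV
    have : Nontrivial V := finrank_pos_iff.1 (show 0 < finrank F V by omega)
    have : Finite V := Module.finite_of_finite F
    obtain ⟨e, he⟩ := exists_ne (0 : V)
    obtain ⟨f, H⟩ := exists_hypPair h he (hA.1 e) (hA.2 e)
    have hW : finrank F (hypPerp Φ e f) = 2 * m := by have := H.finrank_perp h; omega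
    rw [H.card_isom h, ih _ _ (H.perp_nondeg h) (hA.comap _) hW]
    have e1 : Nat.card {u // u ≠ 0 ∧ Φ.B u u = 0 ∧ Φ.Q u = 0} =
        Fintype.card F ^ (2 * (m + 1)) - 1 := by
      have := card_ne_zero_and (fun u => Φ.B u u = 0 ∧ Φ.Q u = 0) ⟨hA.1 0, hA.2 0⟩
      rw [Nat.card_congr (Equiv.subtypeUnivEquiv (p := fun u => Φ.B u u = 0 ∧ Φ.Q u = 0)
        fun u => ⟨hA.1 u, hA.2 u⟩), card_eq_pow hV] at this
      omega
    have e2 : Nat.card {u // Φ.B e u = 1 ∧ Φ.B u u = 0 ∧ Φ.Q u = 0} =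
        Fintype.card F ^ (2 * m + 1) := by
      rw [H.card_sub]
      have : Nat.card (F × hypPerp Φ e f) = Fintype.card F ^ (2 * m + 1) := by
        rw [Nat.card_prod, card_eq_pow hW, Nat.card_eq_fintype_card]; ring
      rw [← this]
      symm
      refine Nat.card_congr (Equiv.ofBijective (fun x => ⟨(x.1, 1, x.2),
        H.B_e _ _ x.2.2, hA.1 _, hA.2 _⟩) ⟨?_, ?_⟩)
      · rintro ⟨a, w⟩ ⟨a', w'⟩ hh
        simpa using hh
      · rintro ⟨⟨a, b, w⟩, h1, -⟩
        rw [H.B_e _ _ w.2] at h1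
        subst h1
        exact ⟨(a, w), rfl⟩
    rw [e1, e2, Finset.prod_range_succ]
    ring

theorem card_sp (m : ℕ) : Nat.card (Matrix.symplecticGroup (Fin m) F) = Fintype.card F ^ (m ^ 2) *
      ∏ i ∈ Finset.range m, (Fintype.card F ^ (2 * (i + 1)) - 1) := by
  rw [Nat.card_congr (spEquiv m F).toEquiv]
  exact card_isom_alt m _ _ (spForm_nondeg m F) (spForm_isAlt m) (finrank_sum_fun m)

end Alt

/-! ### Hermitian forms -/

section Herm

variable {F : Type u} [Field F] [Fintype F] {q : ℕ} (hF : Fintype.card F = q ^ 2)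

theorem hermForm_self (n : ℕ) (v : Fin n → F) :
    Cfsg.hermForm n F q v v = ∑ i, v i ^ (q + 1) := by
  simp only [Cfsg.hermForm, pow_succ']

/-- The number of vectors of norm `c` in the standard Hermitian space. -/
noncomputable def hermCount (n : ℕ) (F : Type u) [Field F] (q : ℕ) (c : F) : ℕ :=
  Nat.card {v : Fin n → F // Cfsg.hermForm n F q v v = c}

theorem hermCount_succ (n : ℕ) (c : F) :
    hermCount (n + 1) F q c = ∑ x : F, hermCount n F q (c - x ^ (q + 1)) := by
  unfold hermCount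
  rw [← Nat.card_sigma]
  symm
  refine Nat.card_congr (Equiv.ofBijective (fun p => ⟨Fin.cons p.1 p.2.1, ?_⟩) ⟨?_, ?_⟩)
  · have := p.2.2
    rw [hermForm_self] at this ⊢
    rw [Fin.sum_univ_succ]
    simp only [Fin.cons_zero, Fin.cons_succ, this]
    ring
  · rintro ⟨x, v, hv⟩ ⟨y, w, hw⟩ h
    have h' : (Fin.cons x v : Fin (n + 1) → F) = Fin.cons y w := congrArg Subtype.val h
    obtain ⟨rfl, rfl⟩ := Fin.cons_inj.1 h'
    rfl
  · rintro ⟨v, hv⟩
    refine ⟨⟨v 0, Fin.tail v, ?_⟩, Subtype.ext (Fin.cons_self_tail v)⟩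
    rw [hermForm_self] at hv ⊢
    rw [Fin.sum_univ_succ] at hv
    rw [← hv]
    simp [Fin.tail]

include hF in
theorem hermCount_eq_one (n : ℕ) {c : F} (hc : c ≠ 0) (hcq : c ^ q = c) :
    hermCount n F q c = hermCount n F q 1 := by
  obtain ⟨t, ht⟩ := norm_surj (frob hF) (frob_ne_id hF) (frob_frob hF) (a := c) hcq
  rw [mul_frob] at ht
  have ht0 : t ≠ 0 := by
    rintro rfl
    exact hc (by rw [← ht]; simp)
  unfold hermCount
  symm
  refine Nat.card_congr ((MulAction.toPerm (Units.mk0 t ht0)).subtypeEquiv fun v => ?_)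
  simp only [hermForm_self, MulAction.toPerm_apply, Units.smul_def, Units.val_mk0, Pi.smul_apply,
    smul_eq_mul, mul_pow, ← Finset.mul_sum, ht]
  constructor
  · intro h; rw [h, mul_one]
  · intro h; exact mul_left_cancel₀ hc (by rw [h, mul_one])

include hF in
theorem hermCount_succ' (n : ℕ) {c : F} (hcq : c ^ q = c) :
    hermCount (n + 1) F q c + Nat.card {x : F // x ^ (q + 1) = c} * hermCount n F q 1 =
      Nat.card {x : F // x ^ (q + 1) = c} * hermCount n F q 0 + q ^ 2 * hermCount n F q 1 := by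
  classical
  rw [hermCount_succ]
  have h1 : ∀ x : F, hermCount n F q (c - x ^ (q + 1)) =
      if x ^ (q + 1) = c then hermCount n F q 0 else hermCount n F q 1 := fun x => by
    split_ifs with h
    · rw [h, sub_self]
    · refine hermCount_eq_one hF n (sub_ne_zero.2 (Ne.symm h)) ?_
      rw [← frob_apply hF, map_sub, ← mul_frob hF, map_mul, frob_frob, mul_comm,
        frob_apply hF c, hcq]
  simp only [h1]
  rw [Finset.sum_ite, Finset.sum_const, Finset.sum_const, smul_eq_mul, smul_eq_mul,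
    Nat.card_eq_fintype_card, Fintype.card_subtype, ← hF, ← Finset.card_univ,
    ← Finset.card_filter_add_card_filter_not (s := Finset.univ) (fun x : F => x ^ (q + 1) = c)]
  ring

include hF in
theorem hermCount_int (n : ℕ) :
    (q : ℤ) * hermCount n F q 0 = q ^ (2 * n) + (-1) ^ n * (q - 1) * q ^ n ∧
      (q : ℤ) * hermCount n F q 1 = q ^ (2 * n) - (-1) ^ n * q ^ n := by
  induction n with
  | zero =>
    have h0 : hermCount 0 F q 0 = 1 := by
      unfold hermCount
      rw [Nat.card_eq_one_iff_unique]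
      exact ⟨inferInstance, ⟨⟨0, by simp [Cfsg.hermForm]⟩⟩⟩
    have h1 : hermCount 0 F q 1 = 0 := by
      unfold hermCount
      rw [Nat.card_eq_zero]
      exact Or.inl ⟨fun v => by simpa [Cfsg.hermForm] using v.2⟩
    simp [h0, h1]
  | succ n ih =>
    have hq := two_le_of_card_sq hF
    have h0 := hermCount_succ' hF n (c := 0) (zero_pow (by omega))
    have h1 := hermCount_succ' hF n (c := 1) (one_pow _)
    rw [card_norm_eq hF 1 one_ne_zero (one_pow _)] at h1
    have h2 : Nat.card {x : F // x ^ (q + 1) = 0} = 1 := by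
      rw [Nat.card_eq_one_iff_unique]
      exact ⟨⟨fun x y => Subtype.ext (by
        rw [pow_eq_zero_iff (by omega) |>.1 x.2, pow_eq_zero_iff (by omega) |>.1 y.2])⟩,
        ⟨⟨0, by simp⟩⟩⟩
    rw [h2] at h0
    zify at h0 h1
    constructor
    · linear_combination q * h0 + ih.1 + (q ^ 2 - 1) * ih.2
    · linear_combination q * h1 + (q + 1) * ih.1 + (q ^ 2 - q - 1) * ih.2

include hF in
theorem hermCount_one (n : ℕ) : hermCount n F q 1 =
    if Even n then q ^ (n - 1) * (q ^ n - 1) else q ^ (n - 1) * (q ^ n + 1) := by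
  have hq := two_le_of_card_sq hF
  have h := (hermCount_int hF n).2
  have h1 : 1 ≤ q ^ n := Nat.one_le_pow _ _ (by omega)
  rcases n with _ | n
  · simp at h
    simp [h, show q ≠ 0 by omega] at *
    exact h
  apply Nat.cast_injective (R := ℤ)
  apply mul_left_cancel₀ (show (q : ℤ) ≠ 0 by omega)
  rw [h]
  split_ifs with he
  · rw [he.neg_one_pow]
    push_cast [h1, Nat.add_sub_cancel]
    ring
  · rw [(Nat.not_even_iff_odd.1 he).neg_one_pow]
    push_cast [Nat.add_sub_cancel]
    ring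

include hF in
theorem hermCount_zero (n : ℕ) : hermCount n F q 0 =
    (if Even n then (q ^ n - 1) * (q ^ (n - 1) + 1) else (q ^ n + 1) * (q ^ (n - 1) - 1)) + 1 := by
  have hq := two_le_of_card_sq hF
  have h := (hermCount_int hF n).1
  have h1 : 1 ≤ q ^ n := Nat.one_le_pow _ _ (by omega)
  have h2 : 1 ≤ q ^ (n - 1) := Nat.one_le_pow _ _ (by omega)
  apply Nat.cast_injective (R := ℤ)
  apply mul_left_cancel₀ (show (q : ℤ) ≠ 0 by omega)
  rw [h]
  rcases n with _ | n
  · simp
  simp only [Nat.add_sub_cancel] at h2 ⊢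
  split_ifs with he
  · rw [he.neg_one_pow]
    push_cast [h1]
    ring
  · rw [(Nat.not_even_iff_odd.1 he).neg_one_pow]
    push_cast [h2]
    ring

theorem card_herm_eq {V : Type*} [AddCommGroup V] [Module F V] [FiniteDimensional F V]
    {Φ : Form (frob hF) V} (h : Φ.Nondeg) (hH : Φ.IsHerm) {n : ℕ} (hn : finrank F V = n) (c : F) :
    Nat.card {v // Φ.B v v = c} = hermCount n F q c := by
  obtain ⟨g, hg⟩ := hH.exists_equiv_un hF h hn
  exact Nat.card_congr (g.toEquiv.subtypeEquiv fun v => by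
    rw [← hg, unForm_B]; rfl)

theorem card_isom_herm (n : ℕ) : ∀ (V : Type v) [AddCommGroup V] [Module F V]
    [FiniteDimensional F V] (Φ : Form (frob hF) V), Φ.Nondeg → Φ.IsHerm → finrank F V = n →
    Nat.card Φ.Isom = q ^ (n * (n - 1) / 2) *
      ∏ i ∈ Finset.range n, (if Even i then q ^ (i + 1) + 1 else q ^ (i + 1) - 1) := by
  induction n with
  | zero =>
    intro V _ _ _ Φ _ _ hV
    have : Subsingleton V := finrank_zero_iff.1 hV
    simp [card_isom_of_subsingleton]
  | succ n ih =>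
    intro V _ _ _ Φ h hH hV
    obtain ⟨u, -, hu⟩ := hH.exists_unit (U := ⊤) (by rw [h.perp_top]; exact disjoint_bot_right)
      (by intro h0; have := finrank_top F V; rw [h0, finrank_bot] at this; omega)
    have hu0 : u ≠ 0 := by rintro rfl; simp at hu
    have hd := Φ.disjoint_span_singleton (u := u) (by rw [hu]; exact one_ne_zero)
    have h1 := h.card_fixer ⊥ (u := u) (by simpa using hu0)
    have hW : finrank F (Φ.perp (Submodule.span F {u})) = n := by
      have := h.finrank_perp (Submodule.span F {u})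
      rw [finrank_span_singleton hu0] at this
      omega
    rw [Form.fixer_bot, Subgroup.card_top, bot_sup_eq,
      Nat.card_congr (h.fixerEquiv hd).toEquiv, ih _ _ (h.restrict_perp hd) (hH.comap _) hW] at h1
    have e1 : Nat.card {u' : V // u' ∉ (⊥ : Submodule F V) ∧
        (∀ x ∈ (⊥ : Submodule F V), Φ.B x u' = Φ.B x u) ∧ Φ.B u' u' = Φ.B u u ∧
          Φ.Q u' = Φ.Q u} = hermCount (n + 1) F q 1 := by
      rw [← card_herm_eq hF h hH hV]
      refine Nat.card_congr (Equiv.subtypeEquivRight fun w => ?_)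
      simp only [Submodule.mem_bot, hu, hH.2.2, and_true]
      refine ⟨fun h => h.2.2, fun h => ⟨?_, by simp, h⟩⟩
      rintro rfl
      simp at h
    rw [h1, e1, hermCount_one hF, Finset.prod_range_succ, Nat.add_sub_cancel,
      show (n + 1) * n / 2 = n * (n - 1) / 2 + n from by
        have := Nat.triangle_succ n; simpa using this]
    by_cases he : Even n
    · simp only [Nat.even_add_one, he, not_true, if_false, if_true]; ring
    · simp only [Nat.even_add_one, he, not_false_iff, if_false, if_true]; ring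

include hF in
theorem card_gu (n : ℕ) : Nat.card (Cfsg.GU n F q) = q ^ (n * (n - 1) / 2) *
      ∏ i ∈ Finset.range n, (if Even i then q ^ (i + 1) + 1 else q ^ (i + 1) - 1) := by
  rw [Nat.card_congr (guEquiv hF n).toEquiv]
  exact card_isom_herm hF n _ _ (unForm_nondeg hF n) (unForm_isHerm hF n) (by simp)

/-- The determinant maps the unitary group onto the elements of norm one. -/
theorem range_det_herm {V : Type*} [AddCommGroup V] [Module F V] [FiniteDimensional F V]
    {Φ : Form (frob hF) V} (h : Φ.Nondeg) (hH : Φ.IsHerm) (hn : 1 ≤ finrank F V) :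
    Φ.det.range = (powMonoidHom (q + 1) : Fˣ →* Fˣ).ker := by
  ext c
  rw [MonoidHom.mem_ker, powMonoidHom_apply, Units.ext_iff, Units.val_pow_eq_pow_val,
    Units.val_one, ← mul_frob hF]
  constructor
  · rintro ⟨g, rfl⟩
    exact Φ.det_mul_sigma_det h g
  · intro hc
    obtain ⟨u, -, hu⟩ := hH.exists_unit (U := ⊤) (by rw [h.perp_top]; exact disjoint_bot_right)
      (by intro h0; have := finrank_top F V; rw [h0, finrank_bot] at this; omega)
    have hτ : Φ.τ = 0 := by
      have := Φ.Q_add u u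
      simpa [hH.2.2, hu] using this.symm
    refine ⟨Φ.dilIsom h u (c - 1) ⟨?_, by simp [hH.2.2, hτ]⟩, Units.ext ?_⟩
    · rw [hH.2.1, hu, map_sub, map_one]
      linear_combination hc
    · rw [Form.det_dilIsom, hu]; ring

theorem card_det_ker_herm {V : Type*} [AddCommGroup V] [Module F V] [FiniteDimensional F V]
    {Φ : Form (frob hF) V} (h : Φ.Nondeg) (hH : Φ.IsHerm) (hn : 1 ≤ finrank F V) :
    (q + 1) * Nat.card Φ.det.ker = Nat.card Φ.Isom := by
  rw [← Subgroup.card_mul_index Φ.det.ker, Subgroup.index_ker, range_det_herm hF h hH hn,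
    card_norm_one_units hF, mul_comm]

include hF in
theorem card_su (n : ℕ) (hn : 1 ≤ n) : (q + 1) * Nat.card (Cfsg.SU n F q) =
    q ^ (n * (n - 1) / 2) *
      ∏ i ∈ Finset.range n, (if Even i then q ^ (i + 1) + 1 else q ^ (i + 1) - 1) := by
  rw [Nat.card_congr (suEquiv hF n).toEquiv, card_det_ker_herm hF (unForm_nondeg hF n)
    (unForm_isHerm hF n) (by simpa using hn), ← card_gu hF n,
    Nat.card_congr (guEquiv hF n).toEquiv]

end Herm

/-! ### Quadratic forms -/

section Quad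

variable {F : Type u} [Field F] [Fintype F]

theorem card_hyp_zero {W : Type*} [Finite W] (R : W → F) :
    Nat.card {x : F × F × W // x.1 * x.2.1 + R x.2.2 = 0} =
      Fintype.card F * Nat.card {w // R w = 0} + (Fintype.card F - 1) * Nat.card W := by
  have h1 : Nat.card {a : F // a ≠ 0} = Fintype.card F - 1 := by
    classical
    simp [Nat.card_eq_fintype_card]
  rw [← h1, ← Nat.card_eq_fintype_card, ← Nat.card_prod, ← Nat.card_prod, ← Nat.card_sum]
  symm
  refine Nat.card_congr (Equiv.ofBijective (fun x => match x with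
    | .inl x => ⟨(0, x.1, x.2.1), by simpa using x.2.2⟩
    | .inr x => ⟨(x.1.1, -R x.2 / x.1.1, x.2), by
        have := x.1.2
        simp only
        field_simp
        ring⟩) ⟨?_, ?_⟩)
  · rintro (⟨b, w, hw⟩ | ⟨⟨a, ha⟩, w⟩) (⟨b', w', hw'⟩ | ⟨⟨a', ha'⟩, w'⟩) h
    · simp only [Subtype.mk.injEq, Prod.mk.injEq] at h
      obtain ⟨-, rfl, rfl⟩ := h
      rfl
    · simp only [Subtype.mk.injEq, Prod.mk.injEq] at h
      exact absurd h.1.symm ha'
    · simp only [Subtype.mk.injEq, Prod.mk.injEq] at h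
      exact absurd h.1 ha
    · simp only [Subtype.mk.injEq, Prod.mk.injEq] at h
      obtain ⟨rfl, -, rfl⟩ := h
      rfl
  · rintro ⟨⟨a, b, w⟩, h⟩
    by_cases ha : a = 0
    · subst ha
      exact ⟨.inl (b, ⟨w, by simpa using h⟩), rfl⟩
    · refine ⟨.inr (⟨a, ha⟩, w), Subtype.ext ?_⟩
      simp only [Prod.mk.injEq, true_and, and_true]
      simp only at h
      field_simp
      linear_combination -h

/-- The number of zeros of `Σ xᵢ yᵢ + R z`. -/
theorem card_hypSum_zero (m : ℕ) {Z : Type*} [Finite Z] (R : Z → F) :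
    (Fintype.card F : ℤ) *
      Nat.card {x : (Fin m → F) × (Fin m → F) × Z // ∑ i, x.1 i * x.2.1 i + R x.2.2 = 0} =
      Fintype.card F ^ (m + 1) * Nat.card {z // R z = 0} +
        (Fintype.card F ^ m - 1) * Fintype.card F ^ m * Nat.card Z := by
  induction m with
  | zero =>
    have : Nat.card {x : (Fin 0 → F) × (Fin 0 → F) × Z // ∑ i, x.1 i * x.2.1 i + R x.2.2 = 0} =
        Nat.card {z // R z = 0} :=
      Nat.card_congr (((Equiv.uniqueProd _ _).trans (Equiv.uniqueProd _ _)).subtypeEquiv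
        fun x => by simp)
    rw [this]
    simp
  | succ m ih =>
    have h1 := card_hyp_zero
      (fun x : (Fin m → F) × (Fin m → F) × Z => ∑ i, x.1 i * x.2.1 i + R x.2.2)
    have h2 : Nat.card {x : (Fin (m + 1) → F) × (Fin (m + 1) → F) × Z //
        ∑ i, x.1 i * x.2.1 i + R x.2.2 = 0} =
        Nat.card {x : F × F × (Fin m → F) × (Fin m → F) × Z //
          x.1 * x.2.1 + (∑ i, x.2.2.1 i * x.2.2.2.1 i + R x.2.2.2.2) = 0} := by
      refine Nat.card_congr (Equiv.subtypeEquiv
        { toFun := fun x => (x.1 0, x.2.1 0, Fin.tail x.1, Fin.tail x.2.1, x.2.2)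
          invFun := fun x => (Fin.cons x.1 x.2.2.1, Fin.cons x.2.1 x.2.2.2.1, x.2.2.2.2)
          left_inv := fun x => by simp
          right_inv := fun x => by simp } fun x => ?_)
      simp [Fin.sum_univ_succ, Fin.tail, add_assoc]
    rw [h2, h1]
    have h3 : 1 ≤ Fintype.card F := Fintype.card_pos
    have h4 : Nat.card (Fin m → F) = Fintype.card F ^ m := by simp
    simp only [Nat.card_prod, h4]
    push_cast [h3]
    linear_combination (Fintype.card F : ℤ) * ih

variable {V : Type*} [AddCommGroup V] [Module F V]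

/-- The number of zeros of a quadratic form. -/
noncomputable def nz (Q : QuadraticForm F V) : ℕ := Nat.card {v // Q v = 0}

/-- The restriction of a quadratic form to the perpendicular space of a pair of vectors. -/
abbrev quadPerp (Q : QuadraticForm F V) (e f : V) : QuadraticForm F (hypPerp (ofQuad Q) e f) :=
  Q.comp (hypPerp (ofQuad Q) e f).subtype

theorem HypPair.quad_eq {Q : QuadraticForm F V} {e f : V} (H : HypPair (ofQuad Q) e f) (a b : F)
    {w : V} (hw : w ∈ hypPerp (ofQuad Q) e f) : Q (a • e + b • f + w) = a * b + Q w := by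
  simpa using H.Q_eq a b hw

theorem HypPair.quadPerp_nondeg [FiniteDimensional F V] {Q : QuadraticForm F V} {e f : V}
    (H : HypPair (ofQuad Q) e f) (h : (ofQuad Q).Nondeg) : (ofQuad (quadPerp Q e f)).Nondeg := by
  rw [← comap_ofQuad]
  exact H.perp_nondeg h

theorem HypPair.nz_eq [FiniteDimensional F V] {Q : QuadraticForm F V} {e f : V}
    (H : HypPair (ofQuad Q) e f) :
    nz Q = Fintype.card F * nz (quadPerp Q e f) +
      (Fintype.card F - 1) * Nat.card (hypPerp (ofQuad Q) e f) := by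
  have : Finite V := Module.finite_of_finite F
  rw [nz, nz, H.card_sub, ← card_hyp_zero]
  exact Nat.card_congr (Equiv.subtypeEquivRight fun x => by
    rw [H.quad_eq _ _ x.2.2.2]; rfl)

theorem HypPair.card_isom_quad [FiniteDimensional F V] {Q : QuadraticForm F V} {e f : V}
    (H : HypPair (ofQuad Q) e f) (h : (ofQuad Q).Nondeg) :
    Nat.card (ofQuad Q).Isom = (nz Q - 1) * Nat.card (hypPerp (ofQuad Q) e f) *
      Nat.card (ofQuad (quadPerp Q e f)).Isom := by
  have : Finite V := Module.finite_of_finite F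
  rw [H.card_isom h, ← comap_ofQuad]
  have hB : ∀ u, Q u = 0 → (ofQuad Q).B u u = 0 := fun u hu => by
    change pol Q u u = 0
    rw [pol_self, hu, mul_zero]
  congr 2
  · rw [nz, ← card_ne_zero_and (fun u => Q u = 0) (map_zero Q), Nat.add_sub_cancel]
    exact Nat.card_congr (Equiv.subtypeEquivRight fun u =>
      ⟨fun h => ⟨h.1, h.2.2⟩, fun h => ⟨h.1, hB u h.2, h.2⟩⟩)
  · symm
    have key : ∀ w : hypPerp (ofQuad Q) e f, Q ((-Q w) • e + (1 : F) • f + w) = 0 := fun w => by
      rw [H.quad_eq _ _ w.2]; ring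
    refine Nat.card_congr (Equiv.ofBijective (fun w => ⟨(-Q w) • e + (1 : F) • f + w,
      H.B_e _ _ w.2, hB _ (key w), key w⟩) ⟨?_, ?_⟩)
    · intro w w' hh
      have h1 : H.equiv (-Q w, 1, w) = H.equiv (-Q w', 1, w') := congrArg Subtype.val hh
      exact congrArg (fun x => x.2.2) (H.equiv.injective h1)
    · rintro ⟨u, h1, -, h2⟩
      obtain ⟨a, b, w, hw, rfl⟩ := H.exists_eq u
      rw [H.B_e _ _ hw] at h1
      subst h1
      change Q _ = 0 at h2
      rw [H.quad_eq _ _ hw] at h2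
      refine ⟨⟨w, hw⟩, Subtype.ext ?_⟩
      simp only
      rw [show -Q w = a by linear_combination -h2]

theorem exists_hypPair_quad [FiniteDimensional F V] {Q : QuadraticForm F V}
    (h : (ofQuad Q).Nondeg) {e : V} (he : e ≠ 0) (hQ : Q e = 0) : ∃ f, HypPair (ofQuad Q) e f :=
  exists_hypPair h he (by change pol Q e e = 0; rw [pol_self, hQ, mul_zero]) hQ

theorem nz_of_aniso {Q : QuadraticForm F V} (h : ∀ v, Q v = 0 → v = 0) : nz Q = 1 := by
  rw [nz, Nat.card_eq_one_iff_unique]
  exact ⟨⟨fun x y => Subtype.ext (by rw [h _ x.2, h _ y.2])⟩, ⟨⟨0, map_zero Q⟩⟩⟩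

theorem card_isom_quad_one [FiniteDimensional F V] (h2 : (2 : F) ≠ 0) {Q : QuadraticForm F V}
    (h : (ofQuad Q).Nondeg) (hV : finrank F V = 1) :
    nz Q = 1 ∧ Nat.card (ofQuad Q).Isom = 2 := by
  obtain ⟨u, hu0, hu⟩ := finrank_eq_one_iff'.1 hV
  have hQu : Q u ≠ 0 := fun h0 => hu0 (h u fun y => by
    obtain ⟨c, rfl⟩ := hu y
    change pol Q u (c • u) = 0
    rw [map_smul, pol_self, h0]; simp)
  refine ⟨nz_of_aniso fun v hv => ?_, ?_⟩
  · obtain ⟨c, rfl⟩ := hu v
    rw [quad_smul] at hv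
    rw [pow_eq_zero_iff (by omega) |>.1 ((mul_eq_zero.1 hv).resolve_right hQu), zero_smul]
  · have hne : refl Q u ≠ 1 := fun h0 => by
      have h1 := refl_self Q hQu
      rw [h0, Form.Isom.one_apply, eq_neg_iff_add_eq_zero, ← two_smul F, smul_eq_zero] at h1
      exact h1.elim h2 hu0
    rw [Nat.card_eq_two_iff' 1]
    refine ⟨refl Q u, hne, fun g hg => ?_⟩
    obtain ⟨c, hc⟩ := hu (g.1 u)
    have h1 := Form.Isom.map_quad g u
    rw [← hc, quad_smul] at h1
    have h3 : c ^ 2 = 1 := mul_right_cancel₀ hQu (by rw [h1, one_mul])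
    rcases mul_self_eq_one_iff.1 ((sq c).symm.trans h3) with rfl | rfl
    · exact absurd (Form.Isom.ext fun x => by
        obtain ⟨d, rfl⟩ := hu x
        rw [map_smul, ← hc]; simp) hg
    · refine Form.Isom.ext fun x => ?_
      obtain ⟨d, rfl⟩ := hu x
      rw [map_smul, map_smul, ← hc, refl_self Q hQu]; simp

/-- An anisotropic plane is isometric to a standard one. -/
theorem exists_equiv_aniso [FiniteDimensional F V] {Q : QuadraticForm F V}
    (h : (ofQuad Q).Nondeg) (hV : finrank F V = 2) (ha : ∀ v, Q v = 0 → v = 0) :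
    ∃ (a b : F) (g : (Fin 2 → F) ≃ₗ[F] V), Aniso a b ∧
      ∀ v, Q (g v) = v 0 ^ 2 + a * v 0 * v 1 + b * v 1 ^ 2 := by
  obtain ⟨u, hu⟩ := exists_quad_eq' h hV.ge 1
  have hu0 : u ≠ 0 := by rintro rfl; simp at hu
  obtain ⟨w, hw⟩ := exists_linearIndependent_pair_of_one_lt_finrank (R := F) (by omega) hu0
  let b := basisOfLinearIndependentOfCardEqFinrank hw (by simp [hV])
  have hb : ∀ v : Fin 2 → F, b.equivFun.symm v = v 0 • u + v 1 • w := fun v => by
    simp [b, Basis.equivFun_symm_apply, Fin.sum_univ_two]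
  have hQ : ∀ v : Fin 2 → F, Q (b.equivFun.symm v) =
      v 0 ^ 2 + pol Q u w * v 0 * v 1 + Q w * v 1 ^ 2 := fun v => by
    rw [hb, quad_add_smul, quad_smul, hu, map_smul]
    simp only [LinearMap.smul_apply, smul_eq_mul]
    ring
  refine ⟨pol Q u w, Q w, b.equivFun.symm, fun x y hxy => ?_, hQ⟩
  have h1 := ha (b.equivFun.symm ![x, y]) (by rw [hQ]; simpa using hxy)
  rw [LinearEquiv.map_eq_zero_iff] at h1
  exact ⟨congrFun h1 0, congrFun h1 1⟩

theorem isomCongrQuad_aux {W : Type*} [AddCommGroup W] [Module F W] (Q : QuadraticForm F V)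
    (R : QuadraticForm F W) (g : V ≃ₗ[F] W) (hg : ∀ v, R (g v) = Q v) (x y : V) :
    (ofQuad R).B (g x) (g y) = (ofQuad Q).B x y := by
  simp only [ofQuad_B, QuadraticMap.polar, ← map_add, hg]

/-- Isometric quadratic spaces have isomorphic orthogonal groups. -/
def isomCongrQuad {W : Type*} [AddCommGroup W] [Module F W] (Q : QuadraticForm F V)
    (R : QuadraticForm F W) (g : V ≃ₗ[F] W) (hg : ∀ v, R (g v) = Q v) :
    (ofQuad Q).Isom ≃* (ofQuad R).Isom :=
  Form.isomCongr _ _ g (isomCongrQuad_aux Q R g hg) hg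

theorem card_isom_quad_aniso [FiniteDimensional F V] {Q : QuadraticForm F V}
    (h : (ofQuad Q).Nondeg) (hV : finrank F V = 2) (ha : ∀ v, Q v = 0 → v = 0) :
    Nat.card (ofQuad Q).Isom = 2 * (Fintype.card F + 1) := by
  obtain ⟨a, b, g, hab, hg⟩ := exists_equiv_aniso h hV ha
  obtain ⟨e⟩ := isometryGroup_aniso_dihedral rfl hab
  have h1 : (fun v : Fin 2 → F => v 0 ^ 2 + a * v 0 * v 1 + b * v 1 ^ 2) =
      ⇑(Q.comp g.toLinearMap) := funext fun v => (hg v).symm
  rw [h1] at e
  rw [← DihedralGroup.nat_card, ← Nat.card_congr e.toEquiv,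
    Nat.card_congr (orthEquiv (Q.comp g.toLinearMap)).toEquiv]
  exact (Nat.card_congr (isomCongrQuad _ _ g fun _ => rfl).toEquiv).symm

theorem card_isom_quad_odd (h2 : (2 : F) ≠ 0) (m : ℕ) : ∀ (V : Type v) [AddCommGroup V]
    [Module F V] [FiniteDimensional F V] (Q : QuadraticForm F V), (ofQuad Q).Nondeg →
    finrank F V = 2 * m + 1 → nz Q = Fintype.card F ^ (2 * m) ∧
      Nat.card (ofQuad Q).Isom = 2 * Fintype.card F ^ (m ^ 2) *
        ∏ i ∈ Finset.range m, (Fintype.card F ^ (2 * (i + 1)) - 1) := by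
  induction m with
  | zero =>
    intro V _ _ _ Q h hV
    simpa using card_isom_quad_one h2 h hV
  | succ m ih =>
    intro V _ _ _ Q h hV
    obtain ⟨e, -, he, hQ⟩ := exists_singular Q (U := ⊤) (by rw [finrank_top]; omega)
    obtain ⟨f, H⟩ := exists_hypPair_quad h he hQ
    have hW : finrank F (hypPerp (ofQuad Q) e f) = 2 * m + 1 := by
      have := H.finrank_perp h; omega
    obtain ⟨h3, h4⟩ := ih _ _ (H.quadPerp_nondeg h) hW
    have h5 : nz Q = Fintype.card F ^ (2 * (m + 1)) := by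
      rw [H.nz_eq, h3, card_eq_pow hW]
      obtain ⟨k, hk⟩ : ∃ k, Fintype.card F = k + 1 := ⟨_, (Nat.succ_pred Fintype.card_ne_zero).symm⟩
      rw [hk, Nat.add_sub_cancel]
      ring
    refine ⟨h5, ?_⟩
    rw [H.card_isom_quad h, h4, h5, card_eq_pow hW, Finset.prod_range_succ]
    ring

theorem card_isom_quad_even (m : ℕ) : ∀ (V : Type v) [AddCommGroup V]
    [Module F V] [FiniteDimensional F V] (Q : QuadraticForm F V), (ofQuad Q).Nondeg →
    finrank F V = 2 * (m + 1) →
    (nz Q + Fintype.card F ^ m = Fintype.card F ^ (2 * m + 1) + Fintype.card F ^ (m + 1) ∧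
      Nat.card (ofQuad Q).Isom = 2 * Fintype.card F ^ ((m + 1) * m) *
        (Fintype.card F ^ (m + 1) - 1) *
        ∏ i ∈ Finset.range m, (Fintype.card F ^ (2 * (i + 1)) - 1)) ∨
    (nz Q + Fintype.card F ^ (m + 1) = Fintype.card F ^ (2 * m + 1) + Fintype.card F ^ m ∧
      Nat.card (ofQuad Q).Isom = 2 * Fintype.card F ^ ((m + 1) * m) *
        (Fintype.card F ^ (m + 1) + 1) *
        ∏ i ∈ Finset.range m, (Fintype.card F ^ (2 * (i + 1)) - 1)) := by
  have hq : 1 ≤ Fintype.card F := Fintype.card_pos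
  have hqk : ∀ k, 1 ≤ Fintype.card F ^ k := fun k => Nat.one_le_pow _ _ hq
  induction m with
  | zero =>
    intro V _ _ _ Q h hV
    by_cases ha : ∀ v, Q v = 0 → v = 0
    · right
      rw [nz_of_aniso ha, card_isom_quad_aniso h hV ha]
      simp [add_comm]
    · left
      push Not at ha
      obtain ⟨e, hQ, he⟩ := ha
      obtain ⟨f, H⟩ := exists_hypPair_quad h he hQ
      have hW : finrank F (hypPerp (ofQuad Q) e f) = 0 := by
        have := H.finrank_perp h; omega
      have : Subsingleton (hypPerp (ofQuad Q) e f) := finrank_zero_iff.1 hW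
      have h5 := H.nz_eq
      rw [nz_of_aniso (Q := quadPerp Q e f) (fun v _ => Subsingleton.elim _ _),
        card_eq_pow hW] at h5
      rw [H.card_isom_quad h, card_isom_of_subsingleton, card_eq_pow hW, h5]
      simp only [Finset.range_zero, Finset.prod_empty, mul_zero, zero_add, pow_zero, pow_one,
        mul_one]
      omega
  | succ m ih =>
    intro V _ _ _ Q h hV
    obtain ⟨e, -, he, hQ⟩ := exists_singular Q (U := ⊤) (by rw [finrank_top]; omega)
    obtain ⟨f, H⟩ := exists_hypPair_quad h he hQ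
    have hW : finrank F (hypPerp (ofQuad Q) e f) = 2 * (m + 1) := by
      have := H.finrank_perp h; omega
    have h5 := H.nz_eq
    have h6 := H.card_isom_quad h
    have h7 : 1 ≤ nz Q := by
      have : Finite V := Module.finite_of_finite F
      exact Nat.card_pos_iff.2 ⟨⟨⟨0, map_zero Q⟩⟩, inferInstance⟩
    rw [card_eq_pow hW] at h5 h6
    rcases ih _ _ (H.quadPerp_nondeg h) hW with ⟨h3, h4⟩ | ⟨h3, h4⟩
    · left
      rw [h6, h4, Finset.prod_range_succ]
      generalize ∏ i ∈ Finset.range m, (Fintype.card F ^ (2 * (i + 1)) - 1) = P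
      zify [hq, hqk, h7] at h3 h5 ⊢
      refine ⟨by linear_combination h5 + (Fintype.card F : ℤ) * h3, ?_⟩
      have h8 : (nz Q : ℤ) - 1 = (Fintype.card F ^ (m + 2) - 1) * (Fintype.card F ^ (m + 1) + 1) := by
        linear_combination h5 + (Fintype.card F : ℤ) * h3
      rw [h8]
      ring
    · right
      rw [h6, h4, Finset.prod_range_succ]
      generalize ∏ i ∈ Finset.range m, (Fintype.card F ^ (2 * (i + 1)) - 1) = P
      zify [hq, hqk, h7] at h3 h5 ⊢
      refine ⟨by linear_combination h5 + (Fintype.card F : ℤ) * h3, ?_⟩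
      have h8 : (nz Q : ℤ) - 1 = (Fintype.card F ^ (m + 2) + 1) * (Fintype.card F ^ (m + 1) - 1) := by
        linear_combination h5 + (Fintype.card F : ℤ) * h3
      rw [h8]
      ring

theorem nz_qPlus (m : ℕ) : nz (qPlus (m + 1) F) + Fintype.card F ^ m =
    Fintype.card F ^ (2 * m + 1) + Fintype.card F ^ (m + 1) := by
  have h1 := card_hypSum_zero (m + 1) (fun _ : Unit => (0 : F))
  have h2 : nz (qPlus (m + 1) F) = Nat.card {x : (Fin (m + 1) → F) × (Fin (m + 1) → F) × Unit //
      ∑ i, x.1 i * x.2.1 i + (0 : F) = 0} :=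
    Nat.card_congr (((Equiv.sumArrowEquivProdArrow _ _ _).trans
      (Equiv.prodCongr (Equiv.refl _) (Equiv.prodUnique _ Unit).symm)).subtypeEquiv fun x => by
        simp [qPlus_apply])
  have h3 : Nat.card {z : Unit // (0 : F) = 0} = 1 := by simp
  rw [← h2, h3, Nat.card_unique] at h1
  zify
  apply mul_left_cancel₀ (show (Fintype.card F : ℤ) ≠ 0 by simp)
  push_cast at h1
  linear_combination h1

theorem nz_qMinus (m : ℕ) {a b : F} (hab : Aniso a b) :
    nz (qMinus m F a b) + Fintype.card F ^ (m + 1) =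
      Fintype.card F ^ (2 * m + 1) + Fintype.card F ^ m := by
  have h1 := card_hypSum_zero m (fun v : Fin 2 → F => v 0 ^ 2 + a * v 0 * v 1 + b * v 1 ^ 2)
  have h2 : nz (qMinus m F a b) = Nat.card {x : (Fin m → F) × (Fin m → F) × (Fin 2 → F) //
      ∑ i, x.1 i * x.2.1 i + (x.2.2 0 ^ 2 + a * x.2.2 0 * x.2.2 1 + b * x.2.2 1 ^ 2) = 0} :=
    Nat.card_congr (((Equiv.sumArrowEquivProdArrow _ _ _).trans
      ((Equiv.prodCongr (Equiv.sumArrowEquivProdArrow _ _ _) (Equiv.refl _)).trans
        (Equiv.prodAssoc _ _ _))).subtypeEquiv fun x => by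
        simp [qMinus_apply])
  have h3 : Nat.card {v : Fin 2 → F // v 0 ^ 2 + a * v 0 * v 1 + b * v 1 ^ 2 = 0} = 1 := by
    rw [Nat.card_eq_one_iff_unique]
    refine ⟨⟨fun x y => Subtype.ext ?_⟩, ⟨⟨0, by simp⟩⟩⟩
    ext i
    fin_cases i
    · simp [(hab _ _ x.2).1, (hab _ _ y.2).1]
    · simp [(hab _ _ x.2).2, (hab _ _ y.2).2]
  rw [← h2, h3, Nat.card_fun, Nat.card_eq_fintype_card, Nat.card_eq_fintype_card,
    Fintype.card_fin] at h1
  zify
  apply mul_left_cancel₀ (show (Fintype.card F : ℤ) ≠ 0 by simp)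
  push_cast at h1
  linear_combination h1

theorem pow_ne_pow_succ (m : ℕ) : Fintype.card F ^ m < Fintype.card F ^ (m + 1) :=
  Nat.pow_lt_pow_right Fintype.one_lt_card (by omega)

theorem card_isom_qPlus (m : ℕ) : Nat.card (ofQuad (qPlus (m + 1) F)).Isom =
    2 * Fintype.card F ^ ((m + 1) * m) * (Fintype.card F ^ (m + 1) - 1) *
      ∏ i ∈ Finset.range m, (Fintype.card F ^ (2 * (i + 1)) - 1) := by
  rcases card_isom_quad_even m _ _ (qPlus_nondeg (m + 1) F) finrank_plus with h | h
  · exact h.2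
  · have h1 := nz_qPlus (F := F) m
    have h2 := pow_ne_pow_succ (F := F) m
    omega

theorem card_isom_qMinus (m : ℕ) {a b : F} (hab : Aniso a b) :
    Nat.card (ofQuad (qMinus m F a b)).Isom =
    2 * Fintype.card F ^ ((m + 1) * m) * (Fintype.card F ^ (m + 1) + 1) *
      ∏ i ∈ Finset.range m, (Fintype.card F ^ (2 * (i + 1)) - 1) := by
  rcases card_isom_quad_even m _ _ (qMinus_nondeg m hab) finrank_minus with h | h
  · have h1 := nz_qMinus m hab
    have h2 := pow_ne_pow_succ (F := F) m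
    omega
  · exact h.2

theorem card_isom_qOdd (h2 : (2 : F) ≠ 0) (m : ℕ) : Nat.card (ofQuad (qOdd m F)).Isom =
    2 * Fintype.card F ^ (m ^ 2) * ∏ i ∈ Finset.range m, (Fintype.card F ^ (2 * (i + 1)) - 1) :=
  (card_isom_quad_odd h2 m _ _ (qOdd_nondeg m h2) finrank_odd).2

theorem nz_qOdd (h2 : (2 : F) ≠ 0) (m : ℕ) : nz (qOdd m F) = Fintype.card F ^ (2 * m) :=
  (card_isom_quad_odd h2 m _ _ (qOdd_nondeg m h2) finrank_odd).1

end Quad

end H7
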