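import Mathlib
import Cfsg.Agent.H15.NegOne
import Cfsg.Agent.H15.Omega
import Cfsg.Agent.H7.FormOrder
import Cfsg.Agent.H7.SmallTools

/-!
Scalar isometries, centres, and Iwasawa's simplicity argument on singular points.
-/

set_option autoImplicit false
set_option backward.isDefEq.respectTransparency false
set_option linter.unusedSectionVars false

namespace H7

open Module H15
open scoped commutatorElement

section General

variable {F : Type*} [Field F] {σ : F →+* F} {V : Type*} [AddCommGroup V] [Module F V]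

/-- Singular vectors. -/
def Sing (Φ : Form σ V) (v : V) : Prop := Φ.B v v = 0 ∧ Φ.Q v = 0

variable {Φ : Form σ V}

theorem Sing.smul {v : V} (h : Sing Φ v) (c : F) : Sing Φ (c • v) :=
  ⟨by simp [h.1], by rw [Φ.Q_smul, h.2, mul_zero]⟩

theorem Sing.map {v : V} (h : Sing Φ v) (g : Φ.Isom) : Sing Φ (g.1 v) :=
  ⟨(Form.Isom.map_B g v v).trans h.1, (Form.Isom.map_Q g v).trans h.2⟩

theorem Sing.exists_add {p : V} (hp : Sing Φ p) {x : V} (h : Φ.B p x ≠ 0) :
    ∃ t : F, Sing Φ (x + t • p) := by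
  obtain ⟨t, h1, h2⟩ := Φ.adj p x 0 hp.2 hp.1 h
  exact ⟨t, by simpa using h1, by rw [h2, Φ.Q_zero]⟩

theorem HypPair.sing_e {e f : V} (H : HypPair Φ e f) : Sing Φ e := ⟨H.ee, H.Qe⟩
theorem HypPair.sing_f {e f : V} (H : HypPair Φ e f) : Sing Φ f := ⟨H.ff, H.Qf⟩

theorem Sing.exists_hypPair [FiniteDimensional F V] (h : Φ.Nondeg) {e : V} (hs : Sing Φ e)
    (he : e ≠ 0) : ∃ f, HypPair Φ e f := H7.exists_hypPair h he hs.1 hs.2

theorem HypPair.map_mem_perp {e f : V} (g : Φ.Isom) {l m : F} (hl : l ≠ 0) (hm : m ≠ 0)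
    (he : g.1 e = l • e) (hf : g.1 f = m • f) {w : V} (hw : w ∈ hypPerp Φ e f) :
    g.1 w ∈ hypPerp Φ e f := by
  rw [mem_hypPerp] at hw ⊢
  have h1 := Form.Isom.map_B g e w
  have h2 := Form.Isom.map_B g f w
  rw [he, hw.1] at h1
  rw [hf, hw.2] at h2
  simp only [LinearMap.map_smulₛₗ, LinearMap.smul_apply, smul_eq_mul, mul_eq_zero,
    map_eq_zero] at h1 h2
  exact ⟨h1.resolve_left hl, h2.resolve_left hm⟩

theorem HypPair.eq_of_eq {e f : V} (H : HypPair Φ e f) {a b a' b' : F} {w w' : V}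
    (hw : w ∈ hypPerp Φ e f) (hw' : w' ∈ hypPerp Φ e f)
    (h : a • e + b • f + w = a' • e + b' • f + w') : a = a' ∧ b = b' ∧ w = w' := by
  have := H.equiv.injective (a₁ := (a, b, ⟨w, hw⟩)) (a₂ := (a', b', ⟨w', hw'⟩)) h
  simpa using this

/-- An isometry fixing all singular points is a scalar. -/
theorem HypPair.exists_scalar {e f : V} (H : HypPair Φ e f)
    (hW : hypPerp Φ e f ≠ ⊥ ∨ ∃ a : F, a ≠ 0 ∧ Sing Φ (a • e + f)) (g : Φ.Isom)
    (hg : ∀ v, Sing Φ v → ∃ c : F, g.1 v = c • v) : ∃ c : F, ∀ v, g.1 v = c • v := by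
  obtain ⟨l, hl⟩ := hg e H.sing_e
  obtain ⟨m, hm⟩ := hg f H.sing_f
  have hl0 : l ≠ 0 := by
    rintro rfl
    exact H.e_ne_zero (by simpa using hl)
  have hm0 : m ≠ 0 := by
    rintro rfl
    exact H.f_ne_zero (by simpa using hm)
  have key1 : ∀ w ∈ hypPerp Φ e f, g.1 w = m • w := fun w hw => by
    obtain ⟨t, ht⟩ := H.sing_e.exists_add (x := f + w) (by simp [H.ef, (mem_hypPerp.1 hw).1])
    obtain ⟨c, hc⟩ := hg _ ht
    have := H.eq_of_eq (a := t * l) (b := m) (a' := c * t) (b' := c)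
      (HypPair.map_mem_perp g hl0 hm0 hl hm hw) (Submodule.smul_mem _ c hw) (by
        simp only [map_add, map_smul, hl, hm] at hc
        linear_combination (norm := module) hc)
    rw [this.2.2, this.2.1]
  have key2 : ∀ w ∈ hypPerp Φ e f, g.1 w = l • w := fun w hw => by
    obtain ⟨t, ht⟩ := H.sing_f.exists_add (x := e + w)
      (by simp [H.fe, (mem_hypPerp.1 hw).2, Φ.eps_ne_zero])
    obtain ⟨c, hc⟩ := hg _ ht
    have := H.eq_of_eq (a := l) (b := t * m) (a' := c) (b' := c * t)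
      (HypPair.map_mem_perp g hl0 hm0 hl hm hw) (Submodule.smul_mem _ c hw) (by
        simp only [map_add, map_smul, hl, hm] at hc
        linear_combination (norm := module) hc)
    rw [this.2.2, this.1]
  have hlm : l = m := by
    rcases hW with hW | ⟨a, ha, hs⟩
    · obtain ⟨w, hw, hw0⟩ := Submodule.exists_mem_ne_zero_of_ne_bot hW
      exact smul_left_injective F hw0 ((key2 w hw).symm.trans (key1 w hw))
    · obtain ⟨c, hc⟩ := hg _ hs
      have := H.eq_of_eq (a := a * l) (b := m) (a' := c * a) (b' := c)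
        (Submodule.zero_mem _) (Submodule.zero_mem _) (by
          simp only [map_add, map_smul, hl, hm] at hc
          linear_combination (norm := module) hc)
      rw [this.2.1]
      exact mul_left_cancel₀ ha (by rw [this.1, mul_comm])
  subst hlm
  refine ⟨l, fun v => ?_⟩
  obtain ⟨a, b, w, hw, rfl⟩ := H.exists_eq v
  simp only [map_add, map_smul, hl, hm, key1 w hw]
  module

/-- If `g` commutes with a transvection in `p`, it fixes the point `p`. -/
theorem exists_smul_of_commute_dil [FiniteDimensional F V] (h : Φ.Nondeg) {p : V} {c : F}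
    (hc : Φ.DilOK p c) (hc0 : c ≠ 0) (g : Φ.Isom)
    (hg : g * Φ.dilIsom h p c hc = Φ.dilIsom h p c hc * g) : ∃ d : F, g.1 p = d • p := by
  by_cases hp : p = 0
  · exact ⟨0, by simp [hp]⟩
  obtain ⟨r, hr⟩ := h.exists_B_eq_one hp
  have := congrArg (fun k : Φ.Isom => k.1 r) hg
  simp only [Form.Isom.mul_apply, Form.dilIsom_apply, hr, map_add, map_smul, mul_one,
    add_right_inj] at this
  refine ⟨Φ.B p (g.1 r), smul_right_injective V hc0 ?_⟩
  simp only [this, smul_smul]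

theorem mem_center_of_scalar {G : Type*} [Group G] (ρ : G →* Φ.Isom)
    (hρ : Function.Injective ρ) {g : G} {c : F} (hg : ∀ v, (ρ g).1 v = c • v) :
    g ∈ Subgroup.center G := by
  rw [Subgroup.mem_center_iff]
  intro k
  apply hρ
  refine Form.Isom.ext fun v => ?_
  simp only [map_mul, Form.Isom.mul_apply, hg, map_smul]

/-- **Iwasawa's argument** on singular points: a normal subgroup moving some singular point
contains the commutator subgroup. -/
theorem commutator_le_of_moves [FiniteDimensional F V] (h : Φ.Nondeg) {G : Type*} [Group G]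
    (ρ : G →* Φ.Isom) (T : V → Subgroup G)
    (hTcomm : ∀ p, Sing Φ p → IsMulCommutative (T p))
    (hTconj : ∀ (g : G) p, Sing Φ p → ∀ t ∈ T ((ρ g).1 p), g⁻¹ * t * g ∈ T p)
    (hTsmul : ∀ (c : F) p, Sing Φ p → c ≠ 0 → T p ≤ T (c • p))
    (hgen : ∀ S : Subgroup G, (∀ p, p ≠ 0 → Sing Φ p → T p ≤ S) → S = ⊤)
    (H1 : ∀ p f f', HypPair Φ p f → HypPair Φ p f' →
      ∃ g : G, (∃ c : F, (ρ g).1 p = c • p) ∧ ∃ c : F, (ρ g).1 f = c • f')
    (H2 : ∀ p r, Sing Φ p → Sing Φ r → p ≠ 0 → r ∉ Submodule.span F {p} → Φ.B p r = 0 →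
      ∃ g : G, (∃ c : F, (ρ g).1 p = c • p) ∧ Φ.B r ((ρ g).1 r) ≠ 0)
    (N : Subgroup G) [hN : N.Normal] (n : G) (hn : n ∈ N) (p : V) (hp : Sing Φ p)
    (hnp : (ρ n).1 p ∉ Submodule.span F {p}) : commutator G ≤ N := by
  let R : V → V → Prop := fun u u' => ∃ n ∈ N, ∃ c : F, c ≠ 0 ∧ (ρ n).1 u = c • u'
  have Rsymm : ∀ u u', R u u' → R u' u := by
    rintro u u' ⟨n, hn, c, hc, h1⟩
    refine ⟨n⁻¹, N.inv_mem hn, c⁻¹, inv_ne_zero hc, ?_⟩
    rw [map_inv, Form.Isom.inv_apply_eq, map_smul, h1, smul_smul, inv_mul_cancel₀ hc, one_smul]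
  have Rtrans : ∀ u u' u'', R u u' → R u' u'' → R u u'' := by
    rintro u u' u'' ⟨n, hn, c, hc, h1⟩ ⟨n', hn', c', hc', h2⟩
    refine ⟨n' * n, N.mul_mem hn' hn, c * c', mul_ne_zero hc hc', ?_⟩
    rw [map_mul, Form.Isom.mul_apply, h1, map_smul, h2, smul_smul]
  have Rsmul : ∀ (c : F) u, c ≠ 0 → R u (c • u) := fun c u hc =>
    ⟨1, N.one_mem, c⁻¹, inv_ne_zero hc, by simp [smul_smul, hc]⟩
  have Rconj : ∀ (g : G) u u', R u u' → R ((ρ g).1 u) ((ρ g).1 u') := by
    rintro g u u' ⟨n, hn, c, hc, h1⟩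
    refine ⟨g * n * g⁻¹, hN.conj_mem n hn g, c, hc, ?_⟩
    simp only [map_mul, map_inv, Form.Isom.mul_apply, Form.Isom.inv_apply_apply, h1, map_smul]
  have hne : ∀ (g : G) {u u' : V} {c : F}, u ≠ 0 → (ρ g).1 u = c • u' → c ≠ 0 := by
    rintro g u u' c hu h1 rfl
    exact hu (by simpa using h1)
  have step1 : ∀ p r s, Sing Φ p → Sing Φ r → Sing Φ s → R p r → Φ.B p r ≠ 0 → Φ.B p s ≠ 0 →
      R p s := by
    intro p r s hp hr hs hR h1 h2
    have Hr : HypPair Φ p ((Φ.B p r)⁻¹ • r) :=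
      ⟨hp.1, (hr.smul _).1, by simp [h1], hp.2, (hr.smul _).2⟩
    have Hs : HypPair Φ p ((Φ.B p s)⁻¹ • s) :=
      ⟨hp.1, (hs.smul _).1, by simp [h2], hp.2, (hs.smul _).2⟩
    obtain ⟨g, ⟨c, hc⟩, d, hd⟩ := H1 _ _ _ Hr Hs
    have h3 := Rconj g _ _ (Rtrans _ _ _ hR (Rsmul _ _ (inv_ne_zero h1)))
    rw [hc, hd, smul_smul] at h3
    exact Rtrans _ _ _ (Rsmul _ _ (hne g Hr.e_ne_zero hc)) (Rtrans _ _ _ h3
      (Rsymm _ _ (Rsmul _ _ (mul_ne_zero (hne g Hr.f_ne_zero hd) (inv_ne_zero h2)))))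
  have step2 : ∀ p r, Sing Φ p → Sing Φ r → R p r → Φ.B p r ≠ 0 →
      ∀ s, Sing Φ s → s ≠ 0 → R p s := by
    intro p r hp hr hR h1 s hs hs0
    by_cases h2 : Φ.B p s = 0
    swap
    · exact step1 p r s hp hr hs hR h1 h2
    have hp0 : p ≠ 0 := by rintro rfl; simp at h1
    obtain ⟨w, -, hw1, hw2⟩ := h.exists_perp_two (H := ⊥) (u := p) (u' := s) (by simpa using hp0)
      (by simpa using hs0)
    have hpw : Φ.B p w ≠ 0 := by rw [Ne, Φ.B_eq_zero_comm, hw1]; exact one_ne_zero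
    obtain ⟨t, ht⟩ := hp.exists_add hpw
    have h3 : Φ.B p (w + t • p) ≠ 0 := by simpa [hp.1] using hpw
    have h4 := step1 p r _ hp hr ht hR h1 h3
    refine Rtrans _ _ _ h4 (step1 _ p s ht hp hs (Rsymm _ _ h4)
      (by rwa [Ne, Φ.B_eq_zero_comm]) ?_)
    simpa [h2] using hw2
  have hp0 : p ≠ 0 := by rintro rfl; simp at hnp
  have hall : ∃ p, Sing Φ p ∧ ∀ s, Sing Φ s → s ≠ 0 → R p s := by
    have hR : R p ((ρ n).1 p) := ⟨n, hn, 1, one_ne_zero, by simp⟩
    by_cases h1 : Φ.B p ((ρ n).1 p) = 0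
    · obtain ⟨g, ⟨c, hc⟩, hg⟩ := H2 p _ hp (hp.map _) hp0 hnp h1
      have h2 := Rconj g _ _ hR
      rw [hc] at h2
      exact ⟨_, hp.map _, step2 _ _ (hp.map _) ((hp.map _).map _)
        (Rtrans _ _ _ (Rsymm _ _ hR) (Rtrans _ _ _ (Rsmul _ _ (hne g hp0 hc)) h2)) hg⟩
    · exact ⟨p, hp, step2 _ _ hp (hp.map _) hR h1⟩
  obtain ⟨p, hp, hall⟩ := hall
  have htop : N ⊔ T p = ⊤ := hgen _ fun s hs0 hs t ht => by
    obtain ⟨n, hn, c, hc, h1⟩ := hall s hs hs0
    have h2 := hTsmul c s hs hc ht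
    rw [← h1] at h2
    have h3 := hTconj n p hp t h2
    have : t = n * (n⁻¹ * t * n) * n⁻¹ := by group
    rw [this]
    exact Subgroup.mul_mem _ (Subgroup.mul_mem _ (Subgroup.mem_sup_left hn)
      (Subgroup.mem_sup_right h3)) (Subgroup.mem_sup_left (N.inv_mem hn))
  exact Subgroup.Normal.commutator_le_of_self_sup_commutative_eq_top htop (hTcomm p hp)

/-- Simplicity of the central quotient from the normal subgroup structure. -/
theorem isSimpleGroup_quot_center {G : Type*} [Group G] (hnt : Subgroup.center G ≠ ⊤)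
    (hN : ∀ N : Subgroup G, N.Normal → N ≤ Subgroup.center G ∨ N = ⊤) :
    IsSimpleGroup (G ⧸ Subgroup.center G) := by
  have : Nontrivial (G ⧸ Subgroup.center G) := QuotientGroup.nontrivial_iff.2 hnt
  refine ⟨fun N hN' => ?_⟩
  rcases hN (N.comap (QuotientGroup.mk' _)) inferInstance with h | h
  · left
    rw [eq_bot_iff]
    intro x hx
    obtain ⟨x, rfl⟩ := QuotientGroup.mk'_surjective _ x
    exact (QuotientGroup.eq_one_iff _).2 (h hx)
  · right
    rw [eq_top_iff]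
    intro x _
    obtain ⟨x, rfl⟩ := QuotientGroup.mk'_surjective _ x
    exact (show x ∈ N.comap (QuotientGroup.mk' _) by rw [h]; trivial)

/-- Iwasawa's criterion for a group acting faithfully by isometries. -/
theorem normal_le_center_or_top [FiniteDimensional F V] (h : Φ.Nondeg) {G : Type*} [Group G]
    (ρ : G →* Φ.Isom) (hρ : Function.Injective ρ) (T : V → Subgroup G)
    (hTcomm : ∀ p, Sing Φ p → IsMulCommutative (T p))
    (hTconj : ∀ (g : G) p, Sing Φ p → ∀ t ∈ T ((ρ g).1 p), g⁻¹ * t * g ∈ T p)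
    (hTsmul : ∀ (c : F) p, Sing Φ p → c ≠ 0 → T p ≤ T (c • p))
    (hgen : ∀ S : Subgroup G, (∀ p, p ≠ 0 → Sing Φ p → T p ≤ S) → S = ⊤)
    (H1 : ∀ p f f', HypPair Φ p f → HypPair Φ p f' →
      ∃ g : G, (∃ c : F, (ρ g).1 p = c • p) ∧ ∃ c : F, (ρ g).1 f = c • f')
    (H2 : ∀ p r, Sing Φ p → Sing Φ r → p ≠ 0 → r ∉ Submodule.span F {p} → Φ.B p r = 0 →
      ∃ g : G, (∃ c : F, (ρ g).1 p = c • p) ∧ Φ.B r ((ρ g).1 r) ≠ 0)
    {e f : V} (H : HypPair Φ e f)
    (hW : hypPerp Φ e f ≠ ⊥ ∨ ∃ a : F, a ≠ 0 ∧ Sing Φ (a • e + f))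
    (hperf : commutator G = ⊤) (N : Subgroup G) (hN : N.Normal) :
    N ≤ Subgroup.center G ∨ N = ⊤ := by
  by_cases hmove : ∃ n ∈ N, ∃ p, Sing Φ p ∧ (ρ n).1 p ∉ Submodule.span F {p}
  · obtain ⟨n, hn, p, hp, hnp⟩ := hmove
    right
    rw [eq_top_iff, ← hperf]
    exact commutator_le_of_moves h ρ T hTcomm hTconj hTsmul hgen H1 H2 N n hn p hp hnp
  · left
    push Not at hmove
    intro n hn
    obtain ⟨c, hc⟩ := H.exists_scalar hW (ρ n) fun v hv => by
      obtain ⟨c, hc⟩ := Submodule.mem_span_singleton.1 (hmove n hn v hv)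
      exact ⟨c, hc.symm⟩
    exact mem_center_of_scalar ρ hρ hc

theorem card_center_mul_card_quot (G : Type*) [Group G] :
    Nat.card (Subgroup.center G) * Nat.card (G ⧸ Subgroup.center G) = Nat.card G := by
  rw [Subgroup.card_eq_card_quotient_mul_card_subgroup (Subgroup.center G), mul_comm]

/-- An isomorphism of groups restricts to the commutator subgroups. -/
def commutatorCongr {G H : Type*} [Group G] [Group H] (e : G ≃* H) : commutator G ≃* commutator H :=
  subgroupEquivOfMem e _ _ (mem_commutator_iff_equiv e)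

/-- An isomorphism of groups restricts to the centres. -/
theorem card_center_congr {G H : Type*} [Group G] [Group H] (e : G ≃* H) :
    Nat.card (Subgroup.center G) = Nat.card (Subgroup.center H) :=
  Nat.card_congr (Subgroup.centerCongr e).toEquiv

end General

end H7
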