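import Mathlib
import Cfsg.Agent.H7.Iwa

/-!
The centre, the order and the simplicity of `PΩ`.
-/

set_option autoImplicit false
set_option backward.isDefEq.respectTransparency false
set_option linter.unusedSectionVars false

namespace H7

open Module H15
open scoped commutatorElement

attribute [-simp] ofQuad_B

variable {F : Type*} [Field F] {V : Type*} [AddCommGroup V] [Module F V]
variable {Q : QuadraticForm F V}

theorem sing_ofQuad {v : V} : Sing (ofQuad Q) v ↔ Q v = 0 :=
  ⟨fun h => h.2, fun h => ⟨by change pol Q v v = 0; rw [pol_self, h, mul_zero], h⟩⟩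

theorem HypPair.quad_eq' {e f : V} (H : HypPair (ofQuad Q) e f) (a b : F)
    {w : V} (hw : w ∈ hypPerp (ofQuad Q) e f) : Q (a • e + b • f + w) = a * b + Q w := by
  simpa using H.Q_eq a b hw

variable [FiniteDimensional F V]

theorem HypPair.perp_ne_bot {σ : F →+* F} {Φ : Form σ V} {e f : V} (H : HypPair Φ e f)
    (h : Φ.Nondeg) (hn : 3 ≤ finrank F V) : hypPerp Φ e f ≠ ⊥ := by
  intro h0
  have := H.finrank_perp h
  rw [h0, finrank_bot] at this
  omega

theorem mem_span_of_fixed_eich (h : (ofQuad Q).Nondeg) (hn : 3 ≤ finrank F V) {u x : V}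
    (hu : Q u = 0) (hu0 : u ≠ 0) (hx : ∀ v huv, (eich Q u v hu huv).1 x = x) :
    ∃ c : F, x = c • u := by
  obtain ⟨f, H⟩ := (sing_ofQuad.2 hu).exists_hypPair h hu0
  have key : ∀ w ∈ hypPerp (ofQuad Q) u f, pol Q w x - Q w * pol Q u x = 0 ∧ pol Q u x • w = 0 := by
    intro w hw
    have h1 := hx w (mem_hypPerp.1 hw).1
    rw [eich_apply] at h1
    have := H.eq_of_eq (a := pol Q w x - Q w * pol Q u x) (b := 0) (a' := 0) (b' := 0)
      (Submodule.zero_mem _) (Submodule.smul_mem _ (pol Q u x) hw)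
      (by linear_combination (norm := module) h1)
    exact ⟨this.1, this.2.2.symm⟩
  obtain ⟨w, hw, hw0⟩ := Submodule.exists_mem_ne_zero_of_ne_bot (H.perp_ne_bot h hn)
  have h1 : pol Q u x = 0 := (smul_eq_zero.1 (key w hw).2).resolve_right hw0
  obtain ⟨a, b, w0, hw0, rfl⟩ := H.exists_eq x
  have hb : b = 0 := (H.B_e a b hw0).symm.trans h1
  have h2 : w0 = 0 := by
    have := (H.perp_nondeg h).right ⟨w0, hw0⟩ fun y => by
      have h3 := (key y y.2).1
      have h4 := mem_hypPerp.1 y.2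
      rw [h1, mul_zero, sub_zero, map_add, map_add, map_smul, map_smul, pol_comm Q y u,
        pol_comm Q y f] at h3
      simpa [show pol Q u y = 0 from h4.1, show pol Q f y = 0 from h4.2] using h3
    exact congrArg Subtype.val this
  exact ⟨a, by simp [hb, h2]⟩

theorem mem_center_omega_iff [Finite F] (h : (ofQuad Q).Nondeg) (h24 : NotTwoFour F V)
    (hn : 3 ≤ finrank F V) (g : commutator (ofQuad Q).Isom) :
    g ∈ Subgroup.center (commutator (ofQuad Q).Isom) ↔
      (∀ x, g.1.1 x = x) ∨ ∀ x, g.1.1 x = -x := by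
  constructor
  · intro hg
    obtain ⟨e, -, he, hQ⟩ := exists_singular Q (U := ⊤) (by rw [finrank_top]; omega)
    obtain ⟨f, H⟩ := (sing_ofQuad.2 hQ).exists_hypPair h he
    obtain ⟨c, hc⟩ := H.exists_scalar (Or.inl (H.perp_ne_bot h hn)) g.1 fun u hu => by
      by_cases hu0 : u = 0
      · exact ⟨0, by simp [hu0]⟩
      refine mem_span_of_fixed_eich h hn hu.2 hu0 fun v huv => ?_
      have h1 := Subgroup.mem_center_iff.1 hg ⟨_, eich_mem_commutator h h24 hu.2 huv⟩
      have h2 := congrArg (fun k : commutator (ofQuad Q).Isom => k.1.1 u) h1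
      simp only [Subgroup.coe_mul, LinearEquiv.mul_apply] at h2
      rw [h2, eich_apply, pol_comm Q v u, huv, show pol Q u u = 0 from hu.1]
      simp
    have h1 := Form.Isom.map_quad g.1 ((1 : F) • e + (1 : F) • f + 0)
    rw [hc, quad_smul, H.quad_eq' _ _ (Submodule.zero_mem _)] at h1
    have h2 : c * c = 1 := by simpa [sq] using h1
    rcases mul_self_eq_one_iff.1 h2 with rfl | rfl
    · left; simpa using hc
    · right; simpa using hc
  · rintro (hg | hg)
    · exact mem_center_of_scalar (Subgroup.subtype _) Subtype.val_injective (c := 1)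
        (by simpa using hg)
    · exact mem_center_of_scalar (Subgroup.subtype _) Subtype.val_injective (c := -1)
        (by simpa using hg)

theorem center_omega_eq_bot [Finite F] (h : (ofQuad Q).Nondeg) (h24 : NotTwoFour F V)
    (hn : 3 ≤ finrank F V)
    (h1 : (2 : F) = 0 ∨ ¬ ∃ g ∈ commutator (ofQuad Q).Isom, ∀ x, g.1 x = -x) :
    Subgroup.center (commutator (ofQuad Q).Isom) = ⊥ := by
  rw [eq_bot_iff]
  intro g hg
  rw [Subgroup.mem_bot]
  refine Subtype.ext (Form.Isom.ext fun x => ?_)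
  rcases (mem_center_omega_iff h h24 hn g).1 hg with h2 | h2
  · exact h2 x
  · rcases h1 with h1 | h1
    · rw [h2, neg_eq_iff_add_eq_zero]
      change x + x = 0
      rw [← two_smul F, h1, zero_smul]
    · exact absurd ⟨g.1, g.2, h2⟩ h1

theorem card_center_omega_eq_two [Finite F] (h : (ofQuad Q).Nondeg) (h2 : (2 : F) ≠ 0)
    (hn : 3 ≤ finrank F V) (h1 : ∃ g ∈ commutator (ofQuad Q).Isom, ∀ x, g.1 x = -x) :
    Nat.card (Subgroup.center (commutator (ofQuad Q).Isom)) = 2 := by
  obtain ⟨g, hg, hg'⟩ := h1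
  have h24 : NotTwoFour F V := notTwoFour_of_two_ne_zero h2
  rw [Nat.card_eq_two_iff' 1]
  refine ⟨⟨⟨g, hg⟩, (mem_center_omega_iff h h24 hn _).2 (Or.inr hg')⟩, fun h0 => ?_, fun k hk => ?_⟩
  · have : Nontrivial V := finrank_pos_iff.1 (show 0 < finrank F V by omega)
    obtain ⟨x, hx⟩ := exists_ne (0 : V)
    have h3 : g.1 x = x := congrArg (fun k : Subgroup.center (commutator (ofQuad Q).Isom) =>
      k.1.1.1 x) h0
    rw [hg', neg_eq_iff_add_eq_zero, ← two_smul F, smul_eq_zero] at h3
    exact h3.elim h2 hx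
  · rcases (mem_center_omega_iff h h24 hn _).1 k.2 with h3 | h3
    · exact absurd (Subtype.ext (Subtype.ext (Form.Isom.ext h3))) hk
    · exact Subtype.ext (Subtype.ext (Form.Isom.ext fun x => (h3 x).trans (hg' x).symm))

theorem neg_one_notMem_omega_of_odd (h : (ofQuad Q).Nondeg) (h2 : (2 : F) ≠ 0)
    (hn : Odd (finrank F V)) : ¬ ∃ g ∈ commutator (ofQuad Q).Isom, ∀ x, g.1 x = -x := by
  rintro ⟨g, hg, hg'⟩
  have h1 := Abelianization.commutator_subset_ker (ofQuad Q).det hg
  rw [MonoidHom.mem_ker, Units.ext_iff, Form.coe_det,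
    show (g.1 : V →ₗ[F] V) = (-1 : F) • LinearMap.id from LinearMap.ext fun x => by simp [hg'],
    LinearMap.det_smul, hn.neg_one_pow] at h1
  apply h2
  simp only [LinearMap.det_id, mul_one, Units.val_one] at h1
  linear_combination -h1

/-- `Ω` is perfect in dimension at least five. -/
theorem omega_perfect [Finite F] (h : (ofQuad Q).Nondeg) (hn : 5 ≤ finrank F V) :
    commutator (commutator (ofQuad Q).Isom) = ⊤ := by
  have h24 : NotTwoFour F V := Or.inr (by omega)
  rw [← Subgroup.map_subtype_inj, Subgroup.map_subtype_commutator, ← MonoidHom.range_eq_map,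
    Subgroup.range_subtype]
  refine le_antisymm (Subgroup.commutator_le_self _) ?_
  conv_lhs => rw [commutator_eq_closure_siegelSet h hn]
  rw [Subgroup.closure_le]
  rintro _ ⟨u, v, hu, huv, hv, rfl⟩
  have h1 : ∃ z ∈ hypPerp (ofQuad Q) u v, ∃ z' ∈ hypPerp (ofQuad Q) u v, pol Q z z' ≠ 0 := by
    by_contra hcon
    push Not at hcon
    have h2 : hypPerp (ofQuad Q) u v ≤ Submodule.span F {u} ⊔ Submodule.span F {v} := by
      rw [← h.perp_perp (Submodule.span F {u} ⊔ Submodule.span F {v})]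
      exact fun y hy x hx => hcon x hx y hy
    have h3 := Submodule.finrank_mono h2
    have h4 := h.finrank_perp (Submodule.span F {u} ⊔ Submodule.span F {v})
    have h5 := Submodule.finrank_add_le_finrank_add_finrank (Submodule.span F {u})
      (Submodule.span F {v})
    have h6 := finrank_span_le_card (R := F) ({u} : Set V)
    have h7 := finrank_span_le_card (R := F) ({v} : Set V)
    simp only [Set.toFinset_singleton, Finset.card_singleton] at h6 h7
    unfold hypPerp at h3
    omega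
  obtain ⟨z, hz, z', hz', hzz⟩ := h1
  obtain ⟨z', hz', hzz⟩ : ∃ z' ∈ hypPerp (ofQuad Q) u v, pol Q z z' = 1 :=
    ⟨(pol Q z z')⁻¹ • z', Submodule.smul_mem _ _ hz', by simp [hzz]⟩
  obtain ⟨huz, hvz⟩ : pol Q u z = 0 ∧ pol Q v z = 0 := mem_hypPerp.1 hz
  obtain ⟨huz', hvz'⟩ : pol Q u z' = 0 ∧ pol Q v z' = 0 := mem_hypPerp.1 hz'
  have e1 : (eich Q v z hv hvz).1 u = u := by
    rw [eich_apply, pol_comm Q z u, huz, pol_comm Q v u, huv]; simp
  have e2 : (eich Q v z hv hvz).1 z' = z' + v := by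
    rw [eich_apply, hzz, hvz']; simp
  have e3 : eich Q u v hu huv = ⁅(eich Q u z' hu huz')⁻¹, eich Q v z hv hvz⁆ := by
    have e4 := eich_conj Q (eich Q v z hv hvz) hu huz'
    have e5 := eich_add Q hu huz' huv (by rw [map_add, huz', huv, add_zero])
    simp only [e1, e2] at e4
    rw [commutatorElement_def, inv_inv, mul_assoc, mul_assoc, ← mul_assoc (eich Q v z hv hvz), e4,
      e5, inv_mul_cancel_left]
  rw [e3]
  exact Subgroup.commutator_mem_commutator
    (Subgroup.inv_mem _ (eich_mem_commutator h h24 hu huz')) (eich_mem_commutator h h24 hv hvz)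

variable (Q) in
/-- The group of Eichler transformations attached to a singular vector, inside `Ω`. -/
def eichGroup (p : V) : Subgroup (commutator (ofQuad Q).Isom) where
  carrier := {g | ∀ hp : Q p = 0, ∃ v hv, g.1 = eich Q p v hp hv}
  one_mem' hp := ⟨0, by simp, Form.Isom.ext fun x => by simp [eich_apply]⟩
  mul_mem' {a b} ha hb hp := by
    obtain ⟨v, hv, h1⟩ := ha hp
    obtain ⟨w, hw, h2⟩ := hb hp
    exact ⟨v + w, by rw [map_add, hv, hw, add_zero], by
      rw [Subgroup.coe_mul, h1, h2, eich_add Q hp hv hw]⟩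
  inv_mem' {a} ha hp := by
    obtain ⟨v, hv, h1⟩ := ha hp
    exact ⟨-v, by rw [map_neg, hv, neg_zero], by rw [Subgroup.coe_inv, h1, eich_neg]⟩

theorem omega_normal_le_center_or_top [Finite F] (h : (ofQuad Q).Nondeg) (hn : 5 ≤ finrank F V)
    (N : Subgroup (commutator (ofQuad Q).Isom)) (hN : N.Normal) :
    N ≤ Subgroup.center _ ∨ N = ⊤ := by
  have h24 : NotTwoFour F V := Or.inr (by omega)
  obtain ⟨e, -, he, hQ⟩ := exists_singular Q (U := ⊤) (by rw [finrank_top]; omega)
  obtain ⟨f, H⟩ := (sing_ofQuad.2 hQ).exists_hypPair h he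
  refine normal_le_center_or_top h (Subgroup.subtype _) Subtype.val_injective (eichGroup Q)
    (fun p hp => ⟨⟨fun a b => ?_⟩⟩) (fun g p hp t ht _ => ?_) (fun c p hp hc t ht _ => ?_)
    (fun S hS => ?_) (fun p f f' H H' => ?_) (fun p r hp hr hp0 hrp hpr => ?_) H
    (Or.inl (H.perp_ne_bot h (by omega))) (omega_perfect h hn) N hN
  · obtain ⟨v, hv, h1⟩ := a.2 hp.2
    obtain ⟨w, hw, h2⟩ := b.2 hp.2
    refine Subtype.ext (Subtype.ext ?_)
    simp only [Subgroup.coe_mul, h1, h2]
    rw [← eich_add Q hp.2 hv hw (by rw [map_add, hv, hw, add_zero]),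
      ← eich_add Q hp.2 hw hv (by rw [map_add, hv, hw, add_zero])]
    exact eich_congr Q _ _ (add_comm _ _)
  · obtain ⟨v, hv, h1⟩ := ht (hp.map _).2
    have h2 := eich_conj Q g.1⁻¹ (hp.map g.1).2 hv
    simp only [Form.Isom.inv_apply_apply, inv_inv] at h2
    exact ⟨_, _, by simpa [h1] using h2⟩
  · obtain ⟨v, hv, h1⟩ := ht hp.2
    have h2 : pol Q p (c • c⁻¹ • v) = 0 := by simp [hv]
    refine ⟨c⁻¹ • v, by simp [hv], ?_⟩
    rw [eich_smul_left Q c hp.2 h2, h1]
    exact eich_congr Q _ _ (by simp [smul_smul, hc])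
  · rw [← Subgroup.map_subtype_inj, ← MonoidHom.range_eq_map, Subgroup.range_subtype]
    refine le_antisymm (Subgroup.map_subtype_le _) ?_
    conv_lhs => rw [commutator_eq_closure_eichSet h h24 (by omega)]
    rw [Subgroup.closure_le]
    rintro _ ⟨u, v, hu, huv, rfl⟩
    by_cases hu0 : u = 0
    · subst hu0
      rw [eich_zero_left]; exact Subgroup.one_mem _
    · exact ⟨⟨_, eich_mem_commutator h h24 hu huv⟩,
        hS u hu0 (sing_ofQuad.2 hu) (fun _ => ⟨v, huv, rfl⟩), rfl⟩
  · obtain ⟨a, b, w, hw, rfl⟩ := H.exists_eq f'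
    have hb : b = 1 := (H.B_e a b hw).symm.trans H'.ef
    subst hb
    have ha : a * 1 + Q w = 0 := (H.quad_eq' a 1 hw).symm.trans H'.Qf
    obtain ⟨hw1, hw2⟩ : pol Q p w = 0 ∧ pol Q f w = 0 := mem_hypPerp.1 hw
    have h1 : pol Q p (-w) = 0 := by simp [hw1]
    refine ⟨⟨_, eich_mem_commutator h h24 H.Qe h1⟩, ⟨1, ?_⟩, 1, ?_⟩
    · simp [eich_apply, pol_comm Q w p, hw1, show pol Q p p = 0 from H.ee]
    · simp only [Subgroup.coe_subtype, eich_apply, map_neg, LinearMap.neg_apply, pol_comm Q w f, hw2,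
        show pol Q p f = 1 from H.ef, QuadraticMap.map_neg, show a = -Q w by linear_combination ha]
      module
  · obtain ⟨s, hs1, hs2, hs3, hs4⟩ := h.exists_hyp_partner hrp hr.1 hr.2 (fun x hx => by
      obtain ⟨c, rfl⟩ := Submodule.mem_span_singleton.1 hx
      simp [hpr])
    have hps : pol Q p s = 0 := hs1 p (Submodule.mem_span_singleton_self p)
    change pol Q r s = 1 at hs2
    change pol Q s s = 0 at hs3
    change pol Q p r = 0 at hpr
    have h1 : ∃ v ∈ (ofQuad Q).perp (Submodule.span F {p} ⊔ Submodule.span F {r} ⊔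
        Submodule.span F {s}), Q v ≠ 0 := by
      by_contra hcon
      push Not at hcon
      have h2 := (totSing_ofQuad Q).2 hcon
      have h3 := h2.le_perp
      rw [h.perp_perp] at h3
      have h4 : (ofQuad Q).perp (Submodule.span F {p} ⊔ Submodule.span F {r} ⊔
          Submodule.span F {s}) ≤ Submodule.span F {p} := by
        intro x hx
        obtain ⟨y, hy, z, hz, rfl⟩ := Submodule.mem_sup.1 (h3 hx)
        obtain ⟨y1, hy1, y2, hy2, rfl⟩ := Submodule.mem_sup.1 hy
        obtain ⟨a, rfl⟩ := Submodule.mem_span_singleton.1 hy1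
        obtain ⟨b, rfl⟩ := Submodule.mem_span_singleton.1 hy2
        obtain ⟨c, rfl⟩ := Submodule.mem_span_singleton.1 hz
        simp only [Form.perp_sup, Submodule.mem_inf, Form.mem_perp_singleton, map_add, map_smul,
          pol_comm Q r p, pol_comm Q s p, pol_comm Q s r, hpr, hps, hs2, hs3,
          show pol Q r r = 0 from hr.1, smul_eq_mul] at hx
        have hc : c = 0 := by simpa using hx.1.2
        have hb : b = 0 := by simpa using hx.2
        simpa [hb, hc] using hy1
      have h5 := Submodule.finrank_mono h4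
      have h6 := h.finrank_perp (Submodule.span F {p} ⊔ Submodule.span F {r} ⊔
        Submodule.span F {s})
      have h7 := Submodule.finrank_add_le_finrank_add_finrank (Submodule.span F {p})
        (Submodule.span F {r})
      have h8 := Submodule.finrank_add_le_finrank_add_finrank
        (Submodule.span F {p} ⊔ Submodule.span F {r}) (Submodule.span F {s})
      have h9 := finrank_span_le_card (R := F) ({p} : Set V)
      have h10 := finrank_span_le_card (R := F) ({r} : Set V)
      have h11 := finrank_span_le_card (R := F) ({s} : Set V)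
      simp only [Set.toFinset_singleton, Finset.card_singleton] at h9 h10 h11
      omega
    obtain ⟨v, hv, hQv⟩ := h1
    simp only [Form.perp_sup, Submodule.mem_inf, Form.mem_perp_singleton] at hv
    obtain ⟨⟨hv1, hv2⟩, hv3⟩ := hv
    refine ⟨⟨_, eich_mem_commutator h h24 hs4 hv3⟩, ⟨1, ?_⟩, ?_⟩
    · simp [eich_apply, pol_comm Q v p, pol_comm Q s p, hv1, hps]
    · simpa [eich_apply, pol_comm Q v r, pol_comm Q s r, hv2, hs2,
        show pol Q r r = 0 from hr.1] using hQv

theorem center_omega_ne_top [Finite F] (h : (ofQuad Q).Nondeg) (h24 : NotTwoFour F V)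
    (hn : 3 ≤ finrank F V) : Subgroup.center (commutator (ofQuad Q).Isom) ≠ ⊤ := by
  intro htop
  obtain ⟨e, -, he, hQ⟩ := exists_singular Q (U := ⊤) (by rw [finrank_top]; omega)
  obtain ⟨f, H⟩ := (sing_ofQuad.2 hQ).exists_hypPair h he
  obtain ⟨w, hw, hw0⟩ := Submodule.exists_mem_ne_zero_of_ne_bot (H.perp_ne_bot h hn)
  obtain ⟨hw1, hw2⟩ : pol Q e w = 0 ∧ pol Q f w = 0 := mem_hypPerp.1 hw
  have h1 := (mem_center_omega_iff h h24 hn ⟨_, eich_mem_commutator h h24 hQ hw1⟩).1
    (by rw [htop]; trivial)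
  have h2 : ∃ c : F, (eich Q e w hQ hw1).1 f = c • f := by
    rcases h1 with h1 | h1
    · exact ⟨1, by simpa using h1 f⟩
    · exact ⟨-1, by simpa using h1 f⟩
  obtain ⟨c, hc⟩ := h2
  rw [eich_apply, pol_comm Q w f, hw2, show pol Q e f = 1 from H.ef] at hc
  have := H.eq_of_eq (a := -Q w) (b := 1) (a' := 0) (b' := c) (Submodule.neg_mem _ hw)
    (Submodule.zero_mem _) (by linear_combination (norm := module) hc)
  exact hw0 (neg_eq_zero.1 this.2.2)

/-- `PΩ` is simple in dimension at least five. -/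
theorem pOmega_simple [Finite F] (h : (ofQuad Q).Nondeg) (hn : 5 ≤ finrank F V) :
    IsSimpleGroup (commutator (ofQuad Q).Isom ⧸ Subgroup.center (commutator (ofQuad Q).Isom)) :=
  isSimpleGroup_quot_center (center_omega_ne_top h (Or.inr (by omega)) (by omega))
    (omega_normal_le_center_or_top h hn)

section Std

variable {ι : Type} [Fintype ι] [DecidableEq ι]

/-- `Ω` of the Prelude as the commutator subgroup of the isometry group of `ofQuad Q`. -/
def omegaEquiv (Q : QuadraticForm F (ι → F)) : Cfsg.Omega F ⇑Q ≃* commutator (ofQuad Q).Isom :=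
  commutatorCongr (orthEquiv Q)

/-- `PΩ` of the Prelude as an abstract central quotient. -/
def pOmegaEquiv (Q : QuadraticForm F (ι → F)) : Cfsg.POmega F ⇑Q ≃*
    commutator (ofQuad Q).Isom ⧸ Subgroup.center (commutator (ofQuad Q).Isom) :=
  quotCenterCongr (omegaEquiv Q)

theorem POmega_simple [Finite F] (Q : QuadraticForm F (ι → F)) (h : (ofQuad Q).Nondeg)
    (hn : 5 ≤ Fintype.card ι) : IsSimpleGroup (Cfsg.POmega F ⇑Q) := by
  have := pOmega_simple h (by simpa using hn)
  exact (pOmegaEquiv Q).isSimpleGroup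

end Std

section Orders

variable [Fintype F]

theorem card_isom_eq (k : ℕ) (hk : (commutator (ofQuad Q).Isom).index = k) :
    k * (Nat.card (Subgroup.center (commutator (ofQuad Q).Isom)) *
      Nat.card (commutator (ofQuad Q).Isom ⧸ Subgroup.center (commutator (ofQuad Q).Isom))) =
      Nat.card (ofQuad Q).Isom := by
  rw [card_center_mul_card_quot, ← hk, mul_comm, Subgroup.card_mul_index]

theorem card_pOmega_odd (h2 : (2 : F) ≠ 0) (h : (ofQuad Q).Nondeg) (hn : 3 ≤ finrank F V)
    (hodd : Odd (finrank F V)) :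
    4 * Nat.card (commutator (ofQuad Q).Isom ⧸ Subgroup.center (commutator (ofQuad Q).Isom)) =
      Nat.card (ofQuad Q).Isom := by
  rw [← card_isom_eq 4 (index_commutator_odd h2 h (by omega)), center_omega_eq_bot h
    (notTwoFour_of_two_ne_zero h2) hn (Or.inr (neg_one_notMem_omega_of_odd h h2 hodd))]
  simp

theorem card_pOmega_even (h : (ofQuad Q).Nondeg) (h24 : NotTwoFour F V) (hn : 3 ≤ finrank F V)
    (N : ℕ) (hN : (2 : F) = 0 → Odd N) (hN' : (2 : F) ≠ 0 → Even N)
    (hN'' : (2 : F) ≠ 0 → ((∃ g ∈ commutator (ofQuad Q).Isom, ∀ x, g.1 x = -x) ↔ 4 ∣ N)) :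
    2 * (Nat.gcd 4 N *
      Nat.card (commutator (ofQuad Q).Isom ⧸ Subgroup.center (commutator (ofQuad Q).Isom))) =
      Nat.card (ofQuad Q).Isom := by
  by_cases h2 : (2 : F) = 0
  · have h3 : Nat.gcd 4 N = 1 := by
      have := Nat.odd_iff.1 (hN h2)
      exact (Nat.coprime_two_left.2 (hN h2)).pow_left 2
    rw [← card_isom_eq 2 (index_commutator_even h2 h h24 (by omega)),
      center_omega_eq_bot h h24 hn (Or.inl h2), h3]
    simp
  · rw [← card_isom_eq 4 (index_commutator_odd h2 h (by omega))]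
    by_cases h4 : 4 ∣ N
    · rw [card_center_omega_eq_two h h2 hn ((hN'' h2).2 h4), Nat.gcd_eq_left h4]
      ring
    · have h3 : Nat.gcd 4 N = 2 := by
        have h5 := Nat.even_iff.1 (hN' h2)
        rw [Nat.gcd_rec, show N % 4 = 2 by omega]
        rfl
      rw [center_omega_eq_bot h h24 hn (Or.inr (by rwa [hN'' h2])), h3]
      simp only [Subgroup.card_bot]
      ring

theorem card_POmega_odd (h2 : (2 : F) ≠ 0) (m : ℕ) (hm : 1 ≤ m) :
    2 * Nat.card (Cfsg.POmega F (Cfsg.quadFormOdd m F)) = Fintype.card F ^ (m ^ 2) *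
      ∏ i ∈ Finset.range m, (Fintype.card F ^ (2 * (i + 1)) - 1) := by
  have h1 := card_pOmega_odd h2 (qOdd_nondeg m h2) (by rw [finrank_odd]; omega)
    (by rw [finrank_odd]; exact odd_two_mul_add_one m)
  rw [card_isom_qOdd h2, ← Nat.card_congr (pOmegaEquiv (qOdd m F)).toEquiv] at h1
  apply Nat.eq_of_mul_eq_mul_left (show 0 < 2 by omega)
  rw [← mul_assoc, ← mul_assoc, ← h1]
  rfl

theorem even_card_of_two_eq_zero (h2 : (2 : F) = 0) : Even (Fintype.card F) := by
  rw [← Nat.not_odd_iff_even, card_odd_iff]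
  simpa using h2

theorem card_POmega_plus (m : ℕ) (hm : 1 ≤ m) (h24 : Fintype.card F ≠ 2 ∨ m ≠ 1) :
    Nat.gcd 4 (Fintype.card F ^ (m + 1) - 1) *
      Nat.card (Cfsg.POmega F (Cfsg.quadFormPlus (m + 1) F)) =
      Fintype.card F ^ ((m + 1) * m) * (Fintype.card F ^ (m + 1) - 1) *
        ∏ i ∈ Finset.range m, (Fintype.card F ^ (2 * (i + 1)) - 1) := by
  have hq : 1 ≤ Fintype.card F ^ (m + 1) := Nat.one_le_pow _ _ Fintype.card_pos
  have h1 := card_pOmega_even (qPlus_nondeg (m + 1) F)
    (notTwoFour_of_card (h24.imp_right fun h => by simp; omega)) (by rw [finrank_plus]; omega)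
    (Fintype.card F ^ (m + 1) - 1)
    (fun h2 => Nat.Even.sub_odd hq ((even_card_of_two_eq_zero h2).pow_of_ne_zero (by omega))
      odd_one)
    (fun h2 => Nat.Odd.sub_odd (card_odd_iff.2 h2).pow odd_one)
    (fun h2 => (neg_one_mem_omega_plus h2 (m + 1)).trans (by omega))
  rw [card_isom_qPlus, ← Nat.card_congr (pOmegaEquiv (qPlus (m + 1) F)).toEquiv] at h1
  apply Nat.eq_of_mul_eq_mul_left (show 0 < 2 by omega)
  rw [← mul_assoc 2 (_ * _), ← mul_assoc 2 (_ ^ _), ← h1]
  rfl

theorem card_POmega_minus (m : ℕ) (hm : 1 ≤ m) (h24 : Fintype.card F ≠ 2 ∨ m ≠ 1) {a b : F}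
    (hab : Aniso a b) :
    Nat.gcd 4 (Fintype.card F ^ (m + 1) + 1) *
      Nat.card (Cfsg.POmega F (Cfsg.quadFormMinus m F a b)) =
      Fintype.card F ^ ((m + 1) * m) * (Fintype.card F ^ (m + 1) + 1) *
        ∏ i ∈ Finset.range m, (Fintype.card F ^ (2 * (i + 1)) - 1) := by
  have h1 := card_pOmega_even (qMinus_nondeg m hab)
    (notTwoFour_of_card (h24.imp_right fun h => by simp; omega)) (by rw [finrank_minus]; omega)
    (Fintype.card F ^ (m + 1) + 1)
    (fun h2 => ((even_card_of_two_eq_zero h2).pow_of_ne_zero (by omega)).add_one)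
    (fun h2 => (card_odd_iff.2 h2).pow.add_one)
    (fun h2 => (neg_one_mem_omega_minus h2 m hab).trans (by omega))
  rw [card_isom_qMinus m hab, ← Nat.card_congr (pOmegaEquiv (qMinus m F a b)).toEquiv] at h1
  apply Nat.eq_of_mul_eq_mul_left (show 0 < 2 by omega)
  rw [← mul_assoc 2 (_ * _), ← mul_assoc 2 (_ ^ _), ← h1]
  rfl

end Orders

end H7
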