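import Mathlib
import Cfsg.Agent.H15.Transv
import Cfsg.Agent.H7.OmegaSimple

/-!
Centres, perfectness and simplicity of the symplectic and special unitary groups.
-/

set_option autoImplicit false
set_option backward.isDefEq.respectTransparency false
set_option linter.unusedSectionVars false

namespace H7

open Module H15
open scoped commutatorElement

section General

variable {F : Type*} [Field F] {σ : F →+* F} {V : Type*} [AddCommGroup V] [Module F V]
variable {Φ : Form σ V}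

variable (Φ) in
/-- The group of transvections with centre `p`. -/
def transvGroup (p : V) : Subgroup Φ.Isom where
  carrier := {g | Φ.B p p = 0 → ∃ c : F, ∀ v, g.1 v = v + (c * Φ.B p v) • p}
  one_mem' _ := ⟨0, fun v => by simp⟩
  mul_mem' {a b} ha hb hp := by
    obtain ⟨c, h1⟩ := ha hp
    obtain ⟨d, h2⟩ := hb hp
    refine ⟨c + d, fun v => ?_⟩
    simp only [Form.Isom.mul_apply, h1, h2, map_add, map_smul, hp]
    module
  inv_mem' {a} ha hp := by
    obtain ⟨c, h1⟩ := ha hp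
    refine ⟨-c, fun v => ?_⟩
    rw [Form.Isom.inv_apply_eq]
    simp only [h1, map_add, map_smul, hp]
    module

theorem card_center_eq_of_scalar [Nontrivial V] {G : Type*} [Group G] (ρ : G →* Φ.Isom)
    (hρ : Function.Injective ρ) (R : Subgroup Fˣ)
    (h1 : ∀ g ∈ Subgroup.center G, ∃ c ∈ R, ∀ v, (ρ g).1 v = (c : F) • v)
    (h2 : ∀ c ∈ R, ∃ g : G, ∀ v, (ρ g).1 v = (c : F) • v) :
    Nat.card (Subgroup.center G) = Nat.card R := by
  choose s hs using h2
  symm
  refine Nat.card_congr (Equiv.ofBijective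
    (fun c : R => ⟨s c.1 c.2, mem_center_of_scalar ρ hρ (hs c.1 c.2)⟩) ⟨?_, ?_⟩)
  · intro c d hcd
    obtain ⟨v, hv⟩ := exists_ne (0 : V)
    have h3 : s c.1 c.2 = s d.1 d.2 := congrArg Subtype.val hcd
    have h4 := hs c.1 c.2 v
    rw [h3, hs] at h4
    exact Subtype.ext (Units.ext (smul_left_injective F hv h4).symm)
  · intro g
    obtain ⟨c, hc, hg⟩ := h1 g.1 g.2
    exact ⟨⟨c, hc⟩, Subtype.ext (hρ (Form.Isom.ext fun v => by rw [hs, hg]))⟩

variable [FiniteDimensional F V]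

theorem exists_smul_of_commute_transv (h : Φ.Nondeg) {p : V} {c : F} (hc0 : c ≠ 0) {k : Φ.Isom}
    (hk : ∀ v, k.1 v = v + (c * Φ.B p v) • p) (g : Φ.Isom) (hg : g * k = k * g) :
    ∃ d : F, g.1 p = d • p := by
  by_cases hp : p = 0
  · exact ⟨0, by simp [hp]⟩
  obtain ⟨r, hr⟩ := h.exists_B_eq_one hp
  have := congrArg (fun k : Φ.Isom => k.1 r) hg
  simp only [Form.Isom.mul_apply, hk, hr, map_add, map_smul, mul_one, add_right_inj] at this
  refine ⟨Φ.B p (g.1 r), smul_right_injective V hc0 ?_⟩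
  simp only [this, smul_smul]

theorem exists_scalar_of_mem_center (h : Φ.Nondeg) {G : Type*} [Group G] (ρ : G →* Φ.Isom)
    {c : F} (hc0 : c ≠ 0)
    (hT : ∀ s, Sing Φ s → ∃ g : G, ∀ v, (ρ g).1 v = v + (c * Φ.B s v) • s)
    {e f : V} (H : HypPair Φ e f)
    (hW : hypPerp Φ e f ≠ ⊥ ∨ ∃ a : F, a ≠ 0 ∧ Sing Φ (a • e + f))
    {g : G} (hg : g ∈ Subgroup.center G) :
    ∃ d : Fˣ, (d : F) * σ d = 1 ∧ ∀ v, (ρ g).1 v = (d : F) • v := by
  obtain ⟨d, hd⟩ := H.exists_scalar hW (ρ g) fun s hs => by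
    obtain ⟨k, hk⟩ := hT s hs
    refine exists_smul_of_commute_transv h hc0 hk (ρ g) ?_
    rw [← map_mul, ← map_mul, Subgroup.mem_center_iff.1 hg]
  have h1 := Form.Isom.map_B (ρ g) e f
  rw [hd, hd, H.ef] at h1
  simp only [LinearMap.map_smulₛₗ, LinearMap.smul_apply, H.ef, smul_eq_mul, mul_one,
    RingHom.id_apply] at h1
  exact ⟨Units.mk0 d (left_ne_zero_of_mul_eq_one h1), h1, hd⟩

theorem center_ne_top_of_transv {G : Type*} [Group G] (h : Φ.Nondeg) (ρ : G →* Φ.Isom)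
    {c : F} (hc0 : c ≠ 0)
    (hT : ∀ s, Sing Φ s → ∃ g : G, ∀ v, (ρ g).1 v = v + (c * Φ.B s v) • s)
    {e f : V} (H : HypPair Φ e f)
    (hW : hypPerp Φ e f ≠ ⊥ ∨ ∃ a : F, a ≠ 0 ∧ Sing Φ (a • e + f)) : Subgroup.center G ≠ ⊤ := by
  intro htop
  obtain ⟨g, hg⟩ := hT e H.sing_e
  obtain ⟨d, -, hd⟩ := exists_scalar_of_mem_center h ρ hc0 hT H hW
    (show g ∈ Subgroup.center G by rw [htop]; trivial)
  have h1 := hg f
  rw [hd, H.ef] at h1
  have := H.eq_of_eq (a := 0) (b := d) (a' := c) (b' := 1) (Submodule.zero_mem _)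
    (Submodule.zero_mem _) (by linear_combination (norm := module) h1)
  exact hc0 this.1.symm

theorem normal_le_center_or_top_of_transv (h : Φ.Nondeg) {G : Type*} [Group G]
    (ρ : G →* Φ.Isom) (hρ : Function.Injective ρ) (hQ : ∀ x, Φ.Q x = 0) {c : F} (hc0 : c ≠ 0)
    (hT : ∀ s, Sing Φ s → ∃ g : G, ∀ v, (ρ g).1 v = v + (c * Φ.B s v) • s)
    (hgen : Subgroup.closure (ρ ⁻¹' Φ.transvSet) = ⊤)
    (H1 : ∀ p f f', HypPair Φ p f → HypPair Φ p f' → ∃ g : G, (ρ g).1 p = p ∧ (ρ g).1 f = f')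
    {e f : V} (H : HypPair Φ e f)
    (hW : hypPerp Φ e f ≠ ⊥ ∨ ∃ a : F, a ≠ 0 ∧ Sing Φ (a • e + f))
    (hperf : commutator G = ⊤) (N : Subgroup G) (hN : N.Normal) :
    N ≤ Subgroup.center G ∨ N = ⊤ := by
  refine normal_le_center_or_top h ρ hρ (fun p => (transvGroup Φ p).comap ρ)
    (fun p hp => ⟨⟨fun a b => ?_⟩⟩) (fun g p hp t ht _ => ?_) (fun d p hp hd t ht _ => ?_)
    (fun S hS => ?_) (fun p f f' H H' => ?_) (fun p r hp hr hp0 hrp hpr => ?_) H hW hperf N hN
  · obtain ⟨c, h1⟩ := a.2 hp.1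
    obtain ⟨d, h2⟩ := b.2 hp.1
    refine Subtype.ext (hρ (Form.Isom.ext fun v => ?_))
    change (ρ (a.1 * b.1)).1 v = (ρ (b.1 * a.1)).1 v
    simp only [map_mul, Form.Isom.mul_apply, h1, h2, map_add, map_smul, hp.1]
    module
  · obtain ⟨c, h1⟩ := ht (hp.map _).1
    have h2 := Φ.conj_dil_apply (ρ g)⁻¹ (ρ t) h1
    simp only [Form.Isom.inv_apply_apply, inv_inv] at h2
    exact ⟨c, by simpa only [map_mul, map_inv] using h2⟩
  · obtain ⟨c, h1⟩ := ht hp.1
    refine ⟨c / (σ d * d), fun v => ?_⟩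
    have : σ d ≠ 0 := (map_ne_zero σ).2 hd
    rw [h1]
    simp only [LinearMap.map_smulₛₗ, LinearMap.smul_apply, smul_eq_mul, smul_smul]
    congr 2
    field_simp
  · rw [eq_top_iff, ← hgen, Subgroup.closure_le]
    rintro g ⟨p, c, hp, hg⟩
    by_cases hp0 : p = 0
    · rw [show g = 1 from hρ (Form.Isom.ext fun v => by simp [hg, hp0])]
      exact S.one_mem
    · exact hS p hp0 ⟨hp, hQ p⟩ fun _ => ⟨c, hg⟩
  · obtain ⟨g, h1, h2⟩ := H1 p f f' H H'
    exact ⟨g, ⟨1, by simpa using h1⟩, 1, by simpa using h2⟩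
  · obtain ⟨s, hs1, hs2, hs3, hs4⟩ := h.exists_hyp_partner hrp hr.1 hr.2 (fun x hx => by
      obtain ⟨c, rfl⟩ := Submodule.mem_span_singleton.1 hx
      simp [hpr])
    obtain ⟨g, hg⟩ := hT s ⟨hs3, hs4⟩
    refine ⟨g, ⟨1, ?_⟩, ?_⟩
    · simp [hg, Φ.B_eq_zero_comm.1 (hs1 p (Submodule.mem_span_singleton_self p))]
    · simp [hg, hr.1, hs2, Φ.B_symm_one hs2, hc0, Φ.eps_ne_zero]

theorem HypPair.exists_isom {p f f' : V} (H : HypPair Φ p f) (H' : HypPair Φ p f')
    (h : Φ.Nondeg) : ∃ g : Φ.Isom, g.1 p = p ∧ g.1 f = f' := by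
  obtain ⟨g, h1, h2⟩ := h.key (Submodule.span F {p}) H.f_notMem H'.f_notMem (fun x hx => by
    obtain ⟨c, rfl⟩ := Submodule.mem_span_singleton.1 hx
    simp [H.ef, H'.ef]) (by rw [H.ff, H'.ff]) (by rw [H.Qf, H'.Qf])
  exact ⟨g, h1 p (Submodule.mem_span_singleton_self p), h2⟩

theorem exists_scalar_isom (h : Φ.Nondeg) (hQ : ∀ x, Φ.Q x = 0) {c : F} (hc : c * σ c = 1) :
    ∃ g : Φ.Isom, (∀ v, g.1 v = c • v) ∧ (Φ.det g : F) = c ^ finrank F V := by
  refine ⟨Φ.mkIsom h (c • LinearMap.id) (fun x y => ?_) (fun x => by rw [hQ, hQ]), fun _ => rfl, ?_⟩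
  · simp only [LinearMap.smul_apply, LinearMap.id_apply, LinearMap.map_smulₛₗ, smul_eq_mul,
      RingHom.id_apply]
    rw [← mul_assoc, hc, one_mul]
  · rw [Form.coe_det, Form.mkIsom_coe, LinearMap.det_smul, LinearMap.det_id, mul_one]

theorem det_of_scalar (g : Φ.Isom) {c : F} (hg : ∀ v, g.1 v = c • v) :
    (Φ.det g : F) = c ^ finrank F V := by
  rw [Form.coe_det, show (g.1 : V →ₗ[F] V) = c • LinearMap.id from LinearMap.ext hg,
    LinearMap.det_smul, LinearMap.det_id, mul_one]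

end General

/-! ### Symplectic groups -/

section Alt

variable {F : Type*} [Field F] {V : Type*} [AddCommGroup V] [Module F V] [FiniteDimensional F V]
variable {Φ : Form (RingHom.id F) V}

omit [FiniteDimensional F V] in
theorem alt_swap (hA : Φ.IsAlt) (x y : V) : Φ.B y x = -Φ.B x y := by
  have := hA.1 (x + y)
  simp only [map_add, LinearMap.add_apply, hA.1] at this
  linear_combination this

/-- The symplectic transvection `v ↦ v + c B(p, v) p`. -/
noncomputable def altT (h : Φ.Nondeg) (hA : Φ.IsAlt) (p : V) (c : F) : Φ.Isom :=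
  Φ.mkIsom h (Φ.dil p c) (fun x y => by
    simp only [Form.dil_apply, map_add, map_smul, LinearMap.add_apply, LinearMap.smul_apply,
      smul_eq_mul, hA.1 p, alt_swap hA p x]
    ring) (fun x => by rw [hA.2, hA.2])

theorem altT_apply (h : Φ.Nondeg) (hA : Φ.IsAlt) (p : V) (c : F) (v : V) :
    (altT h hA p c).1 v = v + (c * Φ.B p v) • p := Φ.dil_apply p c v

theorem alt_hW (hA : Φ.IsAlt) (e f : V) :
    hypPerp Φ e f ≠ ⊥ ∨ ∃ a : F, a ≠ 0 ∧ Sing Φ (a • e + f) :=
  Or.inr ⟨1, one_ne_zero, hA.1 _, hA.2 _⟩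

theorem alt_exists_hypPair (h : Φ.Nondeg) (hA : Φ.IsAlt) (hn : 1 ≤ finrank F V) :
    ∃ e f, HypPair Φ e f := by
  have : Nontrivial V := finrank_pos_iff.1 (show 0 < finrank F V by omega)
  obtain ⟨e, he⟩ := exists_ne (0 : V)
  exact ⟨e, exists_hypPair h he (hA.1 e) (hA.2 e)⟩

theorem card_center_alt [Fintype F] (h : Φ.Nondeg) (hA : Φ.IsAlt) (hn : 1 ≤ finrank F V) :
    Nat.card (Subgroup.center Φ.Isom) = Nat.gcd 2 (Fintype.card F - 1) := by
  have : Nontrivial V := finrank_pos_iff.1 (show 0 < finrank F V by omega)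
  obtain ⟨e, f, H⟩ := alt_exists_hypPair h hA hn
  rw [← card_rootsOfUnity rfl]
  refine card_center_eq_of_scalar (MonoidHom.id _) Function.injective_id _ (fun g hg => ?_)
    (fun c hc => ?_)
  · obtain ⟨d, hd, hg⟩ := exists_scalar_of_mem_center h (MonoidHom.id _) one_ne_zero
      (fun s _ => ⟨altT h hA s 1, altT_apply h hA s 1⟩) H (alt_hW hA e f) hg
    exact ⟨d, by rw [mem_rootsOfUnity']; simpa [sq] using hd, hg⟩
  · rw [mem_rootsOfUnity'] at hc
    obtain ⟨g, hg, -⟩ := exists_scalar_isom h hA.2 (c := c) (by simpa [sq] using hc)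
    exact ⟨g, hg⟩

theorem alt_perfect (h : Φ.Nondeg) (hA : Φ.IsAlt)
    (hn : 6 ≤ finrank F V ∨ (4 ≤ finrank F V ∧ ∃ a : F, a ≠ 0 ∧ a ≠ 1) ∨
      ∃ a : F, a ≠ 0 ∧ a ^ 2 ≠ 1) : commutator Φ.Isom = ⊤ := by
  let π := Abelianization.of (G := Φ.Isom)
  have hconj : ∀ p p' c, p ≠ 0 → p' ≠ 0 → π (altT h hA p c) = π (altT h hA p' c) := by
    intro p p' c hp hp'
    obtain ⟨g, rfl⟩ := h.witt_one hp hp' (by rw [hA.1, hA.1]) (by rw [hA.2, hA.2])
    have : altT h hA (g.1 p) c = g * altT h hA p c * g⁻¹ := Form.Isom.ext fun v => by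
      rw [Φ.conj_dil_apply g _ (altT_apply h hA p c), altT_apply]
    rw [this, map_mul, map_mul, mul_right_comm, ← map_mul, mul_inv_cancel, map_one, one_mul]
  have hadd : ∀ p c d, altT h hA p (c + d) = altT h hA p c * altT h hA p d := fun p c d =>
    Form.Isom.ext fun v => by
      simp only [Form.Isom.mul_apply, altT_apply, map_add, map_smul, hA.1 p]
      module
  have case3 : (∃ a : F, a ≠ 0 ∧ a ^ 2 ≠ 1) → ∀ p c, p ≠ 0 → π (altT h hA p c) = 1 := by
    rintro ⟨a, ha, ha2⟩ p c hp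
    have h1 : altT h hA (a • p) (c / (a ^ 2 - 1)) = altT h hA p (c + c / (a ^ 2 - 1)) :=
      Form.Isom.ext fun v => by
        have := sub_ne_zero.2 ha2
        simp only [altT_apply, map_smul, LinearMap.smul_apply, smul_eq_mul, smul_smul]
        congr 2
        field_simp
        ring
    have h2 := hconj _ _ (c / (a ^ 2 - 1)) (smul_ne_zero ha hp) hp
    rw [h1, hadd, map_mul] at h2
    exact mul_eq_right.1 h2
  have key : ∀ p c, p ≠ 0 → π (altT h hA p c) = 1 := by
    obtain ⟨k, e, f, H, hk⟩ := hA.exists_hyp h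
    rcases hn with hn | ⟨hn, a, ha0, ha1⟩ | hn
    · intro p c hp
      obtain ⟨i, j, l, hij, hil, hjl⟩ : ∃ i j l : Fin k, i ≠ j ∧ i ≠ l ∧ j ≠ l :=
        ⟨⟨0, by omega⟩, ⟨1, by omega⟩, ⟨2, by omega⟩, by simp, by simp, by simp⟩
      have hne : ∀ (x : V) (m : Fin k), Φ.B x (f m) = 1 → x ≠ 0 := by
        rintro x m hx rfl
        simp at hx
      have h1 : altT h hA (e i + e j + e l) c * altT h hA (e i) c * altT h hA (e j) c *
          altT h hA (e l) c =
          altT h hA (e i + e j) c * altT h hA (e i + e l) c * altT h hA (e j + e l) c :=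
        Form.Isom.ext fun v => by
          simp only [Form.Isom.mul_apply, altT_apply, map_add, map_smul, H.ee,
            LinearMap.add_apply]
          module
      have h2 := congrArg π h1
      simp only [map_mul] at h2
      rw [hconj _ p c (hne _ i (by simp [H.ef, hij.symm, hil.symm])) hp,
        hconj (e i) p c (hne _ i (by simp [H.ef])) hp,
        hconj (e j) p c (hne _ j (by simp [H.ef])) hp,
        hconj (e l) p c (hne _ l (by simp [H.ef])) hp,
        hconj (e i + e j) p c (hne _ i (by simp [H.ef, hij.symm])) hp,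
        hconj (e i + e l) p c (hne _ i (by simp [H.ef, hil.symm])) hp,
        hconj (e j + e l) p c (hne _ j (by simp [H.ef, hjl.symm])) hp] at h2
      exact mul_eq_left.1 h2
    · by_cases h2 : (2 : F) = 0
      · refine case3 ⟨a, ha0, fun h3 => ha1 ?_⟩
        have : (a - 1) ^ 2 = 0 := by linear_combination h3 + (1 - a) * h2
        exact sub_eq_zero.1 (pow_eq_zero_iff two_ne_zero |>.1 this)
      intro p c hp
      obtain ⟨i, j, hij⟩ : ∃ i j : Fin k, i ≠ j := ⟨⟨0, by omega⟩, ⟨1, by omega⟩, by simp⟩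
      have hne : ∀ (x : V) (m : Fin k), Φ.B x (f m) = 1 → x ≠ 0 := by
        rintro x m hx rfl
        simp at hx
      have h1 : altT h hA (e i + e j) (c / 2) * altT h hA (e i - e j) (c / 2) =
          altT h hA (e i) c * altT h hA (e j) c :=
        Form.Isom.ext fun v => by
          simp only [Form.Isom.mul_apply, altT_apply, map_add, map_sub, map_smul, H.ee,
            LinearMap.add_apply, LinearMap.sub_apply]
          match_scalars <;> field_simp <;> ring
      have h3 := congrArg π h1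
      simp only [map_mul] at h3
      rw [hconj _ p _ (hne _ i (by simp [H.ef, hij.symm])) hp,
        hconj (e i - e j) p _ (hne _ i (by simp [H.ef, hij.symm])) hp,
        hconj (e i) p c (hne _ i (by simp [H.ef])) hp,
        hconj (e j) p c (hne _ j (by simp [H.ef])) hp, ← map_mul, ← hadd,
        show c / 2 + c / 2 = c by field_simp; ring] at h3
      exact (left_eq_mul.1 h3)
    · exact case3 hn
  rw [eq_top_iff, ← hA.closure_transvSet h, Subgroup.closure_le]
  rintro g ⟨p, c, -, hg⟩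
  rw [SetLike.mem_coe, ← Abelianization.ker_of, MonoidHom.mem_ker]
  by_cases hp : p = 0
  · rw [show g = 1 from Form.Isom.ext fun v => by simp [hg, hp], map_one]
  · rw [show g = altT h hA p c from Form.Isom.ext fun v => by rw [hg, altT_apply]]
    exact key p c hp

theorem alt_normal_le_center_or_top (h : Φ.Nondeg) (hA : Φ.IsAlt) (hn : 1 ≤ finrank F V)
    (hperf : commutator Φ.Isom = ⊤) (N : Subgroup Φ.Isom) (hN : N.Normal) :
    N ≤ Subgroup.center _ ∨ N = ⊤ := by
  obtain ⟨e, f, H⟩ := alt_exists_hypPair h hA hn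
  exact normal_le_center_or_top_of_transv h (MonoidHom.id _) Function.injective_id hA.2 one_ne_zero
    (fun s _ => ⟨altT h hA s 1, altT_apply h hA s 1⟩) (hA.closure_transvSet h)
    (fun p f f' H H' => H.exists_isom H' h) H (alt_hW hA e f) hperf N hN

theorem alt_quot_center_simple (h : Φ.Nondeg) (hA : Φ.IsAlt) (hn : 1 ≤ finrank F V)
    (hperf : commutator Φ.Isom = ⊤) : IsSimpleGroup (Φ.Isom ⧸ Subgroup.center Φ.Isom) := by
  obtain ⟨e, f, H⟩ := alt_exists_hypPair h hA hn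
  exact isSimpleGroup_quot_center (center_ne_top_of_transv h (MonoidHom.id _) one_ne_zero
    (fun s _ => ⟨altT h hA s 1, altT_apply h hA s 1⟩) H (alt_hW hA e f))
    (alt_normal_le_center_or_top h hA hn hperf)

theorem commutator_eq_top_of_equiv {G H : Type*} [Group G] [Group H] (e : G ≃* H)
    (h : commutator H = ⊤) : commutator G = ⊤ := by
  rw [eq_top_iff]
  intro g _
  rw [mem_commutator_iff_equiv e, h]
  trivial

theorem exists_sq_ne_one_of_card {F : Type*} [Field F] [Fintype F] (h : 4 ≤ Fintype.card F) :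
    ∃ a : F, a ≠ 0 ∧ a ^ 2 ≠ 1 := by
  classical
  by_contra hcon
  push Not at hcon
  have h1 : (Finset.univ : Finset F) ⊆ {0, 1, -1} := fun a _ => by
    by_cases ha : a = 0
    · simp [ha]
    · rcases mul_self_eq_one_iff.1 ((sq a).symm.trans (hcon a ha)) with h | h <;> simp [h]
  have h2 := Finset.card_le_card h1
  have h3 := Finset.card_le_three (a := (0 : F)) (b := 1) (c := -1)
  rw [Finset.card_univ] at h2
  omega

theorem sp_perfect {F : Type*} [Field F] [Fintype F] (m : ℕ)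
    (h : 3 ≤ m ∨ (m = 2 ∧ 3 ≤ Fintype.card F) ∨ 4 ≤ Fintype.card F) :
    commutator (Matrix.symplecticGroup (Fin m) F) = ⊤ := by
  refine commutator_eq_top_of_equiv (spEquiv m F)
    (alt_perfect (spForm_nondeg m F) (spForm_isAlt m) ?_)
  rw [finrank_sum_fun]
  rcases h with h | ⟨h1, h2⟩ | h
  · left; omega
  · exact Or.inr (Or.inl ⟨by omega, exists_ne_zero_one_of_card (by omega)⟩)
  · exact Or.inr (Or.inr (exists_sq_ne_one_of_card h))

theorem card_center_sp {F : Type*} [Field F] [Fintype F] (m : ℕ) (hm : 1 ≤ m) :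
    Nat.card (Subgroup.center (Matrix.symplecticGroup (Fin m) F)) =
      Nat.gcd 2 (Fintype.card F - 1) := by
  rw [card_center_congr (spEquiv m F)]
  exact card_center_alt (spForm_nondeg m F) (spForm_isAlt m) (by rw [finrank_sum_fun]; omega)

theorem card_psp {F : Type*} [Field F] [Fintype F] (m : ℕ) (hm : 1 ≤ m) :
    Nat.gcd 2 (Fintype.card F - 1) * Nat.card (Cfsg.PSp m F) = Fintype.card F ^ (m ^ 2) *
      ∏ i ∈ Finset.range m, (Fintype.card F ^ (2 * (i + 1)) - 1) := by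
  rw [← card_center_sp m hm, card_center_mul_card_quot, card_sp]

theorem sp_normal_le_center_or_top {F : Type*} [Field F] [Fintype F] (m : ℕ) (hm : 1 ≤ m)
    (h : 3 ≤ m ∨ (m = 2 ∧ 3 ≤ Fintype.card F) ∨ 4 ≤ Fintype.card F) :
    IsSimpleGroup (Cfsg.PSp m F) := by
  have := alt_quot_center_simple (spForm_nondeg m F) (spForm_isAlt m)
    (by rw [finrank_sum_fun]; omega)
    (commutator_eq_top_of_equiv (spEquiv m F).symm (sp_perfect m h))
  exact (quotCenterCongr (spEquiv m F)).isSimpleGroup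

theorem psp_simple {F : Type*} [Field F] [Fintype F] (m : ℕ) (hm : 2 ≤ m)
    (h : m = 2 → 3 ≤ Fintype.card F) : IsSimpleGroup (Cfsg.PSp m F) :=
  sp_normal_le_center_or_top m (by omega) (by omega)

end Alt

/-! ### Unitary groups -/

section Herm

variable {F : Type*} [Field F] {σ : F →+* F} {V : Type*} [AddCommGroup V] [Module F V]
  [FiniteDimensional F V] {Φ : Form σ V}

theorem herm_exists_transv (h : Φ.Nondeg) (hH : Φ.IsHerm) :
    ∃ c : F, c ≠ 0 ∧ c + σ c = 0 ∧ ∀ s, Sing Φ s → ∃ g : Φ.det.ker,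
      ∀ v, (Φ.det.ker.subtype g).1 v = v + (c * Φ.B s v) • s := by
  obtain ⟨c, hc0, hc⟩ := exists_trace_zero σ hH.1 Φ.invol
  refine ⟨c, hc0, hc, fun s hs => ?_⟩
  obtain ⟨g, hg, hg'⟩ := hH.exists_transv h hs.1 hc
  exact ⟨⟨g, Φ.closure_transvSet_le_det_ker hg⟩, hg'⟩

omit [FiniteDimensional F V] in
theorem herm_hW (hH : Φ.IsHerm) {e f : V} (H : HypPair Φ e f) :
    hypPerp Φ e f ≠ ⊥ ∨ ∃ a : F, a ≠ 0 ∧ Sing Φ (a • e + f) := by
  obtain ⟨c, hc0, hc⟩ := exists_trace_zero σ hH.1 Φ.invol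
  refine Or.inr ⟨c, hc0, ?_, hH.2.2 _⟩
  simp only [map_add, LinearMap.map_smulₛₗ, LinearMap.add_apply, LinearMap.smul_apply, H.ee, H.ff,
    H.ef, H.fe, hH.2.1, smul_eq_mul, RingHom.id_apply]
  linear_combination hc

theorem herm_exists_hypPair [Finite F] (h : Φ.Nondeg) (hH : Φ.IsHerm) (hn : 2 ≤ finrank F V) :
    ∃ e f, HypPair Φ e f := by
  obtain ⟨e, -, he, hee⟩ := hH.exists_isotropic (U := ⊤) (by rwa [finrank_top])
  exact ⟨e, exists_hypPair h he hee (hH.2.2 e)⟩

theorem herm_perfect [Finite F] (h : Φ.Nondeg) (hH : Φ.IsHerm) (hn : Φ.NotSU32) :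
    commutator Φ.det.ker = ⊤ := by
  rw [eq_top_iff, ← closure_preimage_subtype_eq_top (hH.closure_transvSet h hn),
    Subgroup.closure_le]
  intro g hg
  rw [commutator_eq_closure]
  exact Subgroup.subset_closure (hH.transv_mem_commutatorSet h
    (by rcases hn with hn | hn <;> omega) g hg)

theorem herm_normal_le_center_or_top [Finite F] (h : Φ.Nondeg) (hH : Φ.IsHerm) (hn : Φ.NotSU32)
    (N : Subgroup Φ.det.ker) (hN : N.Normal) : N ≤ Subgroup.center _ ∨ N = ⊤ := by
  have hn3 : 3 ≤ finrank F V := by rcases hn with hn | hn <;> omega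
  obtain ⟨e, f, H⟩ := herm_exists_hypPair h hH (by omega)
  obtain ⟨c, hc0, -, hT⟩ := herm_exists_transv h hH
  refine normal_le_center_or_top_of_transv h Φ.det.ker.subtype Subtype.val_injective hH.2.2 hc0 hT
    (closure_preimage_subtype_eq_top (hH.closure_transvSet h hn)) (fun p f f' H H' => ?_) H
    (herm_hW hH H) (herm_perfect h hH hn) N hN
  obtain ⟨g, h1, h2⟩ := H.exists_isom H' h
  obtain ⟨u, hu, huu⟩ := hH.exists_unit (h.disjoint_perp_perp H.disjoint) (H.perp_ne_bot h hn3)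
  have h3 := Φ.det_mul_sigma_det h g⁻¹
  obtain ⟨k, hk⟩ := hH.exists_dil h u (c := Φ.det g⁻¹ - 1) (by
    rw [huu, map_sub, map_one]; linear_combination h3)
  obtain ⟨hu1, hu2⟩ := mem_hypPerp.1 hu
  refine ⟨⟨g * k, ?_⟩, ?_, ?_⟩
  · rw [MonoidHom.mem_ker, map_mul, show Φ.det k = Φ.det g⁻¹ from
      Units.ext (by rw [Φ.det_of_dil hk, huu]; ring), map_inv, mul_inv_cancel]
  · simp [hk, Φ.B_eq_zero_comm.1 hu1, h1]
  · simp [hk, Φ.B_eq_zero_comm.1 hu2, h2]

theorem herm_quot_center_simple [Finite F] (h : Φ.Nondeg) (hH : Φ.IsHerm) (hn : Φ.NotSU32) :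
    IsSimpleGroup (Φ.det.ker ⧸ Subgroup.center Φ.det.ker) := by
  obtain ⟨e, f, H⟩ := herm_exists_hypPair h hH (by rcases hn with hn | hn <;> omega)
  obtain ⟨c, hc0, -, hT⟩ := herm_exists_transv h hH
  exact isSimpleGroup_quot_center (center_ne_top_of_transv h _ hc0 hT H (herm_hW hH H))
    (herm_normal_le_center_or_top h hH hn)

end Herm

section Herm2

variable {F : Type*} [Field F] [Fintype F] {q : ℕ} (hF : Fintype.card F = q ^ 2)

theorem card_center_herm {V : Type*} [AddCommGroup V] [Module F V] [FiniteDimensional F V]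
    {Φ : Form (frob hF) V} (h : Φ.Nondeg) (hH : Φ.IsHerm) (hn : 2 ≤ finrank F V) :
    Nat.card (Subgroup.center Φ.det.ker) = Nat.gcd (finrank F V) (q + 1) := by
  have : Nontrivial V := finrank_pos_iff.1 (show 0 < finrank F V by omega)
  obtain ⟨e, f, H⟩ := herm_exists_hypPair h hH hn
  obtain ⟨c, hc0, -, hT⟩ := herm_exists_transv h hH
  have h1 : Nat.card (rootsOfUnity (Nat.gcd (finrank F V) (q + 1)) F) =
      Nat.gcd (finrank F V) (q + 1) := by
    rw [card_rootsOfUnity hF]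
    apply Nat.gcd_eq_left
    refine (Nat.gcd_dvd_right _ _).trans ⟨q - 1, ?_⟩
    simpa using Nat.sq_sub_sq q 1
  rw [← h1]
  refine card_center_eq_of_scalar Φ.det.ker.subtype Subtype.val_injective _ (fun g hg => ?_)
    (fun d hd => ?_)
  · obtain ⟨d, hd, hg'⟩ := exists_scalar_of_mem_center h _ hc0 hT H (herm_hW hH H) hg
    refine ⟨d, ?_, hg'⟩
    rw [mem_rootsOfUnity', pow_gcd_eq_one]
    rw [mul_frob] at hd
    refine ⟨?_, hd⟩
    rw [← det_of_scalar _ hg']
    exact congrArg Units.val g.2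
  · rw [mem_rootsOfUnity', pow_gcd_eq_one] at hd
    obtain ⟨g, hg, hg'⟩ := exists_scalar_isom h hH.2.2 (c := d) (by rw [mul_frob, hd.2])
    exact ⟨⟨g, Units.ext (by rw [hg', hd.1]; rfl)⟩, hg⟩

include hF in
theorem card_center_su (n : ℕ) (hn : 2 ≤ n) :
    Nat.card (Subgroup.center (Cfsg.SU n F q)) = Nat.gcd n (q + 1) := by
  rw [card_center_congr (suEquiv hF n),
    card_center_herm hF (unForm_nondeg hF n) (unForm_isHerm hF n) (by simpa using hn)]
  simp

include hF in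
theorem card_psu (n : ℕ) (hn : 2 ≤ n) :
    Nat.gcd n (q + 1) * ((q + 1) * Nat.card (Cfsg.PSU n F q)) = q ^ (n * (n - 1) / 2) *
      ∏ i ∈ Finset.range n, (if Even i then q ^ (i + 1) + 1 else q ^ (i + 1) - 1) := by
  rw [← card_su hF n (by omega), ← card_center_su hF n hn, ← card_center_mul_card_quot (Cfsg.SU n F q)]
  ring

theorem notSU32 (n : ℕ) (hn : 3 ≤ n) (h : ¬ (n = 3 ∧ q = 2)) : (unForm hF n).NotSU32 := by
  have hq := two_le_of_card_sq hF
  by_cases h4 : 4 ≤ n
  · exact Or.inl (by simpa using h4)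
  · exact Or.inr ⟨by simpa using hn, exists_fixed_ne_zero_one hF (by omega)⟩

include hF in
theorem su_perfect (n : ℕ) (hn : 3 ≤ n) (h : ¬ (n = 3 ∧ q = 2)) :
    commutator (Cfsg.SU n F q) = ⊤ :=
  commutator_eq_top_of_equiv (suEquiv hF n)
    (herm_perfect (unForm_nondeg hF n) (unForm_isHerm hF n) (notSU32 hF n hn h))

include hF in
theorem psu_simple (n : ℕ) (hn : 3 ≤ n) (h : ¬ (n = 3 ∧ q = 2)) :
    IsSimpleGroup (Cfsg.PSU n F q) := by
  have := herm_quot_center_simple (unForm_nondeg hF n) (unForm_isHerm hF n) (notSU32 hF n hn h)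
  exact (quotCenterCongr (suEquiv hF n)).isSimpleGroup

end Herm2

end H7
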