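import Mathlib
import Cfsg.Agent.H7.SmallTools
import Cfsg.Agent.H7.DihQuat

/-!
The isomorphisms `PSL₂(9) ≅ A₆`, `PSL₂(7) ≅ PSL₃(2)`, `PSL₄(2) ≅ A₈`, and the structure of `SL₂(3)`.
-/

set_option autoImplicit false
set_option backward.isDefEq.respectTransparency false

namespace H7

open Matrix
open scoped MatrixGroups

/-! ### `PSL₂(9)` -/

/-- The field with nine elements. -/
abbrev F9 := QuadraticAlgebra (ZMod 3) (-1) 0

instance instFactF9 : Fact (∀ r : ZMod 3, r ^ 2 ≠ -1 + 0 * r) := ⟨by decide⟩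

instance instFintypeF9 : Fintype F9 := Fintype.ofEquiv _ (QuadraticAlgebra.equivProd (-1) 0).symm

theorem card_F9 : Fintype.card F9 = 9 := by
  rw [Fintype.ofEquiv_card]; rfl

/-- Code of an element of `F9`. -/
def code9 (z : F9) : ℕ := z.re.val + 3 * z.im.val

/-- Six sets of vectors permuted by `SL₂(9)`. -/
def mask9 : Fin 6 → ℕ := ![397590876516083805042254, 762828073181388188904526,
  1127152730517861190864816, 1257441894889493420235342, 1755938983755149362622896,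
  1952602358827799080567216]

/-- Membership in the six sets. -/
def mem9 (j : Fin 6) (x y : F9) : Bool := (mask9 j).testBit (code9 x + 9 * code9 y)

theorem mem9_upper : ∀ (a b : ZMod 3) (j : Fin 6), ∃ k : Fin 6, ∀ (x₁ x₂ y₁ y₂ : ZMod 3),
    mem9 j ⟨x₁, x₂⟩ ⟨y₁, y₂⟩ = mem9 k (⟨x₁, x₂⟩ + ⟨a, b⟩ * ⟨y₁, y₂⟩) ⟨y₁, y₂⟩ := by
  decide +kernel

theorem mem9_lower : ∀ (a b : ZMod 3) (j : Fin 6), ∃ k : Fin 6, ∀ (x₁ x₂ y₁ y₂ : ZMod 3),
    mem9 j ⟨x₁, x₂⟩ ⟨y₁, y₂⟩ = mem9 k ⟨x₁, x₂⟩ (⟨y₁, y₂⟩ + ⟨a, b⟩ * ⟨x₁, x₂⟩) := by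
  decide +kernel

theorem mem9_neg : ∀ (j : Fin 6) (x₁ x₂ y₁ y₂ : ZMod 3),
    mem9 j ⟨x₁, x₂⟩ ⟨y₁, y₂⟩ = mem9 j (-⟨x₁, x₂⟩) (-⟨y₁, y₂⟩) := by
  decide +kernel

theorem mem9_anti : ∀ (j k : Fin 6), (∀ (x₁ x₂ y₁ y₂ : ZMod 3),
    mem9 j ⟨x₁, x₂⟩ ⟨y₁, y₂⟩ = true → mem9 k ⟨x₁, x₂⟩ ⟨y₁, y₂⟩ = true) → j = k := by
  decide +kernel

theorem mem9_move : ∃ (j : Fin 6) (x₁ x₂ y₁ y₂ : ZMod 3),
    mem9 j ⟨x₁, x₂⟩ ⟨y₁, y₂⟩ ≠ mem9 j (⟨x₁, x₂⟩ + 1 * ⟨y₁, y₂⟩) ⟨y₁, y₂⟩ := by
  decide +kernel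

theorem psl2_F9_equiv_A6 : Nonempty (PSL(2, F9) ≃* alternatingGroup (Fin 6)) := by
  let S : Fin 6 → (Fin 2 → F9) → Prop := fun j v => mem9 j (v 0) (v 1) = true
  have hS : ∀ j k, (∀ v, S j v → S k v) → j = k := fun j k h =>
    mem9_anti j k fun x₁ x₂ y₁ y₂ => h ![⟨x₁, x₂⟩, ⟨y₁, y₂⟩]
  obtain ⟨φ, hφ⟩ := exists_perm_hom_of_family (G := SL(2, F9)) S hS (by
    intro g
    refine sl_transvection_induction (fun g => ∀ x, ∃ x', ∀ y, S x y → S x' (g • y))
      (fun x => ⟨x, fun y hy => by simpa using hy⟩) ?_ ?_ g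
    · intro i j h c x
      fin_cases i <;> fin_cases j
      · exact absurd rfl h
      · obtain ⟨k, hk⟩ := mem9_upper c.re c.im x
        refine ⟨k, fun y hy => ?_⟩
        simp only [S, transvection_smul_apply] at hy ⊢
        simpa using (hk (y 0).re (y 0).im (y 1).re (y 1).im).symm.trans hy
      · obtain ⟨k, hk⟩ := mem9_lower c.re c.im x
        refine ⟨k, fun y hy => ?_⟩
        simp only [S, transvection_smul_apply] at hy ⊢
        simpa using (hk (y 0).re (y 0).im (y 1).re (y 1).im).symm.trans hy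
      · exact absurd rfl h
    · intro A B hA hB x
      obtain ⟨x', hx'⟩ := hB x
      obtain ⟨x'', hx''⟩ := hA x'
      exact ⟨x'', fun y hy => by rw [mul_smul]; exact hx'' _ (hx' y hy)⟩)
  have := Matrix.ProjectiveSpecialLinearGroup.rank_two_simple (F := F9)
    (by rw [Nat.card_eq_fintype_card, card_F9]; norm_num)
  obtain ⟨ψ, hψ⟩ := exists_injective_of_simple φ (by
    intro z hz
    obtain ⟨r, hr, hz⟩ := Matrix.SpecialLinearGroup.mem_center_iff.1 hz
    simp only [Fintype.card_fin] at hr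
    rw [MonoidHom.mem_ker]
    ext j
    congr 1
    symm
    apply hS
    intro v hv
    have h1 := (hφ z j (z⁻¹ • v)).1
    rw [smul_inv_smul] at h1
    apply h1
    have h2 : z • z⁻¹ • v = r • z⁻¹ • v := by
      rw [Matrix.SpecialLinearGroup.smul_def, ← hz]; simp
    rw [smul_inv_smul] at h2
    generalize z⁻¹ • v = w at h2
    subst h2
    rcases mul_self_eq_one_iff.1 ((sq r).symm.trans hr) with rfl | rfl
    · simpa using hv
    · exact (mem9_neg j (w 0).re (w 0).im (w 1).re (w 1).im).trans (by simpa [S] using hv)) (by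
    obtain ⟨j, x₁, x₂, y₁, y₂, h⟩ := mem9_move
    refine ⟨Matrix.SpecialLinearGroup.transvection (zero_ne_one (α := Fin 2)) 1, fun h1 => h ?_⟩
    have := hφ (Matrix.SpecialLinearGroup.transvection (zero_ne_one (α := Fin 2)) 1) j
      ![⟨x₁, x₂⟩, ⟨y₁, y₂⟩]
    rw [h1] at this
    simp only [S, transvection_smul_apply] at this
    simpa using this)
  have h := card_psl_two card_F9
  refine H16.equiv_alternating_of_injective ψ hψ ?_
  generalize Nat.card PSL(2, F9) = N at h ⊢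
  simpa [Nat.factorial] using h

theorem psl2_nine_equiv_A6 {F : Type*} [Field F] [Fintype F] (hF : Fintype.card F = 9) :
    Nonempty (PSL(2, F) ≃* alternatingGroup (Fin 6)) := by
  obtain ⟨e⟩ := psl2_F9_equiv_A6
  exact ⟨(pslCongr (FiniteField.ringEquivOfCardEq (hF.trans card_F9.symm))).trans e⟩

/-! ### `PSL₂(7)` -/

/-- Code words of the extended Hamming code, as functions on vectors. -/
def word7 (u : Fin 3 → ZMod 2) (x y : ZMod 7) : ZMod 2 :=
  u 0 * (if Nat.testBit 465409050790784 (x.val + 7 * y.val) then 1 else 0) +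
  u 1 * (if Nat.testBit 512197026846464 (x.val + 7 * y.val) then 1 else 0) +
  u 2 * (if Nat.testBit 366393253520768 (x.val + 7 * y.val) then 1 else 0)

theorem word7_upper : ∀ (a b c : ZMod 2) (x y : ZMod 7), (x ≠ 0 ∨ y ≠ 0) →
    word7 ![b + c, a, b] (x + y) y + word7 ![a, b, c] x y =
      word7 ![b + c, a, b] 1 0 + word7 ![a, b, c] 1 0 := by
  decide +kernel

theorem word7_lower : ∀ (a b c : ZMod 2) (x y : ZMod 7), (x ≠ 0 ∨ y ≠ 0) →
    word7 ![a + b, a + c, b] x (y + x) + word7 ![a, b, c] x y =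
      word7 ![a + b, a + c, b] 1 1 + word7 ![a, b, c] 1 0 := by
  decide +kernel

theorem word7_neg : ∀ (a b c : ZMod 2) (x y : ZMod 7),
    word7 ![a, b, c] (-x) (-y) = word7 ![a, b, c] x y := by
  decide +kernel

theorem word7_inj : ∀ (a b c a' b' c' : ZMod 2), (∀ x : ZMod 7,
    word7 ![a, b, c] x 1 = word7 ![a, b, c] 1 0 ↔ word7 ![a', b', c'] x 1 = word7 ![a', b', c'] 1 0) →
    a = a' ∧ b = b' ∧ c = c' := by
  decide +kernel

instance instFactPrimeSeven : Fact (Nat.Prime 7) := ⟨by norm_num⟩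

theorem vec3_eta {α : Type*} (u : Fin 3 → α) : u = ![u 0, u 1, u 2] := by
  ext i; fin_cases i <;> rfl

theorem vec2_ne_zero {α : Type*} [Zero α] {v : Fin 2 → α} : v ≠ 0 ↔ v 0 ≠ 0 ∨ v 1 ≠ 0 := by
  rw [Ne, funext_iff, Fin.forall_fin_two, not_and_or]; rfl

theorem psl2_Z7_equiv : Nonempty (PSL(2, ZMod 7) ≃* PSL(3, ZMod 2)) := by
  let S : (Fin 3 → ZMod 2) → (Fin 2 → ZMod 7) × (Fin 2 → ZMod 7) → Prop := fun u p =>
    p.1 ≠ 0 ∧ p.2 ≠ 0 ∧ word7 u (p.1 0) (p.1 1) = word7 u (p.2 0) (p.2 1)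
  have hS : Function.Injective S := by
    intro u u' h
    rw [vec3_eta u, vec3_eta u'] at h ⊢
    obtain ⟨h1, h2, h3⟩ := word7_inj (u 0) (u 1) (u 2) (u' 0) (u' 1) (u' 2) (fun x => by
      have := congrFun h (![x, 1], ![1, 0])
      simpa [S, vec2_ne_zero] using this)
    rw [h1, h2, h3]
  have : FaithfulSMul SL(3, ZMod 2) (Fin 3 → ZMod 2) := ⟨fun {a b} h =>
    Subtype.ext (Matrix.toLin'.injective (LinearMap.ext h))⟩
  have key : ∀ (g : SL(2, ZMod 7)) (k : SL(3, ZMod 2)),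
      (∀ u : Fin 3 → ZMod 2, ∃ c, ∀ v : Fin 2 → ZMod 7, v ≠ 0 → word7 (k • u) ((g • v) 0) ((g • v) 1) + word7 u (v 0) (v 1) = c) →
      ∀ x y, S x y ↔ S (k • x) (g • y) := by
    rintro g k h u ⟨v, w⟩
    obtain ⟨c, hc⟩ := h u
    simp only [S, Prod.smul_mk, ne_eq, smul_eq_zero_iff_eq]
    refine and_congr_right fun hv => and_congr_right fun hw => ?_
    have h1 := hc v hv
    have h2 := hc w hw
    constructor
    · intro h3; linear_combination h1 - h2 - h3
    · intro h3; linear_combination h1 - h2 - h3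
  let k₁ : SL(3, ZMod 2) := ⟨!![0, 1, 1; 1, 0, 0; 0, 1, 0], by decide⟩
  have hk₁ : ∀ u : Fin 3 → ZMod 2, k₁ • u = ![u 1 + u 2, u 0, u 1] := by
    intro u; ext i
    fin_cases i <;> simp [k₁, Matrix.SpecialLinearGroup.smul_def, Matrix.mulVec, dotProduct,
      Fin.sum_univ_three]
  let k₂ : SL(3, ZMod 2) := ⟨!![1, 1, 0; 1, 0, 1; 0, 1, 0], by decide⟩
  have hk₂ : ∀ u : Fin 3 → ZMod 2, k₂ • u = ![u 0 + u 1, u 0 + u 2, u 1] := by
    intro u; ext i
    fin_cases i <;> simp [k₂, Matrix.SpecialLinearGroup.smul_def, Matrix.mulVec, dotProduct,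
      Fin.sum_univ_three]
  have hT : ∀ x y, S x y ↔ S (k₁ • x)
      (Matrix.SpecialLinearGroup.transvection (zero_ne_one (α := Fin 2)) (1 : ZMod 7) • y) := by
    apply key
    intro u
    refine ⟨word7 ![u 1 + u 2, u 0, u 1] 1 0 + word7 u 1 0, fun v hv => ?_⟩
    · rw [hk₁]
      simp only [transvection_smul_apply]
      have := word7_upper (u 0) (u 1) (u 2) (v 0) (v 1) (vec2_ne_zero.1 hv)
      rw [← vec3_eta u] at this
      simpa using this
  obtain ⟨φ, hφ⟩ := exists_hom_of_family (G := SL(2, ZMod 7)) (H := SL(3, ZMod 2)) S hS (by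
    intro g
    refine sl_transvection_induction_zmod 7
      (fun g => ∃ k : SL(3, ZMod 2), ∀ x y, S x y ↔ S (k • x) (g • y))
      ⟨1, fun x y => by simp⟩ ?_ ?_ g
    · intro i j h
      fin_cases i <;> fin_cases j
      · exact absurd rfl h
      · exact ⟨k₁, hT⟩
      · refine ⟨k₂, key _ _ fun u =>
          ⟨word7 ![u 0 + u 1, u 0 + u 2, u 1] 1 1 + word7 u 1 0, fun v hv => ?_⟩⟩
        · rw [hk₂]
          simp only [transvection_smul_apply]
          have := word7_lower (u 0) (u 1) (u 2) (v 0) (v 1) (vec2_ne_zero.1 hv)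
          rw [← vec3_eta u] at this
          simpa using this
      · exact absurd rfl h
    · rintro A B ⟨a, ha⟩ ⟨b, hb⟩
      exact ⟨a * b, fun x y => by rw [mul_smul, mul_smul, ← ha, ← hb]⟩)
  have huniq : ∀ (g : SL(2, ZMod 7)) (k : SL(3, ZMod 2)), (∀ x y, S x y ↔ S (k • x) (g • y)) →
      φ g = k := by
    intro g k h
    apply eq_of_smul_eq_smul (α := Fin 3 → ZMod 2)
    intro x
    apply hS
    ext y
    obtain ⟨y, rfl⟩ := MulAction.surjective g y
    simp only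
    rw [← hφ, ← h]
  have := Matrix.ProjectiveSpecialLinearGroup.rank_two_simple (F := ZMod 7) (by simp)
  obtain ⟨ψ, hψ⟩ := exists_injective_of_simple φ (by
    intro z hz
    obtain ⟨r, hr, hz⟩ := Matrix.SpecialLinearGroup.mem_center_iff.1 hz
    simp only [Fintype.card_fin] at hr
    rw [MonoidHom.mem_ker]
    apply huniq
    apply key
    intro u
    refine ⟨0, fun v _ => ?_⟩
    have h2 : z • v = r • v := by
      rw [Matrix.SpecialLinearGroup.smul_def, ← hz]; simp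
    rw [h2, one_smul]
    rcases mul_self_eq_one_iff.1 ((sq r).symm.trans hr) with rfl | rfl
    · simp [CharTwo.add_self_eq_zero]
    · have := word7_neg (u 0) (u 1) (u 2) (v 0) (v 1)
      rw [← vec3_eta u] at this
      simp [this, CharTwo.add_self_eq_zero])
    ⟨_, by rw [huniq _ _ hT]; decide⟩
  have h1 := card_psl_two (F := ZMod 7) (q := 7) (by simp)
  have h2 := card_sl (F := ZMod 2) (q := 2) (by simp) 3 (by norm_num)
  have h3 : Nat.card SL(3, ZMod 2) ≤ Nat.card PSL(2, ZMod 7) := by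
    generalize Nat.card PSL(2, ZMod 7) = N at h1 ⊢
    generalize Nat.card SL(3, ZMod 2) = M at h2 ⊢
    simp [Fin.prod_univ_three] at h1 h2
    omega
  exact ⟨(MulEquiv.ofBijective ψ (hψ.bijective_of_nat_card_le h3)).trans
    (quotCenterEquivOfBot (center_sl_eq_bot (q := 2) (by simp) 3 (by norm_num) (by norm_num))).symm⟩

theorem psl2_seven_equiv {F K : Type*} [Field F] [Fintype F] [Field K] [Fintype K]
    (hF : Fintype.card F = 7) (hK : Fintype.card K = 2) : Nonempty (PSL(2, F) ≃* PSL(3, K)) := by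
  obtain ⟨e⟩ := psl2_Z7_equiv
  obtain ⟨e₁⟩ := nonempty_ringEquiv_zmod 7 hF
  obtain ⟨e₂⟩ := nonempty_ringEquiv_zmod 2 hK
  exact ⟨(pslCongr e₁).trans (e.trans (pslCongr e₂).symm)⟩

/-! ### `PSL₄(2)` -/

/-- Position of the entry `(k, l)` in the code of an alternating matrix. -/
def altIdx : Fin 4 → Fin 4 → ℕ := ![![6, 0, 1, 2], ![0, 6, 3, 4], ![1, 3, 6, 5], ![2, 4, 5, 6]]

/-- The alternating matrix with code `m < 64`. -/
def altMat (m : ℕ) : Matrix (Fin 4) (Fin 4) (ZMod 2) :=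
  fun k l => if m.testBit (altIdx k l) then 1 else 0

/-- The eight heptads of non-degenerate alternating matrices. -/
def heptad : Fin 8 → Fin 7 → ℕ := ![![12, 22, 27, 39, 41, 53, 58], ![12, 23, 26, 37, 43, 54, 57],
  ![13, 22, 26, 35, 44, 49, 63], ![13, 23, 27, 33, 46, 50, 60], ![14, 18, 29, 39, 43, 49, 60],
  ![14, 19, 28, 37, 41, 50, 63], ![15, 18, 28, 35, 46, 53, 57], ![15, 19, 29, 33, 44, 54, 58]]

/-- The entries of `T A Tᵀ` for an elementary transvection `T`. -/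
def tvEntry (i j : Fin 4) (A : Matrix (Fin 4) (Fin 4) (ZMod 2)) (k l : Fin 4) : ZMod 2 :=
  A k l + (if k = i then A j l else 0) + (if l = i then A k j else 0) +
    (if k = i ∧ l = i then A j j else 0)

theorem heptad_tv : ∀ (i j : Fin 4), i ≠ j → ∀ x : Fin 8, ∃ x' : Fin 8, ∀ t : Fin 7, ∃ t' : Fin 7,
    ∀ k l, tvEntry i j (altMat (heptad x t)) k l = altMat (heptad x' t') k l := by
  decide +kernel

theorem heptad_anti : ∀ (x x' : Fin 8), (∀ t : Fin 7, ∃ t' : Fin 7,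
    ∀ k l, altMat (heptad x t) k l = altMat (heptad x' t') k l) → x = x' := by
  decide +kernel

theorem heptad_move : ∃ (x : Fin 8) (t : Fin 7), ∀ t' : Fin 7,
    ¬ ∀ k l, tvEntry 0 1 (altMat (heptad x t)) k l = altMat (heptad x t') k l := by
  decide +kernel

theorem tv_conj {i j : Fin 4} (h : i ≠ j) (A : Matrix (Fin 4) (Fin 4) (ZMod 2)) (k l : Fin 4) :
    ((Matrix.SpecialLinearGroup.transvection h (1 : ZMod 2)).1 * A *
      (Matrix.SpecialLinearGroup.transvection h (1 : ZMod 2)).1ᵀ) k l = tvEntry i j A k l := by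
  rw [Matrix.SpecialLinearGroup.transvection_coe, Matrix.transpose_add, Matrix.transpose_one,
    Matrix.transpose_single, tvEntry]
  simp only [add_mul, mul_add, one_mul, mul_one, Matrix.add_apply]
  by_cases hk : k = i <;> by_cases hl : l = i <;> simp [hk, hl, add_assoc]

theorem psl4_Z2_equiv_A8 : Nonempty (PSL(4, ZMod 2) ≃* alternatingGroup (Fin 8)) := by
  letI : MulAction SL(4, ZMod 2) (Matrix (Fin 4) (Fin 4) (ZMod 2)) :=
    { smul := fun g A => g.1 * A * g.1ᵀ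
      one_smul := fun A => by change (1 : Matrix _ _ _) * A * (1 : Matrix _ _ _)ᵀ = A; simp
      mul_smul := fun g h A => by
        change (g.1 * h.1) * A * (g.1 * h.1)ᵀ = g.1 * (h.1 * A * h.1ᵀ) * g.1ᵀ
        simp [Matrix.transpose_mul, Matrix.mul_assoc] }
  have hsmul : ∀ (g : SL(4, ZMod 2)) (A : Matrix (Fin 4) (Fin 4) (ZMod 2)),
    g • A = g.1 * A * g.1ᵀ := fun _ _ => rfl
  let S : Fin 8 → Matrix (Fin 4) (Fin 4) (ZMod 2) → Prop := fun x A => ∃ t, A = altMat (heptad x t)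
  have hS : ∀ j k, (∀ v, S j v → S k v) → j = k := fun j k h =>
    heptad_anti j k fun t => by
      obtain ⟨t', ht'⟩ := h _ ⟨t, rfl⟩
      exact ⟨t', fun k l => by rw [ht']⟩
  obtain ⟨φ, hφ⟩ := exists_perm_hom_of_family (G := SL(4, ZMod 2)) S hS (by
    intro g
    refine sl_transvection_induction_zmod 2 (fun g => ∀ x, ∃ x', ∀ y, S x y → S x' (g • y))
      (fun x => ⟨x, fun y hy => by simpa using hy⟩) ?_ ?_ g
    · intro i j h x
      obtain ⟨x', hx'⟩ := heptad_tv i j h x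
      refine ⟨x', ?_⟩
      rintro _ ⟨t, rfl⟩
      obtain ⟨t', ht'⟩ := hx' t
      refine ⟨t', ?_⟩
      ext k l
      rw [hsmul, tv_conj, ht']
    · intro A B hA hB x
      obtain ⟨x', hx'⟩ := hB x
      obtain ⟨x'', hx''⟩ := hA x'
      exact ⟨x'', fun y hy => by rw [mul_smul]; exact hx'' _ (hx' y hy)⟩)
  have := psl_simple (ι := Fin 4) (F := ZMod 2) (by simp)
  obtain ⟨ψ, hψ⟩ := exists_injective_of_simple φ (by
    rw [center_sl_eq_bot (q := 2) (by simp) 4 (by norm_num) (by norm_num)]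
    exact bot_le) (by
    obtain ⟨x, t, h⟩ := heptad_move
    refine ⟨Matrix.SpecialLinearGroup.transvection (zero_ne_one (α := Fin 4)) 1, fun h1 => ?_⟩
    have := (hφ (Matrix.SpecialLinearGroup.transvection (zero_ne_one (α := Fin 4)) 1) x _).1 ⟨t, rfl⟩
    rw [h1] at this
    obtain ⟨t', ht'⟩ := this
    refine h t' fun k l => ?_
    rw [← tv_conj (zero_ne_one (α := Fin 4)), ← hsmul, ht']; rfl)
  have h := card_psl (F := ZMod 2) (q := 2) (by simp) 4 (by norm_num)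
  refine H16.equiv_alternating_of_injective ψ hψ ?_
  generalize Nat.card PSL(4, ZMod 2) = N at h ⊢
  simp [Fin.prod_univ_four] at h
  rw [h]; rfl

theorem psl4_two_equiv_A8 {F : Type*} [Field F] [Fintype F] (hF : Fintype.card F = 2) :
    Nonempty (PSL(4, F) ≃* alternatingGroup (Fin 8)) := by
  obtain ⟨e⟩ := psl4_Z2_equiv_A8
  obtain ⟨e₁⟩ := nonempty_ringEquiv_zmod 2 hF
  exact ⟨(pslCongr e₁).trans e⟩

/-! ### `SL₂(3)` -/

theorem sl2_Z3_quaternion : ∃ Q : Subgroup SL(2, ZMod 3), Q.Normal ∧ Q.index = 3 ∧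
    Nonempty (Q ≃* QuaternionGroup 2) := by
  let x : SL(2, ZMod 3) := ⟨!![0, 1; -1, 0], by decide⟩
  let y : SL(2, ZMod 3) := ⟨!![1, 1; 1, -1], by decide⟩
  have ho : orderOf x = 2 * 2 := by
    have : Fact (Nat.Prime 2) := Nat.fact_prime_two
    exact orderOf_eq_prime_pow (p := 2) (n := 1) (by decide) (by decide)
  have hx4 : x ^ 4 = 1 := by decide
  obtain ⟨Q, hx, hy, hQ, ⟨e⟩⟩ := exists_subgroup_equiv_quaternion 2 x y ho (by decide) (by decide) (by
    intro h
    have : Commute x y := by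
      obtain ⟨k, hk⟩ := h
      rw [← hk]; exact Commute.zpow_right (Commute.refl x) k
    revert this
    unfold Commute SemiconjBy
    decide)
  have hc : Nat.card Q = 8 := by
    rw [Nat.card_congr e.toEquiv, Nat.card_eq_fintype_card, QuaternionGroup.card]
  have hG := card_sl_two (F := ZMod 3) (q := 3) (by simp)
  have hi : Q.index = 3 := by
    have := Q.card_mul_index
    rw [hc, hG] at this
    omega
  refine ⟨Q, ?_, hi, ⟨e⟩⟩
  have hgen : ∀ g : SL(2, ZMod 3), g * x * g⁻¹ ∈ Q → g * y * g⁻¹ ∈ Q → ∀ z ∈ Q, g * z * g⁻¹ ∈ Q := by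
    intro g h1 h2 z hz
    obtain ⟨k, rfl | rfl⟩ := hQ z hz
    · rw [← conj_zpow]; exact Q.zpow_mem h1 k
    · rw [← conj_mul, ← conj_zpow]; exact Q.mul_mem h2 (Q.zpow_mem h1 k)
  refine ⟨fun z hz g => ?_⟩
  revert z
  refine sl_transvection_induction_zmod 3 (fun g => ∀ z ∈ Q, g * z * g⁻¹ ∈ Q) (by simp) ?_ ?_ g
  · intro i j h
    fin_cases i <;> fin_cases j
    · exact absurd rfl h
    · apply hgen
      · convert Q.inv_mem hy using 1
        revert h; decide
      · convert Q.inv_mem (Q.mul_mem hx hy) using 1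
        revert h; decide
    · apply hgen
      · convert Q.inv_mem (Q.mul_mem hx hy) using 1
        revert h; decide
      · convert hx using 1
        revert h; decide
    · exact absurd rfl h
  · intro A B hA hB z hz
    have := hA _ (hB z hz)
    simpa [mul_assoc] using this

theorem sl2_three_quaternion {F : Type*} [Field F] [Fintype F] (hF : Fintype.card F = 3) :
    ∃ Q : Subgroup SL(2, F), Q.Normal ∧ Q.index = 3 ∧ Nonempty (Q ≃* QuaternionGroup 2) := by
  obtain ⟨Q, h1, h2, ⟨e⟩⟩ := sl2_Z3_quaternion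
  obtain ⟨e₁⟩ := nonempty_ringEquiv_zmod 3 hF
  let f := (slCongr (ι := Fin 2) e₁).symm
  refine ⟨Q.map f.toMonoidHom, h1.map _ f.surjective, ?_, ⟨(f.subgroupMap Q).symm.trans e⟩⟩
  rw [Subgroup.index_map_of_bijective (f := f.toMonoidHom) f.bijective, h2]

end H7
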