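import Mathlib
import Cfsg.Agent.H26.GCop
import Cfsg.Agent.H26.B71C

/-!
# Cores and strongly closed elementary abelian subgroups with two classes of involutions
-/

set_option autoImplicit false
set_option linter.all false

namespace H7.SJ

open Cfsg H24 H26 H26.Gold Subgroup
open scoped commutatorElement

universe u

variable {G : Type u} [Group G] [Finite G] {A B D E H L M P R S W X Y Z : Subgroup G}
  {a e g t x y : G}

theorem p2 : Nat.Prime 2 := Nat.prime_two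

theorem ext_conj (hR : Syl 2 (H ⊓ C{y}) R) (hP : TwoG P) (h : P ≤ H ⊓ C{x}) (hg : g ∈ H)
    (e : g * x * g⁻¹ = y) : ∃ k ∈ H, k * x * k⁻¹ = y ∧ cj k P ≤ R := by
  obtain ⟨k, hk, h1⟩ := Sylow_Jsub p2 hR (hP.cj g) (le_inf (cj_le_of_mem (h.trans inf_le_left) hg)
    (by rw [← e, ← cj_C1]; exact cj_mono g (h.trans inf_le_right)))
  refine ⟨k * g, mul_mem hk.1 hg, ?_, by rwa [cj_mul]⟩
  rw [← mem_C1_iff_conj.1 hk.2, ← e]; group

theorem mem_of_odd (ho : OddE g) (h : g * g ∈ L) : g ∈ L := by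
  obtain ⟨k, hk⟩ := oddE_iff.1 ho
  have : g = (g * g) ^ (k + 1) := by
    rw [← sq, ← pow_mul, show 2 * (k + 1) = 2 * k + 1 + 1 by ring, ← hk, pow_succ,
      pow_orderOf_eq_one, one_mul]
  rw [this]; exact pow_mem h _

theorem two_odd (hS : Syl 2 H S) (hn : H ≤ N[S]) (hg : g ∈ H) :
    ∃ s ∈ S, ∃ o, OddE o ∧ o ∈ zpowers g ∧ g = s * o := by
  obtain ⟨s, o, h1, h2, h3, h4, h5⟩ := exists_piElt_decomp {2} g
  exact ⟨s, hS.mem_of_nml hn h1 (zpowers_le.2 hg h3), o, h2, h4, h5⟩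

theorem mem_of_sq (hS : Syl 2 H S) (hn : H ≤ N[S]) (hL : S ≤ L) (hg : g ∈ H) (h2 : g * g ∈ L) :
    g ∈ L := by
  obtain ⟨s, hs, o, h1, ⟨k, rfl⟩, h3⟩ := two_odd hS hn hg
  rw [h3]
  refine mul_mem (hL hs) (mem_of_odd h1 ?_)
  rw [← (Commute.refl g).mul_zpow]; exact zpow_mem h2 k

theorem odd_le (hY : OddG Y) (hA : TwoG A) (hn : A ≤ N[Y]) (hD : OddG D) (h : D ≤ Y ⊔ A) :
    D ≤ Y :=
  ((isProd_sup hn).hall_left hY (by rwa [compl_compl])).le_of_nml (nml_sup_left hn).norm hD h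

theorem Od_cover (h : L ≤ Od[L] ⊔ M) (hM : M ≤ L) (hY : OddG Y) (hYL : Y ≤ L) (hn : M ≤ N[Y]) :
    Y ≤ Od[L] :=
  le_sup_right.trans (pcore_max' ((Od_odd L).sup hY (hYL.trans (pcore_nml _ L).norm))
    (sup_le (pcore_le _ L) hYL) (h.trans (sup_le (norm_of_le le_sup_left)
      (norm_sup (hM.trans (pcore_nml _ L).norm) hn))))

theorem syl_sup (hY : OddG Y) (hA : TwoG A) (hn : A ≤ N[Y]) : Syl 2 (Y ⊔ A) A :=
  (isProd_sup hn).hall_right hY hA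

/-- `A O(L)` is normal in `L`. -/
def Cons (A L : Subgroup G) : Prop := L ≤ Od[L] ⊔ (L ⊓ N[A])

theorem Cons.nml (h : Cons A L) (hA : A ≤ L) : Od[L] ⊔ A ⊴ L :=
  ⟨sup_le (pcore_le _ L) hA, h.trans (sup_le (norm_of_le le_sup_left)
    (norm_sup (inf_le_left.trans (pcore_nml _ L).norm) inf_le_right))⟩

theorem cons_of_nml (hA : TwoG A) (hY : OddG Y) (hYL : Y ⊴ L) (h : Y ⊔ A ⊴ L) : Cons A L := by
  have hAL := le_sup_right.trans h.le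
  have := (Frattini_arg p2 h (syl_sup hY hA (hAL.trans hYL.norm))).sup_eq
  refine this.ge.trans (sup_le (sup_le ((pcore_max hY hYL).trans le_sup_left) ?_) le_sup_right)
  exact (le_inf hAL (norm_self A)).trans le_sup_right

theorem cons_of_le (h : L ≤ Od[L] ⊔ A) (hA : A ≤ L) : Cons A L :=
  h.trans (sup_le_sup_left (le_inf hA (norm_self A)) _)

theorem Cons.sub (h : Cons A L) (hA : TwoG A) (h1 : A ≤ M) (h2 : M ≤ L) : Cons A M := by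
  refine cons_of_nml hA ((Od_odd L).inf_left M) ((pcore_nml _ L).inf_right h2) ?_
  rw [group_modr ((h1.trans h2).trans (pcore_nml _ L).norm) h1]
  exact (h.nml (h1.trans h2)).inf_right h2

theorem Cons.up (hc : Cons A M) (h : L ≤ Od[L] ⊔ M) (hM : M ≤ L) : Cons A L :=
  h.trans (sup_le le_sup_left (hc.trans (sup_le_sup (Od_cover h hM (Od_odd M)
    ((pcore_le _ M).trans hM) (pcore_nml _ M).norm) (inf_le_inf_right _ hM))))

theorem Cons.of_nml (hc : Cons A M) (hn : M ⊴ L) (hS : Syl 2 M A) : Cons A L :=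
  (Frattini_arg p2 hn hS).sup_eq.ge.trans (sup_le (hc.trans (sup_le_sup (hn.pcore_le _)
    (inf_le_inf_right _ hn.le))) le_sup_right)

theorem Cons.cj (hc : Cons A L) (g : G) : Cons (cj g A) (cj g L) := by
  have := cj_mono g hc
  rwa [cj_sup, cj_inf, cj_N, ← pcore_cj] at this

theorem Cons.odd_le (h : Cons A L) (hA : TwoG A) (hAL : A ≤ L) (hc : L ⊓ C[A] ≤ Od[L] ⊔ A)
    (hD : OddG D) (hDL : D ≤ L) (hn : A ≤ N[D]) : D ≤ Od[L] := by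
  have h1 := hAL.trans (pcore_nml ({2}ᶜ : Set ℕ) L).norm
  refine (coprime_cent_prod hn (cop hD hA) hD.sol).sup_eq.ge.trans (sup_le ?_ ?_)
  · exact SJ.odd_le (Od_odd L) hA h1 (hD.of_le (comm_le_left hn)) ((comm_mono_right le_sup_right).trans
      (comm_le_right (hDL.trans (h.nml hAL).norm)))
  · exact SJ.odd_le (Od_odd L) hA h1 (hD.inf_left _) ((inf_le_inf_right _ hDL).trans hc)

theorem dih (hx : x ∈ H) (hy : y ∈ H) (x2 : x * x = 1) (y2 : y * y = 1)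
    (h : ∀ g ∈ H, g * x * g⁻¹ ≠ y) : ∃ w ∈ H, w ≠ 1 ∧ w * w = 1 ∧ w ∈ C{x} ∧ w ∈ C{y} ∧
      ∃ g ∈ H, x * w = g * x * g⁻¹ ∨ x * w = g * y * g⁻¹ := by
  have hxy := mul_mem hx hy
  rcases Nat.even_or_odd (orderOf (x * y)) with ev | od
  · obtain ⟨h1, h2, h3⟩ := H6.central_involution x2 y2 ev
    refine ⟨_, pow_mem hxy _, H6.ne_one_of_orderOf_two h1, H6.mul_self_of_orderOf_two h1,
      mem_C1.2 h2, mem_C1.2 h3, ?_⟩
    rcases Nat.even_or_odd' (orderOf (x * y) / 2) with ⟨k, hk | hk⟩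
    · refine ⟨(x * y) ^ (-(k : ℤ)), zpow_mem hxy _, Or.inl ?_⟩
      rw [H6.rot_conj_left x2 y2, hk, ← zpow_natCast]; congr 2; push_cast; ring
    · refine ⟨(x * y) ^ (-(k : ℤ)), zpow_mem hxy _, Or.inr ?_⟩
      have e1 := H6.zpow_mul_left x2 y2 (-(k : ℤ))
      have e2 := H6.right_eq (y := y) x2
      rw [hk, ← zpow_natCast]
      generalize x * y = r at e1 e2 ⊢
      rw [e2, ← mul_assoc (r ^ _), e1]
      push_cast; group
  · obtain ⟨k, hk⟩ := H6.exists_zpow_conj_of_odd x2 y2 od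
    exact absurd hk (h _ (zpow_mem hxy k))

theorem conj_sq (h : x * x = 1) (g : G) : g * x * g⁻¹ * (g * x * g⁻¹) = 1 := by
  rw [conj_mul, h]; simp

theorem ea_cj (h : EA A) (g : G) : EA (cj g A) := ea_of_sq fun x hx => by
  obtain ⟨a, ha, rfl⟩ := mem_cj'.1 hx
  exact conj_sq (h.sq ha) g

theorem mem_zp (h : x * x = 1) (hy : y ∈ zpowers x) : y = 1 ∨ y = x := by
  obtain ⟨k, rfl⟩ := hy
  obtain ⟨j, rfl | rfl⟩ := Int.even_or_odd' k <;> simp [zpow_add, zpow_mul, sq, h]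

theorem twoG_zp (h : x * x = 1) : TwoG (zpowers x) := (twoE_of_sq h).isPi

theorem not_cyc (hA : EA A) (h : 4 ≤ ♯A) : ¬ Cyc A := fun hc => by
  have := Nat.le_of_dvd two_pos (H25.Cfsg.IsElementaryAbelian.card_dvd_of_cyc hA hc); omega

theorem gen1 (hA : EA A) (h : 4 ≤ ♯A) (hD : OddG D) (hn : A ≤ N[D])
    (hL : ∀ a ∈ A, a ≠ 1 → D ⊓ C{a} ≤ L) : D ≤ L :=
  coprime_abelian_gen_cent1 hA.abl (not_cyc hA h) hn (cop hD hA.two) hL

theorem sc_main (hS : Syl 2 H S) (hA : EA A) (h8 : 8 ≤ ♯A) (hAS : A ≤ S)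
    (sc : ∀ a ∈ A, ∀ g ∈ H, g * a * g⁻¹ ∈ S → g * a * g⁻¹ ∈ A) (cs : S ⊓ C[A] ≤ A)
    (two : ∃ x ∈ A, ∃ y ∈ A, x ≠ 1 ∧ y ≠ 1 ∧ ∀ g ∈ H, g * x * g⁻¹ ≠ y)
    (loc : ∀ a ∈ A, a ≠ 1 → Cons A (H ⊓ C{a})) : Cons A H ∧ H ⊓ C[A] ≤ Od[H] ⊔ A := by
  have hAH := hAS.trans hS.le
  have wc : ∀ g ∈ H, cj g A ≤ S → g ∈ N[A] := fun g hg h => mem_N_of_cj_le fun x hx => by
    obtain ⟨a, ha, rfl⟩ := mem_cj'.1 hx
    exact sc a ha g hg (h hx)
  have hC : ∀ a ∈ A, A ≤ H ⊓ C{a} := fun a ha => le_inf hAH (mem_C_iff_le_C1.1 (hA.le_C ha))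
  have s1 : Syl 2 (H ⊓ C[A]) A := syl_of_max p2 hA.two (le_inf hAH hA.le_C) fun P hP h1 h2 => by
    obtain ⟨g, hg, h3⟩ := Sylow_Jsub p2 hS hP (h2.trans inf_le_left)
    have h4 := cj_of_mem_N (wc g hg ((cj_mono g h1).trans h3))
    have h5 : cj g P ≤ cj g A := by
      rw [h4]; refine (le_inf h3 ?_).trans cs
      rw [← h4]; exact cent_cj (h2.trans inf_le_right) g
    simpa using cj_mono g⁻¹ h5
  have s2 := (Burnside_normal_complement p2 s1 (inf_le_left.trans inf_le_right)).sup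
  have nZ : H ⊓ N[A] ≤ N[Od[H ⊓ C[A]]] :=
    norm_pcore _ (norm_inf (norm_of_le inf_le_left) (inf_le_right.trans (N_le_NC A)))
  obtain ⟨W, w1, w2, w3, w4⟩ := sf_good hA h8 (· ≤ H) (fun X Y h1 h2 => h2.trans h1) fun t ht t1 =>
    ⟨Od[H ⊓ C{t}], Od_odd _, (hC t ht).trans (pcore_nml _ _).norm,
      (pcore_le _ _).trans inf_le_right, (pcore_le _ _).trans inf_le_left, fun X h1 h2 h3 h4 =>
      (loc t ht t1).odd_le hA.two (hC t ht) ((inf_le_inf_right _ inf_le_left).trans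
        (s2.ge.trans (sup_le_sup_right (Od_cover (loc t ht t1) inf_le_left (Od_odd _)
          ((pcore_le _ _).trans (inf_le_inf_left _ (C_le_C1 ht)))
          ((inf_le_inf_right _ inf_le_left).trans nZ)) _))) h1 (le_inf h4 h3) h2⟩
  have wH : W ≤ H := gen1 hA (by omega) w1 w2 w3
  have nW : H ⊓ N[A] ≤ N[W] := fun g hg => mem_N_of_cj_le (w4 _ (w1.cj g)
    (by simpa [cj_of_mem_N hg.2] using norm_cj w2 g) (cj_le_of_mem wH hg.1))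
  set M := W ⊔ (H ⊓ N[A]) with hM
  have MH : M ≤ H := sup_le wH inf_le_left
  have m1 : ∀ a ∈ A, a ≠ 1 → H ⊓ C{a} ≤ M := fun a ha a1 => (loc a ha a1).trans (sup_le_sup
    (w4 _ (Od_odd _) ((hC a ha).trans (pcore_nml _ _).norm) ((pcore_le _ _).trans inf_le_left))
    (inf_le_inf_right _ inf_le_left))
  have SM : S ≤ M := (le_inf hS.le fun s hs => wc s (hS.le hs) (cj_le_of_mem hAS hs)).trans
    le_sup_right
  have m2 : ∀ a ∈ A, a ≠ 1 → ∀ g ∈ H, g * a * g⁻¹ ∈ M → g ∈ M := fun a ha a1 g hg h => by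
    obtain ⟨m, hm, h1⟩ := Sylow_Jsub p2 (hS.of_le SM MH) (twoG_zp (conj_sq (hA.sq ha) g))
      (zpowers_le.2 h)
    have hk := mul_mem (MH hm) hg
    have e : m * (g * a * g⁻¹) * m⁻¹ = m * g * a * (m * g)⁻¹ := by group
    have h2 := sc a ha _ hk (e ▸ h1 (conj_mem_cj m (mem_zpowers _)))
    obtain ⟨P, hP, h3⟩ := Sylow_superset p2 hA.two (hC _ h2)
    obtain ⟨k, k1, k3, k2⟩ := ext_conj hP hA.two (hC a ha) hk rfl
    obtain ⟨j, j1, j2⟩ := Sylow_Jsub p2 hS hP.pi (hP.le.trans inf_le_left)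
    have h4 := wc j j1 ((cj_mono j h3).trans j2)
    have h5 := wc _ (mul_mem j1 k1) (by rw [cj_mul]; exact (cj_mono j k2).trans j2)
    have h6 : k ∈ M := mem_sup_right ⟨k1, (mul_mem_cancel_left h4).1 h5⟩
    have h7 : m * g * k⁻¹ ∈ M := m1 _ h2 (by rwa [Ne, conj_eq_one_iff'])
      ⟨H.mul_mem hk (H.inv_mem k1), mem_C1_iff_conj.2 (by nth_rewrite 1 [← k3]; group)⟩
    exact (mul_mem_cancel_left hm).1 ((mul_mem_cancel_right (inv_mem h6)).1 h7)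
  have HM : H ≤ M := fun g hg => by
    obtain ⟨x, hx, y, hy, x1, y1, h⟩ := two
    obtain ⟨w, v1, v2, v3, v4, v5, k, hk, v6⟩ := dih (hAH hx) (mul_mem (mul_mem hg (hAH hy))
      (inv_mem hg)) (hA.sq hx) (conj_sq (hA.sq hy) g) fun k hk e =>
        h (g⁻¹ * k) (mul_mem (inv_mem hg) hk) (by
          rw [show g⁻¹ * k * x * (g⁻¹ * k)⁻¹ = g⁻¹ * (k * x * k⁻¹) * g by group, e]; group)
    obtain ⟨j, j1, j2⟩ := Sylow_Jsub p2 hS ((twoG_zp (hA.sq hx)).sup (twoG_zp v3)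
      (zpowers_le.2 (norm_zpowers_of_cent le_rfl v4))) (sup_le (zpowers_le.2 (hAH hx)) (zpowers_le.2 v1))
    have a1 := sc x hx j j1 (j2 (conj_mem_cj j (mem_sup_left (mem_zpowers x))))
    have a2 := j2 (conj_mem_cj j (mul_mem_sup (mem_zpowers x) (mem_zpowers w)))
    have a3 : j * (x * w) * j⁻¹ ∈ A := by
      rcases v6 with v6 | v6 <;> rw [v6] at a2 ⊢
      · rw [show j * (k * x * k⁻¹) * j⁻¹ = j * k * x * (j * k)⁻¹ by group] at a2 ⊢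
        exact sc x hx _ (mul_mem j1 hk) a2
      · rw [show j * (k * (g * y * g⁻¹) * k⁻¹) * j⁻¹ = j * k * g * y * (j * k * g)⁻¹ by group] at a2 ⊢
        exact sc y hy _ (mul_mem (mul_mem j1 hk) hg) a2
    have a4 : j * w * j⁻¹ ∈ A := by
      rw [← conj_mul] at a3; exact (mul_mem_cancel_left a1).1 a3
    have a5 : j * w * j⁻¹ ≠ 1 := by rwa [Ne, conj_eq_one_iff']
    have a6 := m2 _ a4 a5 _ (inv_mem j1) (by simpa [mul_assoc] using m1 x hx x1 ⟨v1, v4⟩)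
    have a7 := m2 _ a4 a5 _ (mul_mem (inv_mem hg) (inv_mem j1)) (by
      have : g⁻¹ * w * g ∈ M := m1 y hy y1 ⟨H.mul_mem (H.mul_mem (H.inv_mem hg) v1) hg, by
        rw [← cj_C1] at v5; exact mem_cj.1 v5⟩
      simpa [mul_assoc] using this)
    exact inv_mem_iff.1 ((mul_mem_cancel_right a6).1 a7)
  have WO : W ≤ Od[H] := pcore_max' w1 wH (HM.trans (sup_le (norm_self W) nW))
  exact ⟨HM.trans (sup_le_sup_right WO _), s2.ge.trans (sup_le_sup_right ((w4 _ (Od_odd _)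
    ((le_inf hAH (norm_self A)).trans nZ) ((pcore_le _ _).trans inf_le_left)).trans WO) _)⟩

theorem od_se (hM : M ≤ H) (ht : t ∈ M) (t1 : t ≠ 1) (t2 : t * t = 1)
    (h : ∀ t ∈ M, t ≠ 1 → t * t = 1 → ∀ g ∈ H, g * t * g⁻¹ ∈ M → g ∈ M) : Od[M] ≤ Od[H] := by
  by_cases e : H ≤ M
  · rw [le_antisymm hM e]
  have se : IsStronglyEmbedded (M.subgroupOf H) := by
    refine ⟨fun h1 => e (subgroupOf_eq_top.1 h1), ?_, fun g hg => ?_⟩
    · rw [card_subgroupOf_of_le hM, even_iff_two_dvd, ← H6.orderOf_eq_two_of t2 t1]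
      exact orderOf_dvd_card' ht
    · by_contra h1
      obtain ⟨s, ⟨s1, s2⟩, s3⟩ := exists_orderOf_eq p2 (even_iff_two_dvd.1 (Nat.not_odd_iff_even.1 h1))
      obtain ⟨r, r1, rfl⟩ := s2
      rw [MulEquiv.coe_toMonoidHom, MulAut.conj_apply] at s1 s3
      rw [orderOf_conj] at s3
      exact hg (h r r1 (fun h => H6.ne_one_of_orderOf_two s3 (Subtype.ext h))
        (congrArg Subtype.val (H6.mul_self_of_orderOf_two s3)) g g.2 s1)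
  have := map_mono (f := H.subtype) (H26.BR.s1221 se)
  rwa [oddCore, oddCore, ← pcore_compl_singleton p2, ← pcore_compl_singleton p2,
    ← pcore_map_subtype, map_subgroupOf' hM] at this

theorem zstar_cov (hP : Syl 2 L P) (he : e ∈ P) (e1 : e ≠ 1) (e2 : e * e = 1)
    (h : ∀ g ∈ L, g * e * g⁻¹ ∈ P → g * e * g⁻¹ = e) : L ≤ Od[L] ⊔ (L ⊓ C{e}) := by
  rw [← C_zpowers]
  exact (coprime_isProd_of_comm_le ((zpowers_le.2 (hP.le he)).trans (pcore_nml _ L).norm)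
    (cop (Od_odd L) (twoG_zp e2)) (Or.inl (Od_sol L)) (pcore_le _ L)
    (by rw [commC]; exact zstar_sub hP he e1 e2 h)).sup_eq.ge

/-! ### Modulo a central `2`-subgroup -/

theorem coq_Od (hZ : TwoG Z) (h1 : Z ≤ L) (h2 : L ≤ C[Z]) : coq Z Od[quo L Z] ≤ Od[L] ⊔ Z := by
  have hR := nml_coq_of ⟨h1, norm_of_cent h2⟩ (pcore_nml ({2}ᶜ : Set ℕ) (quo L Z))
  have hH : Syl 2 (coq Z Od[quo L Z]) Z := Hall.mk' (le_coq _) hZ (by
    rw [relIndex_coq_self]; exact Od_odd _)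
  obtain ⟨Y, hY⟩ := H26.Hall.exists_sd hH (coq_le_N _)
  have := hY.dp (hY.right_le.trans (hR.le.trans h2))
  exact hY.sup.ge.trans (sup_le le_sup_right (((pcore_max (hY.isPi_right hH) this.nml_right).trans
    (hR.pcore_le _)).trans le_sup_left))

theorem le_of_quo (hZ : TwoG Z) (h1 : Z ≤ L) (h2 : L ≤ C[Z]) {Y : Subgroup (QN Z)}
    (hX : X ≤ N[Z]) (h : quo X Z ≤ Od[quo L Z] ⊔ Y) : X ≤ Od[L] ⊔ coq Z Y := by
  rw [quo_le_iff hX, coq_sup] at h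
  exact h.trans (sup_le ((coq_Od hZ h1 h2).trans (sup_le_sup_left (le_coq _) _)) le_sup_right)

theorem Cons.quo (h : Cons A L) (hL : L ≤ N[Z]) : Cons (quo A Z) (quo L Z) := by
  refine (quo_mono Z h).trans ?_
  rw [quo_sup ((pcore_le _ L).trans hL) (inf_le_left.trans hL)]
  exact sup_le_sup (quo_pcore_le _ _ _) (img_inf_N_le _ _ _)

theorem cons_of_quo (hZ : TwoG Z) (h0 : Z ≤ A) (h1 : A ≤ L) (h2 : L ≤ C[Z])
    (h : Cons (quo A Z) (quo L Z)) : Cons A L := by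
  have hL := norm_of_cent h2
  refine (le_of_quo hZ (h0.trans h1) h2 hL h).trans (sup_le_sup_left ?_ _)
  rw [← quo_inf_N L ⟨h0, h1.trans hL⟩ hL, coq_quo (inf_le_left.trans hL)]
  exact sup_le le_rfl (le_inf (h0.trans h1) (norm_of_le h0))

/-- The centraliser of `x` modulo `Z`. -/
abbrev cz (x : G) (Z : Subgroup G) : Subgroup G := coq Z C{cs Z x}

theorem cs_conj (hg : g ∈ N[Z]) (hx : x ∈ N[Z]) (hy : y ∈ N[Z]) :
    cs Z g * cs Z x * (cs Z g)⁻¹ = cs Z y ↔ y⁻¹ * (g * x * g⁻¹) ∈ Z := by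
  rw [← ap_conj _ hg hx, eq_comm, cs_eq_cs hy (mul_mem (mul_mem hg hx) (inv_mem hg))]

theorem mem_cz (hx : x ∈ N[Z]) : g ∈ cz x Z ↔ g ∈ N[Z] ∧ x⁻¹ * (g * x * g⁻¹) ∈ Z := by
  rw [mem_coq, mem_C1_iff_conj]
  exact and_congr_right fun hg => cs_conj hg hx hx

theorem cs_sq (hx : x ∈ N[Z]) : cs Z x * cs Z x = 1 ↔ x * x ∈ Z := by
  rw [← ap_mul _ hx hx, cs_eq_one (mul_mem hx hx)]

theorem conj_quo (hP : Z ⊴ P) (hg : g ∈ N[Z]) (hx : x ∈ N[Z]) :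
    cs Z g * cs Z x * (cs Z g)⁻¹ ∈ quo P Z ↔ g * x * g⁻¹ ∈ P := by
  have := mul_mem (mul_mem hg hx) (inv_mem hg)
  rw [← ap_conj _ hg hx]
  exact ⟨mem_of_cs_mem_quo hP this, fun h => cs_mem_quo h this⟩

theorem mem_C_quo (hA : A ≤ N[Z]) (hg : g ∈ N[Z]) :
    cs Z g ∈ C[quo A Z] ↔ ∀ a ∈ A, a⁻¹ * (g * a * g⁻¹) ∈ Z := by
  rw [mem_C']
  refine ⟨fun h a ha => (cs_conj hg (hA ha) (hA ha)).1 (by
    rw [h _ (cs_mem_quo ha (hA ha))]; simp), fun h x hx => ?_⟩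
  obtain ⟨a, ha, -, rfl⟩ := mem_quo.1 hx
  exact mul_inv_eq_iff_eq_mul.1 ((cs_conj hg (hA ha) (hA ha)).2 (h a ha))

theorem sc_mod (hH : H ≤ C[Z]) (hS : Syl 2 H S) (hZ : Z ≤ A) (hA : ∀ a ∈ A, a * a ∈ Z)
    (h8 : ♯Z * 8 ≤ ♯A) (hAS : A ≤ S)
    (sc : ∀ a ∈ A, ∀ g ∈ H, g * a * g⁻¹ ∈ S → g * a * g⁻¹ ∈ A)
    (cs' : ∀ s ∈ S, (∀ a ∈ A, a⁻¹ * (s * a * s⁻¹) ∈ Z) → s ∈ A)
    (two : ∃ x ∈ A, ∃ y ∈ A, x ∉ Z ∧ y ∉ Z ∧ ∀ g ∈ H, y⁻¹ * (g * x * g⁻¹) ∉ Z)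
    (loc : ∀ a ∈ A, a ∉ Z → Cons A (H ⊓ cz a Z)) :
    Cons A H ∧ ∀ g ∈ H, (∀ a ∈ A, a⁻¹ * (g * a * g⁻¹) ∈ Z) → g ∈ Od[H] ⊔ A := by
  have hN := norm_of_cent hH
  have hAH := hAS.trans hS.le
  have hAN := hAH.trans hN
  have z2 := hS.pi.of_le (hZ.trans hAS)
  have nS : Z ⊴ S := ⟨hZ.trans hAS, hS.le.trans hN⟩
  obtain ⟨h1, h2⟩ := sc_main (hS.quo hN) (A := quo A Z) (ea_of_sq fun x hx => by
      obtain ⟨a, ha, -, rfl⟩ := mem_quo.1 hx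
      exact (cs_sq (hAN ha)).2 (hA a ha))
    (Nat.le_of_mul_le_mul_left (by rwa [Nml.card_quo ⟨hZ, hAN⟩]) (card_pos Z)) (quo_mono Z hAS)
    (fun x hx y hy => by
      obtain ⟨a, ha, a1, rfl⟩ := mem_quo.1 hx
      obtain ⟨g, hg, g1, rfl⟩ := mem_quo.1 hy
      rw [conj_quo nS g1 a1, conj_quo ⟨hZ, hAN⟩ g1 a1]
      exact sc a ha g hg)
    (fun x hx => by
      obtain ⟨s, hs, s1, rfl⟩ := mem_quo.1 hx.1
      exact cs_mem_quo (cs' s hs ((mem_C_quo hAN s1).1 hx.2)) s1)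
    (by
      obtain ⟨x, hx, y, hy, x1, y1, h⟩ := two
      refine ⟨_, cs_mem_quo hx (hAN hx), _, cs_mem_quo hy (hAN hy), (cs_eq_one (hAN hx)).not.2 x1,
        (cs_eq_one (hAN hy)).not.2 y1, fun k hk => ?_⟩
      obtain ⟨g, hg, g1, rfl⟩ := mem_quo.1 hk
      exact (cs_conj g1 (hAN hx) (hAN hy)).not.2 (h g hg))
    fun x hx x1 => by
      obtain ⟨a, ha, a1, rfl⟩ := mem_quo.1 hx
      rw [← quo_inf_coq]
      exact (loc a ha ((cs_eq_one a1).not.1 x1)).quo (inf_le_left.trans hN)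
  refine ⟨cons_of_quo z2 hZ hAH hH h1, fun g hg h => ?_⟩
  have := le_of_quo z2 (hZ.trans hAH) hH (zpowers_le.2 (hN hg)) (Y := quo A Z) (by
    rw [quo_zpowers (hN hg), zpowers_le]
    exact h2 ⟨cs_mem_quo hg (hN hg), (mem_C_quo hAN (hN hg)).2 h⟩) (mem_zpowers g)
  rwa [Nml.coq_quo ⟨hZ, hAN⟩] at this

theorem burn_mod (hL : L ≤ N[Z]) (hc : L ≤ C[Z]) (hS : Syl 2 L A) (hZ : Z ≤ A)
    (h : ∀ g ∈ L ⊓ N[A], ∀ a ∈ A, a⁻¹ * (g * a * g⁻¹) ∈ Z) : L ≤ Od[L] ⊔ A := by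
  have nA : Z ⊴ A := ⟨hZ, hS.le.trans hL⟩
  have := le_of_quo (hS.pi.of_le hZ) (hZ.trans hS.le) hc hL
    (Burnside_normal_complement p2 (hS.quo hL) fun x hx => by
      rw [← quo_inf_N L nA hL] at hx
      obtain ⟨g, hg, g1, rfl⟩ := mem_quo.1 hx
      exact (mem_C_quo nA.norm g1).2 (h g hg)).sup.ge
  rwa [nA.coq_quo] at this

theorem zstar_mod (hc : L ≤ C[Z]) (hP : Syl 2 L P) (hZ : Z ≤ P) (he : e ∈ P) (e1 : e ∉ Z)
    (e2 : e * e ∈ Z) (h : ∀ g ∈ L, g * e * g⁻¹ ∈ P → e⁻¹ * (g * e * g⁻¹) ∈ Z) :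
    L ≤ Od[L] ⊔ (L ⊓ cz e Z) := by
  have hL := norm_of_cent hc
  have eN := hL (hP.le he)
  have := le_of_quo (hP.pi.of_le hZ) (hZ.trans hP.le) hc hL (zstar_cov (hP.quo hL)
    (cs_mem_quo he eN) ((cs_eq_one eN).not.2 e1) ((cs_sq eN).2 e2) fun x hx => by
      obtain ⟨g, hg, g1, rfl⟩ := mem_quo.1 hx
      rw [conj_quo ⟨hZ, hP.le.trans hL⟩ g1 eN, cs_conj g1 eN eN]
      exact h g hg)
  rwa [coq_inf, Nml.coq_quo ⟨hZ.trans hP.le, hL⟩] at this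

theorem od_se_mod (hc : H ≤ C[Z]) (z2 : TwoG Z) (hZ : Z ≤ M) (hM : M ≤ H) (ht : t ∈ M) (t1 : t ∉ Z)
    (t2 : t * t ∈ Z) (h : ∀ t ∈ M, t ∉ Z → t * t ∈ Z → ∀ g ∈ H, g * t * g⁻¹ ∈ M → g ∈ M) :
    Od[M] ≤ Od[H] := by
  have hN := norm_of_cent hc
  have nM : Z ⊴ M := ⟨hZ, hM.trans hN⟩
  have tN := nM.norm ht
  have h1 := od_se (quo_mono Z hM) (cs_mem_quo ht tN) ((cs_eq_one tN).not.2 t1) ((cs_sq tN).2 t2)
    fun x hx x1 x2 y hy => by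
      obtain ⟨s, hs, s1, rfl⟩ := mem_quo.1 hx
      obtain ⟨g, hg, g1, rfl⟩ := mem_quo.1 hy
      rw [conj_quo nM g1 s1]
      exact fun h2 => cs_mem_quo (h s hs ((cs_eq_one s1).not.1 x1) ((cs_sq s1).1 x2) g hg h2) g1
  refine odd_le (Od_odd H) z2 ((hZ.trans hM).trans (pcore_nml _ H).norm) (Od_odd M) ?_
  have := le_of_quo z2 (hZ.trans hM) hc ((pcore_le _ M).trans nM.norm) (Y := ⊥)
    (((quo_pcore_le _ M Z).trans h1).trans le_sup_left)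
  rwa [coq_bot] at this

end H7.SJ
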