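import Mathlib
import Cfsg.Agent.H7.SyG

/-!
# Two-groups with an isolated four-group: basic facts
-/

set_option autoImplicit false
set_option linter.all false

namespace H7.NC

open Cfsg H24 H26 H26.Gold Subgroup H7.SJ
open scoped commutatorElement

universe u

variable {G : Type u} [Group G] [Finite G] {A B E H K S T : Subgroup G} {a b c e g s t x y z : G}

theorem card_le_two (h : K ≤ H) (hh : ∀ a ∈ H, ∀ b ∈ H, a ∉ K → b ∉ K → a * b ∈ K) :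
    ♯H ≤ 2 * ♯K := by
  by_cases e : H ≤ K
  · have := card_le e; omega
  obtain ⟨a, ha, ha'⟩ := SetLike.not_le_iff_exists.1 e
  have : K.relIndex H = 2 := index_eq_two_iff.2 ⟨⟨a, ha⟩, fun b => by
    simp only [mem_subgroupOf, coe_mul]
    by_cases hb : (b : G) ∈ K
    · exact Or.inr ⟨hb, fun h => ha' ((mul_mem_cancel_left hb).1 h)⟩
    · exact Or.inl ⟨hh _ b.2 _ ha hb ha', hb⟩⟩
  rw [← card_mul_relIndex h, this, mul_comm]

theorem two_mul_le (h : K < H) : 2 * ♯K ≤ ♯H := by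
  have h1 := card_mul_relIndex h.le
  have h2 := card_lt h
  have h3 := relIndex_pos K H
  have : K.relIndex H ≠ 1 := fun e => by rw [e] at h1; omega
  rw [← h1, mul_comm]; exact Nat.mul_le_mul_left _ (by omega)

theorem ex_out [DecidableEq G] (l : Finset G) (h : l.card < ♯A) : ∃ a ∈ A, a ∉ l := by
  by_contra hn
  push Not at hn
  have := Nat.card_le_card_of_injective (fun a : A => (⟨a.1, hn _ a.2⟩ : l))
    fun a b e => Subtype.ext (by simpa using e)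
  simp at this; omega

theorem ex4 (h : 5 ≤ ♯A) (a b c : G) : ∃ x ∈ A, x ≠ 1 ∧ x ≠ a ∧ x ≠ b ∧ x ≠ c := by
  classical
  obtain ⟨x, hx, h1⟩ := ex_out (A := A) {1, a, b, c} (Finset.card_le_four.trans_lt h)
  exact ⟨x, hx, by simpa using h1⟩

theorem ex3 (h : 4 ≤ ♯A) (a b : G) : ∃ x ∈ A, x ≠ 1 ∧ x ≠ a ∧ x ≠ b := by
  classical
  obtain ⟨x, hx, h1⟩ := ex_out (A := A) {1, a, b} (Finset.card_le_three.trans_lt h)
  exact ⟨x, hx, by simpa using h1⟩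

omit [Finite G] in
theorem inv2 (h : a * a = 1) : a⁻¹ = a := inv_eq_of_mul_eq_one_left h

omit [Finite G] in
theorem dih1 (ha : a * a = 1) (hb : b * b = 1) (k : ℤ) : a * (a * b) ^ k * a⁻¹ = (a * b) ^ (-k) := by
  rw [← conj_zpow, zpow_neg, ← inv_zpow, mul_inv_rev, inv2 ha, inv2 hb, ← mul_assoc, ha, one_mul]

omit [Finite G] in
theorem dih2 (ha : a * a = 1) (hb : b * b = 1) (k : ℤ) : b * (a * b) ^ k * b⁻¹ = (a * b) ^ (-k) := by
  rw [← conj_zpow, zpow_neg, ← inv_zpow, mul_inv_rev, inv2 ha, inv2 hb, mul_assoc, mul_assoc, hb,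
    mul_one]

omit [Finite G] in
theorem dih1n (ha : a * a = 1) (hb : b * b = 1) (k : ℕ) : a * (a * b) ^ k * a⁻¹ = ((a * b) ^ k)⁻¹ := by
  simpa using dih1 ha hb k

omit [Finite G] in
theorem dih2n (ha : a * a = 1) (hb : b * b = 1) (k : ℕ) : b * (a * b) ^ k * b⁻¹ = ((a * b) ^ k)⁻¹ := by
  simpa using dih2 ha hb k

theorem ex_pow (hS : TwoG S) (hc : c ∈ S) (h1 : c ≠ 1) :
    ∃ k, c ^ 2 ^ k ≠ 1 ∧ c ^ 2 ^ k * c ^ 2 ^ k = 1 := by
  obtain ⟨k, hk⟩ := (hS.piElt hc).exists_pow p2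
  rcases k with _ | k
  · exact absurd (orderOf_eq_one_iff.1 hk) h1
  refine ⟨k, pow_ne_one_of_lt_orderOf (by positivity) (hk ▸ by gcongr <;> omega), ?_⟩
  rw [← pow_add, ← two_mul, ← pow_succ', ← hk, pow_orderOf_eq_one]

theorem ex_sq (hP : TwoG H) (hn : H ≤ N[K]) (h : ¬ H ≤ K) : ∃ x ∈ H, x ∉ K ∧ x * x ∈ K := by
  obtain ⟨y, hy, h1, h2⟩ := TwoG.exists_inv (hP.quo K) (mt (quo_eq_bot hn).1 h)
  obtain ⟨x, hx, hxN, rfl⟩ := mem_quo.1 hy
  exact ⟨x, hx, mt (cs_eq_one hxN).2 h1, (cs_sq hxN).1 h2⟩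

theorem grow (hS : TwoG S) (h : K < S) : ∃ y ∈ S, y ∈ N[K] ∧ y ∉ K ∧ y * y ∈ K := by
  obtain ⟨y, hy, h1⟩ := ex_sq (hS.inf_left N[K]) inf_le_right
    ((hS.nil p2).proper_norm h).not_ge
  exact ⟨y, hy.1, hy.2, h1⟩

theorem cen_mod (hT : TwoG T) (hB : B ≤ T) (h : ¬ B ≤ A) (hA : T ≤ N[A]) (hn : T ≤ N[B]) :
    ∃ b ∈ B, b ∉ A ∧ b * b ∈ A ∧ ∀ x ∈ T, x⁻¹ * (b * x * b⁻¹) ∈ A := by
  have h1 : quo B A ⊓ C[quo T A] ≠ ⊥ := ((hT.quo A).nil p2).inf_C_ne_bot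
    (Nml.quo ⟨hB, hn⟩ A) fun e => h ((quo_eq_bot (hB.trans hA)).1 e)
  obtain ⟨x, ⟨hx, hx'⟩, x1, x2⟩ := TwoG.exists_inv (((hT.of_le hB).quo A).inf_left _) h1
  obtain ⟨b, hb, hb', rfl⟩ := mem_quo.1 hx
  exact ⟨b, hb, fun e => x1 ((cs_eq_one hb').2 e), (cs_sq hb').1 x2, (mem_C_quo hA hb').1 hx'⟩

omit [Finite G] in
theorem cjm (g a b : G) : g * (a * b) * g⁻¹ = g * a * g⁻¹ * (g * b * g⁻¹) := by group
omit [Finite G] in
theorem cjj (g h a : G) : g * h * a * (g * h)⁻¹ = g * (h * a * h⁻¹) * g⁻¹ := by group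
omit [Finite G] in
theorem cj2 (h : g * g = 1) (a : G) : g * (g * a * g⁻¹) * g⁻¹ = a := by rw [← cjj, h]; group
omit [Finite G] in
theorem cj_of_cm (h : g * x = x * g) : g * x * g⁻¹ = x := by rw [h, mul_inv_cancel_right]
omit [Finite G] in
theorem cm_of_cj (h : g * x * g⁻¹ = x) : g * x = x * g := mul_inv_eq_iff_eq_mul.1 h
omit [Finite G] in
theorem sq_cm (h : a * b = b * a) : a * b * (a * b) = a * a * (b * b) := by
  rw [mul_assoc, ← mul_assoc b, ← h]; group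
omit [Finite G] in
theorem cj_mem (hs : s ∈ S) (hx : x ∈ S) : s * x * s⁻¹ ∈ S := S.mul_mem (S.mul_mem hs hx) (S.inv_mem hs)
omit [Finite G] in
theorem aL (h : a * b = c) (x : G) : a * (b * x) = c * x := by rw [← mul_assoc, h]

omit [Finite G] in
theorem icj (g x : G) : IsConj x (g * x * g⁻¹) := isConj_iff.2 ⟨g, rfl⟩
omit [Finite G] in
theorem icj' (h : g * x * g⁻¹ = y) : IsConj x y := isConj_iff.2 ⟨g, h⟩

/-- `S` is a 2-group of rank at least three with central involution `z`, and `⟨t, z⟩` is an isolated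
four-group. -/
structure Iso (S : Subgroup G) (z t : G) : Prop where
  two : TwoG S
  zS : z ∈ S
  z1 : z ≠ 1
  z2 : z * z = 1
  zc : ∀ s ∈ S, s * z = z * s
  tS : t ∈ S
  t2 : t * t = 1
  iso : ∀ y ∈ S, y * y = 1 → y * t = t * y → y = 1 ∨ y = z ∨ y = t ∨ y = t * z
  rk : ∃ E ≤ S, EA E ∧ 8 ≤ ♯E

/-- `⟨z, e⟩` is a normal four-group of `S`. -/
structure NF (S : Subgroup G) (z e : G) : Prop where
  eS : e ∈ S
  e2 : e * e = 1
  e1 : e ≠ 1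
  ez : e ≠ z
  nf : ∀ s ∈ S, s * e * s⁻¹ = e ∨ s * e * s⁻¹ = e * z

/-- The four elements `1, z, e, e z`. -/
def U4 (z e y : G) : Prop := y = 1 ∨ y = z ∨ y = e ∨ y = e * z

namespace Iso

variable (I : Iso S z t)
include I

theorem cz (hs : s ∈ S) : s * z * s⁻¹ = z := by rw [I.zc s hs, mul_inv_cancel_right]
theorem cjz (hs : s ∈ S) (x : G) : s * (x * z) * s⁻¹ = s * x * s⁻¹ * z := by
  conv_rhs => rw [← I.cz hs]
  group
theorem zz (x : G) : x * z * z = x := by rw [mul_assoc, I.z2, mul_one]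
theorem ne_z (x : G) : x * z ≠ x := fun h => I.z1 (by simpa using h)
theorem sqz (hx : x ∈ S) : x * z * (x * z) = x * x := by
  rw [mul_assoc, ← mul_assoc z, ← I.zc x hx, I.zz]

theorem sym (ha : a ∈ S) (hb : b ∈ S) (h : a * b * a⁻¹ = b * z) : b * a * b⁻¹ = a * z := by
  have h1 : b * a = a * b * z := by
    rw [mul_inv_eq_iff_eq_mul.1 h, mul_assoc b z, ← I.zc a ha, ← mul_assoc, I.zz]
  rw [h1, mul_assoc a, mul_assoc a, I.cz hb]

/-- The elements of `S` fixing `x` modulo `z`. -/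
def pm (x : G) : Subgroup G where
  carrier := {s | s ∈ S ∧ (s * x * s⁻¹ = x ∨ s * x * s⁻¹ = x * z)}
  one_mem' := ⟨S.one_mem, Or.inl (by simp)⟩
  mul_mem' := fun {a b} ha hb => ⟨S.mul_mem ha.1 hb.1, by
    have : a * b * x * (a * b)⁻¹ = a * (b * x * b⁻¹) * a⁻¹ := by group
    rw [this]
    rcases hb.2 with h | h <;> rw [h]
    · exact ha.2
    · rw [I.cjz ha.1]
      rcases ha.2 with h | h <;> rw [h]
      exacts [Or.inr rfl, Or.inl (I.zz x)]⟩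
  inv_mem' := fun {a} ha => ⟨S.inv_mem ha.1, ha.2.imp (fun h => by rw [inv_inv, mul_assoc, ← mul_inv_eq_iff_eq_mul.1 h, inv_mul_cancel_left])
    fun h => by
      have := I.cjz (S.inv_mem ha.1) x
      rw [← h] at this
      rw [← I.zz (a⁻¹ * x * a⁻¹⁻¹), ← this]; group⟩

theorem mem_pm : s ∈ I.pm x ↔ s ∈ S ∧ (s * x * s⁻¹ = x ∨ s * x * s⁻¹ = x * z) := Iff.rfl
theorem pm_le : I.pm x ≤ S := fun _ h => h.1
theorem le_pm : S ⊓ C{x} ≤ I.pm x := fun _ h => ⟨h.1, Or.inl (mem_C1_iff_conj.1 h.2)⟩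

theorem mul_C (ha : a ∈ I.pm x) (hb : b ∈ I.pm x) (h1 : a ∉ C{x}) (h2 : b ∉ C{x}) : a * b ∈ C{x} := by
  have : a * b * x * (a * b)⁻¹ = a * (b * x * b⁻¹) * a⁻¹ := by group
  rw [mem_C1_iff_conj] at h1 h2 ⊢
  rw [this, hb.2.resolve_left h2, I.cjz ha.1, ha.2.resolve_left h1, I.zz]

theorem card_pm (h : H ≤ I.pm x) : ♯H ≤ 2 * ♯(H ⊓ C{x}) :=
  card_le_two inf_le_left fun a ha b hb h1 h2 => ⟨H.mul_mem ha hb,
    I.mul_C (h ha) (h hb) (fun e => h1 ⟨ha, e⟩) fun e => h2 ⟨hb, e⟩⟩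

theorem rk4 (h : S ≤ I.pm x) : ∃ y ∈ S, y ∈ C{x} ∧ y * y = 1 ∧ ¬ U4 z x y := by
  obtain ⟨E, hE, ea, h8⟩ := I.rk
  by_cases hx : E ≤ C{x}
  · obtain ⟨y, hy, h⟩ := ex4 (A := E) (by omega) z x (x * z)
    exact ⟨y, hE hy, hx hy, ea.sq hy, by simpa [U4] using h⟩
  have := I.card_pm (hE.trans h)
  have h1 : x ∉ E := fun e => hx ((ea.le_C).trans (C_le_C1 e))
  by_cases hz : z ∈ E
  · obtain ⟨y, hy, h⟩ := ex3 (A := E ⊓ C{x}) (by omega) z 1
    refine ⟨y, hE hy.1, hy.2, ea.sq hy.1, ?_⟩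
    rintro (e | e | e | e)
    exacts [h.1 e, h.2.1 e, h1 (e ▸ hy.1), h1 ((mul_mem_cancel_right hz).1 (e ▸ hy.1))]
  · obtain ⟨y, hy, h⟩ := ex3 (A := E ⊓ C{x}) (by omega) (x * z) 1
    refine ⟨y, hE hy.1, hy.2, ea.sq hy.1, ?_⟩
    rintro (e | e | e | e)
    exacts [h.1 e, hz (e ▸ hy.1), h1 (e ▸ hy.1), h.2.1 e]

theorem nfz (N : NF S z e) : NF S z (e * z) where
  eS := S.mul_mem N.eS I.zS
  e2 := by rw [I.sqz N.eS, N.e2]
  e1 := fun h => N.ez (by rw [← I.zz e, h, one_mul])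
  ez := fun h => N.e1 (by simpa using h)
  nf := fun s hs => by
    rw [I.cjz hs]
    rcases N.nf s hs with h | h <;> rw [h]
    exacts [Or.inl rfl, Or.inr rfl]

variable (N : NF S z e)
include N

theorem S_pm : S ≤ I.pm e := fun s hs => ⟨hs, N.nf s hs⟩

theorem exT : ∃ y ∈ S, y ∈ C{e} ∧ y * y = 1 ∧ ¬ U4 z e y := I.rk4 (I.S_pm N)

theorem te : t * e * t⁻¹ = e * z := by
  refine (N.nf t I.tS).resolve_left fun h => ?_
  have h1 : e * t = t * e := (mem_C1.1 (mem_C1_iff_conj.2 h)).symm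
  have h2 : S ≤ I.pm t := by
    rcases I.iso e N.eS N.e2 h1 with h | h | h | h
    exacts [absurd h N.e1, absurd h N.ez, h ▸ I.S_pm N, by
      have := I.S_pm (I.nfz N); rwa [h, I.zz] at this]
  obtain ⟨y, hy, h3, h4, h5⟩ := I.rk4 h2
  exact h5 (I.iso y hy h4 (mem_C1.1 h3))

theorem tT : t ∉ C{e} := fun h => I.ne_z e ((I.te N).symm.trans (mem_C1_iff_conj.1 h))

theorem mulT (ha : a ∈ S) (hb : b ∈ S) (h1 : a ∉ C{e}) (h2 : b ∉ C{e}) : a * b ∈ C{e} :=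
  I.mul_C (I.S_pm N ha) (I.S_pm N hb) h1 h2

theorem sqT (ha : a ∈ S) : a * a ∈ C{e} := by
  by_cases h : a ∈ C{e}
  exacts [mul_mem h h, I.mulT N ha ha h h]

theorem zT : z ∈ C{e} := mem_C1.2 (I.zc e N.eS).symm

theorem cjT (hs : s ∈ S) (hx' : x ∈ S) (hx : x ∈ C{e}) : s * x * s⁻¹ ∈ C{e} := by
  have h := conj_mem_cj s hx
  rw [cj_C1] at h
  rcases N.nf s hs with h1 | h1 <;> rw [h1] at h
  · exact h
  · have hz : s * x * s⁻¹ ∈ C{z} := by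
      rw [← I.cz hs, ← cj_C1]; exact conj_mem_cj s (mem_C1.2 (I.zc x hx'))
    rw [mem_C1_comm] at h hz ⊢
    exact (mul_mem_cancel_right hz).1 h

theorem cjT' (hs : s ∈ S) (hx' : x ∈ S) (hx : s * x * s⁻¹ ∈ C{e}) : x ∈ C{e} := by
  have := I.cjT N (S.inv_mem hs) (S.mul_mem (S.mul_mem hs hx') (S.inv_mem hs)) hx
  rwa [show s⁻¹ * (s * x * s⁻¹) * s⁻¹⁻¹ = x by group] at this

theorem ez_sq : e * (e * z) = z := by rw [← mul_assoc, N.e2, one_mul]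

theorem out_e (hy : y ∈ S) (h : y ∉ C{e}) : y * e * y⁻¹ = e * z :=
  (N.nf y hy).resolve_left fun h1 => h (mem_C1_iff_conj.2 h1)

theorem out_e' (hy : y ∈ S) (h : y ∉ C{e}) : e * y * e⁻¹ = y * z := I.sym hy N.eS (I.out_e N hy h)

theorem U_T (h : U4 z e y) : y ∈ S ∧ y ∈ C{e} ∧ y * y = 1 := by
  rcases h with rfl | rfl | rfl | rfl
  exacts [⟨S.one_mem, one_mem _, mul_one _⟩, ⟨I.zS, I.zT N, I.z2⟩, ⟨N.eS, self_mem_C1 _, N.e2⟩,
    ⟨(I.nfz N).eS, mul_mem (self_mem_C1 _) (I.zT N), (I.nfz N).e2⟩]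

theorem U_c (h : U4 z e y) (hx : x ∈ S) (hx' : x ∈ C{e}) : x * y = y * x := by
  rcases h with rfl | rfl | rfl | rfl
  exacts [by simp, I.zc x hx, mem_C1.1 hx', (Commute.mul_right (mem_C1.1 hx') (I.zc x hx) :)]

theorem U_mul (h : U4 z e x) (h' : U4 z e y) : U4 z e (x * y) := by
  have h1 : z * e = e * z := (I.zc e N.eS).symm
  have h2 : z * (e * z) = e := by rw [← mul_assoc, h1, I.zz]
  have h3 : e * z * e = z := by rw [mul_assoc, h1, I.ez_sq N]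
  rcases h with h | h | h | h <;> rcases h' with h' | h' | h' | h' <;> rw [h, h'] <;>
    simp [U4, h1, h2, h3, I.z2, N.e2, I.zz, I.ez_sq N, (I.nfz N).e2]

theorem U_cj (h : U4 z e y) (hs : s ∈ S) : U4 z e (s * y * s⁻¹) := by
  rcases h with h | h | h | h <;> rw [h]
  · simp [U4]
  · simp [U4, I.cz hs]
  · exact Or.inr (Or.inr (N.nf s hs))
  · rcases (I.nfz N).nf s hs with h | h <;> simp [U4, h, I.zz]

/-- The normal four-group. -/
def U : Subgroup G where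
  carrier := {y | U4 z e y}
  one_mem' := Or.inl rfl
  mul_mem' := I.U_mul N
  inv_mem' := fun h => by rwa [Set.mem_setOf_eq, inv2 (I.U_T N h).2.2]

theorem R1 (hy : y ∈ S) (h1 : y ∈ C{e}) (h2 : t * y * t⁻¹ = y) (h3 : y * y = 1) : y = 1 ∨ y = z := by
  rcases I.iso y hy h3 (cm_of_cj h2).symm with h | h | h | h
  exacts [Or.inl h, Or.inr h, absurd (h ▸ h1) (I.tT N),
    absurd ((mul_mem_cancel_right (I.zT N)).1 (h ▸ h1)) (I.tT N)]

theorem cov (hy : y ∈ S) (h1 : y ∈ C{e}) (h : t * y * t⁻¹ = y * z) : t * (y * e) * t⁻¹ = y * e := by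
  rw [cjm, h, I.te N, mul_assoc, ← mul_assoc z, ← I.zc e N.eS, I.zz]

theorem B1 (hy : y ∈ S) (h1 : y ∈ C{e}) (h2 : y * y = 1)
    (h3 : y * (t * y * t⁻¹) = t * y * t⁻¹ * y) : U4 z e y := by
  have h4 := cj_mem I.tS hy
  rcases I.R1 N (S.mul_mem hy h4) (mul_mem h1 (I.cjT N I.tS hy h1))
    (by rw [cjm, cj2 I.t2, h3]) (by rw [sq_cm h3, h2, conj_sq h2, one_mul]) with h | h
  · rcases I.R1 N hy h1 (by rw [eq_inv_of_mul_eq_one_right h, inv2 h2]) h2 with h | h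
    exacts [Or.inl h, Or.inr (Or.inl h)]
  · have h5 : y * e * (y * e) = 1 := by rw [sq_cm (mem_C1.1 h1), h2, N.e2, one_mul]
    have h6 : y = y * e * e := by rw [mul_assoc, N.e2, mul_one]
    rw [h6]
    refine I.U_mul N ?_ (Or.inr (Or.inr (Or.inl rfl)))
    rcases I.R1 N (S.mul_mem hy N.eS) (mul_mem h1 (self_mem_C1 _))
      (I.cov N hy h1 (by rw [← h, ← mul_assoc, h2, one_mul])) h5 with h | h
    exacts [Or.inl h, Or.inr (Or.inl h)]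

theorem pow_T (hc : c ∈ S) (k : ℕ) : c ^ (2 * k) ∈ C{e} := by
  rw [pow_mul, sq]; exact pow_mem (I.sqT N hc) _

theorem dihed (hy : y ∈ S) (h1 : y ∈ C{e}) (h2 : y * y = 1) (h3 : ¬ U4 z e y) :
    ∃ n, (y * t) ^ 2 ^ (n + 2) = z := by
  have hc := S.mul_mem hy I.tS
  have hT : y * t ∉ C{e} := fun h => I.tT N ((mul_mem_cancel_left h1).1 h)
  obtain ⟨k, k1, k2⟩ := ex_pow I.two hc fun h => hT (h ▸ one_mem _)
  have h4 : t * (y * t) * t⁻¹ ≠ y * t := fun h => by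
    rw [cjm, mul_inv_cancel_right, mul_left_inj] at h
    rcases I.R1 N hy h1 h h2 with h | h
    exacts [h3 (Or.inl h), h3 (Or.inr (Or.inl h))]
  have h5 : (y * t) * (y * t) ^ 2 ^ k = (y * t) ^ 2 ^ k * (y * t) := (Commute.self_pow (y * t) _).eq
  have h6 : (y * t) ^ 2 ^ k = z := by
    rcases I.iso _ (pow_mem hc _) k2 (cm_of_cj (by rw [dih2n h2 I.t2, inv2 k2])).symm with h | h | h | h
    · exact absurd h k1
    · exact h
    · rw [h] at h5; exact absurd (cj_of_cm h5.symm) h4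
    · rw [h, ← mul_assoc, mul_assoc t, ← I.zc _ hc, ← mul_assoc, mul_left_inj] at h5
      exact absurd (cj_of_cm h5.symm) h4
  rcases k with _ | _ | k
  · exact absurd (by rw [← pow_one (y * t), ← pow_zero 2, h6]; exact I.zT N) hT
  · refine absurd (I.B1 N hy h1 h2 ?_) h3
    have : t * y * t⁻¹ = y * z := by
      rw [← h6, inv2 I.t2]; simp only [zero_add, pow_one, sq, mul_assoc, aL h2, one_mul]
    rw [this, ← mul_assoc, mul_assoc y z, ← I.zc y hy, mul_assoc]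
  · exact ⟨k, h6⟩

omit I N in
theorem dih_mid (ha : a * a = 1) (hb : b * b = 1) (k : ℕ) :
    ((a * b) ^ k)⁻¹ * a * ((a * b) ^ k)⁻¹⁻¹ = a * (a * b) ^ (2 * k) := by
  rw [inv_inv, ← dih1n ha hb, inv2 ha, two_mul, pow_add]
  simp only [mul_assoc, aL ha, one_mul]

theorem zmul (hy : y ∈ S) (h2 : y * y = 1) (y1 : y ≠ 1) (yz : y ≠ z) :
    ∃ s ∈ S, s * y * s⁻¹ = y * z := by
  by_cases h1 : y ∈ C{e}
  · by_cases h3 : U4 z e y
    · rcases h3 with h | h | h | h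
      exacts [absurd h y1, absurd h yz, ⟨t, I.tS, h ▸ I.te N⟩, ⟨t, I.tS, h ▸ I.te (I.nfz N)⟩]
    · obtain ⟨n, h⟩ := I.dihed N hy h1 h2 h3
      refine ⟨_, S.inv_mem (pow_mem (S.mul_mem hy I.tS) (2 ^ (n + 1))), ?_⟩
      rw [dih_mid h2 I.t2, ← pow_succ', h]
  · exact ⟨e, N.eS, I.out_e' N hy h1⟩

theorem card_pm_eq (hy : y ∈ S) (h2 : y * y = 1) (y1 : y ≠ 1) (yz : y ≠ z) :
    2 * ♯(S ⊓ C{y}) ≤ ♯(I.pm y) := by
  obtain ⟨s, hs, h⟩ := I.zmul N hy h2 y1 yz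
  exact two_mul_le (lt_of_le_of_ne I.le_pm fun e => I.ne_z y
    (h.symm.trans (mem_C1_iff_conj.1 (e.ge ⟨hs, Or.inr h⟩).2)))

end Iso

end H7.NC
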