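import Mathlib
import Cfsg.Agent.H29.Ext

/-!
# Small groups on numeric codes

A Cayley table certificate (`Cay`) proves that letters satisfying some relators generate a group
whose elements are named by the codes below `n`; a model (`GM`) gives the multiplication on codes.
-/

set_option autoImplicit false

namespace H7.Cay

open H29

theorem nbeq {a b : ℕ} : Nat.beq a b = true ↔ a = b := H29.beq_true

/-- Entry `i` of a table packed with `b` bits for each entry. -/
def pk (T b i : ℕ) : ℕ := Nat.mod (Nat.shiftRight T (Nat.mul b i)) (Nat.pow 2 b)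

theorem pk_lt (T b i : ℕ) : pk T b i < 2 ^ b := Nat.mod_lt _ (Nat.two_pow_pos b)

/-- Bit test. -/
def tb (m i : ℕ) : Bool := Nat.beq (Nat.mod (Nat.shiftRight m i) 2) 1

theorem tb_eq (m i : ℕ) : tb m i = m.testBit i := by
  rw [tb, Nat.testBit_eq_decide_div_mod_eq, shr_eq, Nat.shiftRight_eq_div_pow]
  by_cases h : m / 2 ^ i % 2 = 1
  · simp only [h, decide_true]; exact nbeq.2 h
  · simp only [h, decide_false]
    rw [← Bool.not_eq_true, nbeq]; exact h

/-- Set a bit. -/
def sb (m i : ℕ) : ℕ := Nat.lor m (Nat.shiftLeft 1 i)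

theorem tb_sb (m i j : ℕ) : tb (sb m i) j = true ↔ tb m j = true ∨ i = j := by
  rw [tb_eq, tb_eq, sb, lor_eq, Nat.testBit_or, shl_eq, Nat.one_shiftLeft, Nat.testBit_two_pow]
  simp

/-- Strict comparison. -/
def lt (a b : ℕ) : Bool := Nat.ble (Nat.succ a) b

@[simp] theorem lt_true {a b : ℕ} : lt a b = true ↔ a < b := ble_true

/-- Some member of a list passes a test. -/
noncomputable def anyL {α : Type} (l : List α) (f : α → Bool) : Bool :=
  List.rec (motive := fun _ => Bool) false (fun a _ ih => Bool.rec ih true (f a)) l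

theorem anyL_true {α : Type} {l : List α} {f : α → Bool} :
    anyL l f = true ↔ ∃ a ∈ l, f a = true := by
  induction l with
  | nil => simp [anyL]
  | cons a t ih =>
    have : anyL (a :: t) f = Bool.rec (anyL t f) true (f a) := rfl
    rw [this]
    cases h : f a <;> simp [h, ih]

/-- Short-circuit disjunction. -/
noncomputable def or2 (a b : Bool) : Bool := Bool.rec b true a

@[simp] theorem or2_true {a b : Bool} : or2 a b = true ↔ a = true ∨ b = true := by
  cases a <;> cases b <;> simp [or2]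

/-- Short-circuit implication. -/
noncomputable def imp2 (a b : Bool) : Bool := Bool.rec true b a

@[simp] theorem imp2_true {a b : Bool} : imp2 a b = true ↔ (a = true → b = true) := by
  cases a <;> cases b <;> simp [imp2]

/-- All numbers below `n` pass a test; the argument is forced. -/
noncomputable def allF (n : ℕ) (f : ℕ → Bool) : Bool := allN n fun c => lit c f

theorem allF_true {n : ℕ} {f : ℕ → Bool} : allF n f = true ↔ ∀ a < n, f a = true := allN_true

/-- All numbers in `[s, s + n)` pass a test. -/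
noncomputable def allR (s n : ℕ) (f : ℕ → Bool) : Bool := allN n fun c => lit (Nat.add s c) f

theorem allR_true {s n : ℕ} {f : ℕ → Bool} :
    allR s n f = true ↔ ∀ a, s ≤ a → a < s + n → f a = true := by
  rw [allR, allN_true]
  constructor
  · intro h a h1 h2
    have := h (a - s) (by omega)
    rwa [lit_eq, Nat.add_eq, show s + (a - s) = a by omega] at this
  · intro h a ha
    exact h (s + a) (by omega) (by omega)

/-- Equality test of lists of words. -/
noncomputable def eqLL (A : List (List ℕ)) : List (List ℕ) → Bool :=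
  List.rec (motive := fun _ => List (List ℕ) → Bool)
    (fun B => List.rec (motive := fun _ => Bool) true (fun _ _ _ => false) B)
    (fun a _ ih B => List.rec (motive := fun _ => Bool) false
      (fun b B' _ => and2 (eqL a b) (ih B')) B) A

theorem eqLL_true : ∀ {A B : List (List ℕ)}, eqLL A B = true → A = B
  | [], [], _ => rfl
  | [], _ :: _, h => absurd h (by simp [show ∀ b B, eqLL [] (b :: B) = false from fun _ _ => rfl])
  | _ :: _, [], h => absurd h (by simp [show ∀ a A, eqLL (a :: A) [] = false from fun _ _ => rfl])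
  | a :: A, b :: B, h => by
    rw [show eqLL (a :: A) (b :: B) = and2 (eqL a b) (eqLL A B) from rfl, and2_true] at h
    rw [eqL_true h.1, eqLL_true h.2]

theorem rot_ok {G : Type*} [Group G] {e : ℕ → G} {iv : ℕ → ℕ} (h1 : IvOK e iv)
    {R RR : List (List ℕ)} (h2 : ∀ r ∈ R, ev e r = 1) {O : List (ℕ × ℕ × ℕ)}
    (h : eqLL RR (O.map fun o => rotW iv R o.1 o.2.1 o.2.2) = true) : ∀ r ∈ RR, ev e r = 1 := by
  rw [eqLL_true h]
  intro r hr
  obtain ⟨o, -, rfl⟩ := List.mem_map.1 hr
  exact ev_rotW h1 h2 _ _ _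

/-- Multiplication and inversion on the codes below `n`. -/
structure GM where
  n : ℕ
  mul : ℕ → ℕ → ℕ
  inv : ℕ → ℕ

variable {G : Type*} [Group G]

/-- `φ` is a homomorphism from the codes. -/
structure GM.Sound (M : GM) (φ : ℕ → G) : Prop where
  pos : 0 < M.n
  zero : φ 0 = 1
  mul_lt : ∀ a < M.n, ∀ b < M.n, M.mul a b < M.n
  inv_lt : ∀ a < M.n, M.inv a < M.n
  map_mul : ∀ a < M.n, ∀ b < M.n, φ (M.mul a b) = φ a * φ b
  map_inv : ∀ a < M.n, φ (M.inv a) = (φ a)⁻¹

/-- The subgroup of the named elements. -/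
def GM.Sound.sub {M : GM} {φ : ℕ → G} (h : M.Sound φ) : Subgroup G where
  carrier := {g | ∃ c < M.n, φ c = g}
  one_mem' := ⟨0, h.pos, h.zero⟩
  mul_mem' := by
    rintro _ _ ⟨a, ha, rfl⟩ ⟨b, hb, rfl⟩
    exact ⟨_, h.mul_lt a ha b hb, h.map_mul a ha b hb⟩
  inv_mem' := by
    rintro _ ⟨a, ha, rfl⟩
    exact ⟨_, h.inv_lt a ha, h.map_inv a ha⟩

theorem GM.Sound.mem_sub {M : GM} {φ : ℕ → G} (h : M.Sound φ) {g : G} :
    g ∈ h.sub ↔ ∃ c < M.n, φ c = g := Iff.rfl

theorem GM.Sound.mem {M : GM} {φ : ℕ → G} (h : M.Sound φ) {c : ℕ} (hc : c < M.n) :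
    φ c ∈ h.sub := ⟨c, hc, rfl⟩

theorem GM.Sound.surj {M : GM} {φ : ℕ → G} (h : M.Sound φ) :
    Function.Surjective fun c : Fin M.n => (⟨φ c, h.mem c.2⟩ : h.sub) := by
  rintro ⟨_, c, hc, rfl⟩
  exact ⟨⟨c, hc⟩, rfl⟩

theorem GM.Sound.bd {M : GM} {φ : ℕ → G} (h : M.Sound φ) : Bd h.sub M.n :=
  ⟨Finite.of_surjective _ h.surj, by simpa using Nat.card_le_card_of_surjective _ h.surj⟩

/-- Different codes name different elements. -/
def GM.Inj (M : GM) (φ : ℕ → G) : Prop := ∀ a < M.n, ∀ b < M.n, φ a = φ b → a = b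

theorem GM.Sound.inj_of_card {M : GM} {φ : ℕ → G} (h : M.Sound φ) (hc : M.n ≤ Nat.card h.sub) :
    M.Inj φ := by
  have := h.bd.1
  have hb := (Nat.bijective_iff_surjective_and_card _).2
    ⟨h.surj, le_antisymm (by simpa using hc) (Nat.card_le_card_of_surjective _ h.surj)⟩
  intro a ha b hb' e
  have := hb.1 (a₁ := ⟨a, ha⟩) (a₂ := ⟨b, hb'⟩) (Subtype.ext e)
  simpa using this

theorem GM.Sound.card_of_inj {M : GM} {φ : ℕ → G} (h : M.Sound φ) (hi : M.Inj φ) :
    Nat.card h.sub = M.n := by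
  have : Function.Bijective fun c : Fin M.n => (⟨φ c, h.mem c.2⟩ : h.sub) :=
    ⟨fun a b e => Fin.ext (hi a a.2 b b.2 (congrArg Subtype.val e)), h.surj⟩
  simpa using (Nat.card_eq_of_bijective _ this).symm

theorem GM.Sound.inj_of_ker {M : GM} {φ : ℕ → G} (h : M.Sound φ)
    (h1 : ∀ a < M.n, φ a = 1 → a = 0)
    (h2 : ∀ a < M.n, ∀ b < M.n, M.mul a (M.inv b) = 0 → a = b) : M.Inj φ := by
  intro a ha b hb e
  refine h2 a ha b hb (h1 _ (h.mul_lt a ha _ (h.inv_lt b hb)) ?_)
  rw [h.map_mul a ha _ (h.inv_lt b hb), h.map_inv b hb, e, mul_inv_cancel]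

theorem GM.Sound.comp {M : GM} {φ : ℕ → G} (h : M.Sound φ) {H : Type*} [Group H] (f : G →* H) :
    M.Sound fun c => f (φ c) :=
  ⟨h.pos, by simp [h.zero], h.mul_lt, h.inv_lt,
    fun a ha b hb => by simp [h.map_mul a ha b hb], fun a ha => by simp [h.map_inv a ha]⟩

theorem GM.Sound.prod {M : GM} {φ : ℕ → G} (h : M.Sound φ) {H : Type*} [Group H] {ψ : ℕ → H}
    (h' : M.Sound ψ) : M.Sound fun c => (φ c, ψ c) :=
  ⟨h.pos, by simp [h.zero, h'.zero], h.mul_lt, h.inv_lt,
    fun a ha b hb => by simp [h.map_mul a ha b hb, h'.map_mul a ha b hb],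
    fun a ha => by simp [h.map_inv a ha, h'.map_inv a ha]⟩

/-- A Cayley table with a spanning tree. -/
structure Tab where
  n : ℕ
  /-- number of letters -/
  nl : ℕ
  /-- bits for a code -/
  b : ℕ
  /-- bits for a letter -/
  bl : ℕ
  /-- the table, entry `c * nl + l` -/
  T : ℕ
  /-- parents -/
  P : ℕ
  /-- letters of the tree -/
  L : ℕ
  /-- a bound for the depth of the tree -/
  dep : ℕ

namespace Tab

variable (C : Tab)

/-- Right multiplication by a letter. -/
def step (c l : ℕ) : ℕ := pk C.T C.b (Nat.add (Nat.mul c C.nl) l)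

/-- The parent. -/
def par (c : ℕ) : ℕ := pk C.P C.b c

/-- The letter of the tree edge. -/
def let' (c : ℕ) : ℕ := pk C.L C.bl c

/-- The element named by a code. -/
noncomputable def val (e : ℕ → G) (c : ℕ) : G :=
  if C.par c < c then val e (C.par c) * e (C.let' c) else 1
termination_by c

theorem val_zero (e : ℕ → G) : C.val e 0 = 1 := by rw [val]; simp

theorem val_mem {e : ℕ → G} {H : Subgroup G} (h : ∀ l, e l ∈ H) (c : ℕ) : C.val e c ∈ H := by
  induction c using Nat.strong_induction_on with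
  | _ c ih =>
    rw [val]
    split_ifs with h1
    · exact H.mul_mem (ih _ h1) (h _)
    · exact H.one_mem

theorem map_val {H : Type*} [Group H] (f : G →* H) (e : ℕ → G) (c : ℕ) :
    f (C.val e c) = C.val (fun l => f (e l)) c := by
  induction c using Nat.strong_induction_on with
  | _ c ih =>
    rw [val.eq_1 _ _ c, val.eq_1 _ _ c]
    split_ifs with h1
    · rw [map_mul, ih _ h1]
    · simp

/-- The edge `(c, l)` of the table is right. -/
def Edge (e : ℕ → G) (c l : ℕ) : Prop := C.val e c * e l = C.val e (C.step c l)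

/-- All edges in the bit set `m` are right. -/
def Known (e : ℕ → G) (m : ℕ) : Prop := ∀ l < C.nl, ∀ c, tb m (c * C.nl + l) = true → C.Edge e c l

/-- Follow the word `u` along known edges; the result is `n` on failure. -/
noncomputable def walk (m : ℕ) (u : List ℕ) : ℕ → ℕ :=
  List.rec (motive := fun _ => ℕ → ℕ) (fun c => c) (fun y _ ih c =>
    Bool.rec C.n (lit (C.step c y) ih)
      (and2 (lt y C.nl) (tb m (Nat.add (Nat.mul c C.nl) y)))) u

variable {C}

theorem walk_spec {e : ℕ → G} {m : ℕ} (h : C.Known e m) : ∀ (u : List ℕ) (c : ℕ),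
    C.walk m u c < C.n → C.val e c * ev e u = C.val e (C.walk m u c)
  | [], c, _ => by simp [show C.walk m [] c = c from rfl]
  | y :: u, c, h1 => by
    have e1 : C.walk m (y :: u) c = Bool.rec C.n (C.walk m u (C.step c y))
      (and2 (lt y C.nl) (tb m (Nat.add (Nat.mul c C.nl) y))) := rfl
    rw [e1] at h1 ⊢
    cases h2 : and2 (lt y C.nl) (tb m (Nat.add (Nat.mul c C.nl) y)) with
    | false => rw [h2] at h1; exact absurd h1 (lt_irrefl _)
    | true =>
      rw [h2] at h1
      rw [and2_true, lt_true] at h2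
      change _ = C.val e (C.walk m u (C.step c y))
      rw [← walk_spec h u _ h1, ev_cons, ← mul_assoc, h y h2.1 c h2.2]

theorem Known.add {e : ℕ → G} {m c l : ℕ} (h : C.Known e m) (hl : l < C.nl) (h1 : C.Edge e c l) :
    C.Known e (sb m (Nat.add (Nat.mul c C.nl) l)) := by
  intro l' hl' c' h2
  rcases (tb_sb _ _ _).1 h2 with h3 | h3
  · exact h l' hl' c' h3
  · change c * C.nl + l = c' * C.nl + l' at h3
    have a1 : l = l' := by
      have := congrArg (· % C.nl) h3
      simpa [Nat.mod_eq_of_lt hl, Nat.mod_eq_of_lt hl'] using this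
    subst a1
    have a2 : c = c' := Nat.eq_of_mul_eq_mul_right (by omega : 0 < C.nl) (by omega)
    exact a2 ▸ h1

variable (C)

/-- Add the edge `(c, l)` with end `d`, and its reverse, then continue. -/
noncomputable def add2 (iv : ℕ → ℕ) (m c l d : ℕ) (k : ℕ → Bool) : Bool :=
  lit (iv l) fun l' => and2 (and2 (and2 (lt l C.nl) (lt l' C.nl))
    (and2 (Nat.beq (C.step c l) d) (Nat.beq (C.step d l') c)))
      (seqN (sb (sb m (Nat.add (Nat.mul c C.nl) l)) (Nat.add (Nat.mul d C.nl) l')) k)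

variable {C}

theorem add2_spec {e : ℕ → G} {iv : ℕ → ℕ} (hiv : IvOK e iv) {m c l d : ℕ} {k : ℕ → Bool}
    (h : C.Known e m) (h1 : C.val e c * e l = C.val e d) (h2 : C.add2 iv m c l d k = true) :
    ∃ m', C.Known e m' ∧ k m' = true := by
  simp only [add2, lit_eq, and2_true, lt_true, nbeq, seqN_eq] at h2
  obtain ⟨⟨⟨a1, a2⟩, a3, a4⟩, a5⟩ := h2
  refine ⟨_, (h.add a1 ?_).add a2 ?_, a5⟩
  · rw [Edge, a3, h1]
  · rw [Edge, a4, ← h1, hiv]; simp

variable (C)

/-- The tree edges of the codes `1, …, j`. -/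
noncomputable def tree (iv : ℕ → ℕ) (k : ℕ → Bool) (j : ℕ) : ℕ → Bool :=
  Nat.rec (motive := fun _ => ℕ → Bool) k (fun i ih m => lit (Nat.succ i) fun c =>
    lit (C.par c) fun p => and2 (lt p c) (lit (C.let' c) fun l => C.add2 iv m p l c ih)) j

/-- The deductions, `w` of them, packed with `bd` bits each: `c * nr + r` deduces the edge at `c`
from the word number `r` of `R`. -/
noncomputable def deds (iv : ℕ → ℕ) (R : List (List ℕ)) (nr bd : ℕ) (k : ℕ → Bool) (w : ℕ) :
    ℕ → ℕ → Bool :=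
  Nat.rec (motive := fun _ => ℕ → ℕ → Bool) (fun _ m => k m) (fun _ ih D m =>
    lit (Nat.mod D (Nat.pow 2 bd)) fun x => seqN (Nat.shiftRight D bd) fun D' =>
      lit (Nat.div x nr) fun c =>
        List.rec (motive := fun _ => Bool) false (fun l u _ => lit l fun l =>
          lit (C.step c l) fun d => and2 (and2 (lt c C.n) (Nat.beq (C.walk m u d) c))
            (C.add2 iv m c l d (ih D'))) (nth [] R (Nat.mod x nr))) w

/-- Several chunks of deductions. -/
noncomputable def dedL (iv : ℕ → ℕ) (R : List (List ℕ)) (nr bd : ℕ) (k : ℕ → Bool)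
    (l : List (ℕ × ℕ)) : ℕ → Bool :=
  List.rec (motive := fun _ => ℕ → Bool) k (fun a _ ih m => C.deds iv R nr bd ih a.1 a.2 m) l

variable {C}

theorem tree_spec {e : ℕ → G} {iv : ℕ → ℕ} (hiv : IvOK e iv) {k : ℕ → Bool} :
    ∀ (j m : ℕ), C.Known e m → C.tree iv k j m = true → ∃ m', C.Known e m' ∧ k m' = true
  | 0, m, h, h1 => ⟨m, h, h1⟩
  | j + 1, m, h, h1 => by
    change and2 (lt (C.par (j + 1)) (j + 1)) (C.add2 iv m (C.par (j + 1)) (C.let' (j + 1)) (j + 1)
      (C.tree iv k j)) = true at h1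
    rw [and2_true, lt_true] at h1
    obtain ⟨m', a1, a2⟩ := add2_spec hiv h (by rw [val.eq_1 _ _ (j + 1), if_pos h1.1]) h1.2
    exact tree_spec hiv j m' a1 a2

theorem deds_spec {e : ℕ → G} {iv : ℕ → ℕ} (hiv : IvOK e iv) {R : List (List ℕ)}
    (hR : ∀ r ∈ R, ev e r = 1) {nr bd : ℕ} {k : ℕ → Bool} :
    ∀ (w D m : ℕ), C.Known e m → C.deds iv R nr bd k w D m = true →
      ∃ m', C.Known e m' ∧ k m' = true
  | 0, _, m, h, h1 => ⟨m, h, h1⟩
  | w + 1, D, m, h, h1 => by
    have hr : ev e (nth [] R (Nat.mod (Nat.mod D (Nat.pow 2 bd)) nr)) = 1 :=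
      nth_forall (p := fun w => ev e w = 1) rfl hR _
    change seqN (Nat.shiftRight D bd) (fun D' => List.rec (motive := fun _ => Bool) false
      (fun l u _ => and2 (and2 (lt (Nat.div (Nat.mod D (Nat.pow 2 bd)) nr) C.n)
        (Nat.beq (C.walk m u (C.step (Nat.div (Nat.mod D (Nat.pow 2 bd)) nr) l))
          (Nat.div (Nat.mod D (Nat.pow 2 bd)) nr)))
        (C.add2 iv m (Nat.div (Nat.mod D (Nat.pow 2 bd)) nr) l
          (C.step (Nat.div (Nat.mod D (Nat.pow 2 bd)) nr) l) (C.deds iv R nr bd k w D')))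
      (nth [] R (Nat.mod (Nat.mod D (Nat.pow 2 bd)) nr))) = true at h1
    rw [seqN_eq] at h1
    generalize Nat.div (Nat.mod D (Nat.pow 2 bd)) nr = c at h1
    generalize nth [] R (Nat.mod (Nat.mod D (Nat.pow 2 bd)) nr) = r at h1 hr
    cases r with
    | nil => exact absurd h1 (by simp)
    | cons l u =>
      change and2 (and2 _ _) _ = true at h1
      simp only [and2_true, lt_true, nbeq] at h1
      have h2 := walk_spec h u (C.step c l) (by rw [h1.1.2]; exact h1.1.1)
      rw [h1.1.2] at h2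
      rw [ev_cons, mul_eq_one_comm] at hr
      obtain ⟨m', a1, a2⟩ := add2_spec hiv h
        (by rw [← h2, mul_assoc, hr, mul_one]) h1.2
      exact deds_spec hiv hR w _ m' a1 a2

theorem dedL_spec {e : ℕ → G} {iv : ℕ → ℕ} (hiv : IvOK e iv) {R : List (List ℕ)}
    (hR : ∀ r ∈ R, ev e r = 1) {nr bd : ℕ} {k : ℕ → Bool} :
    ∀ (l : List (ℕ × ℕ)) (m : ℕ), C.Known e m → C.dedL iv R nr bd k l m = true →
      ∃ m', C.Known e m' ∧ k m' = true
  | [], m, h, h1 => ⟨m, h, h1⟩
  | a :: l, m, h, h1 => by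
    obtain ⟨m', a1, a2⟩ := deds_spec hiv hR a.1 a.2 m h h1
    exact dedL_spec hiv hR l m' a1 a2

theorem known_zero (e : ℕ → G) : C.Known e 0 := fun _ _ _ h => by simp [tb_eq] at h

theorem Known.mono {e : ℕ → G} {m m' : ℕ} (h : C.Known e m) (h1 : sub m' m = true) :
    C.Known e m' := fun l hl c h2 => h l hl c (by rw [tb_eq] at h2 ⊢; exact sub_true h1 h2)

/-- First checkpoint: the tree edges. -/
theorem known_tree {e : ℕ → G} {iv : ℕ → ℕ} (hiv : IvOK e iv) {j V : ℕ}
    (h : C.tree iv (sub V) j 0 = true) : C.Known e V := by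
  obtain ⟨m, a1, a2⟩ := tree_spec hiv j 0 (known_zero e) h
  exact a1.mono a2

/-- Next checkpoint. -/
theorem Known.next {e : ℕ → G} {iv : ℕ → ℕ} (hiv : IvOK e iv) {R : List (List ℕ)}
    (hR : ∀ r ∈ R, ev e r = 1) {nr bd U V : ℕ} {l : List (ℕ × ℕ)} (hU : C.Known e U)
    (h : C.dedL iv R nr bd (sub V) l U = true) : C.Known e V := by
  obtain ⟨m, a1, a2⟩ := dedL_spec hiv hR l U hU h
  exact a1.mono a2

variable (C)

/-- The table is right. -/
structure OK (e : ℕ → G) : Prop where
  pos : 0 < C.n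
  slt : ∀ c < C.n, ∀ l < C.nl, C.step c l < C.n
  edge : ∀ c < C.n, ∀ l < C.nl, C.val e c * e l = C.val e (C.step c l)

/-- The table stays below `n`. -/
noncomputable def chkLt : Bool :=
  and2 (lt 0 C.n) (allF C.n fun c => allF C.nl fun l => lt (C.step c l) C.n)

variable {C}

theorem ok_of_known {e : ℕ → G} (h : C.Known e (ones (Nat.mul C.n C.nl))) (h1 : C.chkLt = true) :
    C.OK e := by
  simp only [chkLt, and2_true, allF_true, lt_true] at h1
  refine ⟨h1.1, h1.2, fun c hc l hl => h l hl c ?_⟩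
  rw [tb_eq, testBit_ones, decide_eq_true_eq]
  change _ < C.n * C.nl
  nlinarith

variable (C)

/-- Multiply `x` by the word `u`. -/
noncomputable def run (u : List ℕ) : ℕ → ℕ :=
  List.rec (motive := fun _ => ℕ → ℕ) (fun c => c) (fun y _ ih c =>
    Bool.rec C.n (lit (C.step c y) ih) (lt y C.nl)) u

/-- Slow multiplication along the tree; the result is `n` on failure. -/
noncomputable def smul (x : ℕ) (f : ℕ) : ℕ → ℕ :=
  Nat.rec (motive := fun _ => ℕ → ℕ) (fun _ => C.n) (fun _ ih y =>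
    Bool.rec (lit (C.par y) fun p => lit (C.let' y) fun l => lit (ih p) fun z =>
      Bool.rec C.n (C.step z l) (and2 (and2 (lt p y) (lt l C.nl)) (lt z C.n))) x (Nat.beq y 0)) f

/-- Slow multiplication. -/
noncomputable def mulS (x y : ℕ) : ℕ := C.smul x C.dep y

variable {C}

theorem OK.run {e : ℕ → G} (h : C.OK e) : ∀ (u : List ℕ) (c : ℕ), c < C.n → C.run u c < C.n →
    C.val e (C.run u c) = C.val e c * ev e u
  | [], c, _, _ => by simp [show C.run [] c = c from rfl]
  | y :: u, c, hc, h1 => by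
    have e1 : C.run (y :: u) c = Bool.rec C.n (C.run u (C.step c y)) (lt y C.nl) := rfl
    rw [e1] at h1 ⊢
    cases h2 : lt y C.nl with
    | false => rw [h2] at h1; exact absurd h1 (lt_irrefl _)
    | true =>
      rw [h2] at h1
      rw [lt_true] at h2
      change C.val e (C.run u (C.step c y)) = _
      rw [OK.run h u _ (h.slt c hc y h2) h1, ← h.edge c hc y h2, ev_cons, mul_assoc]

/-- The code of a word. -/
theorem OK.word {e : ℕ → G} (h : C.OK e) {u : List ℕ} {c : ℕ} (hc : c < C.n)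
    (h1 : C.run u 0 = c) : C.val e c = ev e u := by
  rw [← h1, h.run u 0 h.pos (h1 ▸ hc), val_zero, one_mul]

theorem OK.smul {e : ℕ → G} (h : C.OK e) (x : ℕ) : ∀ (f y : ℕ), C.smul x f y < C.n →
    C.val e (C.smul x f y) = C.val e x * C.val e y
  | 0, _, h1 => absurd h1 (lt_irrefl _)
  | f + 1, y, h1 => by
    have e1 : C.smul x (f + 1) y = Bool.rec (Bool.rec C.n (C.step (C.smul x f (C.par y)) (C.let' y))
      (and2 (and2 (lt (C.par y) y) (lt (C.let' y) C.nl)) (lt (C.smul x f (C.par y)) C.n))) x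
      (Nat.beq y 0) := rfl
    rw [e1] at h1 ⊢
    cases h2 : Nat.beq y 0 with
    | true => rw [nbeq.1 h2, val_zero, mul_one]
    | false =>
      rw [h2] at h1
      change C.val e (Bool.rec C.n _ _) = _
      change Bool.rec C.n _ _ < C.n at h1
      cases h3 : and2 (and2 (lt (C.par y) y) (lt (C.let' y) C.nl))
          (lt (C.smul x f (C.par y)) C.n) with
      | false => rw [h3] at h1; exact absurd h1 (lt_irrefl _)
      | true =>
        simp only [and2_true, lt_true] at h3
        change C.val e (C.step _ _) = _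
        rw [← h.edge _ h3.2 _ h3.1.2, OK.smul h x f _ h3.2, val.eq_1 _ _ y, if_pos h3.1.1,
          mul_assoc]

theorem OK.mulS {e : ℕ → G} (h : C.OK e) {x y z : ℕ} (hz : z < C.n) (h1 : C.mulS x y = z) :
    C.val e z = C.val e x * C.val e y := by
  rw [← h1]; exact h.smul x _ y (by rw [← h1] at hz; exact hz)

theorem OK.exists_code {e : ℕ → G} (h : C.OK e) {iv : ℕ → ℕ} (hiv : IvOK e iv) {L : List ℕ}
    (hL : ∀ c ∈ L, iv c ∈ L) (hL' : ∀ c ∈ L, c < C.nl) {g : G} (hg : g ∈ gen e L) :
    ∃ c < C.n, C.val e c = g := by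
  obtain ⟨w, hw, rfl⟩ := exists_word hiv hL hg
  have key : ∀ (w : List ℕ), (∀ c ∈ w, c ∈ L) → ∀ x < C.n,
      ∃ c < C.n, C.val e c = C.val e x * ev e w := by
    intro w
    induction w with
    | nil => exact fun _ x hx => ⟨x, hx, by simp⟩
    | cons y t ih =>
      intro hw x hx
      have hy := hL' y (hw y (by simp))
      obtain ⟨c, hc, h1⟩ := ih (fun c hc => hw c (by simp [hc])) _ (h.slt x hx y hy)
      exact ⟨c, hc, by rw [h1, ← h.edge x hx y hy, ev_cons, mul_assoc]⟩
  simpa [val_zero] using key w hw 0 h.pos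

/-! ### Models from tables -/

variable (C)

/-- The model with a full multiplication table `MT` and a table of inverses `IT`. -/
def full (MT IT : ℕ) : GM :=
  ⟨C.n, fun a b => pk MT C.b (Nat.add (Nat.mul a C.n) b), fun a => pk IT C.b a⟩

/-- The test of the rows `[s, s + k)` of the full table. -/
noncomputable def chkFull (MT IT s k : ℕ) : Bool :=
  allR s k fun a => allF C.n fun b => lit ((C.full MT IT).mul a b) fun z =>
    and2 (lt z C.n) (Nat.beq (C.mulS a b) z)

/-- The test of the table of inverses. -/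
noncomputable def chkInv (IT : ℕ) : Bool :=
  allF C.n fun a => lit (pk IT C.b a) fun z => and2 (lt z C.n) (Nat.beq (C.mulS a z) 0)

variable {C}

theorem inv_of_chk {e : ℕ → G} (h : C.OK e) {IT : ℕ} (h1 : C.chkInv IT = true) :
    ∀ a < C.n, pk IT C.b a < C.n ∧ C.val e (pk IT C.b a) = (C.val e a)⁻¹ := by
  intro a ha
  have := allF_true.1 h1 a ha
  simp only [lit_eq, and2_true, lt_true, nbeq] at this
  refine ⟨this.1, eq_inv_of_mul_eq_one_right ?_⟩
  rw [← h.mulS h.pos this.2, val_zero]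

theorem OK.full {e : ℕ → G} (h : C.OK e) {MT IT : ℕ} (h1 : C.chkFull MT IT 0 C.n = true)
    (h2 : C.chkInv IT = true) : (C.full MT IT).Sound (C.val e) := by
  have key : ∀ a < C.n, ∀ b < C.n, (C.full MT IT).mul a b < C.n ∧
      C.mulS a b = (C.full MT IT).mul a b := by
    intro a ha b hb
    have := allF_true.1 (allR_true.1 h1 a (by omega) (by omega)) b hb
    simpa only [lit_eq, and2_true, lt_true, nbeq] using this
  exact ⟨h.pos, val_zero _ _, fun a ha b hb => (key a ha b hb).1,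
    fun a ha => (inv_of_chk h h2 a ha).1,
    fun a ha b hb => h.mulS (key a ha b hb).1 (key a ha b hb).2,
    fun a ha => (inv_of_chk h h2 a ha).2⟩

variable (C)

/-- The model on two levels: the code `π * q + v` (with `v < q`, `π < r`) names `v` times `π * q`;
`QT` multiplies the codes below `q`, `AT` is the action on them, and `BT` multiplies the codes
divisible by `q`. -/
noncomputable def two (q r bq QT AT BT IT : ℕ) : GM :=
  ⟨C.n, fun a b => lit (Nat.div a q) fun π =>
      lit (pk BT C.b (Nat.add (Nat.mul π r) (Nat.div b q))) fun t => lit (Nat.mod t q) fun u =>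
        Nat.add (Nat.sub t u) (pk QT bq (Nat.add (Nat.mul (pk QT bq (Nat.add
          (Nat.mul (Nat.mod a q) q) (pk AT bq (Nat.add (Nat.mul π q) (Nat.mod b q))))) q) u)),
    fun a => pk IT C.b a⟩

/-- The tests of the tables of `two`. -/
noncomputable def chkTwo1 (q r bq QT AT : ℕ) : Bool :=
  and2 (and2 (Nat.beq C.n (Nat.mul r q)) (allF q fun v => allF q fun w =>
      lit (pk QT bq (Nat.add (Nat.mul v q) w)) fun z => and2 (lt z q) (Nat.beq (C.mulS v w) z)))
    (allF r fun π => lit (Nat.mul π q) fun x => allF q fun v =>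
      lit (pk AT bq (Nat.add x v)) fun z => and2 (and2 (lt z q) (Nat.beq (C.mulS v x) (Nat.add x v)))
        (Nat.beq (C.mulS x v) (Nat.add x z)))

/-- See `chkTwo1`. -/
noncomputable def chkTwo2 (q r BT : ℕ) : Bool :=
  allF r fun π => lit (Nat.mul π q) fun x => allF r fun ρ =>
    lit (pk BT C.b (Nat.add (Nat.mul π r) ρ)) fun z =>
      and2 (lt z C.n) (Nat.beq (C.mulS x (Nat.mul ρ q)) z)

variable {C}

theorem OK.two {e : ℕ → G} (h : C.OK e) {q r bq QT AT BT IT : ℕ}
    (h1 : C.chkTwo1 q r bq QT AT = true) (h2 : C.chkTwo2 q r BT = true)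
    (h3 : C.chkInv IT = true) : (C.two q r bq QT AT BT IT).Sound (C.val e) := by
  simp only [chkTwo1, chkTwo2, and2_true, allF_true, lit_eq, lt_true, nbeq, Nat.mul_eq,
    Nat.add_eq] at h1 h2
  obtain ⟨⟨hn, hQ⟩, hA⟩ := h1
  have hq : 0 < q := Nat.pos_of_mul_pos_left (hn ▸ h.pos)
  have hr : 0 < r := Nat.pos_of_mul_pos_right (hn ▸ h.pos)
  have b1 : ∀ π < r, ∀ v < q, π * q + v < C.n := fun π hπ v hv => by rw [hn]; nlinarith
  have b2 : ∀ v < q, v < C.n := fun v hv => by simpa using b1 0 hr v hv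
  have b3 : ∀ a < C.n, a / q < r := fun a ha => by
    rw [Nat.div_lt_iff_lt_mul hq, ← hn]; exact ha
  have s1 : ∀ π < r, ∀ v < q, C.val e (π * q + v) = C.val e v * C.val e (π * q) :=
    fun π hπ v hv => h.mulS (b1 π hπ v hv) (hA π hπ v hv).1.2
  have s2 : ∀ a < C.n, C.val e a = C.val e (a % q) * C.val e (a / q * q) := fun a ha => by
    rw [← s1 _ (b3 a ha) _ (Nat.mod_lt _ hq), Nat.div_add_mod']
  have key : ∀ a < C.n, ∀ b < C.n, (C.two q r bq QT AT BT IT).mul a b < C.n ∧
      C.val e ((C.two q r bq QT AT BT IT).mul a b) = C.val e a * C.val e b := by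
    intro a ha b hb
    have e1 : (C.two q r bq QT AT BT IT).mul a b = pk BT C.b (a / q * r + b / q) -
        pk BT C.b (a / q * r + b / q) % q + pk QT bq (pk QT bq (a % q * q +
          pk AT bq (a / q * q + b % q)) * q + pk BT C.b (a / q * r + b / q) % q) := rfl
    obtain ⟨t1, t2⟩ := h2 _ (b3 a ha) _ (b3 b hb)
    obtain ⟨⟨u1, -⟩, u2⟩ := hA _ (b3 a ha) _ (Nat.mod_lt b hq)
    obtain ⟨v1, v2⟩ := hQ _ (Nat.mod_lt a hq) _ u1
    have t3 := h.mulS t1 t2
    have u3 := h.mulS (b1 _ (b3 a ha) _ u1) u2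
    have v3 := h.mulS (b2 _ v1) v2
    rw [e1]
    generalize pk BT C.b (a / q * r + b / q) = t at *
    obtain ⟨w1, w2⟩ := hQ _ v1 _ (Nat.mod_lt t hq)
    have w3 := h.mulS (b2 _ w1) w2
    have e2 : t - t % q = t / q * q := by have := Nat.div_add_mod' t q; omega
    rw [e2]
    refine ⟨b1 _ (b3 t t1) _ w1, ?_⟩
    rw [s1 _ (b3 a ha) _ u1] at u3
    rw [s1 _ (b3 t t1) _ w1, w3, v3, mul_assoc, ← s2 t t1, t3, s2 a ha, s2 b hb]
    simp only [mul_assoc]
    rw [← mul_assoc (C.val e (a / q * q)) (C.val e (b % q)), ← u3, mul_assoc]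
  exact ⟨h.pos, val_zero _ _, fun a ha b hb => (key a ha b hb).1,
    fun a ha => (inv_of_chk h h3 a ha).1, fun a ha b hb => (key a ha b hb).2,
    fun a ha => (inv_of_chk h h3 a ha).2⟩

end Tab

end H7.Cay
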