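import Mathlib
import Cfsg.Agent.H9.CG2
import Cfsg.Agent.H7.Cay

/-!
# Fixed points of words, substitution of words
-/

set_option autoImplicit false
set_option linter.all false

namespace H7

open H29 H7.Cay

/-- The points moved by the word `w`, seen in the first `n` index planes. -/
noncomputable def mvAux (K k : ℕ) (nets : ℕ → Net) (w : List ℕ) (n : ℕ) : ℕ :=
  Nat.rec (motive := fun _ => ℕ) 0 (fun j ih => seqN ih fun m => seqN (idK K k j) fun p =>
    Nat.lor m (Nat.xor (pullW nets w p) p)) n

/-- The points below `K` fixed by the word `w`. -/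
noncomputable def fx (K k : ℕ) (nets : ℕ → Net) (w : List ℕ) : ℕ :=
  Nat.xor (ones K) (Nat.land (ones K) (mvAux K k nets w k))

theorem ev_lt {K : ℕ} {nets : ℕ → Net} (hn : NetsOK K nets) (w : List ℕ) {i : ℕ} (hi : i < K) :
    ev (sg nets) w i < K := by
  rw [← wordNet_perm]
  exact lt_of_fix (fun j hj => Net.perm_fix (wordNet_valid hn w) hj) hi

theorem testBit_fx {K k : ℕ} {nets : ℕ → Net} (hn : NetsOK K nets) (hK : K ≤ 2 ^ k) (w : List ℕ)
    (i : ℕ) : (fx K k nets w).testBit i = true ↔ i < K ∧ ev (sg nets) w i = i := by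
  have key : ∀ n, i < K → ((mvAux K k nets w n).testBit i = false ↔
      ∀ j < n, (ev (sg nets) w i).testBit j = i.testBit j) := fun n hi => by
    induction n with
    | zero => simp [show mvAux K k nets w 0 = 0 from rfl]
    | succ n ih =>
      rw [show mvAux K k nets w (n + 1) = seqN (mvAux K k nets w n) fun m => seqN (idK K k n)
        fun p => Nat.lor m (Nat.xor (pullW nets w p) p) from rfl, seqN_eq, seqN_eq, lor_eq, xor_eq,
        Nat.testBit_or, Nat.testBit_xor, testBit_pullW hn, testBit_idK hK, testBit_idK hK,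
        Bool.or_eq_false_iff, ih, Nat.forall_lt_succ_right]
      simp [hi, ev_lt hn w hi]
  rw [fx, xor_eq, land_eq, Nat.testBit_xor, Nat.testBit_and, testBit_ones]
  by_cases hi : i < K
  · have h1 := key k hi
    simp only [hi, decide_true, Bool.true_and, Bool.true_bne, Bool.not_eq_eq_eq_not, Bool.not_true,
      true_and, h1]
    refine ⟨fun h => Nat.eq_of_testBit_eq fun j => ?_, fun h j _ => by rw [h]⟩
    by_cases hj : j < k
    · exact h j hj
    · have a : 2 ^ k ≤ 2 ^ j := Nat.pow_le_pow_right (by decide) (by omega)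
      rw [Nat.testBit_lt_two_pow ((ev_lt hn w hi).trans_le (hK.trans a)),
        Nat.testBit_lt_two_pow (hi.trans_le (hK.trans a))]
  · simp [hi]

/-- The fixed points are those of the bit set `V`. -/
theorem fix_iff {K k : ℕ} {nets : ℕ → Net} (hn : NetsOK K nets) (hK : K ≤ 2 ^ k) {w : List ℕ} {V : ℕ}
    (h : Nat.beq (fx K k nets w) V = true) {i : ℕ} (hi : i < K) :
    ev (sg nets) w i = i ↔ V.testBit i = true := by
  rw [← nbeq.1 h, testBit_fx hn hK]; simp [hi]

theorem ncard_fix {K k : ℕ} {nets : ℕ → Net} (hn : NetsOK K nets) (hK : K ≤ 2 ^ k) (w : List ℕ) :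
    {i | i < K ∧ ev (sg nets) w i = i}.ncard = popc k (fx K k nets w) := by
  rw [← ncard_bits]
  · congr 1; ext i; exact (testBit_fx hn hK w i).symm
  · refine Nat.eq_of_testBit_eq fun i => ?_
    rw [shr_eq, Nat.testBit_shiftRight, Nat.zero_testBit, ← Bool.not_eq_true, testBit_fx hn hK]
    change ¬ (2 ^ k + i < K ∧ _)
    omega

variable {G : Type*} [Group G]

/-- The relators that say that `ivl` gives the inverses of the words `wl`. -/
noncomputable def ivW (wl : List (List ℕ)) (ivl : List ℕ) : List (List ℕ) :=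
  (List.range wl.length).map fun c => nth [] wl (ivOf ivl c) ++ nth [] wl c

theorem ivOK_wE {e : ℕ → G} {wl : List (List ℕ)} {ivl : List ℕ} (h1 : ivl.length ≤ wl.length)
    (h : ∀ r ∈ ivW wl ivl, ev e r = 1) : IvOK (wE e wl) (ivOf ivl) := fun c => by
  by_cases hc : c < wl.length
  · have := h _ (List.mem_map.2 ⟨c, List.mem_range.2 hc, rfl⟩)
    rw [ev_append] at this
    exact eq_inv_of_mul_eq_one_left this
  · rw [ivOf, nth_default _ (by omega), wE, nth_default _ (by omega)]; simp

/-- Substitution of the words `wl` for the letters. -/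
noncomputable def subW (wl : List (List ℕ)) (r : List ℕ) : List ℕ :=
  List.rec (motive := fun _ => List ℕ) [] (fun c _ ih => nth [] wl c ++ ih) r

theorem ev_subW (e : ℕ → G) (wl : List (List ℕ)) : ∀ r, ev e (subW wl r) = ev (wE e wl) r
  | [] => rfl
  | c :: r => by
    rw [show subW wl (c :: r) = nth [] wl c ++ subW wl r from rfl, ev_append, ev_subW e wl r]; rfl

theorem rels_wE {e : ℕ → G} {wl R : List (List ℕ)} (h : ∀ r ∈ R.map (subW wl), ev e r = 1) :
    ∀ r ∈ R, ev (wE e wl) r = 1 := fun r hr => by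
  rw [← ev_subW]; exact h _ (List.mem_map_of_mem hr)

theorem wE_mem {e : ℕ → G} {wl : List (List ℕ)} {L : List ℕ} (h : ∀ w ∈ wl, ∀ c ∈ w, c ∈ L)
    (c : ℕ) : wE e wl c ∈ gen e L :=
  ev_mem_gen (nth_forall (p := fun w => ∀ c ∈ w, c ∈ L) (by simp) h c)

end H7
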