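import Mathlib
import Cfsg.Prelude.Def_Spor_J2
import Cfsg.Agent.H7.Cay

/-!
# Coordinates for the icosian ring
-/

set_option autoImplicit false
set_option linter.all false

namespace H7.Ico

open H29 H7.Cay Cfsg.Spor Quaternion

theorem sqrt5 : Real.sqrt 5 = 2 * tau - 1 := by rw [tau]; ring
theorem tau_sq : tau * tau = tau + 1 := by
  have := Real.mul_self_sqrt (show (0 : ℝ) ≤ 5 by norm_num)
  rw [sqrt5] at this
  linarith
theorem sig_eq : sig = 1 - tau := by rw [sig, tau]; ring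

theorem zt_inj {a b c d : ℤ} (h : (a : ℝ) + b * tau = c + d * tau) : a = c ∧ b = d := by
  have h5 : Irrational (Real.sqrt 5) := by simpa using Nat.prime_five.irrational_sqrt
  have hb : b = d := by
    by_contra h1
    have h2 : ((b - d : ℤ) : ℝ) ≠ 0 := by exact_mod_cast sub_ne_zero.2 h1
    apply h5
    refine ⟨(2 * (c - a) - (b - d) : ℤ) / (b - d : ℤ), ?_⟩
    rw [sqrt5]
    push_cast at h2 ⊢
    field_simp
    linarith
  subst hb
  exact ⟨by exact_mod_cast add_right_cancel h, rfl⟩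

/-- Evaluate an integer to a numeral. -/
noncomputable def fI {α : Type} (x : ℤ) (k : ℤ → α) : α :=
  Int.rec (fun n => lit n fun n => k (Int.ofNat n)) (fun n => lit n fun n => k (Int.negSucc n)) x

theorem fI_eq {α : Type} (x : ℤ) (k : ℤ → α) : fI x k = k x := by cases x <;> rfl

/-- Integral quaternions. -/
@[ext] structure Z4 where
  w : ℤ
  x : ℤ
  y : ℤ
  z : ℤ
deriving DecidableEq

namespace Z4

def add (p q : Z4) : Z4 := ⟨Int.add p.w q.w, Int.add p.x q.x, Int.add p.y q.y, Int.add p.z q.z⟩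
def sub (p q : Z4) : Z4 := ⟨Int.sub p.w q.w, Int.sub p.x q.x, Int.sub p.y q.y, Int.sub p.z q.z⟩
def smul (k : ℤ) (p : Z4) : Z4 := ⟨Int.mul k p.w, Int.mul k p.x, Int.mul k p.y, Int.mul k p.z⟩
def star (p : Z4) : Z4 := ⟨p.w, Int.neg p.x, Int.neg p.y, Int.neg p.z⟩
def mul (p q : Z4) : Z4 :=
  ⟨Int.sub (Int.mul p.w q.w) (Int.add (Int.add (Int.mul p.x q.x) (Int.mul p.y q.y)) (Int.mul p.z q.z)),
   Int.sub (Int.add (Int.add (Int.mul p.w q.x) (Int.mul p.x q.w)) (Int.mul p.y q.z)) (Int.mul p.z q.y),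
   Int.sub (Int.add (Int.add (Int.mul p.w q.y) (Int.mul p.y q.w)) (Int.mul p.z q.x)) (Int.mul p.x q.z),
   Int.sub (Int.add (Int.add (Int.mul p.w q.z) (Int.mul p.x q.y)) (Int.mul p.z q.w)) (Int.mul p.y q.x)⟩
noncomputable def frc {α : Type} (p : Z4) (k : Z4 → α) : α :=
  fI p.w fun w => fI p.x fun x => fI p.y fun y => fI p.z fun z => k ⟨w, x, y, z⟩
theorem frc_eq {α : Type} (p : Z4) (k : Z4 → α) : p.frc k = k p := by simp only [frc, fI_eq]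

end Z4

/-- Quaternions over `ℤ[τ]`: `a + τ b`. -/
@[ext] structure Qt where
  a : Z4
  b : Z4
deriving DecidableEq

theorem iadd (a b : ℤ) : Int.add a b = a + b := rfl
theorem isub (a b : ℤ) : Int.sub a b = a - b := rfl
theorem imul (a b : ℤ) : Int.mul a b = a * b := rfl
theorem ineg (a : ℤ) : Int.neg a = -a := rfl

namespace Qt

noncomputable def val (p : Qt) : ℍ[ℝ] :=
  ⟨p.a.w + p.b.w * tau, p.a.x + p.b.x * tau, p.a.y + p.b.y * tau, p.a.z + p.b.z * tau⟩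
@[simp] theorem val_re (p : Qt) : p.val.re = p.a.w + p.b.w * tau := rfl
@[simp] theorem val_i (p : Qt) : p.val.imI = p.a.x + p.b.x * tau := rfl
@[simp] theorem val_j (p : Qt) : p.val.imJ = p.a.y + p.b.y * tau := rfl
@[simp] theorem val_k (p : Qt) : p.val.imK = p.a.z + p.b.z * tau := rfl
noncomputable def mk2 (a b : Z4) : Qt := a.frc fun a => b.frc fun b => ⟨a, b⟩
theorem mk2_eq (a b : Z4) : mk2 a b = ⟨a, b⟩ := by simp only [mk2, Z4.frc_eq]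
noncomputable def add (p q : Qt) : Qt := mk2 (p.a.add q.a) (p.b.add q.b)
noncomputable def sub (p q : Qt) : Qt := mk2 (p.a.sub q.a) (p.b.sub q.b)
noncomputable def smul (k : ℤ) (p : Qt) : Qt := mk2 (p.a.smul k) (p.b.smul k)
noncomputable def star (p : Qt) : Qt := mk2 p.a.star p.b.star
noncomputable def mul (p q : Qt) : Qt :=
  (p.a.mul q.a).frc fun u => (p.a.add p.b).frc fun s => (q.a.add q.b).frc fun t =>
    mk2 (u.add (p.b.mul q.b)) ((s.mul t).sub u)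
/-- Multiplication by `τ`. -/
noncomputable def tmul (p : Qt) : Qt := mk2 p.b (p.a.add p.b)
/-- Evaluate first. -/
noncomputable def frc {α : Type} (p : Qt) (k : Qt → α) : α := Qt.rec (fun a b => k ⟨a, b⟩) p
theorem frc_eq {α : Type} (p : Qt) (k : Qt → α) : p.frc k = k p := by cases p; rfl

theorem val_add (p q : Qt) : (p.add q).val = p.val + q.val := by
  ext <;> simp [add, mk2_eq, Z4.add, iadd] <;> ring
theorem val_sub (p q : Qt) : (p.sub q).val = p.val - q.val := by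
  ext <;> simp [sub, mk2_eq, Z4.sub, isub] <;> ring
theorem val_smul (k : ℤ) (p : Qt) : (p.smul k).val = (k : ℝ) • p.val := by
  ext <;> simp [smul, mk2_eq, Z4.smul, imul] <;> ring
theorem val_star (p : Qt) : p.star.val = Star.star p.val := by
  ext <;> simp [star, mk2_eq, Z4.star, ineg] <;> ring
theorem val_tmul (p : Qt) : p.tmul.val = tau • p.val := by
  have := tau_sq
  ext <;> simp [tmul, mk2_eq, Z4.add, iadd] <;> grind
theorem val_mul (p q : Qt) : (p.mul q).val = p.val * q.val := by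
  have := tau_sq
  ext <;> simp [mul, mk2_eq, Z4.frc_eq, Z4.add, Z4.sub, Z4.mul, iadd, isub, imul] <;> grind

theorem val_inj {p q : Qt} (h : p.val = q.val) : p = q := by
  have h1 := zt_inj (congrArg QuaternionAlgebra.re h)
  have h2 := zt_inj (congrArg QuaternionAlgebra.imI h)
  have h3 := zt_inj (congrArg QuaternionAlgebra.imJ h)
  have h4 := zt_inj (congrArg QuaternionAlgebra.imK h)
  ext
  exacts [h1.1, h2.1, h3.1, h4.1, h1.2, h2.2, h3.2, h4.2]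

/-- `p` is `k` times the double of an icosian. -/
def Dv (k : ℤ) (p : Qt) : Prop :=
  (k ∣ p.a.y ∧ k ∣ p.b.y ∧ k ∣ p.a.w - p.a.y ∧ k ∣ p.b.w - p.b.y) ∧
  (2 * k ∣ p.a.x - p.a.y - (p.a.w - p.a.y) + (p.b.w - p.b.y) ∧
   2 * k ∣ p.b.x - p.b.y + (p.a.w - p.a.y) ∧
   2 * k ∣ p.a.z - p.a.y - (p.b.w - p.b.y) ∧
   2 * k ∣ p.b.z - p.b.y - (p.a.w - p.a.y) - (p.b.w - p.b.y))

instance (k : ℤ) (p : Qt) : Decidable (Dv k p) := by unfold Dv; infer_instance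

/-- The double of the icosian with given coordinates. -/
def mkI (c0 c1 c2 c3 c4 c5 c6 c7 : ℤ) : Qt :=
  ⟨⟨c0 + c2, c0 + c2 - c3 + 2 * c4, c0, c0 + c3 + 2 * c6⟩,
    ⟨c1 + c3, c1 - c2 + 2 * c5, c1, c1 + c2 + c3 + 2 * c7⟩⟩

theorem div_mkI (c0 c1 c2 c3 c4 c5 c6 c7 : ℤ) : Dv 1 (mkI c0 c1 c2 c3 c4 c5 c6 c7) := by
  simp only [Dv, mkI, one_dvd, true_and, mul_one]
  omega

theorem Dv.exists {k : ℤ} {p : Qt} (h : Dv k p) : ∃ c0 c1 c2 c3 c4 c5 c6 c7 : ℤ,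
    p = (mkI c0 c1 c2 c3 c4 c5 c6 c7).smul k := by
  obtain ⟨⟨⟨c0, h0⟩, ⟨c1, h1⟩, ⟨c2, h2⟩, ⟨c3, h3⟩⟩, ⟨c4, h4⟩, ⟨c5, h5⟩, ⟨c6, h6⟩, ⟨c7, h7⟩⟩ := h
  refine ⟨c0, c1, c2, c3, c4, c5, c6, c7, ?_⟩
  ext <;> simp only [mkI, smul, mk2_eq, Z4.smul, imul] <;> linarith

theorem div_smul {k : ℤ} {p : Qt} (h : Dv 1 p) : Dv k (p.smul k) := by
  obtain ⟨c0, c1, c2, c3, c4, c5, c6, c7, rfl⟩ := h.exists
  simp only [Dv, mkI, smul, mk2_eq, Z4.smul, imul]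
  exact ⟨⟨⟨c0, by ring⟩, ⟨c1, by ring⟩, ⟨c2, by ring⟩, ⟨c3, by ring⟩⟩, ⟨c4, by ring⟩, ⟨c5, by ring⟩,
    ⟨c6, by ring⟩, ⟨c7, by ring⟩⟩

end Qt

open Qt

/-- Half the value. -/
noncomputable def hv (p : Qt) : ℍ[ℝ] := (1 / 2 : ℝ) • p.val

theorem val_eq (p : Qt) : p.val = (2 : ℝ) • hv p := by rw [hv, smul_smul]; norm_num

theorem hv_inj {p q : Qt} (h : hv p = hv q) : p = q := val_inj (by rw [val_eq, val_eq, h])
theorem hv_add (p q : Qt) : hv (p.add q) = hv p + hv q := by rw [hv, val_add, smul_add]; rfl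
theorem hv_sub (p q : Qt) : hv (p.sub q) = hv p - hv q := by rw [hv, val_sub, smul_sub]; rfl
theorem hv_smul (k : ℤ) (p : Qt) : hv (p.smul k) = (k : ℝ) • hv p := by
  rw [hv, val_smul, smul_comm]; rfl
theorem hv_star (p : Qt) : hv p.star = star (hv p) := by rw [hv, val_star, hv]; simp
theorem hv_tmul (p : Qt) : hv p.tmul = tau • hv p := by rw [hv, val_tmul, smul_comm]; rfl
theorem hv_mul (p q : Qt) : hv (p.mul q) = (2 : ℝ) • (hv p * hv q) := by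
  rw [hv, val_mul, val_eq, val_eq]; simp [smul_smul]

/-- The icosians, in coordinates. -/
def TT : AddSubgroup ℍ[ℝ] where
  carrier := {x | ∃ p, Dv 1 p ∧ x = hv p}
  zero_mem' := ⟨mkI 0 0 0 0 0 0 0 0, div_mkI .., by ext <;> simp [hv, mkI]⟩
  add_mem' := by
    rintro _ _ ⟨p, hp, rfl⟩ ⟨q, hq, rfl⟩
    refine ⟨p.add q, ?_, (hv_add p q).symm⟩
    simp only [Dv, add, mk2_eq, Z4.add, iadd, one_dvd, true_and, mul_one] at hp hq ⊢
    omega
  neg_mem' := by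
    rintro _ ⟨p, hp, rfl⟩
    refine ⟨p.smul (-1), ?_, by simp [hv_smul]⟩
    simp only [Dv, smul, mk2_eq, Z4.smul, imul, one_dvd, true_and, mul_one] at hp ⊢
    omega

theorem mem_TT_of_div {k : ℤ} (hk : k ≠ 0) {p : Qt} (h : Dv k p) {x : ℍ[ℝ]}
    (hx : (k : ℝ) • x = hv p) : x ∈ TT := by
  obtain ⟨c0, c1, c2, c3, c4, c5, c6, c7, rfl⟩ := h.exists
  rw [hv_smul] at hx
  exact ⟨_, div_mkI .., smul_right_injective _ (by exact_mod_cast hk) hx⟩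

/-- The basis. -/
def bs : Fin 8 → Qt := ![mkI 1 0 0 0 0 0 0 0, mkI 0 1 0 0 0 0 0 0, mkI 0 0 1 0 0 0 0 0,
  mkI 0 0 0 1 0 0 0 0, mkI 0 0 0 0 1 0 0 0, mkI 0 0 0 0 0 1 0 0, mkI 0 0 0 0 0 0 1 0,
  mkI 0 0 0 0 0 0 0 1]

theorem TT_span {x : ℍ[ℝ]} (h : x ∈ TT) : ∃ c : Fin 8 → ℤ, x = ∑ i, c i • hv (bs i) := by
  obtain ⟨p, hp, rfl⟩ := h
  obtain ⟨c0, c1, c2, c3, c4, c5, c6, c7, rfl⟩ := hp.exists
  refine ⟨![c0, c1, c2, c3, c4, c5, c6, c7], ?_⟩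
  simp only [Fin.sum_univ_eight, hv_smul, ← Int.cast_smul_eq_zsmul ℝ]
  ext <;> simp [hv, mkI, bs] <;> ring

theorem TT_mul {x y : ℍ[ℝ]} (hx : x ∈ TT) (hy : y ∈ TT) : x * y ∈ TT := by
  obtain ⟨c, rfl⟩ := TT_span hx
  obtain ⟨d, rfl⟩ := TT_span hy
  have key : ∀ i j, Dv 2 ((bs i).mul (bs j)) := by decide +kernel
  simp only [Finset.sum_mul, Finset.mul_sum, smul_mul_assoc, mul_smul_comm]
  exact sum_mem fun i _ => zsmul_mem (sum_mem fun j _ => zsmul_mem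
    (mem_TT_of_div (by decide) (key j i) (by rw [hv_mul]; norm_num)) _) _

def ONE : Qt := ⟨⟨2, 0, 0, 0⟩, ⟨0, 0, 0, 0⟩⟩
def NUL : Qt := ⟨⟨0, 0, 0, 0⟩, ⟨0, 0, 0, 0⟩⟩
def HH : Qt := ⟨⟨1, 1, 1, 1⟩, ⟨-2, 0, 0, 0⟩⟩
def HB : Qt := ⟨⟨1, -1, -1, -1⟩, ⟨-2, 0, 0, 0⟩⟩
theorem hv_one : hv ONE = 1 := by ext <;> simp [hv, ONE]
theorem hv_nul : hv NUL = 0 := by ext <;> simp [hv, NUL]
theorem hv_H : hv HH = icoH := by ext <;> simp [hv, HH, icoH, sqrt5] <;> ring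
theorem hv_HB : hv HB = star icoH := by
  rw [← hv_H, ← hv_star]; exact congrArg hv (by decide +kernel)

theorem mem_ico {x : ℍ[ℝ]} : x ∈ icosians ↔ x ∈ TT := by
  have g1 : hv (bs 4) = qI := by ext <;> simp [hv, mkI, bs, qI]
  have g2 : hv (bs 2) = ⟨1 / 2, sig / 2, 0, tau / 2⟩ := by
    ext <;> simp [hv, mkI, bs, sig_eq] <;> ring
  constructor
  · intro h
    induction h using Subring.closure_induction with
    | mem x hx =>
      rcases hx with rfl | rfl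
      · exact ⟨_, div_mkI .., g1.symm⟩
      · exact ⟨_, div_mkI .., g2.symm⟩
    | zero => exact zero_mem _
    | one => exact ⟨ONE, by decide, hv_one.symm⟩
    | add _ _ _ _ a b => exact add_mem a b
    | neg _ _ a => exact neg_mem a
    | mul _ _ _ _ a b => exact TT_mul a b
  · intro h
    obtain ⟨c, rfl⟩ := TT_span h
    refine sum_mem fun i _ => zsmul_mem ?_ _
    have m : ∀ {p q s : Qt}, hv p ∈ icosians → hv q ∈ icosians → p.mul q = s.smul 2 →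
        hv s ∈ icosians := fun {p q s} a b h => by
      have := congrArg hv h
      rw [hv_mul, hv_smul] at this
      rw [← smul_right_injective _ (two_ne_zero (α := ℝ)) (by simpa using this :
        (2 : ℝ) • (hv p * hv q) = (2 : ℝ) • hv s)]
      exact mul_mem a b
    have sb : ∀ {p q s : Qt}, hv p ∈ icosians → hv q ∈ icosians → p.sub q = s →
        hv s ∈ icosians := fun {p q s} a b h => by rw [← h, hv_sub]; exact sub_mem a b
    have a4 : hv (bs 4) ∈ icosians := g1 ▸ Subring.subset_closure (by simp)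
    have a2 : hv (bs 2) ∈ icosians := g2 ▸ Subring.subset_closure (Or.inr rfl)
    have u1 := m (s := ⟨⟨-1, 1, 0, 0⟩, ⟨1, 0, -1, 0⟩⟩) a4 a2 (by decide +kernel)
    have u2 := m (s := ⟨⟨-1, 1, 0, 0⟩, ⟨1, 0, 1, 0⟩⟩) a2 a4 (by decide +kernel)
    have u3 := sb (s := ⟨⟨0, 0, 0, 0⟩, ⟨0, 0, 2, 0⟩⟩) u2 u1 (by decide +kernel)
    have a7 := m (s := bs 7) a4 u3 (by decide +kernel)
    have u4 := m (s := ⟨⟨-2, 0, 0, 0⟩, ⟨-2, 0, 0, 0⟩⟩) u3 u3 (by decide +kernel)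
    have u5 := sb (s := ⟨⟨2, 0, 0, 0⟩, ⟨2, 0, 0, 0⟩⟩) (hv_nul ▸ zero_mem _) u4 (by decide +kernel)
    have t := sb (s := ⟨⟨0, 0, 0, 0⟩, ⟨2, 0, 0, 0⟩⟩) u5 (hv_one ▸ one_mem _) (by decide +kernel)
    have u6 := m (s := ⟨⟨0, 0, 0, 2⟩, ⟨0, 0, 0, 2⟩⟩) t a7 (by decide +kernel)
    have a6 := sb (s := bs 6) u6 a7 (by decide +kernel)
    have u7 := m (s := ⟨⟨-1, 1, 0, 0⟩, ⟨0, -1, 0, 1⟩⟩) a2 a2 (by decide +kernel)
    have u8 := m (s := ⟨⟨-1, -1, 0, 0⟩, ⟨1, 0, 1, 0⟩⟩) u7 a4 (by decide +kernel)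
    have u9 := m (s := ⟨⟨0, -1, 0, 1⟩, ⟨0, 1, 1, 0⟩⟩) u8 a2 (by decide +kernel)
    have u10 := m (s := ⟨⟨1, 0, 1, 0⟩, ⟨-1, 0, 0, -1⟩⟩) u9 a4 (by decide +kernel)
    have u11 := m (s := ⟨⟨1, 1, 1, -1⟩, ⟨0, 0, 0, 0⟩⟩) u10 a2 (by decide +kernel)
    have u12 := sb (s := ⟨⟨0, 0, 0, -2⟩, ⟨0, 0, 0, 0⟩⟩) (hv_nul ▸ zero_mem _) a6 (by decide +kernel)
    have a0 := sb (s := bs 0) u11 u12 (by decide +kernel)
    have a1 := m (s := bs 1) t a0 (by decide +kernel)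
    have a3 := m (s := bs 3) t a2 (by decide +kernel)
    have a5 := m (s := bs 5) t a4 (by decide +kernel)
    fin_cases i
    exacts [a0, a1, a2, a3, a4, a5, a6, a7]

end H7.Ico
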