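import Mathlib
import Cfsg.Agent.H7.Ico1

/-!
# The icosian Leech lattice: generators, reflections, norms
-/

set_option autoImplicit false
set_option linter.all false

namespace H7.Ico

open H29 H7.Cay Cfsg.Spor Quaternion Qt

theorem exists_hv {x : ℍ[ℝ]} (h : x ∈ icosians) : ∃ p, Dv 1 p ∧ x = hv p := mem_ico.1 h
theorem hv_mem {p : Qt} (h : Dv 1 p) : hv p ∈ icosians := mem_ico.2 ⟨p, h, rfl⟩

theorem star_mem {x : ℍ[ℝ]} (h : x ∈ icosians) : star x ∈ icosians := by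
  obtain ⟨p, hp, rfl⟩ := exists_hv h
  rw [← hv_star]
  refine hv_mem ?_
  simp only [Dv, Qt.star, mk2_eq, Z4.star, ineg, one_dvd, true_and, mul_one] at hp ⊢
  omega

theorem tau_mem {x : ℍ[ℝ]} (h : x ∈ icosians) : tau • x ∈ icosians := by
  obtain ⟨p, hp, rfl⟩ := exists_hv h
  rw [← hv_tmul]
  refine hv_mem ?_
  simp only [Dv, Qt.tmul, mk2_eq, Z4.add, iadd, one_dvd, true_and, mul_one] at hp ⊢
  omega

theorem H_mem : icoH ∈ icosians := hv_H ▸ hv_mem (by decide)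
theorem normSq_H : normSq icoH = 2 := by
  have := tau_sq
  rw [← hv_H, normSq_def']; simp [hv, HH]; grind
theorem H_mul : icoH * star icoH = 2 := by rw [self_mul_star, normSq_H]; rfl
theorem H_mul' : star icoH * icoH = 2 := by rw [star_mul_self, normSq_H]; rfl
theorem H_add : icoH + star icoH = 1 - 2 * (tau • 1) := by
  rw [← hv_HB, ← hv_H, two_mul]; ext <;> simp [hv, HH, HB] <;> ring
theorem two_ne : (2 : ℍ[ℝ]) ≠ 0 := fun h => by
  have := congrArg normSq (H_mul.trans h)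
  simp [normSq_H] at this

/-- `I h ∩ I h̄ = 2 I`. -/
theorem two_of_both {x : ℍ[ℝ]} (hx : x ∈ icosians) (h1 : x ∈ leftIdeal icoH)
    (h2 : x ∈ leftIdeal (star icoH)) : ∃ u ∈ icosians, x = u * 2 := by
  obtain ⟨a, ha, e1⟩ := h1
  obtain ⟨b, hb, e2⟩ := h2
  refine ⟨a + b + tau • x, add_mem (add_mem ha hb) (tau_mem hx), ?_⟩
  have e3 : x * star icoH = a * 2 := by rw [e1, mul_assoc, H_mul]
  have e4 : x * icoH = b * 2 := by rw [e2, mul_assoc, H_mul']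
  have e5 : x * (icoH + star icoH) = x - (tau • x) * 2 := by
    rw [H_add]; simp [mul_sub, mul_two, two_mul, mul_add]
  rw [mul_add, e3, e4] at e5
  rw [add_mul, add_mul, add_comm (a * 2), e5]; simp

theorem li_add {q x y : ℍ[ℝ]} (hx : x ∈ leftIdeal q) (hy : y ∈ leftIdeal q) :
    x + y ∈ leftIdeal q := by
  obtain ⟨a, ha, rfl⟩ := hx
  obtain ⟨b, hb, rfl⟩ := hy
  exact ⟨a + b, add_mem ha hb, (add_mul _ _ _).symm⟩
theorem li_mul {q c x : ℍ[ℝ]} (hc : c ∈ icosians) (hx : x ∈ leftIdeal q) : c * x ∈ leftIdeal q := by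
  obtain ⟨a, ha, rfl⟩ := hx
  exact ⟨c * a, mul_mem hc ha, (mul_assoc _ _ _).symm⟩
theorem li_sub {q x y : ℍ[ℝ]} (hx : x ∈ leftIdeal q) (hy : y ∈ leftIdeal q) :
    x - y ∈ leftIdeal q := by
  simpa [sub_eq_add_neg] using li_add hx (li_mul (neg_mem (one_mem _)) hy)

theorem L_sub {x y : Fin 3 → ℍ[ℝ]} (hx : x ∈ icoLeech) (hy : y ∈ icoLeech) : x - y ∈ icoLeech := by
  obtain ⟨a0, a1, a2, a3⟩ := hx
  obtain ⟨b0, b1, b2, b3⟩ := hy
  refine ⟨fun t => sub_mem (a0 t) (b0 t), ?_, ?_, ?_⟩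
  · convert li_sub a1 b1 using 1; simp only [Pi.sub_apply]; abel
  · convert li_sub a2 b2 using 1; simp only [Pi.sub_apply]; abel
  · convert li_sub a3 b3 using 1; simp only [Pi.sub_apply]; abel

theorem L_smul {c : ℍ[ℝ]} {x : Fin 3 → ℍ[ℝ]} (hc : c ∈ icosians) (hx : x ∈ icoLeech) :
    c • x ∈ icoLeech := by
  obtain ⟨a0, a1, a2, a3⟩ := hx
  refine ⟨fun t => mul_mem hc (a0 t), ?_, ?_, ?_⟩
  · convert li_mul hc a1 using 1; simp [mul_sub]
  · convert li_mul hc a2 using 1; simp [mul_sub]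
  · convert li_mul hc a3 using 1; simp [mul_add]

theorem qip_eq (x r : Fin 3 → ℍ[ℝ]) :
    qip x r = x 0 * star (r 0) + x 1 * star (r 1) + x 2 * star (r 2) := Fin.sum_univ_three _
theorem qip_smul (c : ℍ[ℝ]) (x r : Fin 3 → ℍ[ℝ]) : qip (c • x) r = c * qip x r := by
  simp [qip_eq, mul_add, mul_assoc]
theorem qip_smul' (c : ℍ[ℝ]) (x r : Fin 3 → ℍ[ℝ]) : qip x (c • r) = qip x r * star c := by
  simp [qip_eq, add_mul, mul_assoc]
theorem qip_sub (x y r : Fin 3 → ℍ[ℝ]) : qip (x - y) r = qip x r - qip y r := by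
  simp only [qip_eq, Pi.sub_apply, sub_mul]; abel
theorem qip_sub' (x y r : Fin 3 → ℍ[ℝ]) : qip r (x - y) = qip r x - qip r y := by
  simp only [qip_eq, Pi.sub_apply, star_sub, mul_sub]; abel
theorem star_qip (x r : Fin 3 → ℍ[ℝ]) : star (qip x r) = qip r x := by simp [qip_eq]
theorem qip_self (x : Fin 3 → ℍ[ℝ]) :
    qip x x = ((normSq (x 0) + normSq (x 1) + normSq (x 2) : ℝ) : ℍ[ℝ]) := by
  simp [qip_eq, self_mul_star]

theorem qip_add (x y r : Fin 3 → ℍ[ℝ]) : qip (x + y) r = qip x r + qip y r := by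
  simp only [qip_eq, Pi.add_apply, add_mul]; abel

theorem zero_li (q : ℍ[ℝ]) : (0 : ℍ[ℝ]) ∈ leftIdeal q := ⟨0, zero_mem _, by simp⟩
theorem self_li (q : ℍ[ℝ]) : q ∈ leftIdeal q := ⟨1, one_mem _, by simp⟩
theorem two_li : (2 : ℍ[ℝ]) ∈ leftIdeal icoH := ⟨_, star_mem H_mem, H_mul'.symm⟩
theorem two_li' : (2 : ℍ[ℝ]) ∈ leftIdeal (star icoH) := ⟨_, H_mem, H_mul.symm⟩
theorem two_mem : (2 : ℍ[ℝ]) ∈ icosians := ofNat_mem _ 2

theorem mem3 {x y z : ℍ[ℝ]} : ![x, y, z] ∈ icoLeech ↔ (x ∈ icosians ∧ y ∈ icosians ∧ z ∈ icosians) ∧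
    x - y ∈ leftIdeal icoH ∧ y - z ∈ leftIdeal icoH ∧ x + y + z ∈ leftIdeal (star icoH) := by
  simp [icoLeech, Fin.forall_fin_succ]

theorem g0_mem : ![2, 0, 0] ∈ icoLeech :=
  mem3.2 ⟨⟨two_mem, zero_mem _, zero_mem _⟩, by simpa using two_li, by simpa using zero_li _,
    by simpa using two_li'⟩
theorem g1_mem : ![icoH, icoH, 0] ∈ icoLeech :=
  mem3.2 ⟨⟨H_mem, H_mem, zero_mem _⟩, by simpa using zero_li _, by simpa using self_li _,
    by simpa [mul_two] using li_mul H_mem two_li'⟩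
theorem g2_mem : ![star icoH, 1, 1] ∈ icoLeech := by
  refine mem3.2 ⟨⟨star_mem H_mem, one_mem _, one_mem _⟩, ?_, by simpa using zero_li _, ?_⟩
  · have : star icoH - 1 = -(tau • 1) * 2 - icoH := by
      rw [eq_sub_iff_add_eq, sub_add_eq_add_sub, add_comm, H_add]; noncomm_ring
    rw [this]
    exact li_sub (li_mul (neg_mem (tau_mem (one_mem _))) two_li) (self_li _)
  · rw [add_assoc, one_add_one_eq_two]; exact li_add (self_li _) two_li'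

theorem L_span {x : Fin 3 → ℍ[ℝ]} (hx : x ∈ icoLeech) : ∃ a ∈ icosians, ∃ b ∈ icosians,
    ∃ c ∈ icosians, x = a • ![2, 0, 0] + b • ![icoH, icoH, 0] + c • ![star icoH, 1, 1] := by
  obtain ⟨x, y, z, rfl⟩ : ∃ a b c, x = ![a, b, c] :=
    ⟨x 0, x 1, x 2, funext fun t => by fin_cases t <;> rfl⟩
  have hz : z ∈ icosians := hx.1 2
  obtain ⟨b, hb, e1⟩ := (mem3.1 hx).2.2.1
  obtain rfl := sub_eq_iff_eq_add.1 e1
  have h2 := L_sub (L_sub hx (L_smul hz g2_mem)) (L_smul hb g1_mem)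
  obtain ⟨a, ha, e3⟩ := two_of_both (h2.1 0) (by simpa using h2.2.1) (by simpa using h2.2.2.2)
  refine ⟨a, ha, b, hb, z, hz, funext fun t => ?_⟩
  fin_cases t
  · simp at e3 ⊢; rw [← e3]; abel
  · simp
  · simp

/-- The product of two lattice vectors is twice an icosian. -/
theorem qip_two {x y : Fin 3 → ℍ[ℝ]} (hx : x ∈ icoLeech) (hy : y ∈ icoLeech) :
    ∃ c ∈ icosians, qip x y = c * 2 := by
  have k1 : ∀ {x y : Fin 3 → ℍ[ℝ]}, x ∈ icoLeech → (∃ c ∈ icosians, qip y ![2, 0, 0] = c * 2) →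
      (∃ c ∈ icosians, qip y ![icoH, icoH, 0] = c * 2) →
      (∃ c ∈ icosians, qip y ![star icoH, 1, 1] = c * 2) → ∃ c ∈ icosians, qip x y = c * 2 := by
    rintro x y hx ⟨u, hu, e1⟩ ⟨v, hv, e2⟩ ⟨w, hw, e3⟩
    obtain ⟨a, ha, b, hb, c, hc, rfl⟩ := L_span hx
    refine ⟨a * star u + b * star v + c * star w, add_mem (add_mem (mul_mem ha (star_mem hu))
      (mul_mem hb (star_mem hv))) (mul_mem hc (star_mem hw)), ?_⟩
    rw [qip_add, qip_add, qip_smul, qip_smul, qip_smul, ← star_qip y, ← star_qip y, ← star_qip y,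
      e1, e2, e3]
    simp only [star_mul, star_ofNat]; noncomm_ring
  have k0 : ∀ {x : Fin 3 → ℍ[ℝ]}, x ∈ icoLeech → ∃ c ∈ icosians, qip x ![2, 0, 0] = c * 2 :=
    fun {x} hx => ⟨x 0, hx.1 0, by simp [qip_eq]⟩
  have k2 : ∀ {x : Fin 3 → ℍ[ℝ]}, x ∈ icoLeech →
      ∃ c ∈ icosians, qip x ![icoH, icoH, 0] = c * 2 := fun {x} hx => by
    obtain ⟨a, ha, e⟩ := hx.2.1
    refine ⟨a + x 1 * star icoH, add_mem ha (mul_mem (hx.1 1) (star_mem H_mem)), ?_⟩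
    rw [sub_eq_iff_eq_add] at e
    have : qip x ![icoH, icoH, 0] = a * (icoH * star icoH) + x 1 * star icoH * 2 := by
      simp [qip_eq, e]; noncomm_ring
    rw [this, H_mul, add_mul]
  refine k1 hx (k0 hy) (k2 hy) (k1 hy (k0 g2_mem) (k2 g2_mem) ⟨2, two_mem, ?_⟩)
  simp [qip_eq, H_mul']; norm_num

/-- Minimal vectors. -/
def Mn (r : Fin 3 → ℍ[ℝ]) : Prop := r ∈ icoLeech ∧ qip r r = 4

theorem qrefl_eq (r x : Fin 3 → ℍ[ℝ]) : qrefl r x = x - ((1 / 2 : ℝ) • qip x r) • r := rfl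

theorem half_two (c : ℍ[ℝ]) : (1 / 2 : ℝ) • (c * 2) = c := by
  rw [mul_two, ← two_smul ℝ, smul_smul]; norm_num

theorem qrefl_mem {r x : Fin 3 → ℍ[ℝ]} (hr : r ∈ icoLeech) (hx : x ∈ icoLeech) :
    qrefl r x ∈ icoLeech := by
  obtain ⟨c, hc, e⟩ := qip_two hx hr
  rw [qrefl_eq, e, half_two]
  exact L_sub hx (L_smul hc hr)

theorem qip_qrefl (r x y : Fin 3 → ℍ[ℝ]) : qip (qrefl r x) y = qip x (qrefl r y) := by
  rw [qrefl_eq, qrefl_eq, qip_sub, qip_sub', qip_smul, qip_smul']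
  simp [star_qip]

theorem qrefl_smul (r x : Fin 3 → ℍ[ℝ]) (c : ℍ[ℝ]) : qrefl r (c • x) = c • qrefl r x := by
  simp only [qrefl_eq, qip_smul, smul_sub, smul_smul, mul_smul_comm]

theorem qrefl_sub (r x y : Fin 3 → ℍ[ℝ]) : qrefl r (x - y) = qrefl r x - qrefl r y := by
  simp only [qrefl_eq, qip_sub, smul_sub, sub_smul]; abel

theorem qrefl_qrefl {r : Fin 3 → ℍ[ℝ]} (h : qip r r = 4) (x : Fin 3 → ℍ[ℝ]) :
    qrefl r (qrefl r x) = x := by
  have h4 : ∀ c : ℍ[ℝ], (1 / 2 : ℝ) • c * 4 = c + c := fun c => by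
    rw [show (4 : ℍ[ℝ]) = 2 * 2 by norm_num, ← mul_assoc, smul_mul_assoc, half_two, mul_two]
  rw [qrefl_eq r (qrefl r x), qrefl_eq r x, qip_sub, qip_smul, h, h4]
  simp

theorem qrefl_unit {c : ℍ[ℝ]} (hc : star c * c = 1) (r : Fin 3 → ℍ[ℝ]) :
    qrefl (c • r) = qrefl r := by
  funext x
  rw [qrefl_eq, qrefl_eq, qip_smul', smul_smul, smul_mul_assoc, mul_assoc, hc, mul_one]

theorem Mn.qrefl {r s : Fin 3 → ℍ[ℝ]} (hr : Mn r) (hs : Mn s) : Mn (qrefl r s) :=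
  ⟨qrefl_mem hr.1 hs.1, by rw [qip_qrefl, qrefl_qrefl hr.2, hs.2]⟩

theorem qrefl_conj {r : Fin 3 → ℍ[ℝ]} (h : qip r r = 4) (s x : Fin 3 → ℍ[ℝ]) :
    qrefl r (qrefl s (qrefl r x)) = qrefl (qrefl r s) x := by
  rw [qrefl_eq s, qrefl_sub, qrefl_qrefl h, qrefl_smul, qip_qrefl, qrefl_eq (qrefl r s)]

/-- The reflection as a permutation of the lattice. -/
noncomputable def rf {r : Fin 3 → ℍ[ℝ]} (h : Mn r) : Equiv.Perm icoLeech :=
  Function.Involutive.toPerm (fun x => ⟨qrefl r x, qrefl_mem h.1 x.2⟩)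
    fun x => Subtype.ext (qrefl_qrefl h.2 x)

theorem rf_apply {r : Fin 3 → ℍ[ℝ]} (h : Mn r) (x : icoLeech) :
    ((rf h x : icoLeech) : Fin 3 → ℍ[ℝ]) = qrefl r x := rfl

theorem isRefl_iff {f : Equiv.Perm icoLeech} : IsIcoReflection f ↔ ∃ r, ∃ h : Mn r, f = rf h :=
  ⟨fun ⟨r, h1, h2⟩ => ⟨r, ⟨r.2, h1⟩, Equiv.ext fun x => Subtype.ext (h2 x)⟩,
    fun ⟨r, h, e⟩ => ⟨⟨r, h.1⟩, h.2, fun _ => e ▸ rfl⟩⟩

theorem rf_congr {r s : Fin 3 → ℍ[ℝ]} (h : Mn r) (h' : Mn s) (e : qrefl r = qrefl s) :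
    rf h = rf h' := Equiv.ext fun x => Subtype.ext (congrFun e x)

theorem rf_conj {r s : Fin 3 → ℍ[ℝ]} (h : Mn r) (h' : Mn s) :
    rf h * rf h' * (rf h)⁻¹ = rf (h.qrefl h') :=
  Equiv.ext fun x => Subtype.ext (qrefl_conj h.2 s x)

theorem rf_sq {r : Fin 3 → ℍ[ℝ]} (h : Mn r) : rf h * rf h = 1 :=
  Equiv.ext fun x => Subtype.ext (qrefl_qrefl h.2 x)

/-! ### Norms -/

def g0 (a b : ℤ) : ℤ := Int.add (Int.mul a a) (Int.mul b b)
def g1 (a b : ℤ) : ℤ := g0 (Int.add a b) b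
def s0 (p : Qt) : ℤ := g0 p.a.w p.b.w + g0 p.a.x p.b.x + g0 p.a.y p.b.y + g0 p.a.z p.b.z
def s1 (p : Qt) : ℤ := g1 p.a.w p.b.w + g1 p.a.x p.b.x + g1 p.a.y p.b.y + g1 p.a.z p.b.z

theorem normSq_hv (p : Qt) :
    4 * normSq (hv p) = (s0 p : ℝ) + ((s1 p - s0 p : ℤ) : ℝ) * tau := by
  have := tau_sq
  rw [normSq_def']
  simp [hv, s0, s1, g0, g1, iadd, imul]
  grind

theorem s_of_norm {p : Qt} {n k : ℤ} (h : normSq (hv p) = n + ((k - n : ℤ) : ℝ) * tau) :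
    s0 p = 4 * n ∧ s1 p = 4 * k := by
  have h1 := normSq_hv p
  have := zt_inj (a := s0 p) (b := s1 p - s0 p) (c := 4 * n) (d := 4 * (k - n))
    (by rw [← h1, h]; push_cast; ring)
  omega

theorem norm_spec {x : ℍ[ℝ]} (h : x ∈ icosians) : ∃ n k : ℤ,
    normSq x = n + ((k - n : ℤ) : ℝ) * tau ∧ (x = 0 ∧ n = 0 ∧ k = 0 ∨ 1 ≤ n ∧ 1 ≤ k) := by
  obtain ⟨q, hq, e⟩ := exists_hv (mul_mem h (star_mem h))
  rw [self_mul_star] at e
  have e1 := zt_inj (a := q.a.x) (b := q.b.x) (c := 0) (d := 0)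
    (by simpa [hv] using (congrArg QuaternionAlgebra.imI e).symm)
  have e2 := zt_inj (a := q.a.y) (b := q.b.y) (c := 0) (d := 0)
    (by simpa [hv] using (congrArg QuaternionAlgebra.imJ e).symm)
  have e0 := congrArg QuaternionAlgebra.re e
  simp only [Dv, one_dvd, true_and, mul_one] at hq
  obtain ⟨n, hn⟩ : 2 ∣ q.a.w := by omega
  obtain ⟨m, hm⟩ : 2 ∣ q.b.w := by omega
  have e3 : normSq x = n + ((n + m - n : ℤ) : ℝ) * tau := by
    simp [hv, hn, hm] at e0 ⊢; linarith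
  refine ⟨n, n + m, e3, ?_⟩
  by_cases hx : x = 0
  · have := zt_inj (a := n) (b := n + m - n) (c := 0) (d := 0) (by rw [← e3, hx]; simp)
    exact Or.inl ⟨hx, by omega, by omega⟩
  obtain ⟨p, -, rfl⟩ := exists_hv h
  obtain ⟨a0, a1⟩ := s_of_norm e3
  have key : ∀ a b c d e f g h : ℤ, 0 ≤ g0 a b + g0 c d + g0 e f + g0 g h ∧
      (g0 a b + g0 c d + g0 e f + g0 g h = 0 →
        (a = 0 ∧ b = 0) ∧ (c = 0 ∧ d = 0) ∧ (e = 0 ∧ f = 0) ∧ (g = 0 ∧ h = 0)) := by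
    intro a b c d e f g h
    simp only [g0, iadd, imul]
    have := mul_self_nonneg a; have := mul_self_nonneg b; have := mul_self_nonneg c
    have := mul_self_nonneg d; have := mul_self_nonneg e; have := mul_self_nonneg f
    have := mul_self_nonneg g; have := mul_self_nonneg h
    refine ⟨by positivity, fun h0 => ?_⟩
    refine ⟨⟨?_, ?_⟩, ⟨?_, ?_⟩, ⟨?_, ?_⟩, ?_, ?_⟩ <;> apply mul_self_eq_zero.1 <;> linarith
  have hp : p ≠ NUL := fun h => hx (by rw [h, hv_nul])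
  have b0 := key p.a.w p.b.w p.a.x p.b.x p.a.y p.b.y p.a.z p.b.z
  have b1 := key (p.a.w + p.b.w) p.b.w (p.a.x + p.b.x) p.b.x (p.a.y + p.b.y) p.b.y
    (p.a.z + p.b.z) p.b.z
  change 0 ≤ s0 p ∧ (s0 p = 0 → _) at b0
  change 0 ≤ s1 p ∧ (s1 p = 0 → _) at b1
  have c0 : s0 p ≠ 0 := fun h => hp (by have := b0.2 h; ext <;> simp only [NUL] <;> omega)
  have c1 : s1 p ≠ 0 := fun h => hp (by have := b1.2 h; ext <;> simp only [NUL] <;> omega)
  exact Or.inr ⟨by omega, by omega⟩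

theorem mem_li {x : ℍ[ℝ]} {p q : Qt} (hq : normSq (hv q) = 2) (hx : x = hv p) :
    x ∈ leftIdeal (hv q) ↔ Dv 4 (p.mul q.star) := by
  have e1 : hv q * star (hv q) = 2 := by rw [self_mul_star, hq]; rfl
  have e2 : star (hv q) * hv q = 2 := by rw [star_mul_self, hq]; rfl
  have e3 : ∀ c : ℍ[ℝ], (2 : ℝ) • (c * 2) = ((4 : ℤ) : ℝ) • c := fun c => by
    rw [mul_two, ← two_smul ℝ, smul_smul]; norm_num
  subst hx
  constructor
  · rintro ⟨a, ha, e⟩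
    obtain ⟨s, hs, rfl⟩ := exists_hv ha
    rw [show p.mul q.star = s.smul 4 from hv_inj (by
      rw [hv_mul, hv_star, e, mul_assoc, e1, hv_smul, e3])]
    exact div_smul hs
  · intro h
    refine ⟨(1 / 2 : ℝ) • (hv p * star (hv q)), mem_ico.2 (mem_TT_of_div (by decide) h ?_), ?_⟩
    · rw [hv_mul, hv_star, smul_smul]; norm_num
    · rw [smul_mul_assoc, mul_assoc, e2, half_two]

theorem mem_liH {x : ℍ[ℝ]} {p : Qt} (hx : x = hv p) : x ∈ leftIdeal icoH ↔ Dv 4 (p.mul HB) := by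
  rw [← hv_H, mem_li (by rw [hv_H, normSq_H]) hx, show HH.star = HB by decide +kernel]
theorem mem_liB {x : ℍ[ℝ]} {p : Qt} (hx : x = hv p) :
    x ∈ leftIdeal (star icoH) ↔ Dv 4 (p.mul HH) := by
  rw [← hv_HB, mem_li (by rw [hv_HB, normSq_star, normSq_H]) hx,
    show HB.star = HH by decide +kernel]

end H7.Ico
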