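import Mathlib
import Cfsg.Agent.H7.Ico2
import Cfsg.Agent.H7.J2P

/-!
# The minimal vectors of the icosian Leech lattice
-/

set_option autoImplicit false
set_option maxRecDepth 100000
set_option Elab.async false
set_option linter.all false

namespace H7.Ico

open H29 H7.Cay Cfsg.Spor Quaternion Qt

noncomputable def RT : ℕ := (jn 16384 (nat_lit 0x888886888888888a88888688888a79778888888a888a79778888888a888886888888888a888a79778888868868889997888886888888888a88888688688899978888888a688899978888888a888886888888888a688899978888868888687797888886888888888a88888688886877978888888a886877978888888a888886888888888a88687797888886888a889777888886888888888a888886888a8897778888888a8a8897778888888a888886888888888a8a88977788888688a8887999888888688888888a88888868a88879998888888aa88879998888888a888888688888888aa88879998888886888689799888888688888888a88888868886897998888888a886897998888888a888888688888888a88689799888888688a887779888888688888888a888888688a8877798888888a8a8877798888888a888888688888888a8a8877798888886888869979888888688888888a888888688886997988888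88a888699798888888a888888688888888a8886997988888868888a7797888888688888888a88888868888a77978888888a888a77978888888a888888688888888a888a77978888886886889997888888688888888a88888868868899978888888a868899978888888a888888688888888a868899978888886888a87977888888688888888a8888886888a879778888888a88a879778888888a888888688888888a88a879778888886868889777888888688888888a88888868688897778888888a688897778888888a888888688888888a6888977788888868888a9997888888868888888a88888886888a99978888888a888a99978888888a888888868888888a888a9997888888868a887797888888868888888a888888868a8877978888888a8a8877978888888a888888868888888a8a8877978888888688a89777888888868888888a8888888688a897778888888a88a897778888888a888888868888888a88a8977788888886a8887977888888868888888a88888886a88879778888888aa88879778888888a888888868888888aa888797788888886888699998886999988888888888699998888888888869999888699998a887799888888888a887799888699998888888888869999888888888a8877998a887799888888888886999988869999a888797988888888a888797988869999888888888886999988888888a8887979a888797988888888888699998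886999988a897798888888888a897798886999988888888888699998888888888a8977988a897798888888888869999888a77778886999988888888888a777788888888888699998888888c8888888888888888888888888888888c888888888888888a77779999777988888888888a77779999999788888888888a99777799799988888888888a99777799977788888888888a97977979997988888888888a97977979779788888888888a79979779979988888888888a79979779797788888888888a97797997979988888888888a97797997797788888888888a79799797997988888888888a79799797779788888888888a77999977799988888888888a77999977977788888888888a99997777777988888888888a99997777999788888888888a8888888a688897998888888a8888888a886879998888888a8888888a868899798888888a8888888a888677798888888a8888888a888a99978888888a8888888a8a8877978888888a8888888a88a897778888888a8888888aa88879778888888a888888a8a88879998888888a888888a8886897998888888a888888a88a8877798888888a888888a8888699798888888a888888a8888a77978888888a888888a8868899978888888a888888a888a879778888888a888888a8688897778888888a88888a88868879998888888a88888a8888a899798888888a88888a88a88877798888888a88888a888886979988888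88a88888a88888a79778888888a88888a88688899978888888a88888a88886877978888888a88888a888a8897778888888a8888a8888a8897998888888a8888a88888a877798888888a8888a888688899798888888a8888a888888679998888888a8888a888888a97778888888a8888a888a88877978888888a8888a888886899978888888a8888a888868879778888888a888868888a8897998888888a8888688888a877798888888a88886888688899798888888a88886888888679998888888a88886888888a97778888888a88886888a88877978888888a88886888886899978888888a88886888868879778888888a88888688868879998888888a8888868888a899798888888a88888688a88877798888888a88888688888697998888888a88888688888a79778888888a88888688688899978888888a88888688886877978888888a888886888a8897778888888a88888868a88879998888888a88888868886897998888888a888888688a8877798888888a88888868888699798888888a88888868888a77978888888a88888868868899978888888a8888886888a879778888888a88888868688897778888888a88888886688897998888888a88888886886879998888888a88888886868899798888888a88888886888677798888888a88888886888a99978888888a888888868a8877978888888a8888888688a897778888888a88888886a8887977888888888886999988869999888888888868799788869999888888886888979788869999888888888688997788869999888888888a8877998886999988888888a8887979888699998888888888a897798886999988888888888a77778886999988888888888888888888888c)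
 (nat_lit 0x77798888777799998888888a77779999777988888888888a777988888888888a777799998888888a7779888877779999777799998888888a7779888899978888777799998888888a77779999999788888888888a999788888888888a777799998888888a9997888877779999777799998888888a9997888879998888997777998888888a99777799799988888888888a799988888888888a997777998888888a7999888899777799997777998888888a7999888897778888997777998888888a99777799977788888888888a977788888888888a997777998888888a9777888899777799997777998888888a9777888899798888979779798888888a97977979997988888888888a997988888888888a979779798888888a9979888897977979979779798888888a9979888877978888979779798888888a97977979779788888888888a779788888888888a979779798888888a7797888897977979979779798888888a7797888897998888799797798888888a79979779979988888888888a979988888888888a799797798888888a9799888879979779799797798888888a9799888879778888799797798888888a79979779797788888888888a797788888888888a799797798888888a7977888879979779799797798888888a7977888897998888977979978888888a97797997979988888888888a979988888888888a977979978888888a9799888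897797997977979978888888a9799888879778888977979978888888a97797997797788888888888a797788888888888a977979978888888a7977888897797997977979978888888a7977888899798888797997978888888a79799797997988888888888a997988888888888a797997978888888a9979888879799797797997978888888a9979888877978888797997978888888a79799797779788888888888a779788888888888a797997978888888a7797888879799797797997978888888a7797888879998888779999778888888a77999977799988888888888a799988888888888a779999778888888a7999888877999977779999778888888a7999888897778888779999778888888a77999977977788888888888a977788888888888a779999778888888a9777888877999977779999778888888a9777888877798888999977778888888a99997777777988888888888a777988888888888a999977778888888a7779888899997777999977778888888a7779888899978888999977778888888a99997777999788888888888a999788888888888a999977778888888a9997888899997777999977778888888a99978888688897998888888a8888888a8888888a688897998888888a886879998888888a8888888a8888888a886879998888888a868899798888888a8888888a8888888a868899798888888a888677798888888a8888888a8888888a88867779888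8888a888a99978888888a8888888a8888888a888a99978888888a8a8877978888888a8888888a8888888a8a8877978888888a88a897778888888a8888888a8888888a88a897778888888aa88879778888888a8888888a8888888aa88879778888888a8a889799888868888888888a888868888a8897998888888a8a8897998888888a888868888888888a8a8897998888688888a87779888868888888888a8888688888a877798888888a88a877798888888a888868888888888a88a877798888688868889979888868888888888a88886888688899798888888a688899798888888a888868888888888a688899798888688888867999888868888888888a88886888888679998888888a888679998888888a888868888888888a8886799988886888888a9777888868888888888a88886888888a97778888888a888a97778888888a888868888888888a888a977788886888a8887797888868888888888a88886888a88877978888888aa88877978888888a888868888888888aa88877978888688888689997888868888888888a88886888886899978888888a886899978888888a888868888888888a886899978888688886887977888868888888888a88886888868879778888888a868879778888888a888868888888888a868879778888688886887999888886888888888a88888688868879998888888a868879998888888a888886888888888a868879998888868888a89979888886888888888a8888868888a899798888888a88a899798888888a888886888888888a88a8997988888688a8887779888886888888888a88888688a88877798888888aa88877798888888a888886888888888aa88877798888868888869799888886888888888a88888688888697998888888a888697998888888a888886888888888a8886979988888688888a7977))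
def UL : List ℕ := [2005436792, 2005436824, 2005440647, 2005440649, 2021165207, 2021165209, 2021169032, 2021169544, 2022147977, 2022148489, 2022152312, 2022152344, 2022279047, 2022279559, 2022283384, 2022283416, 2023262327, 2023262329, 2023266184, 2023266696, 2038990712, 2038990744, 2038995079, 2038995081, 2272819352, 2272823687, 2272823689, 2272827544, 2273802632, 2273806457, 2273806489, 2273810824, 2273933704, 2273937527, 2273937559, 2273941896, 2274916472, 2274920839, 2274920841, 2274924664, 2289531017, 2289534872, 2289535384, 2289539209, 2289662087, 2289665944, 2289666456, 2289670279, 2290641032, 2290644855, 2290644857, 2290644887, 2290644889, 2290645367, 2290645369, 2290645399, 2290645401, 2290648712, 2290649192, 2290649222, 2290649226, 2290649256, 2290649736, 2290653047, 2290653049, 2290653079, 2290653081, 2290653559, 2290653561, 2290653591, 2290653593, 2290657416, 2291628169, 2291631992, 2291632504, 2291636361, 2291759239, 2291763064, 2291763576, 2291767431, 2306373784, 2306377607, 2306377609, 2306381976, 2307356552, 2307360889, 2307360921,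 2307364744, 2307487624, 2307491959, 2307491991, 2307495816, 2308470904, 2308474759, 2308474761, 2308479096, 2542303367, 2542303369, 2542307704, 2542307736, 2558031752, 2558032264, 2558036119, 2558036121, 2559015032, 2559015064, 2559018889, 2559019401, 2559146104, 2559146136, 2559149959, 2559150471, 2560128904, 2560129416, 2560133239, 2560133241, 2575857799, 2575857801, 2575861624, 2575861656]
def U8 : List ℕ := [2290649222, 2290649192, 2290648712, 2290641032, 2290657416, 2290649736, 2290649256, 2290649226]

def dz (n : ℕ) : ℤ := Int.subNatNat (Nat.mod n 16) 8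
def d4 (n : ℕ) : Z4 := ⟨dz n, dz (Nat.shiftRight n 4), dz (Nat.shiftRight n 8), dz (Nat.shiftRight n 12)⟩
noncomputable def dq (n : ℕ) : Qt := mk2 (d4 n) (d4 (Nat.shiftRight n 16))
def ez (a : ℤ) : ℕ := Int.natAbs (Int.add a 8)
def e4 (p : Z4) : ℕ := Nat.add (ez p.w) (Nat.mul 16 (Nat.add (ez p.x) (Nat.mul 16 (Nat.add (ez p.y)
  (Nat.mul 16 (ez p.z))))))
def eq' (p : Qt) : ℕ := Nat.add (e4 p.a) (Nat.shiftLeft (e4 p.b) 16)

/-- Triples. -/
structure V3 where
  x : Qt
  y : Qt
  z : Qt
deriving DecidableEq

noncomputable def V3.vec (v : V3) : Fin 3 → ℍ[ℝ] := ![hv v.x, hv v.y, hv v.z]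
noncomputable def mk3 (x y z : Qt) : V3 := x.frc fun x => y.frc fun y => z.frc fun z => ⟨x, y, z⟩
theorem mk3_eq (x y z : Qt) : mk3 x y z = ⟨x, y, z⟩ := by simp only [mk3, Qt.frc_eq]
noncomputable def V3.frc {α : Type} (v : V3) (k : V3 → α) : α := V3.rec (fun x y z => k ⟨x, y, z⟩) v
theorem V3.frc_eq {α : Type} (v : V3) (k : V3 → α) : v.frc k = k v := by cases v; rfl
/-- The representatives. -/
noncomputable def rho (j : ℕ) : V3 := lit (pk RT 96 j) fun c =>
  mk3 (dq c) (dq (Nat.shiftRight c 32)) (dq (Nat.shiftRight c 64))
noncomputable def ip (v w : V3) : Qt :=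
  v.x.mul w.x.star |>.frc fun a => v.y.mul w.y.star |>.frc fun b => v.z.mul w.z.star |>.frc fun c =>
    (a.add b).frc fun d => d.add c

theorem hv_ip (v w : V3) : hv (ip v w) = (2 : ℝ) • qip v.vec w.vec := by
  simp [ip, Qt.frc_eq, hv_add, hv_mul, hv_star, qip_eq, V3.vec]

noncomputable def chkL (v : V3) : Bool :=
  (v.x.sub v.y).frc fun a => (a.mul HB).frc fun a => and2 (decide (Dv 4 a))
    ((v.y.sub v.z).frc fun b => (b.mul HB).frc fun b => and2 (decide (Dv 4 b))
      ((v.x.add v.y).frc fun c => (c.add v.z).frc fun c => (c.mul HH).frc fun c => decide (Dv 4 c)))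

theorem chkL_iff {v : V3} (h : Dv 1 v.x ∧ Dv 1 v.y ∧ Dv 1 v.z) :
    chkL v = true ↔ v.vec ∈ icoLeech := by
  simp only [chkL, Qt.frc_eq, and2_true, decide_eq_true_eq, V3.vec, mem3]
  rw [mem_liH (hv_sub _ _).symm, mem_liH (hv_sub _ _).symm,
    mem_liB (p := (v.x.add v.y).add v.z) (by rw [hv_add, hv_add])]
  simp [hv_mem h.1, hv_mem h.2.1, hv_mem h.2.2]

theorem rho_mn : ∀ j < 315, Mn (rho j).vec := by
  have : allF 315 (fun j => (rho j).frc fun v => and2 (decide (Dv 1 v.x ∧ Dv 1 v.y ∧ Dv 1 v.z))
    (and2 (chkL v) (decide (ip v v = ONE.smul 8)))) = true := by decide +kernel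
  intro j hj
  have h := allF_true.1 this j hj
  simp only [V3.frc_eq, and2_true, decide_eq_true_eq] at h
  refine ⟨(chkL_iff h.1).1 h.2.1, smul_right_injective _ (two_ne_zero (α := ℝ)) ?_⟩
  change (2 : ℝ) • _ = (2 : ℝ) • _
  rw [← hv_ip, h.2.2, hv_smul, hv_one, show (4 : ℍ[ℝ]) = ((4 : ℝ) : ℍ[ℝ]) from rfl]
  ext <;> simp <;> norm_num

/-- The reflection in `r` sends `v` to a multiple of `w`. -/
noncomputable def chkR (r v w : V3) : Bool :=
  (ip v r).frc fun c => (mk3 ((v.x.smul 8).frc fun a => (c.mul r.x).frc fun b => a.sub b)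
    ((v.y.smul 8).frc fun a => (c.mul r.y).frc fun b => a.sub b)
    ((v.z.smul 8).frc fun a => (c.mul r.z).frc fun b => a.sub b)).frc fun y =>
      (ip y w).frc fun d => and2 (decide (Dv 64 d)) (and2 (decide (d.mul w.x = y.x.smul 16))
        (and2 (decide (d.mul w.y = y.y.smul 16)) (decide (d.mul w.z = y.z.smul 16))))

theorem chkR_spec {r v w : V3} (h : chkR r v w = true) :
    ∃ c ∈ icosians, qrefl r.vec v.vec = c • w.vec := by
  simp only [chkR, Qt.frc_eq, V3.frc_eq, mk3_eq, and2_true, decide_eq_true_eq] at h
  generalize ip _ w = d at h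
  obtain ⟨h0, h1, h2, h3⟩ := h
  refine ⟨(1 / 64 : ℝ) • hv d, mem_ico.2 (mem_TT_of_div (by decide) h0 (by simp)), ?_⟩
  have key : ∀ a b c : Qt, d.mul c = ((a.smul 8).sub ((ip v r).mul b)).smul 16 →
      hv a - ((1 / 2 : ℝ) • qip v.vec r.vec) * hv b = ((1 / 64 : ℝ) • hv d) * hv c := by
    intro a b c h
    have := congrArg hv h
    rw [hv_mul, hv_smul, hv_sub, hv_smul, hv_mul, hv_ip] at this
    rw [smul_mul_assoc, smul_mul_assoc, ← one_smul ℝ (hv d * hv c),
      show (1 : ℝ) = (1 / 2) * 2 by norm_num, mul_smul, this]
    simp only [smul_mul_assoc, smul_sub, smul_smul]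
    norm_num
  funext t
  fin_cases t
  exacts [key _ _ _ h1, key _ _ _ h2, key _ _ _ h3]

noncomputable def nets : ℕ → Net := nth Net.nil J2P.nl

/-- The reflection number `i` acts as the letter `c`. -/
noncomputable def chkPi (c i : ℕ) : Bool :=
  seqL (mapPull (nets c) (idPl 315 9)) fun Pl => (rho i).frc fun r => allF 315 fun j =>
    lit (H29.val Pl j) fun k => (rho j).frc fun v => (rho k).frc fun w => chkR r v w

theorem pi1 : chkPi 1 92 = true := by decide +kernel
theorem pi2 : chkPi 2 104 = true := by decide +kernel
theorem pi10 : chkPi 10 1 = true := by decide +kernel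
theorem pi11 : chkPi 11 12 = true := by decide +kernel

theorem chkPi_spec {c i : ℕ} (h : chkPi c i = true) {j : ℕ} (hj : j < 315) :
    sg nets c j < 315 ∧ ∃ u ∈ icosians, qrefl (rho i).vec (rho j).vec = u • (rho (sg nets c j)).vec := by
  simp only [chkPi, seqL_eq, V3.frc_eq, allF_true, lit_eq] at h
  have h1 : sg nets c j < 315 := lt_of_fix (fun i hi => Net.perm_fix (J2P.hn c) hi) hj
  have h2 := h j hj
  rw [val_mapPull (n := nets c) (J2P.hn c), show (nets c).perm j = sg nets c j from rfl,
    val_idPl (by decide) h1] at h2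
  exact ⟨h1, chkR_spec h2⟩

/-- A multiple of one of the representatives. -/
def PP (r : Fin 3 → ℍ[ℝ]) : Prop := ∃ j < 315, ∃ c ∈ icosians, r = c • (rho j).vec

theorem PP.smul {r : Fin 3 → ℍ[ℝ]} (h : PP r) {u : ℍ[ℝ]} (hu : u ∈ icosians) : PP (u • r) := by
  obtain ⟨j, hj, c, hc, rfl⟩ := h
  exact ⟨j, hj, u * c, mul_mem hu hc, smul_smul _ _ _⟩

theorem PP.refl {c i : ℕ} (h : chkPi c i = true) {r : Fin 3 → ℍ[ℝ]} (hr : PP r) :
    PP (qrefl (rho i).vec r) := by
  obtain ⟨j, hj, a, ha, rfl⟩ := hr
  obtain ⟨h1, u, hu, h2⟩ := chkPi_spec h hj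
  rw [qrefl_smul, h2]
  exact PP.smul ⟨_, h1, u, hu, rfl⟩ ha

theorem hv_negH : hv (HH.smul (-1)) = -icoH := by rw [hv_smul, hv_H]; simp

theorem swap01 (x y z : ℍ[ℝ]) : qrefl (rho 1).vec ![x, y, z] = ![y, x, z] := by
  have e : ∀ a : ℍ[ℝ], (2⁻¹ : ℝ) • (a * star icoH * icoH) = a := fun a => by
    rw [mul_assoc, H_mul', ← one_div, half_two]
  rw [show rho 1 = ⟨HH, HH.smul (-1), NUL⟩ by decide +kernel]
  funext t
  fin_cases t <;> simp [qrefl, qip_eq, V3.vec, hv_negH, hv_H, hv_nul, add_mul, e]

theorem swap12 (x y z : ℍ[ℝ]) : qrefl (rho 92).vec ![x, y, z] = ![x, z, y] := by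
  have e : ∀ a : ℍ[ℝ], (2⁻¹ : ℝ) • (a * star icoH * icoH) = a := fun a => by
    rw [mul_assoc, H_mul', ← one_div, half_two]
  rw [show rho 92 = ⟨NUL, HH, HH.smul (-1)⟩ by decide +kernel]
  funext t
  fin_cases t <;> simp [qrefl, qip_eq, V3.vec, hv_negH, hv_H, hv_nul, add_mul, e]

/-- The claim for one vector. -/
def Cl (x y z : ℍ[ℝ]) : Prop := Mn ![x, y, z] → PP ![x, y, z]

theorem Cl.s01 {x y z : ℍ[ℝ]} (h : Cl y x z) : Cl x y z := fun hm =>
  swap01 y x z ▸ PP.refl pi10 (h (swap01 x y z ▸ (rho_mn 1 (by decide)).qrefl hm))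

theorem Cl.s12 {x y z : ℍ[ℝ]} (h : Cl x z y) : Cl x y z := fun hm =>
  swap12 x z y ▸ PP.refl pi1 (h (swap12 x y z ▸ (rho_mn 92 (by decide)).qrefl hm))

theorem Cl.unit {x y z u : ℍ[ℝ]} (hu : u ∈ icosians) (h1 : normSq u = 1)
    (h : Cl (star u * x) (star u * y) (star u * z)) : Cl x y z := fun hm => by
  have e1 : u * star u = 1 := by rw [self_mul_star, h1]; rfl
  have e2 : star u * u = 1 := by rw [star_mul_self, h1]; rfl
  have e3 : ![star u * x, star u * y, star u * z] = star u • ![x, y, z] := by simp
  have := (h (e3 ▸ ⟨L_smul (star_mem hu) hm.1, by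
    rw [qip_smul, qip_smul', hm.2, star_star, show (4 : ℍ[ℝ]) * u = u * 4 by noncomm_ring,
      ← mul_assoc, e2, one_mul]⟩)).smul hu
  rwa [e3, smul_smul, e1, one_smul] at this

/-! ### Enumeration -/

def VL : List (ℤ × ℤ) := [(0, 0), (1, 0), (-1, 0), (2, 0), (-2, 0), (-2, 1), (-1, 1), (0, 1), (1, 1),
  (2, -1), (1, -1), (0, -1), (-1, -1), (-2, 2), (-1, 2), (0, 2), (2, -2), (1, -2), (0, -2)]

theorem mem_VL {a b : ℤ} (h0 : g0 a b ≤ 8) (h1 : g1 a b ≤ 8) : (a, b) ∈ VL := by
  simp only [g1, g0, iadd, imul] at h0 h1
  have := mul_self_nonneg a; have := mul_self_nonneg b; have := mul_self_nonneg (a + b)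
  have a1 : -3 < a := by nlinarith
  have a2 : a < 3 := by nlinarith
  have b1 : -3 < b := by nlinarith
  have b2 : b < 3 := by nlinarith
  interval_cases a <;> interval_cases b <;> simp [VL] at h0 h1 ⊢

/-- One level of the enumeration. -/
noncomputable def lev (N s t : ℤ) (k : ℤ → ℤ → ℤ → ℤ → Bool) : Bool :=
  allL VL fun v => fI v.1 fun a => fI v.2 fun b => fI (Int.add s (g0 a b)) fun s' =>
    imp2 (decide (s' ≤ N)) (fI (Int.add t (g1 a b)) fun t' => imp2 (decide (t' ≤ N)) (k a b s' t'))

theorem lev_spec {N s t : ℤ} {k : ℤ → ℤ → ℤ → ℤ → Bool} (h : lev N s t k = true) {a b : ℤ}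
    (hN : N ≤ 8) (hs : 0 ≤ s) (ht : 0 ≤ t) (h0 : s + g0 a b ≤ N) (h1 : t + g1 a b ≤ N) :
    k a b (s + g0 a b) (t + g1 a b) = true := by
  have := allL_true.1 h _ (mem_VL (a := a) (b := b) (by omega) (by omega))
  simp only [fI_eq, imp2_true, decide_eq_true_eq, iadd] at this
  exact this h0 h1

/-- All doubles of icosians of norm `N / 4` pass the test `f`. -/
noncomputable def enum (N : ℤ) (f : Qt → Bool) : Bool :=
  lev N 0 0 fun a0 b0 s t => lev N s t fun a1 b1 s t => lev N s t fun a2 b2 s t =>
    lev N s t fun a3 b3 s t => imp2 (decide (s = N)) (imp2 (decide (t = N))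
      (imp2 (decide (Dv 1 ⟨⟨a0, a1, a2, a3⟩, ⟨b0, b1, b2, b3⟩⟩)) (f ⟨⟨a0, a1, a2, a3⟩, ⟨b0, b1, b2, b3⟩⟩)))

theorem g0_nn (a b : ℤ) : 0 ≤ g0 a b := add_nonneg (mul_self_nonneg a) (mul_self_nonneg b)
theorem g1_nn (a b : ℤ) : 0 ≤ g1 a b := g0_nn _ _

theorem enum_spec {N : ℤ} {f : Qt → Bool} (h : enum N f = true) (hN : N ≤ 8) {p : Qt} (hp : Dv 1 p)
    (h0 : s0 p = N) (h1 : s1 p = N) : f p = true := by
  rw [s0] at h0
  rw [s1] at h1
  have := g0_nn p.a.w p.b.w; have := g0_nn p.a.x p.b.x; have := g0_nn p.a.y p.b.y
  have := g0_nn p.a.z p.b.z; have := g1_nn p.a.w p.b.w; have := g1_nn p.a.x p.b.x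
  have := g1_nn p.a.y p.b.y; have := g1_nn p.a.z p.b.z
  have a0 := lev_spec h (a := p.a.w) (b := p.b.w) hN le_rfl le_rfl (by omega) (by omega)
  have a1 := lev_spec a0 (a := p.a.x) (b := p.b.x) hN (by omega) (by omega) (by omega) (by omega)
  have a2 := lev_spec a1 (a := p.a.y) (b := p.b.y) hN (by omega) (by omega) (by omega) (by omega)
  have a3 := lev_spec a2 (a := p.a.z) (b := p.b.z) hN (by omega) (by omega) (by omega) (by omega)
  simp only [imp2_true, decide_eq_true_eq] at a3
  exact a3 (by omega) (by omega) hp

theorem unit_mem {u : ℍ[ℝ]} (hu : u ∈ icosians) (h : normSq u = 1) : ∃ c ∈ UL, u = hv (dq c) := by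
  have key : enum 4 (fun p => lit (eq' p) fun n => and2 (memL n UL) (decide (p = dq n))) = true := by
    decide +kernel
  obtain ⟨p, hp, rfl⟩ := exists_hv hu
  obtain ⟨h0, h1⟩ := s_of_norm (p := p) (n := 1) (k := 1) (by simp [h])
  have := enum_spec key (by decide) hp h0 h1
  simp only [lit_eq, and2_true, memL_true, decide_eq_true_eq] at this
  exact ⟨_, this.1, congrArg hv this.2⟩

/-- If `v` is in the lattice then it is one of the first representatives. -/
noncomputable def chkV (v : V3) : Bool :=
  imp2 (chkL v) (lit (Nat.add (eq' v.x) (Nat.add (Nat.shiftLeft (eq' v.y) 32)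
    (Nat.shiftLeft (eq' v.z) 64))) fun n => Bool.not (allF 89 fun j =>
      imp2 (Nat.beq (pk RT 96 j) n) (Bool.not (decide (v = rho j)))))

theorem chkV_spec {v : V3} (h : chkV v = true) (hd : Dv 1 v.x ∧ Dv 1 v.y ∧ Dv 1 v.z) :
    Cl (hv v.x) (hv v.y) (hv v.z) := fun hm => by
  rw [chkV, imp2_true, lit_eq, chkL_iff hd] at h
  have h1 := h hm.1
  rw [Bool.not_eq_true', ← Bool.not_eq_true, allF_true] at h1
  push Not at h1
  obtain ⟨j, hj, h2⟩ := h1
  simp only [ne_eq, imp2_true, Classical.not_imp, Bool.not_eq_true', decide_eq_false_iff_not,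
    not_not] at h2
  exact ⟨j, by omega, 1, one_mem _, by rw [one_smul, ← h2.2]; rfl⟩

theorem dv_of_mem {p : Qt} (h : hv p ∈ icosians) : Dv 1 p := by
  obtain ⟨q, hq, e⟩ := exists_hv h
  exact hv_inj e ▸ hq

theorem dH : Dv 1 HH := by decide
theorem dO : Dv 1 ONE := by decide
theorem dN : Dv 1 NUL := by decide

theorem cl400 : Cl 2 0 0 := by
  have := chkV_spec (v := ⟨ONE.smul 2, NUL, NUL⟩) (by decide +kernel) (by decide +kernel)
  simpa [hv_smul, hv_one, hv_nul, two_smul, one_add_one_eq_two] using this

theorem cl220 {y : ℍ[ℝ]} (h : normSq y = 2) : Cl icoH y 0 := fun hm => by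
  have key : enum 8 (fun p => chkV ⟨HH, p, NUL⟩) = true := by decide +kernel
  obtain ⟨p, hp, rfl⟩ := exists_hv (mem3.1 hm.1).1.2.1
  obtain ⟨h0, h1⟩ := s_of_norm (p := p) (n := 2) (k := 2) (by simp [h])
  have := chkV_spec (enum_spec key (by decide) hp h0 h1) ⟨dH, hp, dN⟩
  simp only [hv_H, hv_nul] at this
  exact this hm

theorem cl211 {x y : ℍ[ℝ]} (h : normSq x = 2) (h' : normSq y = 1) : Cl x y 1 := fun hm => by
  have key : enum 8 (fun p => (p.sub ONE).frc fun a => (a.mul HB).frc fun a => imp2 (decide (Dv 4 a))
    (allL U8 fun c => (dq c).frc fun q => chkV ⟨p, q, ONE⟩)) = true := by decide +kernel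
  have key2 : allL UL (fun c => (dq c).frc fun p => (p.sub ONE).frc fun a => (a.mul HB).frc fun a =>
    imp2 (decide (Dv 4 a)) (memL c U8)) = true := by decide +kernel
  obtain ⟨⟨a1, a2, -⟩, a3, a4, -⟩ := mem3.1 hm.1
  obtain ⟨p, hp, rfl⟩ := exists_hv a1
  obtain ⟨c, hc, rfl⟩ := unit_mem a2 h'
  obtain ⟨h0, h1⟩ := s_of_norm (p := p) (n := 2) (k := 2) (by simp [h])
  have b1 := enum_spec key (by decide) hp h0 h1
  have b2 := allL_true.1 key2 c hc
  simp only [Qt.frc_eq, imp2_true, decide_eq_true_eq, memL_true, allL_true] at b1 b2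
  have := chkV_spec (b1 ((mem_liH (by rw [hv_sub, hv_one]; abel)).1 (li_add a3 a4)) c
    (b2 ((mem_liH (by rw [hv_sub, hv_one])).1 a4))) ⟨hp, dv_of_mem a2, dO⟩
  simp only [hv_one] at this
  exact this hm

theorem clts {x y : ℍ[ℝ]} (h : normSq x = 1 + tau) (h' : normSq y = 2 - tau) : Cl x y 1 := fun hm => by
  have key : allL UL (fun c => (dq c).frc fun q => q.tmul.frc fun a => (q.sub a).frc fun q =>
    (q.sub ONE).frc fun a => (a.mul HB).frc fun a => imp2 (decide (Dv 4 a))
      (allL UL fun d => (dq d).frc fun p => p.tmul.frc fun p => chkV ⟨p, q, ONE⟩)) = true := by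
    decide +kernel
  have ht := tau_sq
  obtain ⟨⟨a1, a2, -⟩, -, a4, -⟩ := mem3.1 hm.1
  obtain ⟨d, hd, e1⟩ := unit_mem (sub_mem (tau_mem a1) a1) (by
    rw [show tau • x - x = (tau - 1) • x by rw [sub_smul, one_smul], normSq_smul, h]; grind)
  obtain ⟨c, hc, e2⟩ := unit_mem (neg_mem (tau_mem a2)) (by rw [normSq_neg, normSq_smul, h']; grind)
  have f1 : x = hv (dq d).tmul := by
    rw [hv_tmul, ← e1, smul_sub, smul_smul, ht, add_smul]; simp
  have f2 : y = hv ((dq c).sub (dq c).tmul) := by
    rw [hv_sub, hv_tmul, ← e2, smul_neg, smul_smul, ht, add_smul]; simp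
  have b1 := allL_true.1 key c hc
  simp only [Qt.frc_eq, imp2_true, decide_eq_true_eq, allL_true] at b1
  have := chkV_spec (b1 ((mem_liH (by rw [hv_sub, hv_one, ← f2])).1 a4) d hd)
    ⟨dv_of_mem (f1 ▸ a1), dv_of_mem (f2 ▸ a2), dO⟩
  simp only [hv_one, ← f1, ← f2] at this
  exact this hm

theorem re_four : (4 : ℍ[ℝ]).re = 4 := rfl

theorem cl00 (x : ℍ[ℝ]) : Cl x 0 0 := fun hm => by
  obtain ⟨⟨a1, -, -⟩, a3, -, a4⟩ := mem3.1 hm.1
  obtain ⟨u, hu, rfl⟩ := two_of_both a1 (by simpa using a3) (by simpa using a4)
  have h1 := hm.2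
  rw [qip_self] at h1
  have h2 : normSq u = 1 := by
    have h3 := congrArg QuaternionAlgebra.re h1
    have h4 : normSq (2 : ℍ[ℝ]) = 4 := by rw [← H_mul, map_mul, normSq_star, normSq_H]; norm_num
    simp [h4, re_four] at h3
    exact h3
  refine Cl.unit hu h2 ?_ hm
  rw [← mul_assoc, star_mul_self, h2]
  simpa using cl400

theorem cl0 (x y : ℍ[ℝ]) : Cl x y 0 := fun hm => by
  obtain ⟨-, a3, a4, -⟩ := mem3.1 hm.1
  obtain ⟨a, ha, e1⟩ := li_add a3 a4
  obtain ⟨b, hb, e2⟩ := a4
  simp only [sub_zero, sub_add_cancel] at e1 e2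
  subst e1 e2
  have h1 := hm.2
  rw [qip_self] at h1
  have h3 := congrArg QuaternionAlgebra.re h1
  simp [normSq_H, re_four] at h3
  obtain ⟨n, k, c1, c2⟩ := norm_spec ha
  obtain ⟨n', k', d1, d2⟩ := norm_spec hb
  have := zt_inj (a := n + n') (b := k - n + (k' - n')) (c := 2) (d := 0)
    (by push_cast at c1 d1 ⊢; linarith)
  rcases c2 with ⟨rfl, -⟩ | c2
  · rw [zero_mul] at hm ⊢; exact (cl00 _).s01 hm
  rcases d2 with ⟨rfl, -⟩ | d2
  · rw [zero_mul] at hm ⊢; exact cl00 _ hm
  obtain rfl : n = 1 := by omega
  obtain rfl : k = 1 := by omega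
  obtain rfl : n' = 1 := by omega
  obtain rfl : k' = 1 := by omega
  simp at c1 d1
  refine Cl.unit ha c1 ?_ hm
  rw [← mul_assoc, star_mul_self, c1, mul_zero]
  simpa using cl220 (by simp [c1, d1, normSq_H])

theorem cl1 {x y z : ℍ[ℝ]} (hx : x ≠ 0) (hy : y ≠ 0) (hz : normSq z = 1) : Cl x y z := fun hm => by
  obtain ⟨⟨a1, a2, a3⟩, -⟩ := mem3.1 hm.1
  have h1 := hm.2
  rw [qip_self] at h1
  have h3 := congrArg QuaternionAlgebra.re h1
  simp [hz, re_four] at h3
  obtain ⟨n, k, c1, c2⟩ := norm_spec a1
  obtain ⟨n', k', d1, d2⟩ := norm_spec a2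
  have := zt_inj (a := n + n') (b := k - n + (k' - n')) (c := 3) (d := 0)
    (by push_cast at c1 d1 ⊢; linarith)
  replace c2 := c2.resolve_left fun h => hx h.1
  replace d2 := d2.resolve_left fun h => hy h.1
  refine Cl.unit a3 hz ?_ hm
  rw [star_mul_self, hz]
  have h4 : n = 1 ∧ k = 1 ∧ n' = 2 ∧ k' = 2 ∨ n = 2 ∧ k = 2 ∧ n' = 1 ∧ k' = 1 ∨
      n = 1 ∧ k = 2 ∧ n' = 2 ∧ k' = 1 ∨ n = 2 ∧ k = 1 ∧ n' = 1 ∧ k' = 2 := by omega
  rcases h4 with ⟨rfl, rfl, rfl, rfl⟩ | ⟨rfl, rfl, rfl, rfl⟩ | ⟨rfl, rfl, rfl, rfl⟩ |
    ⟨rfl, rfl, rfl, rfl⟩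
  · exact (cl211 (by simp [hz, d1]) (by simp [hz, c1])).s01
  · exact cl211 (by simp [hz, c1]) (by simp [hz, d1])
  · exact clts (by simp [hz, c1]) (by simp [hz, d1]; ring)
  · exact (clts (by simp [hz, d1]) (by simp [hz, c1]; ring)).s01

theorem cl_all (x y z : ℍ[ℝ]) : Cl x y z := fun hm => by
  by_cases hz : z = 0
  · subst hz; exact cl0 x y hm
  by_cases hy : y = 0
  · subst hy; exact (cl0 x z).s12 hm
  by_cases hx : x = 0
  · subst hx; exact (cl0 y z).s12.s01 hm
  obtain ⟨⟨a1, a2, a3⟩, -⟩ := mem3.1 hm.1
  have h1 := hm.2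
  rw [qip_self] at h1
  have h3 := congrArg QuaternionAlgebra.re h1
  simp [re_four] at h3
  obtain ⟨n, k, c1, c2⟩ := norm_spec a1
  obtain ⟨n', k', d1, d2⟩ := norm_spec a2
  obtain ⟨n'', k'', e1, e2⟩ := norm_spec a3
  have := zt_inj (a := n + n' + n'') (b := k - n + (k' - n') + (k'' - n'')) (c := 4) (d := 0)
    (by push_cast at c1 d1 e1 ⊢; linarith)
  replace c2 := c2.resolve_left fun h => hx h.1
  replace d2 := d2.resolve_left fun h => hy h.1
  replace e2 := e2.resolve_left fun h => hz h.1
  have h4 : n = 1 ∧ k = 1 ∨ n' = 1 ∧ k' = 1 ∨ n'' = 1 ∧ k'' = 1 := by omega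
  rcases h4 with ⟨rfl, rfl⟩ | ⟨rfl, rfl⟩ | ⟨rfl, rfl⟩
  · exact (cl1 hy hz (by simpa using c1)).s12.s01 hm
  · exact (cl1 hx hz (by simpa using d1)).s12 hm
  · exact cl1 hx hy (by simpa using e1) hm

/-- The classification of the minimal vectors. -/
theorem Mn.pp {r : Fin 3 → ℍ[ℝ]} (h : Mn r) : PP r := by
  obtain ⟨x, y, z, rfl⟩ : ∃ a b c, r = ![a, b, c] :=
    ⟨r 0, r 1, r 2, funext fun t => by fin_cases t <;> rfl⟩
  exact cl_all x y z h

end H7.Ico
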