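import Mathlib
import Cfsg.Agent.H7.JD

set_option autoImplicit false
set_option maxRecDepth 100000
set_option Elab.async false
set_option linter.all false

namespace H7.JDk3

open H29 H7.Cay

def B : List (List (ℕ × ℕ)) := [[(0, 2), (0, 2), (0, 2)], [(0, 64), (0, 64), (0, 64), (0, 64), (0, 64), (0, 64)]]
def RL : List (List (ℕ × ℕ)) := [[(0, 0), (0, 0)],
 [],
 [(0, 64), (0, 64), (0, 64), (0, 64), (0, 64), (0, 64)],
 [(0, 2), (0, 2), (0, 2)]]
def O : List (ℕ × ℕ × ℕ) := [(1, 0, 0), (0, 0, 0), (3, 0, 0), (2, 0, 0)]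
noncomputable def D : DC := ⟨JM0.M, 1, fun l => l, fun _ => JD.al, RL, 16,
 (nat_lit 0xa00003000000400002000000400001000000000000000000000000),
 (nat_lit 0x102e900000000000000010000000002e90000000002e90000000000010000053f000100000001000006840001000000010000049100010000000100010040000104ad0001000004ad00010000000200000162000200000002000100330002021c0002000004230002000000010001021c000200330002000001b3000200000003000001ab000300000002000103610003050b0003000100a0000303d20003000003d2000300000004000007680004000000040000074200040000000400000722000400000004000102250004014d00040001004b000404360004000000600003000000030000002600040000000400010000000400a000030000004000030000000300010002000300020003000000800003000000030000006000020000000200010000000300400002000100020002000300020000002b0001000000010000031600010000000100000307000100000001000003170002000000020000035b0001000000010000034c0001000000010000003c0001000000010000000100010000000100000080000200000002000000600001000000010000000100020000000200010000000200400001000000800001000000010000035d000100000001000003060001000000010000003d000100000001000000110001000000010000001000010000000100010000000100000000)⟩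
def c0 : List (List ℕ) := [[],
 [0, 1, 0, 3, 12, 2],
 [0, 1, 0, 3, 20, 140, 2],
 [0, 1, 0, 3, 20, 180, 2],
 [0, 1, 0, 3, 20, 212, 2],
 [0, 1, 0, 3, 260, 2],
 [0, 1, 0, 3, 1028, 2],
 [],
 [0, 2, 0, 59, 8, 58],
 [1, 1, 0, 48, 48],
 [0, 2, 0, 59, 72, 58],
 [1, 1, 0, 8, 16],
 [1, 1, 0, 88, 24],
 [1, 1, 0, 16, 40],
 [1, 1, 0, 96, 32],
 [0, 2, 539, 59, 105, 112, 58],
 [1, 1, 0, 88, 32],
 [1, 1, 0, 8, 32],
 [1, 1, 0, 128, 40],
 [3, 2, 0, 59, 16, 58],
 [],
 [1, 2, 0, 80, 80],
 [0, 3, 0, 163, 168, 162],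
 [3, 3, 0, 163, 64, 162],
 [2, 3, 0, 163, 59, 3, 4, 2, 58, 162],
 [],
 [0, 4, 0, 203, 193, 176, 202],
 [1, 3, 0, 176, 176],
 [2, 4, 11, 203, 192, 186, 192, 163, 120, 162, 216, 202],
 [2, 4, 1061, 226, 209, 226, 209, 226, 203, 192, 202],
 [0, 4, 90, 234, 208, 235],
 [1, 4, 0, 240, 208],
 [1, 4, 0, 208, 240],
 [0, 4, 213, 235, 249, 256, 203],
 [0, 3, 160, 202, 264],
 [0, 3, 865, 265, 226, 264],
 [0, 2, 64, 162, 193, 282],
 [1, 3, 427, 289],
 [0, 2, 540, 297, 274, 296],
 [0, 1, 64, 58, 307],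
 [0, 2, 51, 297, 275, 296],
 [0, 2, 3, 155, 323],
 [1, 2, 1059, 313],
 [0, 1, 64, 58, 336],
 [1, 1, 1197, 337, 328, 336],
 [1, 1, 0, 144, 352],
 [1, 1, 0, 360, 24],
 [0, 1, 257, 346, 137, 368, 3],
 [0, 0, 0, 2, 376],
 [0, 0, 745, 386]]
theorem k0 : and2 (D.chkL c0 0) (Nat.beq (Nat.add 0 c0.length) 50) = true := by decide +kernel
theorem up {G : Type*} [Group G] {H : Subgroup G} {φ g : ℕ → G} (h : D.Hyp H φ g) :
    D.Upto H φ g 50 := (DC.upto_zero.next' h k0)
theorem hyp {G : Type*} [Group G] {H : Subgroup G} {φ : ℕ → G} {σ : G} (h : JM0.M.Sound φ)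
    (h1 : ∀ c < JM0.M.n, φ c ∈ H) (h2 : σ⁻¹ = σ) (h3 : ∀ y ∈ JD.Y, φ y.1 * σ = σ * φ y.2)
    (h4 : ∀ R ∈ B, evR φ (fun _ => σ) R = 1) : D.Hyp H φ (fun _ => σ) :=
  ⟨h, h1, fun _ => h2.symm, fun _ => al_sound h h3 JD.hal,
    good_of_eq (O := O) (iv := fun l => l) h (fun _ => h2.symm)
      (fun R hR => ⟨(by decide +kernel : ∀ R ∈ B, ∀ a ∈ R, a.2 < JM0.M.n) R hR, h4 R hR⟩) (by decide +kernel)⟩
theorem collapse {G : Type*} [Group G] {φ : ℕ → G} {σ : G} (h : JM0.M.Sound φ)
    (h2 : σ⁻¹ = σ) (h3 : ∀ y ∈ JD.Y, φ y.1 * σ = σ * φ y.2)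
    (h4 : ∀ R ∈ B, evR φ (fun _ => σ) R = 1) : σ ∈ h.sub :=
  (up (hyp h (fun _ => h.mem) h2 h3 h4)).collapse (f := 49) (l := 0) (hyp h (fun _ => h.mem) h2 h3 h4) (by decide +kernel)

end H7.JDk3
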