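import Mathlib
import Cfsg.Agent.H9.CG2
import Cfsg.Agent.H7.JDj2
import Cfsg.Agent.H7.JDj3
import Cfsg.Agent.H7.JDbad
import Cfsg.Agent.H7.JDk3
import Cfsg.Agent.H7.JDk4

/-!
# The amalgam of `2^{1+4} : A₅` with one more involution, in letters

Letters `0, …, 4` are `e₀, …, e₄`, `5 = z`, `6 = a`, `7 = n`, `8 = x`, `9 = x⁻¹`, `10 = σ`.
-/

set_option autoImplicit false
set_option maxRecDepth 100000
set_option linter.all false

namespace H7.JP

open H29 H7.Cay H9.MX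

def colsM : List ℕ := [0, 1, 2, 3, 4, 5, 6, 7, 8, 9]
def cols : List ℕ := [0, 1, 2, 3, 4, 5, 6, 7, 8, 9, 10]
noncomputable abbrev iv : ℕ → ℕ := ivOf JM0.ivl
theorem hL : ∀ c ∈ cols, iv c ∈ cols := by decide
theorem hLM : ∀ c ∈ colsM, iv c ∈ colsM := by decide

section

variable {G : Type*} [Group G] {e : ℕ → G}

theorem val_mem_gen (e : ℕ → G) : ∀ c < 1920, JM0.C.val e c ∈ gen e colsM := by
  have h : ∀ c < 1920, JM0.C.let' c < 10 := fun c hc => lt_true.1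
    (allF_true.1 (by decide +kernel : allF 1920 (fun c => lt (JM0.C.let' c) 10) = true) c hc)
  intro c
  induction c using Nat.strong_induction_on with
  | _ c ih =>
    intro hc
    rw [Tab.val]
    split_ifs with h1
    · refine mul_mem (ih _ h1 (by omega)) (mem_gen ?_)
      have := h c hc
      generalize JM0.C.let' c = l at this
      revert l; decide
    · exact one_mem _

theorem sub_eq (h1 : IvOK e iv) (h2 : ∀ r ∈ JM0.R, ev e r = 1) :
    (JM0.sound h1 h2).sub = gen e colsM := by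
  apply le_antisymm
  · rintro _ ⟨c, hc, rfl⟩
    exact val_mem_gen e c hc
  · intro g hg
    exact (JM0.ok h1 h2).exists_code h1 hLM (by decide) hg

theorem bdM (h1 : IvOK e iv) (h2 : ∀ r ∈ JM0.R, ev e r = 1) : Bd (gen e colsM) 1920 :=
  sub_eq h1 h2 ▸ (JM0.sound h1 h2).bd

end

/-! ### A faithful model on 32 points -/

noncomputable def nl : List Net := [ben 5 [0x55555555, 0x0, 0x0, 0x0, 0x0],
 ben 5 [0x0, 0x33333333, 0x0, 0x0, 0xaaaa],
 ben 5 [0x0, 0x0, 0xf0f0f0f, 0x0, 0x6666],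
 ben 5 [0x0, 0x0, 0x0, 0xff00ff, 0x9696],
 ben 5 [0x55555555, 0x33333333, 0xf0f0f0f, 0xff00ff, 0x5a5a],
 ben 5 [0x0, 0x0, 0x0, 0x0, 0xffff],
 ben 5 [0x55005500, 0xf0f0f0f0, 0x30c030c, 0x0, 0xc030],
 ben 5 [0xcccccccc, 0x22222222, 0xff00ff00, 0xf000f0, 0x4b44],
 ben 5 [0x50505050, 0x30303030, 0xf000f00, 0xf000f0, 0x3c00],
 ben 5 [0x55005500, 0x33003300, 0xf000f000, 0xf000f0, 0x3c0]]
theorem hn : NetsOK 32 (nth Net.nil nl) := netsOK_of_all (by decide +kernel)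
theorem hiv : IvOK (sg (nth Net.nil nl)) iv :=
  ivOK_of_chk (k := 5) hn (by decide) (n := 10) (by decide) (by decide)
    (allN_true.1 (by decide +kernel))
theorem hR : ∀ r ∈ JM0.R, ev (sg (nth Net.nil nl)) r = 1 :=
  rels_of_chk (k := 5) hn (by decide) hiv (allN_true.1 (by decide +kernel))

theorem inj32 : JM0.M.Inj (JM0.C.val (pe nl)) := by
  have h1 : IvOK (pe nl) iv := ivOK_sub _ hiv
  have h2 := rels_subE (mem_PG nl) hR
  have top : gen (pe nl) colsM = ⊤ := pe_top (by decide +kernel)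
  have h3 := (card_eq_of_chain (N := 32) (k := 5) (L := colsM)
    (ch := [(0, 4, 32, [6, 7, 8, 9]), (1, 4, 5, [6, 8, 9]), (2, 4, 4, [8, 9]), (4, 2, 3, [])]) hn
    ((bdM h1 h2).of_top top) (fun c _ => pe_rho nl c) (by decide +kernel) (by decide)).1
  refine (JM0.sound h1 h2).inj_of_card ?_
  rw [sub_eq h1 h2, top, Subgroup.card_top, h3]
  rfl

theorem cancel : ∀ a < JM0.M.n, ∀ b < JM0.M.n, JM0.M.mul a (JM0.M.inv b) = 0 → a = b := by
  have h1 : IvOK (pe nl) iv := ivOK_sub _ hiv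
  have h := JM0.sound h1 (rels_subE (mem_PG nl) hR)
  intro a ha b hb h3
  refine inj32 a ha b hb ?_
  have := h.map_mul a ha _ (h.inv_lt b hb)
  rw [h3, h.zero, h.map_inv b hb] at this
  exact mul_inv_eq_one.1 this.symm

/-- The commutator of two codes. -/
noncomputable def cm (a b : ℕ) : ℕ :=
  lit (JM0.M.mul a b) fun x => lit (JM0.M.mul b a) fun y => lit (JM0.M.inv y) fun y => JM0.M.mul x y

section

variable {G : Type*} [Group G]

theorem cm_spec {φ : ℕ → G} (h : JM0.M.Sound φ) {a b : ℕ} (ha : a < JM0.M.n) (hb : b < JM0.M.n) :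
    cm a b < JM0.M.n ∧ φ (cm a b) = φ a * φ b * (φ a)⁻¹ * (φ b)⁻¹ := by
  simp only [cm, lit_eq]
  have h1 := h.mul_lt a ha b hb
  have h2 := h.mul_lt b hb a ha
  refine ⟨h.mul_lt _ h1 _ (h.inv_lt _ h2), ?_⟩
  rw [h.map_mul _ h1 _ (h.inv_lt _ h2), h.map_inv _ h2, h.map_mul a ha b hb, h.map_mul b hb a ha]
  group

/-- The model is faithful as soon as `z ≠ 1`. -/
theorem inj_of_z {φ : ℕ → G} (h : JM0.M.Sound φ) (hz : φ 16 ≠ 1) : JM0.M.Inj φ := by
  refine h.inj_of_ker (fun a ha h1 => ?_) cancel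
  have key : allF 1920 (fun a => or2 (Nat.beq a 0) (or2 (Nat.beq a 16)
      (anyL [1, 2, 4, 8] fun b => lit (cm a b) fun c => or2 (Nat.beq c 16)
        (and2 (lt 0 c) (anyL [1, 2, 4, 8] fun d => Nat.beq (cm c d) 16))))) = true := by
    decide +kernel
  have := allF_true.1 key a ha
  simp only [or2_true, nbeq, anyL_true, lit_eq, and2_true] at this
  have hl : ∀ b ∈ [1, 2, 4, 8], b < JM0.M.n := by decide
  rcases this with h2 | h2 | ⟨b, hb, h2⟩
  · exact h2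
  · exact absurd (h2 ▸ h1) hz
  · obtain ⟨h3, h4⟩ := cm_spec h ha (hl b hb)
    rw [h1] at h4
    simp only [one_mul, inv_one, mul_one, mul_inv_cancel] at h4
    rcases h2 with h2 | ⟨-, d, hd, h2⟩
    · exact absurd (h2 ▸ h4) hz
    · obtain ⟨-, h5⟩ := cm_spec h h3 (hl d hd)
      rw [h4, h2] at h5
      exact absurd (by simpa using h5) hz

/-- The relators that involve `σ`. -/
def RY : List (List ℕ) :=
  [[8, 10, 9, 10], [6, 10, 9, 1, 6, 1, 8, 10], [1, 6, 1, 10, 8, 6, 9, 10], [10, 1, 10, 1, 10, 1]]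

/-- The common relators. -/
def R : List (List ℕ) := JM0.R ++ RY

/-- The relators of `J₂`. -/
def R2 : List (List ℕ) := R ++ [[10, 7, 10, 7, 10, 7, 10, 7, 10, 7, 10, 7, 10, 7, 10, 7, 10, 7, 10, 7],
  [10, 7, 10, 7, 0, 10, 7, 10, 7, 0, 10, 7, 10, 7, 0, 10, 7, 10, 7, 0, 8]]

/-- The relators of `3 · J₃`. -/
def R3 : List (List ℕ) := R ++ [[10, 7, 10, 7, 10, 7, 10, 7, 10, 7, 10, 7, 10, 7, 10, 7, 10, 7, 10, 7],
  [10, 7, 10, 7, 0, 10, 7, 10, 7, 0, 10, 7, 10, 7, 0, 10, 7, 10, 7, 0]]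

variable {e : ℕ → G}

theorem rM (h2 : ∀ r ∈ R, ev e r = 1) : ∀ r ∈ JM0.R, ev e r = 1 :=
  fun r hr => h2 r (List.mem_append_left _ hr)

theorem vw (h1 : IvOK e iv) (h2 : ∀ r ∈ JM0.R, ev e r = 1) (u : List ℕ) {c : ℕ}
    (h : and2 (lt c 1920) (Nat.beq (JM0.C.run u 0) c) = true) : JM0.C.val e c = ev e u := by
  rw [and2_true, lt_true, nbeq] at h
  exact (JM0.ok h1 h2).word h.1 h.2

theorem s_inv (h1 : IvOK e iv) : (e 10)⁻¹ = e 10 := (h1 10).symm

theorem hY (h1 : IvOK e iv) (h2 : ∀ r ∈ R, ev e r = 1) :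
    ∀ y ∈ JD.Y, JM0.C.val e y.1 * e 10 = e 10 * JM0.C.val e y.2 := by
  have hM := rM h2
  have a1 := h2 [8, 10, 9, 10] (by decide)
  have a2 := h2 [6, 10, 9, 1, 6, 1, 8, 10] (by decide)
  have a3 := h2 [1, 6, 1, 10, 8, 6, 9, 10] (by decide)
  have i1 : (e 1)⁻¹ = e 1 := (h1 1).symm
  have i6 : (e 6)⁻¹ = e 6 := (h1 6).symm
  have i8 : (e 8)⁻¹ = e 9 := (h1 8).symm
  have i9 : (e 9)⁻¹ = e 8 := (h1 9).symm
  have i10 := s_inv h1
  have key : ∀ u v : G, u * (e 10 * (v⁻¹ * e 10)) = 1 → u * e 10 = e 10 * v := fun u v h => by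
    rw [mul_eq_one_iff_eq_inv.1 h]; simp [i10]
    nth_rewrite 3 [← i10]; simp [mul_assoc]
  simp only [JD.Y, List.mem_cons, List.not_mem_nil, or_false]
  rintro _ (rfl | rfl | rfl)
  · rw [vw h1 hM [8] (by decide +kernel)]
    exact key _ _ (by simpa [i8] using a1)
  · rw [vw h1 hM [6] (by decide +kernel), vw h1 hM [9, 1, 6, 1, 8] (c := 861) (by decide +kernel)]
    exact key _ _ (by simpa [i8, i9, i1, i6, mul_assoc] using a2)
  · rw [vw h1 hM [1, 6, 1] (by decide +kernel), vw h1 hM [8, 6, 9] (c := 768) (by decide +kernel)]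
    exact key _ _ (by simpa [i8, i9, i1, i6, mul_assoc] using a3)

theorem v2 (h1 : IvOK e iv) (h2 : ∀ r ∈ R, ev e r = 1) : JM0.C.val e 2 = e 1 := by
  rw [vw h1 (rM h2) [1] (by decide +kernel)]; simp
theorem v16 (h1 : IvOK e iv) (h2 : ∀ r ∈ JM0.R, ev e r = 1) : JM0.C.val e 16 = e 5 := by
  rw [vw h1 h2 [5] (by decide +kernel)]; simp
theorem v64 (h1 : IvOK e iv) (h2 : ∀ r ∈ R, ev e r = 1) : JM0.C.val e 64 = e 7 := by
  rw [vw h1 (rM h2) [7] (by decide +kernel)]; simp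
theorem v66 (h1 : IvOK e iv) (h2 : ∀ r ∈ R, ev e r = 1) : JM0.C.val e 66 = e 7 * e 0 := by
  rw [vw h1 (rM h2) [7, 0] (by decide +kernel)]; simp
theorem v290 (h1 : IvOK e iv) (h2 : ∀ r ∈ R, ev e r = 1) :
    JM0.C.val e 290 = e 7 * e 0 * e 8 := by
  rw [vw h1 (rM h2) [7, 0, 8] (by decide +kernel)]; simp [mul_assoc]
theorem v322 (h1 : IvOK e iv) (h2 : ∀ r ∈ R, ev e r = 1) :
    JM0.C.val e 322 = e 7 * e 0 * e 9 := by
  rw [vw h1 (rM h2) [7, 0, 9] (by decide +kernel)]; simp [mul_assoc]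

theorem b0 (h1 : IvOK e iv) (h2 : ∀ r ∈ R, ev e r = 1) :
    evR (JM0.C.val e) (fun _ => e 10) [(0, 2), (0, 2), (0, 2)] = 1 := by
  simpa [evR, v2 h1 h2, mul_assoc] using h2 [10, 1, 10, 1, 10, 1] (by decide)

theorem k3 (h1 : IvOK e iv) (h2 : ∀ r ∈ R, ev e r = 1) (h3 : (e 10 * e 7) ^ 6 = 1) :
    e 10 ∈ gen e colsM := by
  rw [← sub_eq h1 (rM h2)]
  refine JDk3.collapse _ (s_inv h1) (hY h1 h2) ?_
  simp only [JDk3.B, List.mem_cons, List.not_mem_nil, or_false]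
  rintro _ (rfl | rfl)
  · exact b0 h1 h2
  · simpa [evR, v64 h1 h2, pow_succ, mul_assoc] using h3

theorem k4 (h1 : IvOK e iv) (h2 : ∀ r ∈ R, ev e r = 1) (h3 : (e 10 * e 7) ^ 8 = 1) :
    e 10 ∈ gen e colsM := by
  rw [← sub_eq h1 (rM h2)]
  refine JDk4.collapse _ (s_inv h1) (hY h1 h2) ?_
  simp only [JDk4.B, List.mem_cons, List.not_mem_nil, or_false]
  rintro _ (rfl | rfl)
  · exact b0 h1 h2
  · simpa [evR, v64 h1 h2, pow_succ, mul_assoc] using h3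

theorem kbad (h1 : IvOK e iv) (h2 : ∀ r ∈ R, ev e r = 1) (h3 : (e 10 * e 7) ^ 10 = 1)
    (h4 : (e 10 * e 7 * e 10 * e 7 * e 0) ^ 4 * e 9 = 1) : e 10 ∈ gen e colsM := by
  rw [← sub_eq h1 (rM h2)]
  refine JDbad.collapse _ (s_inv h1) (hY h1 h2) ?_
  simp only [JDbad.B, List.mem_cons, List.not_mem_nil, or_false]
  rintro _ (rfl | rfl | rfl)
  · exact b0 h1 h2
  · simpa [evR, v64 h1 h2, pow_succ, mul_assoc] using h3
  · simpa [evR, v64 h1 h2, v66 h1 h2, v322 h1 h2, pow_succ, mul_assoc] using h4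

theorem gen_le_sup (h1 : IvOK e iv) (h2 : ∀ r ∈ JM0.R, ev e r = 1) : gen e cols ≤
    (JM0.sound h1 h2).sub ⊔ Subgroup.closure ((fun _ => e 10) '' Set.Iio 1) := by
  rw [sub_eq h1 h2]
  refine gen_le.2 fun c hc => ?_
  by_cases h : c ∈ colsM
  · exact Subgroup.mem_sup_left (mem_gen h)
  · obtain rfl : c = 10 := by revert h; revert c; decide
    exact Subgroup.mem_sup_right (Subgroup.subset_closure ⟨0, by simp, rfl⟩)

theorem bd2 (h1 : IvOK e iv) (h2 : ∀ r ∈ R, ev e r = 1) (hz : e 5 ≠ 1) (h3 : (e 10 * e 7) ^ 10 = 1)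
    (h4 : (e 10 * e 7 * e 10 * e 7 * e 0) ^ 4 * e 8 = 1) : Bd (gen e cols) 604800 := by
  refine (JDj2.bd (JM0.sound h1 (rM h2)) (inj_of_z (JM0.sound h1 (rM h2))
    (by rwa [v16 h1 (rM h2)])) (s_inv h1) (hY h1 h2) ?_).of_le (gen_le_sup h1 (rM h2))
  simp only [JDj2.B, List.mem_cons, List.not_mem_nil, or_false]
  rintro _ (rfl | rfl | rfl)
  · exact b0 h1 h2
  · simpa [evR, v64 h1 h2, pow_succ, mul_assoc] using h3
  · simpa [evR, v64 h1 h2, v66 h1 h2, v290 h1 h2, pow_succ, mul_assoc] using h4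

theorem bd3 (h1 : IvOK e iv) (h2 : ∀ r ∈ R, ev e r = 1) (hz : e 5 ≠ 1) (h3 : (e 10 * e 7) ^ 10 = 1)
    (h4 : (e 10 * e 7 * e 10 * e 7 * e 0) ^ 4 = 1) : Bd (gen e cols) 150698880 := by
  refine (JDj3.bd (JM0.sound h1 (rM h2)) (inj_of_z (JM0.sound h1 (rM h2))
    (by rwa [v16 h1 (rM h2)])) (s_inv h1) (hY h1 h2) ?_).of_le (gen_le_sup h1 (rM h2))
  simp only [JDj3.B, List.mem_cons, List.not_mem_nil, or_false]
  rintro _ (rfl | rfl | rfl)
  · exact b0 h1 h2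
  · simpa [evR, v64 h1 h2, pow_succ, mul_assoc] using h3
  · simpa [evR, v64 h1 h2, v66 h1 h2, pow_succ, mul_assoc] using h4

theorem bdR2 (h1 : IvOK e iv) (h2 : ∀ r ∈ R2, ev e r = 1) (hz : e 5 ≠ 1) :
    Bd (gen e cols) 604800 := by
  refine bd2 h1 (fun r hr => h2 r (List.mem_append_left _ hr)) hz ?_ ?_
  · simpa [pow_succ, mul_assoc] using h2 _ (List.mem_append_right _ List.mem_cons_self)
  · simpa [pow_succ, mul_assoc] using
      h2 _ (List.mem_append_right _ (List.mem_cons_of_mem _ List.mem_cons_self))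

theorem bdR3 (h1 : IvOK e iv) (h2 : ∀ r ∈ R3, ev e r = 1) (hz : e 5 ≠ 1) :
    Bd (gen e cols) 150698880 := by
  refine bd3 h1 (fun r hr => h2 r (List.mem_append_left _ hr)) hz ?_ ?_
  · simpa [pow_succ, mul_assoc] using h2 _ (List.mem_append_right _ List.mem_cons_self)
  · simpa [pow_succ, mul_assoc] using
      h2 _ (List.mem_append_right _ (List.mem_cons_of_mem _ List.mem_cons_self))

theorem rels2 (h2 : ∀ r ∈ R, ev e r = 1) (h3 : (e 10 * e 7) ^ 10 = 1)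
    (h4 : (e 10 * e 7 * e 10 * e 7 * e 0) ^ 4 * e 8 = 1) : ∀ r ∈ R2, ev e r = 1 := by
  refine rels_append h2 ?_
  simp only [List.mem_cons, List.not_mem_nil, or_false]
  rintro _ (rfl | rfl)
  · simpa [pow_succ, mul_assoc] using h3
  · simpa [pow_succ, mul_assoc] using h4

theorem rels3 (h2 : ∀ r ∈ R, ev e r = 1) (h3 : (e 10 * e 7) ^ 10 = 1)
    (h4 : (e 10 * e 7 * e 10 * e 7 * e 0) ^ 4 = 1) : ∀ r ∈ R3, ev e r = 1 := by
  refine rels_append h2 ?_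
  simp only [List.mem_cons, List.not_mem_nil, or_false]
  rintro _ (rfl | rfl)
  · simpa [pow_succ, mul_assoc] using h3
  · simpa [pow_succ, mul_assoc] using h4

/-- A model of full order is the presented group. -/
theorem tr_of {H : Type*} [Group H] {R' : List (List ℕ)} {n : ℕ} {e1 : ℕ → G} {e2 : ℕ → H}
    (hU : ∀ e : ℕ → G × H, IvOK e iv → (∀ r ∈ R', ev e r = 1) → e 5 ≠ 1 → Bd (gen e cols) n)
    (i1 : IvOK e1 iv) (i2 : IvOK e2 iv) (r1 : ∀ r ∈ R', ev e1 r = 1) (r2 : ∀ r ∈ R', ev e2 r = 1)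
    (hz : e1 5 ≠ 1) (hn : n ≤ Nat.card (gen e1 cols)) : Tr e1 e2 cols := by
  have i3 : IvOK (fun c => (e1 c, e2 c)) iv := fun c => by simp only [i1 c, i2 c]; rfl
  have hb := hU _ i3 (fun r hr => by rw [ev_prod, r1 r hr, r2 r hr]; rfl)
    fun h => hz (congrArg Prod.fst h)
  exact ((Tr.of_hom (MonoidHom.fst G H) fun _ _ => rfl).symm_of_card i3 i1 hL hb hn).trans
    (Tr.of_hom (MonoidHom.snd G H) fun _ _ => rfl)

end

end H7.JP
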