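import Mathlib
import Cfsg.Agent.H3.Extraspecial
import Cfsg.Agent.H7.JQ
import Cfsg.Agent.H7.JP

/-!
# The structure of `2^{1+4} : A₅` given by letters
-/

set_option autoImplicit false
set_option maxRecDepth 100000
set_option linter.all false

namespace H7.JP

open H29 H7.Cay H9.MX Equiv

/-- The action of the letters on the five singular points. -/
def s5 (c : ℕ) : Perm (Fin 5) :=
  if c = 6 then swap 1 2 * swap 3 4 else if c = 7 then swap 0 1 * swap 2 3 else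
  if c = 8 then swap 2 4 * swap 2 3 else if c = 9 then swap 2 3 * swap 2 4 else 1

theorem s5_iv : IvOK s5 iv := fun c => by
  by_cases h : c < 10
  · revert h; revert c; decide +kernel
  · rw [show iv c = c from nth_default _ (by simpa [JM0.ivl] using h), s5, if_neg (by omega),
      if_neg (by omega), if_neg (by omega), if_neg (by omega), inv_one]

theorem s5_rel : ∀ r ∈ JM0.R, ev s5 r = 1 := by decide +kernel

theorem s5_gen : gen s5 [6, 7, 8, 9] = alternatingGroup (Fin 5) := by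
  refine le_antisymm (gen_le.2 (by simp only [Perm.mem_alternatingGroup]; decide)) fun p hp => ?_
  have key : ∀ p : Perm (Fin 5), Perm.sign p = 1 → ∃ w ∈ [[], [6], [7], [8], [9], [6, 7], [6, 8], [6, 9], [7, 6], [7, 8], [7, 9], [8, 6], [9, 6], [6, 7, 6], [6, 7, 8], [6, 7, 9], [6, 8, 6], [6, 9, 6], [7, 6, 7], [7, 6, 8], [7, 6, 9], [7, 8, 6], [7, 9, 6], [8, 6, 7], [8, 6, 9], [9, 6, 7], [9, 6, 8], [6, 7, 6, 7], [6, 7, 6, 8], [6, 7, 6, 9], [6, 7, 8, 6], [6, 7, 9, 6], [6, 8, 6, 7], [6, 9, 6, 7], [7, 6, 7, 6], [7, 6, 7, 8], [7, 6, 7, 9], [7, 6, 8, 6], [7, 6, 9, 6], [7, 8, 6, 7], [7, 8, 6, 9], [7, 9, 6, 7], [7, 9, 6, 8], [8, 6, 7, 6], [8, 6, 7, 8], [9, 6, 7, 6], [9, 6, 7, 9], [6, 7, 6, 7, 6], [6, 7, 6, 7, 8], [6, 7, 6, 7, 9], [6, 7, 6, 8, 6], [6, 7, 6, 9, 6], [6, 7, 9, 6, 7], [6, 7, 9, 6, 8], [6, 8, 6, 7, 6], [6, 9, 6, 7, 6], [7, 6, 7, 6, 8], [7, 9, 6, 7, 9], [8, 6, 7, 6, 8], [9, 6, 7, 6, 9]],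
      (∀ c ∈ w, c ∈ [6, 7, 8, 9]) ∧ ev s5 w = p := by decide +kernel
  obtain ⟨w, -, h1, rfl⟩ := key p hp
  exact ev_mem_gen h1

theorem s5_genM : gen s5 colsM = alternatingGroup (Fin 5) :=
  le_antisymm (gen_le.2 (by simp only [Perm.mem_alternatingGroup]; decide))
    (s5_gen ▸ gen_mono (by decide))

theorem card_A5 : Nat.card (alternatingGroup (Fin 5)) = 60 := by
  rw [nat_card_alternatingGroup]; simp [Nat.factorial]

variable {G : Type*} [Group G] {e : ℕ → G}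

theorem cardM (h1 : IvOK e iv) (h2 : ∀ r ∈ JM0.R, ev e r = 1) (hz : e 5 ≠ 1) :
    Nat.card (gen e colsM) = 1920 := by
  rw [← sub_eq h1 h2, (JM0.sound h1 h2).card_of_inj (inj_of_z (JM0.sound h1 h2) (by rwa [v16 h1 h2]))]
  rfl

theorem trM {H : Type*} [Group H] {e' : ℕ → H} (h1 : IvOK e iv) (h2 : ∀ r ∈ JM0.R, ev e r = 1)
    (hz : e 5 ≠ 1) (h3 : IvOK e' iv) (h4 : ∀ r ∈ JM0.R, ev e' r = 1) : Tr e e' colsM := by
  have i3 : IvOK (fun c => (e c, e' c)) iv := fun c => by simp only [h1 c, h3 c]; rfl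
  have hb := bdM i3 fun r hr => by rw [ev_prod, h2 r hr, h4 r hr]; rfl
  exact ((Tr.of_hom (MonoidHom.fst G H) fun _ _ => rfl).symm_of_card i3 h1 hLM hb
    (cardM h1 h2 hz).ge).trans (Tr.of_hom (MonoidHom.snd G H) fun _ _ => rfl)

theorem val_mem_Q {H : Subgroup G} (h : ∀ c < 6, e c ∈ H) : ∀ c < 32, JM0.C.val e c ∈ H := by
  have h' : ∀ c < 32, JM0.C.let' c < 6 := fun c hc => lt_true.1
    (allF_true.1 (by decide +kernel : allF 32 (fun c => lt (JM0.C.let' c) 6) = true) c hc)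
  intro c
  induction c using Nat.strong_induction_on with
  | _ c ih =>
    intro hc
    rw [Tab.val]
    split_ifs with h1
    · exact mul_mem (ih _ h1 (by omega)) (h _ (h' c hc))
    · exact one_mem _

theorem mem_zpowers_two {z x : G} (hz : z * z = 1) :
    x ∈ Subgroup.zpowers z ↔ x = 1 ∨ x = z := by
  constructor
  · rintro ⟨k, rfl⟩
    have h2 : z ^ (2 : ℤ) = 1 := by rw [zpow_two, hz]
    rcases Int.even_or_odd' k with ⟨m, rfl | rfl⟩ <;> simp [zpow_add, zpow_mul, h2]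
  · rintro (rfl | rfl)
    exacts [one_mem _, Subgroup.mem_zpowers _]

/-- A subgroup that consists of the elements with codes below 32 is extraspecial. -/
theorem xs_of_codes {φ : ℕ → G} (h : JM0.M.Sound φ) (hz : φ 16 ≠ 1) {Q : Subgroup G}
    (hQ : ∀ g, g ∈ Q ↔ ∃ c < 32, φ c = g) : H3.XS 2 (φ 16) Q := by
  have hi := inj_of_z h hz
  have key : allF 32 (fun a => and2 (and2 (Nat.beq (cm 16 a) 0) (lit (JM0.M.mul a a) fun c =>
      or2 (Nat.beq c 0) (Nat.beq c 16))) (and2 (allF 32 fun b => lit (cm a b) fun c =>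
      or2 (Nat.beq c 0) (Nat.beq c 16)) (or2 (or2 (Nat.beq a 0) (Nat.beq a 16))
      (anyL [1, 2, 4, 8] fun b => Nat.beq (cm a b) 16)))) = true := by decide +kernel
  simp only [allF_true, and2_true, or2_true, nbeq, lit_eq, anyL_true] at key
  have lt : ∀ {a}, a < 32 → a < JM0.M.n := fun ha => ha.trans (by decide)
  have hsq : φ 16 * φ 16 = 1 := by
    rw [← h.map_mul 16 (by decide) 16 (by decide), show JM0.M.mul 16 16 = 0 by decide +kernel, h.zero]
  have hm : ∀ {c}, c = 0 ∨ c = 16 → φ c ∈ Subgroup.zpowers (φ 16) := by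
    rintro _ (rfl | rfl)
    exacts [h.zero ▸ one_mem _, Subgroup.mem_zpowers _]
  refine ⟨orderOf_eq_prime (by rw [sq, hsq]) hz, (hQ _).2 ⟨16, by decide, rfl⟩, ?_, ?_, ?_, ?_⟩
  · intro x hx
    obtain ⟨a, ha, rfl⟩ := (hQ x).1 hx
    have := (cm_spec h (a := 16) (by decide) (lt ha)).2
    rw [(key a ha).1.1, h.zero] at this
    exact commutatorElement_eq_one_iff_commute.1 this.symm
  · intro x hx y hy
    obtain ⟨a, ha, rfl⟩ := (hQ x).1 hx
    obtain ⟨b, hb, rfl⟩ := (hQ y).1 hy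
    rw [commutatorElement_def, ← (cm_spec h (lt ha) (lt hb)).2]
    exact hm ((key a ha).2.1 b hb)
  · intro x hx
    obtain ⟨a, ha, rfl⟩ := (hQ x).1 hx
    rw [sq, ← h.map_mul a (lt ha) a (lt ha)]
    exact hm (key a ha).1.2
  · intro x hx h1
    obtain ⟨a, ha, rfl⟩ := (hQ x).1 hx
    refine hm ((key a ha).2.2.resolve_right ?_)
    rintro ⟨b, hb, h2⟩
    have hb' : b < 32 := (by decide : ∀ b ∈ [1, 2, 4, 8], b < 32) b hb
    have := (cm_spec h (lt ha) (lt hb')).2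
    rw [h2, (h1 _ ((hQ _).2 ⟨b, hb', rfl⟩)).eq] at this
    exact hz (by simpa using this)

theorem struct (h1 : IvOK e iv) (h2 : ∀ r ∈ JM0.R, ev e r = 1) (hz : e 5 ≠ 1)
    (top : gen e colsM = ⊤) : ∃ (Q : Subgroup G) (_ : Q.Normal), Nat.card Q = 32 ∧
      Cfsg.IsExtraspecial 2 Q ∧ Nonempty (G ⧸ Q ≃* alternatingGroup (Fin 5)) := by
  obtain ⟨π, a1, a2⟩ := exists_hom_of_tr (trM h1 h2 hz s5_iv s5_rel) h1 s5_iv hLM top
  rw [s5_genM] at a1
  have hG : Nat.card G = 1920 := by rw [← cardM h1 h2 hz, top, Subgroup.card_top]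
  have : Finite G := Nat.finite_of_card_ne_zero (by omega)
  have hQ : Nat.card π.ker = 32 := by
    have := π.ker.card_mul_index
    rw [Subgroup.index_ker, a1, card_A5] at this
    omega
  have hs := JM0.sound h1 h2
  have hz' : JM0.C.val e 16 ≠ 1 := by rwa [v16 h1 h2]
  have hi := inj_of_z hs hz'
  have a3 : ∀ c < 32, JM0.C.val e c ∈ π.ker := val_mem_Q fun c hc => by
    rw [MonoidHom.mem_ker, a2 c (by revert c; decide)]; revert c; decide
  have a4 : Function.Bijective fun c : Fin 32 => (⟨_, a3 c c.2⟩ : π.ker) :=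
    (Nat.bijective_iff_injective_and_card _).2 ⟨fun a b h => Fin.ext
      (hi a (a.2.trans (by decide)) b (b.2.trans (by decide)) (congrArg Subtype.val h)), by
        rw [hQ]; simp⟩
  have hx := xs_of_codes hs hz' (Q := π.ker) fun g => ⟨fun hg => by
    obtain ⟨c, hc⟩ := a4.2 ⟨g, hg⟩
    exact ⟨c, c.2, congrArg Subtype.val hc⟩, by rintro ⟨c, hc, rfl⟩; exact a3 c hc⟩
  refine ⟨π.ker, inferInstance, hQ, hx.isExtraspecial fun h => ?_,
    ⟨(QuotientGroup.quotientKerEquivRange π).trans (MulEquiv.subgroupCongr a1)⟩⟩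
  rw [← h, Nat.card_zpowers, hx.ord] at hQ
  omega

end H7.JP
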