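import Mathlib
import Cfsg.Prelude.Def_Sporadic
import Cfsg.Agent.H29.Cover
import Cfsg.Agent.H7.Ico3
import Cfsg.Agent.H7.J2X
import Cfsg.Agent.H7.JA5

/-!
# The Hall–Janko group: order, simplicity, the reflection group
-/

set_option autoImplicit false
set_option maxRecDepth 100000
set_option linter.all false

namespace H7.J2

open H29 H9 H9.MX H7.JP H7.Ico Cfsg.Spor Quaternion

/-- The permutation group on 315 points. -/
abbrev S : Type := PG J2P.nl
/-- Its letters. -/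
noncomputable abbrev eS : ℕ → S := pe J2P.nl
theorem hiv : IvOK eS iv := ivOK_sub _ J2P.hiv
theorem hR' : ∀ r ∈ R2 ++ J2P.RW, ev eS r = 1 := rels_subE _ J2P.hR0
theorem hR : ∀ r ∈ R2, ev eS r = 1 := fun r hr => hR' r (List.mem_append_left _ hr)
theorem top12 : gen eS [0, 1, 2, 3, 4, 5, 6, 7, 8, 9, 10, 11] = ⊤ := pe_top (by decide +kernel)
theorem top : gen eS cols = ⊤ := by
  rw [eq_top_iff, ← top12, gen_le]
  intro c hc
  by_cases h : c ∈ cols
  · exact mem_gen h
  · obtain rfl : c = 11 := by revert h; revert c; decide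
    have := hR' [7, 10, 7, 11] (by decide)
    have h2 : ev eS [7, 10, 7] * eS 11 = 1 := by simpa [mul_assoc] using this
    rw [eq_inv_of_mul_eq_one_right h2]
    exact inv_mem (ev_mem_gen (by decide))
theorem hz : eS 5 ≠ 1 := by
  have := ev_ne_one_of_chk (e := eS) (w := [5]) (b := 1) J2P.hn (fun c _ => pe_rho _ c)
    (by decide +kernel)
  simpa using this
theorem card : Nat.card S = 604800 :=
  (card_eq_of_chain J2X.hn ((bdR2 hiv hR hz).of_top top) (fun c _ => J2X.map (pe_rho _) c) J2X.ch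
    (by decide +kernel)).1
instance : Finite S := Nat.finite_of_card_ne_zero (by rw [card]; decide)
theorem trans : Trans (PG J2P.nl).subtype 315 :=
  trans_of_reach (by decide) (PG_lt J2P.hn) (fun c _ => J2X.map (pe_rho _) c) J2X.reach
theorem hX : ∀ r ∈ J2X.KR, ev (extE eS 12 J2X.defs) r = 1 :=
  rels_of_faithful (PG_faithful J2P.hn) (J2X.map (pe_rho _)) J2X.hKR
instance simple : IsSimpleGroup S :=
  simple_of_cert (q := 7) (m := 86400) J2X.hn J2X.prim trans (J2X.map (pe_rho _))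
    (PG_faithful J2P.hn) card J2X.wit (ivOK_extE hiv J2X.hext) hX
    ((gen_extE _ _ (by decide)).trans top)
    (l := [(0, 0), (1, 5), (2, 0), (3, 0), (4, 0), (5, 0), (6, 0), (7, 0), (8, 0)])
    (by decide +kernel) (by norm_num)

theorem trS {G : Type*} [Group G] {e : ℕ → G} (h1 : IvOK e iv) (h2 : ∀ r ∈ R2, ev e r = 1) :
    Tr eS e cols :=
  tr_of (R' := R2) (fun e a b c => bdR2 a b c) hiv h1 hR h2 hz
    (by rw [top, Subgroup.card_top, card])

theorem center_S : Subgroup.center S = ⊥ := center_eq_bot_of_simple (by rw [card]; norm_num)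

theorem isJ2 {G : Type*} [Group G] (f : S ≃* G) : Cfsg.IsJ2 G :=
  ⟨f.symm.isSimpleGroup, by rw [← Nat.card_congr f.toEquiv, card]⟩

/-- The four letters that are reflections. -/
def RL : List ℕ := [1, 2, 10, 11]
theorem hRL : ∀ c ∈ RL, id c ∈ RL := fun _ h => h

theorem topR : gen eS RL = ⊤ := by
  rw [eq_top_iff, ← top, gen_le]
  have key : ∀ c ∈ cols, c ∈ RL ∨ ∃ r ∈ J2P.RW, r = c :: r.tail ∧ ∀ d ∈ r.tail, d ∈ RL := by decide
  intro c hc
  rcases key c hc with h | ⟨r, h1, h2, h3⟩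
  · exact mem_gen h
  · have := hR' r (List.mem_append_right _ h1)
    rw [h2, ev_cons] at this
    rw [eq_inv_of_mul_eq_one_left this]
    exact inv_mem (ev_mem_gen h3)

/-! ### The reflections -/

/-- The reflection number `j`. -/
noncomputable def F (j : ℕ) : Equiv.Perm icoLeech := if h : j < 315 then rf (rho_mn j h) else 1

theorem F_eq {j : ℕ} (h : j < 315) : F j = rf (rho_mn j h) := dif_pos h

theorem unit_of_mn {u : ℍ[ℝ]} {r : Fin 3 → ℍ[ℝ]} (h : Mn r) (h' : Mn (u • r)) : normSq u = 1 := by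
  have := h'.2
  rw [qip_smul, qip_smul', h.2, show u * (4 * star u) = 4 * (u * star u) by noncomm_ring,
    self_mul_star] at this
  have h2 := congrArg QuaternionAlgebra.re this
  simpa [re_four] using h2

theorem rf_smul {u : ℍ[ℝ]} {r : Fin 3 → ℍ[ℝ]} (h : Mn r) (h' : Mn (u • r)) : rf h' = rf h :=
  rf_congr _ _ (qrefl_unit (by rw [star_mul_self, unit_of_mn h h']; rfl) r)

theorem isRefl {f : Equiv.Perm icoLeech} : IsIcoReflection f ↔ ∃ j < 315, f = F j := by
  rw [isRefl_iff]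
  constructor
  · rintro ⟨r, h, rfl⟩
    obtain ⟨j, hj, c, hc, rfl⟩ := h.pp
    exact ⟨j, hj, by rw [F_eq hj, rf_smul]⟩
  · rintro ⟨j, hj, rfl⟩
    exact ⟨_, _, F_eq hj⟩

theorem F_sq (j : ℕ) : F j * F j = 1 := by
  unfold F; split_ifs
  · exact rf_sq _
  · simp

/-- The numbers of the four reflections. -/
noncomputable def ri (c : ℕ) : ℕ := nth 315 [315, 92, 104, 315, 315, 315, 315, 315, 315, 315, 1, 12] c
/-- The four reflections. -/
noncomputable def rl (c : ℕ) : Equiv.Perm icoLeech := F (ri c)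
theorem rl_iv : IvOK rl id := fun c => eq_inv_of_mul_eq_one_left (F_sq _)

theorem conj_F {c i : ℕ} (hi : i < 315) (h : chkPi c i = true) {j : ℕ} (hj : j < 315) :
    F i * F j * (F i)⁻¹ = F (sg nets c j) := by
  obtain ⟨h1, u, hu, h2⟩ := chkPi_spec h hj
  have h3 := (rho_mn i hi).qrefl (rho_mn j hj)
  rw [F_eq hi, F_eq hj, F_eq h1, rf_conj, ← rf_smul (rho_mn _ h1) (h2 ▸ h3)]
  exact rf_congr _ _ (by rw [h2])

theorem lt_ev (w : List ℕ) {j : ℕ} (hj : j < 315) : ev (sg nets) w j < 315 := by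
  have := trans.lt (ev eS w) j hj
  rwa [map_ev_sg fun c _ => pe_rho _ c] at this

theorem ev_F : ∀ {w : List ℕ}, (∀ c ∈ w, c ∈ RL) → ∀ {j : ℕ}, j < 315 →
    ev rl w * F j * (ev rl w)⁻¹ = F (ev (sg nets) w j)
  | [], _, _, _ => by simp
  | c :: w, h, j, hj => by
    have h1 := ev_F (w := w) (fun d hd => h d (List.mem_cons_of_mem _ hd)) hj
    have h2 : ∀ k < 315, rl c * F k * (rl c)⁻¹ = F (sg nets c k) := by
      have := h c List.mem_cons_self
      simp only [RL, List.mem_cons, List.not_mem_nil, or_false] at this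
      rcases this with rfl | rfl | rfl | rfl
      exacts [fun k hk => conj_F (by decide) pi1 hk, fun k hk => conj_F (by decide) pi2 hk,
        fun k hk => conj_F (by decide) pi10 hk, fun k hk => conj_F (by decide) pi11 hk]
    rw [ev_cons, ev_cons, Equiv.Perm.mul_apply, ← h2 _ (lt_ev w hj), ← h1]
    group

theorem iv_S : ∀ c ∈ RL, eS c = (eS c)⁻¹ := fun c hc => by
  have : iv c = c := by revert c; decide
  rw [← hiv c, this]

/-- The letters of `S` restricted to the four reflections. -/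
noncomputable def eR (c : ℕ) : S := if c ∈ RL then eS c else 1
theorem eR_iv : IvOK eR id := fun c => by
  simp only [eR, id]; split_ifs with h
  · exact iv_S c h
  · simp
theorem ev_eR {w : List ℕ} (h : ∀ c ∈ w, c ∈ RL) : ev eR w = ev eS w :=
  ev_congr fun c hc => if_pos (h c hc)
theorem topR' : gen eR RL = ⊤ := (gen_congr fun c hc => if_pos hc).trans topR

theorem exists_w (g : S) : ∃ w : List ℕ, (∀ c ∈ w, c ∈ RL) ∧ ev eS w = g := by
  obtain ⟨w, h1, h2⟩ := exists_word eR_iv hRL (topR' ▸ Subgroup.mem_top g)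
  exact ⟨w, h1, by rw [← ev_eR h1, h2]⟩

theorem coe_ev (w : List ℕ) : ((ev eS w : S) : Equiv.Perm ℕ) = ev (sg nets) w :=
  map_ev_sg (ρ := (PG J2P.nl).subtype) fun c _ => pe_rho _ c

theorem exists_t (g : S) : ∃ t ∈ gen rl RL, ∀ j < 315,
    t * F j * t⁻¹ = F ((g : Equiv.Perm ℕ) j) := by
  obtain ⟨w, h1, rfl⟩ := exists_w g
  exact ⟨_, ev_mem_gen h1, fun j hj => by rw [ev_F h1 hj, coe_ev]⟩

theorem rho0 : (rho 0).vec = ![2, 0, 0] := by
  rw [show rho 0 = ⟨ONE.smul 2, NUL, NUL⟩ by decide +kernel]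
  simp [V3.vec, hv_smul, hv_one, hv_nul, two_smul, one_add_one_eq_two]
theorem rho89 : (rho 89).vec = ![0, 2, 0] := by
  rw [show rho 89 = ⟨NUL, ONE.smul 2, NUL⟩ by decide +kernel]
  simp [V3.vec, hv_smul, hv_one, hv_nul, two_smul, one_add_one_eq_two]
theorem rho90 : (rho 90).vec = ![0, 0, 2] := by
  rw [show rho 90 = ⟨NUL, NUL, ONE.smul 2⟩ by decide +kernel]
  simp [V3.vec, hv_smul, hv_one, hv_nul, two_smul, one_add_one_eq_two]

theorem half4 (a : ℍ[ℝ]) : (2⁻¹ : ℝ) • (a * 2 * 2) = a + a := by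
  rw [← one_div, half_two, mul_two]

theorem q0 (x : Fin 3 → ℍ[ℝ]) : qrefl (rho 0).vec x = ![-x 0, x 1, x 2] := by
  funext t; fin_cases t <;> simp [rho0, qrefl, qip_eq, half4]
theorem q89 (x : Fin 3 → ℍ[ℝ]) : qrefl (rho 89).vec x = ![x 0, -x 1, x 2] := by
  funext t; fin_cases t <;> simp [rho89, qrefl, qip_eq, half4]
theorem q90 (x : Fin 3 → ℍ[ℝ]) : qrefl (rho 90).vec x = ![x 0, x 1, -x 2] := by
  funext t; fin_cases t <;> simp [rho90, qrefl, qip_eq, half4]

theorem F_apply {j : ℕ} (h : j < 315) (x : icoLeech) :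
    ((F j x : icoLeech) : Fin 3 → ℍ[ℝ]) = qrefl (rho j).vec x := by rw [F_eq h, rf_apply]

theorem neg_two_ne : (-2 : ℍ[ℝ]) ≠ 2 := fun h => by
  have := congrArg QuaternionAlgebra.re h
  change (-2 : ℝ) = 2 at this
  norm_num at this

theorem F_inj0 {p : ℕ} (hp : p < 315) (h : F p = F 0) : p = 0 := by
  by_contra h0
  have := J2X.prim.trans_of_le J2X.hn trans (J2X.map (pe_rho _)) (B := {j | j < 315 ∧ F j = F 0})
    ⟨by decide, rfl⟩ ?_ ⟨hp, h⟩ h0 hp 89 (by decide)
  · have h1 := congrArg (fun f : Equiv.Perm icoLeech => (f ⟨_, g0_mem⟩ : icoLeech).1 0) this.2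
    simp only [F_apply (by decide : 89 < 315), F_apply (by decide : 0 < 315), q0, q89] at h1
    exact neg_two_ne (by simpa using h1.symm)
  · rintro g i ⟨a1, a2⟩ ⟨-, a3⟩ j ⟨a4, a5⟩
    obtain ⟨t, -, ht⟩ := exists_t g
    refine ⟨trans.lt g j a4, ?_⟩
    change F ((g : Equiv.Perm ℕ) i) = _ at a3
    change F ((g : Equiv.Perm ℕ) j) = _
    rw [← ht j a4, a5, ← a2, ht i a1, a3, a2]

theorem F_inj {i j : ℕ} (hi : i < 315) (hj : j < 315) (h : F i = F j) : i = j := by
  obtain ⟨g, hg⟩ := trans.trans j hj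
  obtain ⟨t, -, ht⟩ := exists_t g⁻¹
  change (g : Equiv.Perm ℕ) 0 = j at hg
  have h1 : ((g⁻¹ : S) : Equiv.Perm ℕ) j = 0 := by simp [← hg]
  have h2 := F_inj0 (trans.lt g⁻¹ i hi) (by
    change F (((g⁻¹ : S) : Equiv.Perm ℕ) i) = _
    rw [← ht i hi, h, ht j hj, h1])
  change ((g⁻¹ : S) : Equiv.Perm ℕ) i = 0 at h2
  exact ((g⁻¹ : S) : Equiv.Perm ℕ).injective (h2.trans h1.symm)

theorem exists_conj {j : ℕ} (hj : j < 315) : ∃ t ∈ gen rl RL, t * F 0 * t⁻¹ = F j := by
  obtain ⟨g, hg⟩ := trans.trans j hj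
  obtain ⟨t, h1, ht⟩ := exists_t g
  exact ⟨t, h1, by rw [ht 0 (by decide)]; exact congrArg F hg⟩

theorem F0 : F 0 = ev rl [11, 1, 11] := by
  have := conj_F (c := 11) (by decide) pi11 (j := 92) (by decide)
  rw [show sg nets 11 92 = 0 by
    have := Net.testBit_pull (J2P.hn 11) 1 92
    rw [show Nat.testBit ((nth Net.nil J2P.nl 11).pull 1) 92 = true by decide +kernel] at this
    exact Nat.testBit_one_eq_true_iff_self_eq_zero.1 this.symm] at this
  rw [← this, inv_eq_of_mul_eq_one_left (F_sq 12), mul_assoc]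
  exact congrArg (F 12 * ·) (congrArg (F 92 * ·) (mul_one _).symm)

theorem F_mem (j : ℕ) : F j ∈ gen rl RL := by
  by_cases hj : j < 315
  · obtain ⟨t, h1, h2⟩ := exists_conj hj
    rw [← h2, F0]
    exact mul_mem (mul_mem h1 (ev_mem_gen (by decide))) (inv_mem h1)
  · rw [F, dif_neg hj]; exact one_mem _

theorem two_eq : twoJ2 = gen rl RL := by
  apply le_antisymm
  · refine (Subgroup.closure_le _).2 fun f hf => ?_
    obtain ⟨j, -, rfl⟩ := isRefl.1 hf
    exact F_mem j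
  · exact gen_le.2 fun c hc => Subgroup.subset_closure
      (isRefl.2 ⟨_, by revert c; decide, rfl⟩)

theorem F_mem' (j : ℕ) : F j ∈ twoJ2 := two_eq ▸ F_mem j

theorem exists_w' (g : twoJ2) : ∃ w : List ℕ, (∀ c ∈ w, c ∈ RL) ∧ ev rl w = g :=
  exists_word rl_iv hRL (two_eq ▸ g.2)

theorem mem_center {g : twoJ2} :
    g ∈ Subgroup.center twoJ2 ↔ ∀ j < 315, (g : Equiv.Perm icoLeech) * F j * (g : Equiv.Perm icoLeech)⁻¹ = F j := by
  rw [Subgroup.mem_center_iff]
  constructor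
  · intro h j _
    have := congrArg Subtype.val (h ⟨_, F_mem' j⟩)
    simp only [Subgroup.coe_mul] at this
    rw [← this]; simp
  · intro h t
    have : twoJ2 ≤ Subgroup.centralizer {(g : Equiv.Perm icoLeech)} := by
      refine (Subgroup.closure_le _).2 fun f hf => ?_
      obtain ⟨j, hj, rfl⟩ := isRefl.1 hf
      exact Subgroup.mem_centralizer_singleton_iff.2 (mul_inv_eq_iff_eq_mul.1 (h j hj)).symm
    exact Subtype.ext (Subgroup.mem_centralizer_singleton_iff.1 (this t.2))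

/-- The action on the reflections. -/
theorem exists_pi : ∃ π : twoJ2 →* S, Function.Surjective π ∧ π.ker = Subgroup.center twoJ2 ∧
    (∀ g : twoJ2, ∀ j < 315, (g : Equiv.Perm icoLeech) * F j * (g : Equiv.Perm icoLeech)⁻¹ =
      F ((π g : Equiv.Perm ℕ) j)) ∧
    π ⟨F 0, F_mem' 0⟩ = eS 5 := by
  have hm : ∀ c, rl c ∈ twoJ2 := fun c => F_mem' _
  have tr : Tr (subE rl hm) eR RL := fun w hw h => by
    have h1 : ev rl w = 1 := by rw [← coe_ev_sub hm, h]; rfl
    rw [ev_eR hw]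
    refine PG_faithful J2P.hn _ fun i hi => F_inj (trans.lt _ i hi) hi ?_
    change F (((ev eS w : S) : Equiv.Perm ℕ) i) = _
    rw [coe_ev, ← ev_F hw hi, h1]; simp
  obtain ⟨π, h1, h2⟩ := exists_hom_of_tr tr (ivOK_sub hm rl_iv) eR_iv hRL
    (gen_sub_top hm two_eq.le)
  have h3 : ∀ w : List ℕ, (∀ c ∈ w, c ∈ RL) → π (ev (subE rl hm) w) = ev eS w := fun w hw => by
    rw [map_ev, ev_congr fun c hc => h2 c (hw c hc), ev_eR hw]
  have h4 : ∀ g : twoJ2, ∀ j < 315, (g : Equiv.Perm icoLeech) * F j *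
      (g : Equiv.Perm icoLeech)⁻¹ = F ((π g : Equiv.Perm ℕ) j) := fun g j hj => by
    obtain ⟨w, a1, a2⟩ := exists_w' g
    obtain rfl : g = ev (subE rl hm) w := Subtype.ext (by rw [coe_ev_sub, a2])
    rw [h3 w a1, coe_ev, ← ev_F a1 hj, coe_ev_sub]
  refine ⟨π, MonoidHom.range_eq_top.1 (h1.trans topR'), ?_, h4, ?_⟩
  · ext g
    rw [MonoidHom.mem_ker, mem_center]
    constructor
    · intro h j hj
      rw [h4 g j hj, h]; rfl
    · intro h
      exact PG_faithful J2P.hn _ fun i hi => F_inj (trans.lt _ i hi) hi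
        (by rw [← h i hi, h4 g i hi]; rfl)
  · rw [show (⟨F 0, F_mem' 0⟩ : twoJ2) = ev (subE rl hm) [11, 1, 11] from
      Subtype.ext (by rw [coe_ev_sub]; exact F0), h3 _ (by decide)]
    have := hR' [5, 11, 1, 11] (by decide)
    rw [ev_cons] at this
    rw [eq_inv_of_mul_eq_one_right this]
    exact (hiv 5).symm

theorem exists_iso : ∃ f : J2 ≃* S, f (QuotientGroup.mk ⟨F 0, F_mem' 0⟩) = eS 5 := by
  obtain ⟨π, h1, h2, -, h3⟩ := exists_pi
  exact ⟨(QuotientGroup.quotientMulEquivOfEq h2.symm).trans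
    (QuotientGroup.quotientKerEquivOfSurjective π h1), h3⟩

theorem isoJ2 {G : Type*} [Group G] (f : S ≃* G) : IsoJ2 G := by
  obtain ⟨g, -⟩ := exists_iso
  exact ⟨f.symm.trans g.symm⟩

/-! ### The centre -/

theorem exists_lin (g : twoJ2) : ∃ φ : (Fin 3 → ℍ[ℝ]) →ₗ[ℍ[ℝ]] (Fin 3 → ℍ[ℝ]),
    (∀ x : icoLeech, (((g : Equiv.Perm icoLeech) x : icoLeech) : Fin 3 → ℍ[ℝ]) = φ x) ∧
      ∀ r, Mn r → Mn (φ r) := by
  obtain ⟨w, h1, h2⟩ := exists_w' g
  rw [← h2]
  clear h2
  induction w with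
  | nil => exact ⟨LinearMap.id, fun _ => rfl, fun _ h => h⟩
  | cons c w ih =>
    obtain ⟨φ, a1, a2⟩ := ih fun d hd => h1 d (List.mem_cons_of_mem _ hd)
    have hc : ri c < 315 := (by decide : ∀ c ∈ RL, ri c < 315) c (h1 c List.mem_cons_self)
    let ψ : (Fin 3 → ℍ[ℝ]) →ₗ[ℍ[ℝ]] (Fin 3 → ℍ[ℝ]) :=
      { toFun := qrefl (rho (ri c)).vec
        map_add' := fun x y => by simp only [qrefl_eq, qip_add, smul_add, add_smul]; abel
        map_smul' := fun u x => qrefl_smul _ _ _ }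
    refine ⟨ψ.comp φ, fun x => ?_, fun r hr => (rho_mn _ hc).qrefl (a2 r hr)⟩
    rw [ev_cons, Equiv.Perm.mul_apply, rl, F_apply hc, a1]; rfl

/-- Minus one. -/
noncomputable def neg : twoJ2 := ⟨F 0 * F 89 * F 90, mul_mem (mul_mem (F_mem' _) (F_mem' _)) (F_mem' _)⟩

theorem neg_apply (x : icoLeech) :
    (((neg : Equiv.Perm icoLeech) x : icoLeech) : Fin 3 → ℍ[ℝ]) = -(x : Fin 3 → ℍ[ℝ]) := by
  simp only [neg, Equiv.Perm.mul_apply, F_apply (by decide : 0 < 315),
    F_apply (by decide : 89 < 315), F_apply (by decide : 90 < 315), q0, q89, q90]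
  funext t; fin_cases t <;> simp

theorem neg_mem : neg ∈ Subgroup.center twoJ2 := Subgroup.mem_center_iff.2 fun g => by
  obtain ⟨φ, h, -⟩ := exists_lin g
  refine Subtype.ext (Equiv.ext fun x => Subtype.ext ?_)
  simp only [Subgroup.coe_mul, Equiv.Perm.mul_apply, neg_apply, h, map_neg]

theorem neg_ne : neg ≠ 1 := fun h => by
  have := congrFun (neg_apply ⟨_, g0_mem⟩) 0
  rw [h] at this
  exact neg_two_ne (by simpa using this.symm)

theorem center_cases {g : twoJ2} (hg : g ∈ Subgroup.center twoJ2) : g = 1 ∨ g = neg := by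
  obtain ⟨φ, h1, h2⟩ := exists_lin g
  have key : ∀ j < 315, ∃ c : ℍ[ℝ], φ (rho j).vec = c • (rho j).vec := fun j hj => by
    have a1 := mem_center.1 hg j hj
    rw [mul_inv_eq_iff_eq_mul] at a1
    have a2 := congrArg (fun f : Equiv.Perm icoLeech => (f ⟨_, (rho_mn j hj).1⟩ : icoLeech).1) a1
    simp only [Equiv.Perm.mul_apply, h1, F_apply hj] at a2
    rw [qrefl_eq, qrefl_eq, (rho_mn j hj).2, show (4 : ℍ[ℝ]) = 2 * 2 by norm_num, half_two,
      map_sub, map_smul, sub_right_inj] at a2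
    refine ⟨(1 / 2 : ℝ) • (1 / 2 : ℝ) • qip (φ (rho j).vec) (rho j).vec, ?_⟩
    rw [smul_assoc, ← a2, ← smul_assoc, ← one_mul (2 : ℍ[ℝ]), half_two, one_smul]
  obtain ⟨a, ha⟩ := key 0 (by decide)
  obtain ⟨b, hb⟩ := key 89 (by decide)
  obtain ⟨c, hc⟩ := key 90 (by decide)
  have hn := unit_of_mn (rho_mn 89 (by decide)) (hb ▸ h2 _ (rho_mn 89 (by decide)))
  rw [rho0] at ha
  rw [rho89] at hb
  rw [rho90] at hc
  have h3 : ∀ x : Fin 3 → ℍ[ℝ], φ x = ![x 0 * a, x 1 * b, x 2 * c] := fun x => by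
    have e : x = ((1 / 2 : ℝ) • x 0) • ![2, 0, 0] + ((1 / 2 : ℝ) • x 1) • ![0, 2, 0] +
      ((1 / 2 : ℝ) • x 2) • ![0, 0, 2] := by
      funext t; fin_cases t <;> simp [-one_div, half_two]
    conv_lhs => rw [e, map_add, map_add, map_smul, map_smul, map_smul, ha, hb, hc]
    funext t; fin_cases t <;> simp [-one_div, ← mul_assoc, half_two]
  have h4 : ∀ j < 315, (rho j).z = ONE →
      hv (rho j).x * a = c * hv (rho j).x ∧ hv (rho j).y * b = c * hv (rho j).y := fun j hj hz => by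
    obtain ⟨d, hd⟩ := key j hj
    rw [h3] at hd
    have b0 := congrFun hd 0
    have b1 := congrFun hd 1
    have b2 := congrFun hd 2
    simp [V3.vec, hz, hv_one] at b0 b1 b2
    rw [b2]; exact ⟨b0, b1⟩
  have c1 := h4 69 (by decide) (by decide +kernel)
  have c2 := (h4 57 (by decide) (by decide +kernel)).2
  have c3 := (h4 49 (by decide) (by decide +kernel)).2
  rw [show (rho 69).y = ONE by decide +kernel, show (rho 69).x = HB by decide +kernel, hv_one,
    one_mul, mul_one, hv_HB] at c1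
  rw [show (rho 57).y = ⟨⟨0, 2, 0, 0⟩, ⟨0, 0, 0, 0⟩⟩ by decide +kernel] at c2
  rw [show (rho 49).y = ⟨⟨0, 0, 2, 0⟩, ⟨0, 0, 0, 0⟩⟩ by decide +kernel] at c3
  obtain ⟨c1, rfl⟩ := c1
  have d1 := congrArg QuaternionAlgebra.imJ c2
  have d2 := congrArg QuaternionAlgebra.imK c2
  have d3 := congrArg QuaternionAlgebra.imK c3
  simp [hv] at d1 d2 d3
  have d4 : b = (b.re : ℍ[ℝ]) := by ext <;> simp <;> linarith
  have d5 : a = b := by
    rw [d4, coe_commutes, ← d4] at c1
    exact mul_left_cancel₀ (fun h => two_ne (by rw [← H_mul, h, mul_zero])) c1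
  subst d5
  rw [d4, normSq_coe, sq_eq_one_iff] at hn
  refine hn.imp (fun h => ?_) fun h => ?_ <;>
    refine Subtype.ext (Equiv.ext fun x => Subtype.ext ?_) <;> rw [h1, h3, d4, h]
  · funext t; fin_cases t <;> simp
  · rw [neg_apply]; funext t; fin_cases t <;> simp

theorem card_center : Nat.card (Subgroup.center twoJ2) = 2 := by
  rw [show Subgroup.center twoJ2 = Subgroup.zpowers neg from ?_, Nat.card_zpowers]
  · refine orderOf_eq_prime (Subtype.ext (Equiv.ext fun x => Subtype.ext ?_)) neg_ne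
    simp [sq, neg_apply]
  · refine le_antisymm (fun g hg => ?_) (Subgroup.zpowers_le.2 neg_mem)
    rcases center_cases hg with rfl | rfl
    exacts [one_mem _, Subgroup.mem_zpowers _]

theorem card_J2 : Nat.card J2 = 604800 := by
  obtain ⟨f, -⟩ := exists_iso
  rw [Nat.card_congr f.toEquiv, card]

theorem card_two : Nat.card twoJ2 = 1209600 := by
  rw [Subgroup.card_eq_card_quotient_mul_card_subgroup (Subgroup.center twoJ2), card_center, card_J2]

/-! ### Counting -/

theorem ncard_refl : {f : Equiv.Perm icoLeech | IsIcoReflection f}.ncard = 315 := by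
  rw [show {f | IsIcoReflection f} = F '' Set.Iio 315 from Set.ext fun f =>
    isRefl.trans ⟨fun ⟨j, a, b⟩ => ⟨j, a, b.symm⟩, fun ⟨j, a, b⟩ => ⟨j, a, b.symm⟩⟩,
    Set.InjOn.ncard_image (f := F) (s := Set.Iio 315) fun i hi j hj => F_inj hi hj]
  simp

theorem ncard_min : {r : Fin 3 → ℍ[ℝ] | r ∈ icoLeech ∧ qip r r = 4}.ncard = 37800 := by
  have hU : ∀ c ∈ UL, Qt.Dv 1 (dq c) ∧ s0 (dq c) = 4 ∧ s1 (dq c) = 4 ∧ eq' (dq c) = c := by
    decide +kernel
  have hm : ∀ c ∈ UL, ∀ j < 315, Mn (hv (dq c) • (rho j).vec) := fun c hc j hj => by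
    obtain ⟨a1, a2, a3, -⟩ := hU c hc
    have := normSq_hv (dq c)
    rw [a2, a3] at this
    refine ⟨L_smul (hv_mem a1) (rho_mn j hj).1, ?_⟩
    rw [qip_smul, qip_smul', (rho_mn j hj).2, show ∀ u : ℍ[ℝ], u * (4 * star u) = 4 * (u * star u)
      from fun u => by noncomm_ring, self_mul_star, show normSq (hv (dq c)) = 1 by
        norm_num at this; exact this]
    simp
  have e : {r : Fin 3 → ℍ[ℝ] | r ∈ icoLeech ∧ qip r r = 4} =
      (fun p : ℕ × ℕ => hv (dq p.1) • (rho p.2).vec) '' ↑(UL.toFinset ×ˢ Finset.range 315) := by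
    ext r
    simp only [Set.mem_image, Finset.mem_coe, Finset.mem_product, List.mem_toFinset,
      Finset.mem_range, Prod.exists]
    constructor
    · intro h
      obtain ⟨j, hj, u, hu, rfl⟩ := Mn.pp h
      obtain ⟨c, hc, rfl⟩ := unit_mem hu (unit_of_mn (rho_mn j hj) h)
      exact ⟨c, j, ⟨hc, hj⟩, rfl⟩
    · rintro ⟨c, j, ⟨hc, hj⟩, rfl⟩
      exact hm c hc j hj
  rw [e, Set.InjOn.ncard_image, Set.ncard_coe_finset, Finset.card_product, Finset.card_range,
    List.toFinset_card_of_nodup (by decide +kernel)]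
  · rfl
  rintro ⟨c, i⟩ h1 ⟨d, j⟩ h2 h
  simp only [Finset.mem_coe, Finset.mem_product, List.mem_toFinset, Finset.mem_range] at h1 h2 h
  obtain rfl : i = j := F_inj h1.2 h2.2 (by
    rw [F_eq h1.2, F_eq h2.2, ← rf_smul _ (hm c h1.1 i h1.2), ← rf_smul _ (hm d h2.1 j h2.2)]
    exact rf_congr _ _ (by rw [h]))
  have h3 := congrArg (qip · (rho i).vec) h
  simp only [qip_smul, (rho_mn i h1.2).2] at h3
  have h4 := hv_inj (mul_right_cancel₀ (fun h => by
    have := congrArg QuaternionAlgebra.re h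
    rw [re_four] at this; norm_num at this) h3)
  exact Prod.ext (by rw [← (hU c h1.1).2.2.2, h4, (hU d h2.1).2.2.2]) rfl

theorem refl_conj {f f' : Equiv.Perm icoLeech} (hf : IsIcoReflection f) (hf' : IsIcoReflection f') :
    ∃ g ∈ twoJ2, g * f * g⁻¹ = f' := by
  obtain ⟨i, hi, rfl⟩ := isRefl.1 hf
  obtain ⟨j, hj, rfl⟩ := isRefl.1 hf'
  obtain ⟨s, h1, h2⟩ := exists_conj hi
  obtain ⟨t, h3, h4⟩ := exists_conj hj
  exact ⟨t * s⁻¹, two_eq ▸ mul_mem h3 (inv_mem h1), by rw [← h2, ← h4]; group⟩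

/-! ### The centraliser of a reflection -/

theorem stab_eq : stab (PG J2P.nl).subtype 0 = gen eS colsM := by
  refine (Subgroup.eq_of_le_of_card_ge (gen_le.2 fun c hc => ?_) ?_).symm
  · have := J2X.prim.fix c hc
    rwa [← J2X.map (pe_rho _), extE_lt _ _ _ ((by decide : ∀ c ∈ colsM, c < 12) c hc)] at this
  · have := trans.card_eq
    rw [card] at this
    rw [cardM hiv (rM fun r hr => hR r (List.mem_append_left _ hr)) hz]
    omega

theorem cent_eq : Subgroup.centralizer {eS 5} = gen eS colsM := by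
  have h := J2X.prim.isCoatom J2X.hn trans (J2X.map (pe_rho _)) (by decide)
  rw [stab_eq] at h
  refine ((h.le_iff.1 (gen_le.2 fun c hc => ?_)).resolve_left fun h1 => hz ?_)
  · have key : ∀ c ∈ colsM, c = 5 ∨ [5, c, 5, iv c] ∈ R2 ∨ [5, iv c, 5, c] ∈ R2 := by decide
    have i5 : (eS 5)⁻¹ = eS 5 := (hiv 5).symm
    rw [Subgroup.mem_centralizer_singleton_iff]
    rcases key c hc with rfl | h | h
    · rfl
    · have := hR _ h
      simp only [ev_cons, ev_nil, mul_one, hiv c] at this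
      rw [← mul_assoc, ← mul_assoc, mul_inv_eq_one, ← eq_mul_inv_iff_mul_eq, i5] at this
      exact this.symm
    · have := hR _ h
      simp only [ev_cons, ev_nil, mul_one, hiv c] at this
      rw [← mul_assoc, mul_eq_one_iff_eq_inv, mul_inv_rev, i5, mul_inv_eq_iff_eq_mul, mul_assoc,
        eq_inv_mul_iff_mul_eq] at this
      exact this
  · rw [← Subgroup.mem_bot, ← center_S, Subgroup.mem_center_iff]
    exact fun g => Subgroup.mem_centralizer_singleton_iff.1 (h1 ▸ Subgroup.mem_top g)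

/-- The centraliser of the image of a reflection. -/
theorem cent_struct {G : Type*} [Group G] (f : S ≃* G) {t : G} (ht : IsConj (f (eS 5)) t) :
    ∃ (Q : Subgroup (Subgroup.centralizer {t})) (_ : Q.Normal), Nat.card Q = 32 ∧
      Cfsg.IsExtraspecial 2 Q ∧
      Nonempty (Subgroup.centralizer {t} ⧸ Q ≃* alternatingGroup (Fin 5)) := by
  obtain ⟨g, rfl⟩ := isConj_iff.1 ht
  let f' : S ≃* G := f.trans (MulAut.conj g)
  change ∃ (Q : Subgroup (Subgroup.centralizer {f' (eS 5)})) (_ : Q.Normal), _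
  let e : ℕ → G := fun c => if c < 10 then f' (eS c) else 1
  have h0 : gen e colsM = Subgroup.centralizer {f' (eS 5)} := by
    rw [gen_congr (e := e) (e' := fun c => f'.toMonoidHom (eS c)) (l := colsM) fun c hc =>
      if_pos ((by decide : ∀ c ∈ colsM, c < 10) c hc),
      ← map_gen, ← cent_eq]
    ext x
    obtain ⟨x, rfl⟩ := f'.surjective x
    simp [Subgroup.mem_centralizer_singleton_iff, ← map_mul]
  have hm : ∀ c, e c ∈ Subgroup.centralizer {f' (eS 5)} := fun c => by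
    by_cases h : c < 10
    · exact h0 ▸ mem_gen (by revert c; decide)
    · simp only [e, if_neg h]; exact one_mem _
  refine struct (e := subE e hm) (ivOK_sub hm fun c => ?_) (rels_subE hm fun r hr => ?_)
    (fun h => hz (f'.injective ((congrArg Subtype.val h).trans (map_one f').symm))) (gen_sub_top hm h0.ge)
  · by_cases h : c < 10
    · have : iv c < 10 := by revert c; decide
      simp only [e, if_pos h, if_pos this, hiv c, map_inv]
    · rw [show iv c = c from nth_default _ (by simpa [JM0.ivl] using h)]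
      simp only [e, if_neg h, inv_one]
  · have : ∀ r ∈ JM0.R, ∀ c ∈ r, c < 10 := by decide
    rw [ev_congr (e := e) (e' := fun c => f'.toMonoidHom (eS c)) fun c hc => if_pos (this r hr c hc),
      ← map_ev, rM (fun r hr => hR r (List.mem_append_left _ hr)) r hr, map_one]

end H7.J2
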