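import Mathlib
import Cfsg.Agent.H9.CG2
import Cfsg.Agent.H7.JP

set_option autoImplicit false
set_option maxRecDepth 100000
set_option Elab.async false
set_option linter.all false

namespace H7.J2H

open H29 H9.MX

noncomputable def n0 : Net := ben 7 [(nat_lit 0x956a6655966ab713030015000),
 (nat_lit 0xd3e591142a16d205a000a3000),
 (nat_lit 0x9089b46a2def57dd889b0000),
 (nat_lit 0x667cc23d9417242d90900000),
 (nat_lit 0x200f5a1f6490f6f400009000),
 (nat_lit 0xf0001608064916080),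
 (nat_lit 0x16080)]
noncomputable def n1 : Net := ben 7 [(nat_lit 0xaa99b5a98a9cf703033000540),
 (nat_lit 0x35ac83aa64aa4100a7aa00600),
 (nat_lit 0xe39d759a0e0055132208cc00),
 (nat_lit 0x8ea3dac46c690000096d00c0),
 (nat_lit 0x945c72330010ed1000090009),
 (nat_lit 0xf926d0410927d0419),
 (nat_lit 0x926d0410)]
noncomputable def n2 : Net := ben 7 [(nat_lit 0x3f30ccf0c3303c30f00cc14),
 (nat_lit 0xaf555f0a0a0b0fbf222002000),
 (nat_lit 0x31648a228a170c6240044400),
 (nat_lit 0xab9283c4848450300540040),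
 (nat_lit 0x4045c5405c045d500000000),
 (nat_lit 0xf2208248027c82480),
 (nat_lit 0x22082480)]
noncomputable def n3 : Net := ben 7 [(nat_lit 0x5004f0d8708007f0c03f30311),
 (nat_lit 0x9f3025d08f0faa7f555000a00),
 (nat_lit 0xbbff372e886a15ae8e158800),
 (nat_lit 0x1a1b4dc50701d9d10d40080),
 (nat_lit 0x894c8b4d0d705d7700001000),
 (nat_lit 0xc80046d508d746d50),
 (nat_lit 0x80046d50)]
noncomputable def n4 : Net := ben 7 [(nat_lit 0x3ff0c3c3030cf733033030c05),
 (nat_lit 0x5b05509272277a755f50a0200),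
 (nat_lit 0x4488dd883399db9f8c0000),
 (nat_lit 0x25a7824080c0263e80dc0000),
 (nat_lit 0x451c6d1c27c0a7c700008000),
 (nat_lit 0xd401007c067d007c0),
 (nat_lit 0x401007c0)]
noncomputable def n5 : Net := ben 7 [(nat_lit 0x999a9a6599955673033000000),
 (nat_lit 0x53353accaa5be3f000f100000),
 (nat_lit 0x1118ca11b449ce0589000000),
 (nat_lit 0xe6e6433506083bbb00840000),
 (nat_lit 0x201f479f7b087f3300000000),
 (nat_lit 0xf001878007b187800),
 (nat_lit 0x187800)]
noncomputable def n6 : Net := ben 7 [(nat_lit 0x659a951516998859965595555),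
 (nat_lit 0x6009f6f06099069f41a5a3600),
 (nat_lit 0xa7df68b4ee4a30dd8724770c),
 (nat_lit 0xda25c51bacbedd1d06960078),
 (nat_lit 0xf693c9a35080d3fc00020602),
 (nat_lit 0xfac1352c0fc9352c2),
 (nat_lit 0xac1352c0)]
noncomputable def n7 : Net := ben 7 [(nat_lit 0xf73f41f33f00fc00000000010),
 (nat_lit 0x64a68c8b11bbb5014504ff003),
 (nat_lit 0x41fe3c03510498c889cfcfcc),
 (nat_lit 0x84512829c4d9d9c0c0d9000c),
 (nat_lit 0x360eea2b2fd1f7fa0004c004),
 (nat_lit 0xf100527d03fdd27d4),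
 (nat_lit 0x100527d0)]
noncomputable def n8 : Net := ben 7 [(nat_lit 0x867e97a5e213f05f336c2d854),
 (nat_lit 0x950a1bc02b2f7a000a4a11f3),
 (nat_lit 0x8b5878a809b9aa14008c220c),
 (nat_lit 0x9020c1231f1d52d280880020),
 (nat_lit 0x500164c252005e0200008000),
 (nat_lit 0x7a0015010f2015010),
 (nat_lit 0xa0015010)]
noncomputable def n9 : Net := n8.rev
noncomputable def n10 : Net := ben 7 [(nat_lit 0x3c71fff30c3f0c30c003000c0),
 (nat_lit 0xf7f057257d5a8020505050aa0),
 (nat_lit 0x1511bbc46e4c4c0844ddcc06),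
 (nat_lit 0xb8b8b3f910d4044c3cfe0080),
 (nat_lit 0x24a13ea0015dbdd00003c00),
 (nat_lit 0xf024ae810025fe810),
 (nat_lit 0x24ae810)]
noncomputable def nl : List Net := [n0, n1, n2, n3, n4, n5, n6, n7, n8, n9, n10]
abbrev ivl : List ℕ := JM0.ivl
theorem hn : NetsOK 100 (nth Net.nil nl) := netsOK_of_all (by decide +kernel)
theorem hiv : IvOK (sg (nth Net.nil nl)) (ivOf ivl) :=
  ivOK_of_chk (k := 7) hn (by decide) (n := 11) (by decide) (by decide) (allN_true.1 (by decide +kernel))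
theorem hR0 : ∀ r ∈ JP.R2, ev (sg (nth Net.nil nl)) r = 1 :=
  rels_of_chk (k := 7) hn (by decide) hiv (allN_true.1 (by decide +kernel))
theorem reach : Reach (nth Net.nil nl) JP.cols (bit 0) (ones 100) := reach_of_chk (r := 4) hn (by decide +kernel)
/-- Generators of the stabiliser of `0`. -/
def WU : List (List ℕ) := [[10], [9, 7, 6, 5], [5, 6, 7, 8]]
noncomputable abbrev nu : ℕ → Net := wNets (nth Net.nil nl) WU
theorem orb63 : chkOrbit 7 nu [0, 1, 2] 1 6 63 = true := by decide +kernel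
theorem orb36 : chkOrbit 7 nu [0, 1, 2] 2 5 36 = true := by decide +kernel
theorem fixU : ∀ c ∈ [0, 1, 2], sg nu c 0 = 0 := fix_zero_of_chk (hn.wNets WU) (by decide +kernel)

end H7.J2H
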