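import Mathlib
import Cfsg.Agent.H9.CG2
import Cfsg.Agent.H7.U33T0
import Cfsg.Agent.H7.U33T1

set_option autoImplicit false
set_option maxRecDepth 100000
set_option Elab.async false
set_option linter.all false

namespace H7.U33P

open H29 H9.MX

noncomputable def n0 : Net := ben 5 [(nat_lit 0xc050f0),
 (nat_lit 0xbb43e11),
 (nat_lit 0xbe0041),
 (nat_lit 0x90c0000),
 (nat_lit 0xfd2)]
noncomputable def n1 : Net := ben 5 [(nat_lit 0xef87b50),
 (nat_lit 0x8315752),
 (nat_lit 0x7cf283),
 (nat_lit 0x105501b),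
 (nat_lit 0xa7b)]
noncomputable def n2 : Net := n1.rev
noncomputable def nl : List Net := [n0, n1, n2]
abbrev ivl : List ℕ := U33T0.ivl
theorem hn : NetsOK 28 (nth Net.nil nl) := netsOK_of_all (by decide +kernel)
theorem hiv : IvOK (sg (nth Net.nil nl)) (ivOf ivl) :=
  ivOK_of_chk (k := 5) hn (by decide) (n := 3) (by decide) (by decide) (allN_true.1 (by decide +kernel))
theorem hR0 : ∀ r ∈ U33T0.R0, ev (sg (nth Net.nil nl)) r = 1 :=
  rels_of_chk (k := 5) hn (by decide) hiv (allN_true.1 (by decide +kernel))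

end H7.U33P
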