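import Mathlib
import Cfsg.Agent.H9.CG2
import Cfsg.Agent.H7.U33P
import Cfsg.Agent.H29.Cert

set_option autoImplicit false
set_option maxRecDepth 100000
set_option Elab.async false
set_option linter.all false

namespace H7.U33X

open H29 H9.MX

noncomputable def x3 : Net := ben 5 [(nat_lit 0x8771d44),
 (nat_lit 0x978f262),
 (nat_lit 0xf2dbc2),
 (nat_lit 0x40900d2),
 (nat_lit 0xcaa)]
noncomputable def x5 : Net := ben 5 [(nat_lit 0x3410050),
 (nat_lit 0x666b230),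
 (nat_lit 0x7df00c),
 (nat_lit 0x90006),
 (nat_lit 0xf66)]
noncomputable def x7 : Net := ben 5 [(nat_lit 0x8511190),
 (nat_lit 0x8833220),
 (nat_lit 0x933600),
 (nat_lit 0x60cf0f0),
 (nat_lit 0xff0)]
noncomputable def x9 : Net := ben 5 [(nat_lit 0x1468400),
 (nat_lit 0x9262c02),
 (nat_lit 0x393dee),
 (nat_lit 0x30c504e),
 (nat_lit 0x956)]
noncomputable def x11 : Net := ben 5 [(nat_lit 0x665d199),
 (nat_lit 0x7320783),
 (nat_lit 0x26d80e),
 (nat_lit 0xc025097),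
 (nat_lit 0x955)]
noncomputable def ly : List Net := [x3, x5, x7, x9, x11]
noncomputable def nx : ℕ → Net := nth Net.nil (U33P.nl ++ dbl ly)
def ivx : List ℕ := [0, 2, 1, 4, 3, 6, 5, 8, 7, 10, 9, 12, 11]
def defs : List (List ℕ) := [[0, 2, 0, 2, 0, 1, 0, 2, 0, 1, 1],
 [2, 2, 0, 4, 0, 4, 0, 1, 4, 0, 4, 4],
 [3, 6, 4, 5, 4, 5, 4, 4, 5, 3],
 [5, 3, 0, 4, 7, 4, 6, 0, 7, 5, 2, 7, 0, 3, 2],
 [2, 0, 1, 0, 2, 2, 2]]
theorem hext : chkExt 3 defs U33P.ivl ivx = true := by decide +kernel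
theorem hn : NetsOK 28 nx := netsOK_ext U33P.hn (by decide +kernel)
theorem hiv : IvOK (sg nx) (ivOf ivx) := ivOK_ext U33P.hiv hext rfl rfl
theorem hdef : ∀ r ∈ defRels defs 3, ev (sg nx) r = 1 :=
  rels_of_chk (k := 5) hn (by decide) hiv (allN_true.1 (by decide +kernel))
theorem ch : chkChain 28 5 nx [(0, 2, 28, [3, 5, 7, 9]),
 (2, 2, 27, [7, 9]),
 (17, 3, 8, [])] [0, 1, 2, 3, 5, 7, 9] = true := by decide +kernel
theorem prim : Prim nx 28 [3, 5, 7, 9] [2] := prim_of_chk (r1 := 3) (r2 := 2) hn (by decide +kernel)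
theorem wit : ∀ r ∈ [powW 7 [11], powW 2 [0], powW 3 [11, 0]], ev (sg nx) r = 1 :=
  rels_of_chk (k := 5) hn (by decide) hiv (allN_true.1 (by decide +kernel))
def KR : List (List ℕ) := [[0, 1, 0, 1, 0, 1, 0, 1, 0, 1, 0, 1, 0, 1, 2, 2, 2, 2, 2, 2]]
theorem hKR : ∀ r ∈ KR, ev (sg nx) r = 1 :=
  rels_of_chk (k := 5) hn (by decide) hiv (allN_true.1 (by decide +kernel))
theorem reach : Reach nx [0, 1, 2] (bit 0) (ones 28) := reach_of_chk (r := 3) hn (by decide +kernel)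
theorem map {G : Type} [Group G] {e : ℕ → G} {ρ : G →* Equiv.Perm ℕ}
    (h : ∀ c, ρ (e c) = sg (nth Net.nil U33P.nl) c) : ∀ c, ρ (extE e 3 defs c) = sg nx c :=
  map_ext hext hiv hdef rfl rfl h

end H7.U33X
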