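import Mathlib
import Cfsg.Agent.H7.U33X
import Cfsg.Agent.H7.SmallIso
import Cfsg.Agent.S0280

/-!
# The unitary group `U₃(3)` by a presentation
-/

set_option autoImplicit false
set_option maxRecDepth 100000
set_option linter.all false

namespace H7.U33

open H29 H9.MX

abbrev cols : List ℕ := U33T0.cols
noncomputable abbrev iv : ℕ → ℕ := ivOf U33T0.ivl
theorem ubd : UBd iv U33T0.R0 cols 6048 := fun _ _ _ hi hR =>
  U33T0.bd hi hR (U33T1.bd hi (rels_sub hR (by decide +kernel)) (bd_nil _))
theorem hL : ∀ c ∈ cols, iv c ∈ cols := by decide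
/-- The permutation group on 28 points. -/
abbrev S : Type := PG U33P.nl
theorem hiv : IvOK (pe U33P.nl) iv := ivOK_sub _ U33P.hiv
theorem hR : ∀ r ∈ U33T0.R0, ev (pe U33P.nl) r = 1 := rels_subE _ U33P.hR0
theorem top : gen (pe U33P.nl) cols = ⊤ := pe_top (by decide +kernel)
theorem card : Nat.card S = 6048 :=
  (card_eq_of_chain U33X.hn ((ubd _ _ hiv hR).of_top top) (fun c _ => U33X.map (pe_rho _) c) U33X.ch
    (by decide +kernel)).1
theorem trans : Trans (PG U33P.nl).subtype 28 :=
  trans_of_reach (by decide) (PG_lt U33P.hn) (fun c _ => U33X.map (pe_rho _) c) U33X.reach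
instance simple : IsSimpleGroup S :=
  simple_of_cert (q := 7) (m := 864) U33X.hn U33X.prim trans (U33X.map (pe_rho _))
    (PG_faithful U33P.hn) card U33X.wit (ivOK_extE hiv U33X.hext)
    (rels_of_faithful (PG_faithful U33P.hn) (U33X.map (pe_rho _)) U33X.hKR)
    ((gen_extE _ _ (by decide)).trans top) (l := [(0, 0)]) (by decide +kernel) (by norm_num)

theorem trS {G : Type} [Group G] {e : ℕ → G} (h1 : IvOK e iv) (h2 : ∀ r ∈ U33T0.R0, ev e r = 1) :
    Tr (pe U33P.nl) e cols :=
  tr_of_bd ubd hL hiv h1 hR h2 (by rw [top, Subgroup.card_top, card])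

def P : Par := ⟨3, 13, 3, 43, 7, 2, 108, 2, 0, 0x7ffc000000fff8000001fff, 0x7fffffffff, 0x3f01f80fc07e03f01f80fc07e03f, 0x3001800c006003001800c006003, 0x100000000000010000000000001⟩
def l0 : List MM := [⟨0x100100000000000000008004000, 0x200080000000000008004002000⟩,
  ⟨0x200100080040020010008000000, 0x80000000000008008004002⟩,
  ⟨0x100000080000010010004002001, 0x100080000020010000000000001⟩,
  ⟨0x80040020020008004000002, 0x200080000000000008004004000⟩,
  ⟨0x100100000020010010000002001, 0x200000040000020000004000002⟩,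
  ⟨0x100000000020008004000002, 0x100100080020000010004002000⟩]
def lt0 : List MM := [⟨0x100000080040000010000000000, 0x200000040020000008000002000⟩,
  ⟨0x200100080040020000008004000, 0x80020000010000002002⟩,
  ⟨0x100000040000010008008004001, 0x100080000020010000000000001⟩,
  ⟨0x80040020020000004002002, 0x200000040020000010000002000⟩,
  ⟨0x100080000040010008000004001, 0x200000040000020000004000002⟩,
  ⟨0x40040020000000002002, 0x100080040040000008008004000⟩]
def l : List MM := [⟨0x80080020010008008002001, 0x80080040000000004000000⟩,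
  ⟨0x40020010008004002001, 0x200100080000010000004000000⟩,
  ⟨0x80040000010008004002001, 0x100000080020020000004000000⟩]

/-- The interpretation. -/
def I : Interp P F9 (Fin 3) := ⟨⟨0, 1⟩, Equiv.refl _, Par.ok_of (by decide +kernel),
  by decide, by decide⟩
theorem cube : I.ω ^ 3 = (0 : ℕ) + (2 : ℕ) * I.ω := by decide

theorem psu : Nonempty (S ≃* Cfsg.PSU 3 F9 3) := by
  have : Fact (Nat.Prime 3) := ⟨by norm_num⟩
  have : CharP F9 3 := charP_of_injective_algebraMap (algebraMap (ZMod 3) F9).injective 3
  have hs : allL l0 P.sm2 = true := by decide +kernel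
  obtain ⟨e, he⟩ := exists_SU (q := 3) I hs
    (det_eq_one I hs (ords := [7, 7, 3, 7, 3, 7]) (m := 8) (by rw [card_F9]) (by decide +kernel))
    (frobenius F9 3) (fun _ => rfl) (d0 := 0) (d1 := 2) cube
    (lt := lt0) (by decide +kernel)
  have hm := he.words (wl := [[0, 1], [2, 3], [4, 5]]) (l' := l) (by decide +kernel)
  have i1 := ivOK_map (QuotientGroup.mk' (Subgroup.center _)) (hm.ivOK (ivl := U33T0.ivl) (by decide +kernel))
  refine equiv_of_simple_card (trS i1 (hm.rels_quot (by decide +kernel))) hiv i1 hL top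
    ⟨[0, 1], by decide, hm.quot_ne_one (v := [1, 0]) (i := 2) (j := 0) (by decide +kernel)⟩
    (by decide) card ?_
  have h := Cfsg.Agent.S0280.result (F := F9) (q := 3) card_F9 3 (by norm_num)
  simp only [Finset.prod_range_succ] at h
  norm_num at h
  omega

end H7.U33
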