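import Mathlib
import Cfsg.Agent.H7.J2
import Cfsg.Agent.H7.J2H
import Cfsg.Agent.H7.U33
import Cfsg.Agent.H7.Fix

/-!
# The Hall–Janko group on 100 points
-/

set_option autoImplicit false
set_option maxRecDepth 100000
set_option linter.all false

namespace H7.J2

open H29 H9 H9.MX H7.JP

/-- The networks on 100 points. -/
noncomputable abbrev nH : ℕ → Net := nth Net.nil J2H.nl

theorem exists_rho : ∃ ρ : S →* Equiv.Perm ℕ, ρ.range = gen (sg nH) cols ∧
    ∀ c ∈ cols, ρ (eS c) = sg nH c :=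
  exists_hom_of_tr (trS J2H.hiv J2H.hR0) hiv J2H.hiv hL top

/-- The action on 100 points. -/
noncomputable def ρH : S →* Equiv.Perm ℕ := exists_rho.choose
theorem ρH_e : ∀ c ∈ cols, ρH (eS c) = sg nH c := exists_rho.choose_spec.2

theorem ρH_fix (g : S) (i : ℕ) (hi : 100 ≤ i) : ρH g i = i := by
  have : gen (sg nH) cols ≤ MulAction.stabilizer (Equiv.Perm ℕ) i :=
    gen_le.2 fun c _ => Net.perm_fix (J2H.hn c) hi
  exact this (exists_rho.choose_spec.1 ▸ ⟨g, rfl⟩)

theorem transH : Trans ρH 100 := trans_of_reach (by decide) ρH_fix ρH_e J2H.reach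

theorem faithH (g : S) (h : ∀ i < 100, ρH g i = i) : g = 1 := by
  have h1 : ρH g = 1 := Equiv.ext fun i => (lt_or_ge i 100).elim (h i) (ρH_fix g i)
  rcases (inferInstance : ρH.ker.Normal).eq_bot_or_eq_top with h2 | h2
  · exact Subgroup.mem_bot.1 (h2 ▸ h1)
  · obtain ⟨t, ht⟩ := transH.trans 1 (by decide)
    rw [show ρH t = 1 from (h2 ▸ Subgroup.mem_top t : t ∈ ρH.ker)] at ht
    exact absurd ht (by decide)

theorem ρH_wE {wl : List (List ℕ)} (h : ∀ w ∈ wl, ∀ c ∈ w, c ∈ cols) (c : ℕ) :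
    ρH (wE eS wl c) = sg (wNets nH wl) c := by
  rw [sg_wNets, wE, wE, map_ev_sg fun d hd => ρH_e d
    (nth_forall (p := fun w => ∀ c ∈ w, c ∈ cols) (by simp) h c d hd)]

/-- Generators of the stabiliser of a point. -/
noncomputable abbrev eU : ℕ → S := wE eS J2H.WU
theorem ρH_eU : ∀ c, ρH (eU c) = sg J2H.nu c := ρH_wE (by decide)
theorem hnU : NetsOK 100 J2H.nu := J2H.hn.wNets _
/-- Relators checked on 315 points. -/
theorem relS {R : List (List ℕ)}
    (h : allN 9 (chkRelP 315 9 (nth Net.nil J2P.nl) iv R) = true) : ∀ r ∈ R, ev eS r = 1 :=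
  rels_subE _ (rels_of_chk (k := 9) J2P.hn (by decide) J2P.hiv (allN_true.1 h))
theorem ivU : IvOK eU U33.iv := ivOK_wE (by decide) (relS (by decide +kernel))
theorem relU : ∀ r ∈ U33T0.R0, ev eU r = 1 := rels_wE (relS (by decide +kernel))

theorem card_stabH : Nat.card (stab ρH 0) = 6048 := by
  have := transH.card_eq
  rw [card] at this
  omega

theorem isoU : Nonempty (U33.S ≃* gen eU U33.cols) :=
  equiv_of_simple (U33.trS ivU relU) U33.hiv ivU U33.hL U33.top
    ⟨[0], by decide, ev_ne_one_of_chk (b := 1) hnU (fun c _ => ρH_eU c) (by decide +kernel)⟩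

theorem stabH_eq : stab ρH 0 = gen eU U33.cols := by
  obtain ⟨f⟩ := isoU
  refine (Subgroup.eq_of_le_of_card_ge (gen_le.2 fun c hc => ?_) ?_).symm
  · rw [mem_stab, ρH_eU]; exact J2H.fixU c hc
  · rw [card_stabH, ← Nat.card_congr f.toEquiv, U33.card]

theorem psu_stab : Nonempty (stab ρH 0 ≃* Cfsg.PSU 3 F9 3) :=
  stabH_eq ▸ ⟨isoU.some.symm.trans U33.psu.some⟩

theorem exists_psu {G : Type*} [Group G] (f : S ≃* G) : ∃ H : Subgroup G, H.index = 100 ∧
    (∃ (F : Type) (_ : Field F) (_ : Fintype F), Fintype.card F = 9 ∧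
      Nonempty (H ≃* Cfsg.PSU 3 F 3)) ∧ ∃ c₁ c₂ : G ⧸ H, (MulAction.orbit H c₁).ncard = 36 ∧
      (MulAction.orbit H c₂).ncard = 63 := by
  let ρ : G →* Equiv.Perm ℕ := ρH.comp f.symm.toMonoidHom
  have ht : Trans ρ 100 := ⟨by decide, fun g => transH.lt _, fun i hi => by
    obtain ⟨g, hg⟩ := transH.trans i hi
    exact ⟨f g, by simpa [ρ] using hg⟩⟩
  have h1 : stab ρ 0 = (stab ρH 0).map f.toMonoidHom := by
    ext g
    obtain ⟨g, rfl⟩ := f.surjective g
    simp [mem_stab, ρ]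
  have h2 : stab ρ 0 = gen (fun c => f (eU c)) U33.cols := by
    rw [h1, stabH_eq, map_gen]; rfl
  have h3 : ∀ c ∈ [0, 1, 2], ρ (f (eU c)) = sg J2H.nu c := fun c _ => by simp [ρ, ρH_eU]
  refine ⟨stab ρ 0, ht.cosetModel.index_eq, ⟨F9, inferInstance, inferInstance, card_F9,
    ⟨(MulEquiv.subgroupCongr h1).trans ((f.subgroupMap _).symm.trans psu_stab.some)⟩⟩, ?_⟩
  obtain ⟨c1, -, a1⟩ := ht.cosetModel.exists_suborbit hnU (by decide) h3 J2H.orb36
  obtain ⟨c2, -, a2⟩ := ht.cosetModel.exists_suborbit hnU (by decide) h3 J2H.orb63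
  have key : ∀ {K K' : Subgroup G} (h : K = K') (c : G ⧸ stab ρ 0),
      (MulAction.orbit K c).ncard = (MulAction.orbit K' c).ncard := by rintro _ _ rfl _; rfl
  exact ⟨c1, c2, (key h2 c1).trans a1, (key h2 c2).trans a2⟩

end H7.J2
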