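import Mathlib
import Cfsg.Prelude.Def_Transfer
import Cfsg.Agent.H7.J2U
import Cfsg.Agent.H7.Fix
import Cfsg.Agent.H25.JSyl3
import Cfsg.Agent.H25.JSyl5
import Cfsg.Agent.H25.JSyl7

/-! Sylow subgroups of odd order of the Hall–Janko group. -/

namespace H7.J2

theorem syl5 {G : Type*} [Group G] [Finite G] (f : S ≃* G) (P : Sylow 5 G) : Subgroup.centralizer ((P : Subgroup G) : Set G) = P ∧ Nat.card P = 25 ∧ Nat.card (Subgroup.normalizer ((P : Subgroup G) : Set G)) = 300 ∧ ∃ X Y : Subgroup G, Nat.card X = 5 ∧ Nat.card Y = 5 ∧ (∀ g : G, X.map (MulAut.conj g).toMonoidHom ≠ Y) ∧ ∀ W : Subgroup G, Nat.card W = 5 → ∃ g : G, W.map (MulAut.conj g).toMonoidHom = X ∨ W.map (MulAut.conj g).toMonoidHom = Y := by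
  obtain ⟨P0, h1, h2, h3, X, Y, h4, h5, h6, h7⟩ := H25.JS.P5.main
  have : Fact (Nat.Prime 5) := ⟨by norm_num⟩
  obtain ⟨φ, hφ⟩ := H25.JS.exists_equiv f P0 P
  have key : ∀ (A : Subgroup S) (g : S), (A.map φ.toMonoidHom).map (MulAut.conj (φ g)).toMonoidHom =
      (A.map (MulAut.conj g).toMonoidHom).map φ.toMonoidHom := fun A g => by
    rw [Subgroup.map_map, Subgroup.map_map]
    congr 1
    ext x
    simp
  refine ⟨by rw [hφ, H25.JS.map_C, h1], ?_, by rw [hφ, H25.JS.map_N, H25.JS.card_map, h3],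
    X.map φ.toMonoidHom, Y.map φ.toMonoidHom, by rw [H25.JS.card_map, h4],
    by rw [H25.JS.card_map, h5], fun g h => ?_, fun V hV => ?_⟩
  · rw [hφ, H25.JS.card_map]; exact h2
  · obtain ⟨g, rfl⟩ := φ.surjective g
    rw [key] at h
    exact h6 g (Subgroup.map_injective φ.injective h)
  · obtain ⟨V, rfl⟩ : ∃ V' : Subgroup S, V = V'.map φ.toMonoidHom :=
      ⟨V.comap φ.toMonoidHom, (Subgroup.map_comap_eq_self_of_surjective φ.surjective V).symm⟩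
    rw [H25.JS.card_map] at hV
    obtain ⟨g, hg⟩ := h7 V hV
    exact ⟨φ g, hg.imp (fun h => by rw [key, h]) fun h => by rw [key, h]⟩

theorem syl3 {G : Type*} [Group G] [Finite G] (f : S ≃* G) (P : Sylow 3 G) : Cfsg.IsExtraspecial 3 (P : Subgroup G) ∧ Nat.card P = 27 ∧ Nat.card (Subgroup.normalizer ((P : Subgroup G) : Set G)) = 216 ∧ ∃ a b : G, orderOf a = 3 ∧ orderOf b = 3 ∧ ¬ IsConj a b ∧ ∀ c : G, orderOf c = 3 → IsConj c a ∨ IsConj c b := by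
  obtain ⟨P0, ⟨x, hx, y, hy, hxy⟩, h2, h3, a, b, h4, h5, h6, h7⟩ := H25.JS.P3.main
  have : Fact (Nat.Prime 3) := ⟨by norm_num⟩
  obtain ⟨φ, hφ⟩ := H25.JS.exists_equiv f P0 P
  have hc : Nat.card (P : Subgroup G) = 27 := by rw [hφ, H25.JS.card_map]; exact h2
  refine ⟨H25.JS.extraspecial_of_cube hc (a := φ x) (b := φ y) (hφ ▸ ⟨x, hx, rfl⟩)
    (hφ ▸ ⟨y, hy, rfl⟩) (fun h => hxy (φ.injective (by simpa using h))), hc,
    by rw [hφ, H25.JS.map_N, H25.JS.card_map, h3], φ a, φ b, by rw [φ.orderOf_eq, h4],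
    by rw [φ.orderOf_eq, h5], fun h => h6 (by simpa using φ.symm.toMonoidHom.map_isConj h),
    fun c hc => ?_⟩
  obtain ⟨c, rfl⟩ := φ.surjective c
  rw [φ.orderOf_eq] at hc
  exact (h7 c hc).imp φ.toMonoidHom.map_isConj φ.toMonoidHom.map_isConj

theorem syl7 {G : Type*} [Group G] [Finite G] (f : S ≃* G) (D : Sylow 7 G) : Subgroup.centralizer ((D : Subgroup G) : Set G) = D ∧ Nat.card (Subgroup.normalizer ((D : Subgroup G) : Set G)) = 42 ∧ ¬ IsMulCommutative (Subgroup.normalizer ((D : Subgroup G) : Set G)) := by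
  obtain ⟨P0, h1, h2, h3⟩ := H25.JS.P7.main
  have : Fact (Nat.Prime 7) := ⟨by norm_num⟩
  obtain ⟨φ, hφ⟩ := H25.JS.exists_equiv f P0 D
  refine ⟨by rw [hφ, H25.JS.map_C, h1], by rw [hφ, H25.JS.map_N, H25.JS.card_map, h2],
    fun h => h3 ?_⟩
  rw [hφ, H25.JS.map_N] at h
  exact ⟨⟨fun a b => Subtype.ext (φ.injective (by
    simpa using H24.Abl.comm h ⟨a, a.2, rfl⟩ ⟨b, b.2, rfl⟩))⟩⟩

end H7.J2
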