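import Mathlib
import Cfsg.Prelude.Def_Spor_J3
import Cfsg.Prelude.Def_Sporadic
import Cfsg.Agent.H29.Cover
import Cfsg.Agent.H7.J3D
import Cfsg.Agent.H7.J3X

/-!
# The third Janko group: order, simplicity, triple cover
-/

set_option autoImplicit false
set_option maxRecDepth 100000
set_option linter.all false

namespace H7.J3

open H29 H9 H9.MX H7.JP H7.J3D

theorem bd_quot {G H : Type*} [Group G] [Group H] {e1 : ℕ → G} {e2 : ℕ → H} {L : List ℕ}
    {iv : ℕ → ℕ} (i1 : IvOK e1 iv) (i2 : IvOK e2 iv) (hL : ∀ c ∈ L, iv c ∈ L) {w : List ℕ}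
    (hw : ∀ c ∈ w, c ∈ L) {n k : ℕ} (hb : Bd (gen (fun c => (e1 c, e2 c)) L) (n * k))
    (h2 : ev e2 w = 1) (h1 : orderOf (ev e1 w) = k) (hk : 0 < k) : Bd (gen e2 L) n := by
  have i3 : IvOK (fun c => (e1 c, e2 c)) iv := fun c => by simp only [i1 c, i2 c]; rfl
  obtain ⟨f, hf, hf2⟩ := (Tr.of_hom (e := fun c => (e1 c, e2 c)) (e' := e2) (L := L)
    (MonoidHom.snd G H) fun _ _ => rfl).exists_surj i3 i2 hL
  have := hb.1
  have := Finite.of_surjective f hf
  refine ⟨this, ?_⟩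
  have h3 := f.ker.card_mul_index
  rw [Subgroup.index_ker, MonoidHom.range_eq_top.2 hf, Subgroup.card_top] at h3
  let x : gen (fun c => (e1 c, e2 c)) L := ⟨_, ev_mem_gen hw⟩
  have h4 : Subgroup.zpowers x ≤ f.ker :=
    (Subgroup.zpowers_le).2 (Subtype.ext ((hf2 w hw).trans h2))
  have h5 := Subgroup.card_le_of_le h4
  have h6 : orderOf x = k := by
    rw [← Subgroup.orderOf_coe]
    change orderOf (ev _ w) = k
    rw [ev_prod, h2, Prod.orderOf_mk, h1]; simp
  rw [Nat.card_zpowers, h6] at h5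
  have h7 := hb.2
  rw [← h3] at h7
  have : k * Nat.card (gen e2 L) ≤ k * n := by nlinarith
  exact Nat.le_of_mul_le_mul_left this hk

/-- The central element. -/
def wM : MM := ⟨0, P.one⟩

section Model

variable {K : Type*} [Field K] {ι : Type*} [Fintype ι] [DecidableEq ι] {I : Interp P K ι}
  {G : Type*} [Group G] {val : G →* Matrix ι ι K} {e : ℕ → G}

theorem m_iv (h : Model I val e lE) : IvOK e iv := h.ivOK (by decide +kernel)
theorem m_rel (h : Model I val e lE) : ∀ r ∈ R3, ev e r = 1 := h.rels (by decide +kernel)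
theorem m_z (h : Model I val e lE) : e 5 ≠ 1 := by
  have := h.ne (u := []) (v := [5]) (i := 1) (j := 1) (by decide +kernel)
  simpa using this.symm
theorem m_W (h : Model I val e lE) : val (ev e J3P.W) = I.ω • (1 : Matrix ι ι K) := by
  rw [h.val_ev, Interp.wd_eq (Y := wM) h.sm (by decide +kernel)]
  simpa [wM] using I.mat_scal (c := 0) (d := 1) (by decide) (by decide)
theorem m_cent (h : Model I val e lE) (g : G) : g * ev e J3P.W = ev e J3P.W * g :=
  h.inj (by rw [map_mul, map_mul, m_W h]; simp)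
theorem m_ord (h : Model I val e lE) : orderOf (ev e J3P.W) = 3 := by
  have h2 : (2 : K) = 0 := by simpa [P] using I.char
  have h1 : I.ω * I.ω = 1 + I.ω := by simpa [P] using I.sq
  have : Nonempty ι := ⟨I.ix.symm ⟨0, by decide⟩⟩
  refine orderOf_eq_prime (p := 3) (h.inj ?_) fun h3 => ?_
  · rw [map_pow, m_W h, smul_pow, one_pow, map_one,
      show I.ω ^ 3 = 1 by linear_combination (I.ω + 1) * h1 + I.ω * h2, one_smul]
  · have h4 := m_W h
    rw [h3, map_one] at h4
    obtain ⟨i⟩ := this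
    have h5 := congrFun (congrFun h4 i) i
    simp only [Matrix.one_apply_eq, Matrix.smul_apply, smul_eq_mul, mul_one] at h5
    rw [← h5] at h1
    exact one_ne_zero (α := K) (by linear_combination -h1)

end Model

theorem exists_su : ∃ e : ℕ → Cfsg.SU 9 F4 2,
    Model (interp4 (P := P) (ι := Fin 9) (Equiv.refl _) P_ok ⟨rfl, rfl, rfl⟩)
    ((Cfsg.slToMat 9 F4).comp (Cfsg.SU 9 F4 2).subtype) e lE := by
  obtain ⟨e, he⟩ := exists_SU (q := 2)
    (interp4 (P := P) (ι := Fin 9) (Equiv.refl _) P_ok ⟨rfl, rfl, rfl⟩) (l := lS)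
    (by decide +kernel)
    (det_eq_one _ (by decide +kernel) (ords := [2, 2, 2, 2, 2, 2, 2, 2, 2, 2]) (m := 3)
      (by rw [F4.card]) (by decide +kernel))
    frob4 frob4_eq (d0 := 1) (d1 := 1) (by decide) (lt := ltS) (by decide +kernel)
  exact ⟨_, he.words (wl := [[0], [1], [2], [3], [4], [5], [6], [7], [7, 9], [9, 7], [8]])
    (by decide +kernel)⟩

theorem hW : ∀ c ∈ J3P.W, c ∈ cols := by decide

/-- The presentation of `J₃`. -/
theorem bdJ {G : Type*} [Group G] {e : ℕ → G} (h1 : IvOK e iv)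
    (h2 : ∀ r ∈ R3 ++ [J3P.W], ev e r = 1) : Bd (gen e cols) 50232960 := by
  obtain ⟨e1, he⟩ := exists_su
  have i3 : IvOK (fun c => (e1 c, e c)) iv := fun c => by simp only [m_iv he c, h1 c]; rfl
  refine bd_quot (k := 3) (m_iv he) h1 hL hW (bdR3 i3 (fun r hr => ?_) fun h => ?_)
    (h2 _ (by simp)) (m_ord he) (by decide)
  · rw [ev_prod, m_rel he r hr, h2 r (List.mem_append_left _ hr)]; rfl
  · exact m_z he (congrArg Prod.fst h)

/-- The permutation group on 6156 points. -/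
abbrev S : Type := PG J3P.nl
/-- Its letters. -/
noncomputable abbrev eS : ℕ → S := pe J3P.nl
theorem hiv : IvOK eS iv := ivOK_sub _ J3P.hiv
theorem hR : ∀ r ∈ R3 ++ [J3P.W], ev eS r = 1 := rels_subE _ J3P.hR0
theorem top : gen eS cols = ⊤ := pe_top (by decide +kernel)
theorem card : Nat.card S = 50232960 :=
  (card_eq_of_chain J3X.hn ((bdJ hiv hR).of_top top) (fun c _ => J3X.map (pe_rho _) c) J3X.ch
    (by decide +kernel)).1
instance : Finite S := Nat.finite_of_card_ne_zero (by rw [card]; decide)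
theorem trans : Trans (PG J3P.nl).subtype 6156 :=
  trans_of_reach (by decide) (PG_lt J3P.hn) (fun c _ => J3X.map (pe_rho _) c) J3X.reach
theorem hX : ∀ r ∈ J3X.KR ++ J3X.RL ++ [powW 17 J3X.g17], ev (extE eS 11 J3X.defs) r = 1 :=
  rels_of_faithful (PG_faithful J3P.hn) (J3X.map (pe_rho _)) J3X.hKR
instance simple : IsSimpleGroup S :=
  simple_of_cert (q := 19) (m := 2643840) J3X.hn J3X.prim trans (J3X.map (pe_rho _))
    (PG_faithful J3P.hn) card J3X.wit (ivOK_extE hiv J3X.hext) hX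
    ((gen_extE _ _ (by decide)).trans top)
    (l := [(0, 0), (1, 5), (2, 0), (3, 0), (4, 0), (5, 0), (6, 0), (7, 0), (8, 0)])
    (by decide +kernel) (by norm_num)

theorem trS {G : Type*} [Group G] {e : ℕ → G} (h1 : IvOK e iv)
    (h2 : ∀ r ∈ R3 ++ [J3P.W], ev e r = 1) : Tr eS e cols := by
  have i3 : IvOK (fun c => (eS c, e c)) iv := fun c => by simp only [hiv c, h1 c]; rfl
  have hb := bdJ i3 fun r hr => by rw [ev_prod, hR r hr, h2 r hr]; rfl
  exact ((Tr.of_hom (e' := eS) (MonoidHom.fst S G) fun _ _ => rfl).symm_of_card i3 hiv hL hb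
    (by rw [top, Subgroup.card_top, card])).trans (Tr.of_hom (MonoidHom.snd S G) fun _ _ => rfl)

theorem center_S : Subgroup.center S = ⊥ := center_eq_bot_of_simple (by rw [card]; norm_num)

/-- A group generated by letters that satisfy `R3`, with `W` central of order three. -/
theorem cover {G : Type*} [Group G] {e : ℕ → G} (h1 : IvOK e iv) (h2 : ∀ r ∈ R3, ev e r = 1)
    (ht : gen e cols = ⊤) (hz : e 5 ≠ 1) (hc : ∀ g, g * ev e J3P.W = ev e J3P.W * g)
    (ho : orderOf (ev e J3P.W) = 3) :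
    Nat.card (Subgroup.center G) = 3 ∧ Nat.card G = 150698880 ∧
      Nonempty (S ≃* G ⧸ Subgroup.center G) := by
  let Z := Subgroup.zpowers (ev e J3P.W)
  have hZ : Z ≤ Subgroup.center G := Subgroup.zpowers_le.2 (Subgroup.mem_center_iff.2 hc)
  have : Z.Normal := ⟨fun n hn g => by
    rw [Subgroup.mem_center_iff.1 (hZ hn) g, mul_inv_cancel_right]; exact hn⟩
  have cZ : Nat.card Z = 3 := by rw [Nat.card_zpowers, ho]
  let q := QuotientGroup.mk' Z
  have i2 : IvOK (fun c => q (e c)) iv := ivOK_map q h1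
  have r2 : ∀ r ∈ R3 ++ [J3P.W], ev (fun c => q (e c)) r = 1 := by
    refine rels_map q fun r hr => ?_
    rcases List.mem_append.1 hr with hr | hr
    · rw [h2 r hr]; exact one_mem _
    · rw [List.mem_singleton.1 hr, QuotientGroup.ker_mk']; exact Subgroup.mem_zpowers _
  obtain ⟨f⟩ := equiv_of_simple (trS i2 r2) hiv i2 hL top ⟨[5], by decide, fun h => by
    have h3 : e 5 ∈ Z := by simpa [q] using h
    have h4 : e 5 ^ 2 = 1 := by rw [sq]; nth_rewrite 1 [show e 5 = (e 5)⁻¹ from h1 5]; simp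
    have h5 := orderOf_dvd_natCard (⟨_, h3⟩ : Z)
    rw [cZ, ← Subgroup.orderOf_coe] at h5
    exact hz (orderOf_eq_one_iff.1 (Nat.eq_one_of_dvd_coprimes (by decide : Nat.Coprime 3 2) h5
      (orderOf_dvd_of_pow_eq_one h4)))⟩
  have h6 : gen (fun c => q (e c)) cols = ⊤ := by
    rw [← map_gen, ht, ← MonoidHom.range_eq_map,
      MonoidHom.range_eq_top.2 (QuotientGroup.mk'_surjective Z)]
  let f' : S ≃* G ⧸ Z := f.trans ((MulEquiv.subgroupCongr h6).trans Subgroup.topEquiv)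
  have h7 : Subgroup.center G = Z := by
    refine le_antisymm (fun g hg => ?_) hZ
    have : f'.symm (q g) ∈ Subgroup.center S := Subgroup.mem_center_iff.2 fun s => by
      obtain ⟨t, rfl⟩ := f'.symm.surjective s
      obtain ⟨t, rfl⟩ := QuotientGroup.mk'_surjective Z t
      rw [← map_mul, ← map_mul, ← map_mul, ← map_mul, Subgroup.mem_center_iff.1 hg t]
    rw [center_S, Subgroup.mem_bot, map_eq_one_iff _ f'.symm.injective] at this
    simpa [q] using this
  refine ⟨h7 ▸ cZ, ?_, ⟨f'.trans (QuotientGroup.quotientMulEquivOfEq h7.symm)⟩⟩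
  rw [Subgroup.card_eq_card_quotient_mul_card_subgroup Z, cZ, ← Nat.card_congr f'.toEquiv, card]

theorem cover_sub {K : Type*} [Field K] {ι : Type*} [Fintype ι] [DecidableEq ι]
    {I : Interp P K ι} {G : Type*} [Group G] {val : G →* Matrix ι ι K} {e : ℕ → G}
    (h : Model I val e lE) :
    Nat.card (Subgroup.center (gen e cols)) = 3 ∧ Nat.card (gen e cols) = 150698880 ∧
      Nonempty (S ≃* gen e cols ⧸ Subgroup.center (gen e cols)) := by
  have hm : ∀ c, e c ∈ gen e cols := h.mem_of fun c hc => mem_gen (by revert c; decide)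
  have h' := h.sub hm
  exact cover (m_iv h') (m_rel h') (gen_sub_top hm le_rfl) (m_z h') (m_cent h') (m_ord h')

/-- In any group, letters that satisfy `R3` have `W` central of order dividing three. -/
theorem W_central {G : Type*} [Group G] {e : ℕ → G} (h1 : IvOK e iv) (h2 : ∀ r ∈ R3, ev e r = 1) :
    ev e J3P.W ^ 3 = 1 ∧ ∀ c ∈ cols, e c * ev e J3P.W = ev e J3P.W * e c := by
  obtain ⟨e1, he⟩ := exists_su
  have ht : Tr e1 e cols := tr_of (R' := R3) (fun e a b c => bdR3 a b c) (m_iv he) h1 (m_rel he) h2 (m_z he)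
    (cover_sub he).2.1.ge
  refine ⟨?_, fun c hc => ?_⟩
  · rw [← ev_powW]
    refine ht _ (by decide +kernel) ?_
    rw [ev_powW, ← m_ord he, pow_orderOf_eq_one]
  · have := ht.eq (m_iv he) h1 hL (u := c :: J3P.W) (v := J3P.W ++ [c])
      (fun d hd => (List.mem_cons.1 hd).elim (· ▸ hc) (hW d))
      (fun d hd => (List.mem_append.1 hd).elim (hW d) fun hd => List.mem_singleton.1 hd ▸ hc)
      (by simpa using m_cent he (e1 c))
    simpa using this

/-! ### The printed matrices -/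

open Cfsg.Spor

/-- The numbering of the coordinates. -/
def ix : F9 ≃ Fin 9 where
  toFun z := ⟨3 * z.1.val + z.2.val, by revert z; decide⟩
  invFun i := ((i.val / 3 : ℕ), (i.val : ℕ))
  left_inv := by decide
  right_inv := by decide

variable (F : Type*) [Field F] (ω : F)

/-- The interpretation. -/
def IF (h2 : (2 : F) = 0) (hω : ω ^ 2 + ω + 1 = 0) : Interp P F F9 :=
  ⟨ω, ix, P_ok, by simpa [P] using h2, by
    simp only [P, Nat.cast_one]; linear_combination hω - (ω + 1) * h2⟩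

/-- The code of a power of `ω`. -/
def cw (n : ZMod 3) : ℕ := n.val + 1

/-- Agreement of a packed matrix with a matrix of codes. -/
def Agr (X : MM) (f : F9 → F9 → ℕ) : Prop :=
  ∀ w z, P.ent X.a0 (ix w) (ix z) = f w z % 2 ∧ P.ent X.a1 (ix w) (ix z) = f w z / 2

instance (X : MM) (f : F9 → F9 → ℕ) : Decidable (Agr X f) := by unfold Agr; infer_instance

variable {F ω}

theorem mat_eq (h2 : (2 : F) = 0) (hω : ω ^ 2 + ω + 1 = 0) {X : MM} {f : F9 → F9 → ℕ}
    (h : Agr X f) (w z : F9) :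
    (IF F ω h2 hω).mat X w z = ((f w z % 2 : ℕ) : F) + ((f w z / 2 : ℕ) : F) * ω := by
  rw [← (h w z).1, ← (h w z).2]; rfl

theorem cw_eq (h2 : (2 : F) = 0) (hω : ω ^ 2 + ω + 1 = 0) (n : ZMod 3) :
    ((cw n % 2 : ℕ) : F) + ((cw n / 2 : ℕ) : F) * ω = omegaPow F ω n := by
  have : n.val < 3 := n.val_lt
  rw [cw, omegaPow]
  generalize n.val = k at this
  interval_cases k
  · simp
  · simp
  · norm_num; linear_combination -hω + (ω + 1) * h2

theorem gens_eq (h2 : (2 : F) = 0) (hω : ω ^ 2 + ω + 1 = 0) (M : Matrix F9 F9 F) :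
    M ∈ j3Gens F ω ↔ ∃ c < 43, M = (IF F ω h2 hω).mat (P.lets lG c) := by
  have hA : ∀ Z : F9, (IF F ω h2 hω).mat (P.lets lG (ix Z)) = j3A F ω Z := fun Z => by
    have : ∀ Z : F9, Agr (P.lets lG (ix Z))
        fun w z => if w = z then cw (Z.1 * w.1 + Z.2 * w.2) else 0 := by decide +kernel
    ext w z
    rw [mat_eq h2 hω (this Z), j3A, Matrix.diagonal_apply]
    split_ifs
    · exact cw_eq h2 hω _
    · simp
  have hE : ∀ Z : F9, (IF F ω h2 hω).mat (P.lets lG (9 + ix Z)) = j3E F ω Z := fun Z => by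
    have : ∀ Z : F9, Agr (P.lets lG (9 + ix Z))
        fun w z => if w = z then cw ((Z.1 - w.1) ^ 2 + (Z.2 - w.2) ^ 2) else 0 := by decide +kernel
    ext w z
    rw [mat_eq h2 hω (this Z), j3E, Matrix.diagonal_apply]
    split_ifs
    · exact cw_eq h2 hω _
    · simp
  have hD : ∀ Z : F9, (IF F ω h2 hω).mat (P.lets lG (18 + ix Z)) = j3D F ω Z := fun Z => by
    have : ∀ Z : F9, Agr (P.lets lG (18 + ix Z))
        fun w z => if w = z + Z then (if z = 0 then 1 else if F9.div Z z = F9.I - F9.one then 2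
          else if F9.div Z z = -F9.I - F9.one then 3 else 1) else 0 := by decide +kernel
    ext w z
    rw [mat_eq h2 hω (this Z), j3D, Matrix.of_apply, j3Lam]
    split_ifs <;> norm_num
    linear_combination -hω + (ω + 1) * h2
  have hB : ∀ Z : F9, Z ≠ 0 → (IF F ω h2 hω).mat (P.lets lG (26 + ix Z)) = j3B F Z := fun Z hZ => by
    have : ∀ Z : F9, Z ≠ 0 → Agr (P.lets lG (26 + ix Z))
        fun w z => if w = F9.mul Z z then 1 else 0 := by decide +kernel
    ext w z
    rw [mat_eq h2 hω (this Z hZ), j3B, Matrix.of_apply]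
    split_ifs <;> norm_num
  have hC : ∀ Z : F9, Z ≠ 0 → (IF F ω h2 hω).mat (P.lets lG (34 + ix Z)) = j3C F Z := fun Z hZ => by
    have : ∀ Z : F9, Z ≠ 0 → Agr (P.lets lG (34 + ix Z))
        fun w z => if z = 0 then (if w = 0 then 1 else 0) else if w = -F9.div Z z ∨
          w = F9.mul F9.I (F9.div Z z) ∨ w = -F9.mul F9.I (F9.div Z z) then 1 else 0 := by
      decide +kernel
    ext w z
    rw [mat_eq h2 hω (this Z hZ), j3C, Matrix.of_apply]
    split_ifs <;> norm_num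
  have hlt : ∀ Z : F9, (ix Z : ℕ) < 9 := fun Z => (ix Z).2
  constructor
  · rintro ((((⟨Z, rfl⟩ | ⟨Z, rfl⟩) | ⟨Z, rfl⟩) | ⟨Z, hZ, rfl⟩) | ⟨Z, hZ, rfl⟩) <;>
      have := hlt Z
    · exact ⟨_, by omega, (hA Z).symm⟩
    · exact ⟨_, by omega, (hE Z).symm⟩
    · exact ⟨_, by omega, (hD Z).symm⟩
    · exact ⟨_, by omega, (hB Z hZ).symm⟩
    · exact ⟨_, by omega, (hC Z hZ).symm⟩
  · rintro ⟨c, hc, rfl⟩
    have : ∀ c : ℕ, c < 43 → ∃ Z : F9, c = (ix Z : ℕ) ∨ c = 9 + ix Z ∨ c = 18 + ix Z ∨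
        Z ≠ 0 ∧ (c = 26 + ix Z ∨ c = 34 + ix Z) := by decide +kernel
    obtain ⟨Z, rfl | rfl | rfl | ⟨hZ, rfl | rfl⟩⟩ := this c hc
    · exact Or.inl (Or.inl (Or.inl (Or.inl ⟨Z, (hA Z).symm⟩)))
    · exact Or.inl (Or.inl (Or.inl (Or.inr ⟨Z, (hE Z).symm⟩)))
    · exact Or.inl (Or.inl (Or.inr ⟨Z, (hD Z).symm⟩))
    · exact Or.inl (Or.inr ⟨Z, hZ, hB Z hZ⟩)
    · exact Or.inr ⟨Z, hZ, hC Z hZ⟩

theorem lets_app {c : ℕ} (hc : c < 43) : P.lets (lG ++ lI) c = P.lets lG c :=
  nth_append_left _ _ _ hc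

theorem exists_model (h2 : (2 : F) = 0) (hω : ω ^ 2 + ω + 1 = 0) :
    ∃ e0 e : ℕ → GL F9 F, Model (IF F ω h2 hω) (Units.coeHom _) e0 (lG ++ lI) ∧
      (∀ c, e0 c ∈ threeJ3 F ω) ∧ Model (IF F ω h2 hω) (Units.coeHom _) e lE ∧
      gen e cols = threeJ3 F ω := by
  obtain ⟨e0, h0⟩ := exists_GL (IF F ω h2 hω) (l := lG ++ lI) (by decide +kernel) (ivl := iv0)
    (by decide +kernel)
  have i0 := h0.ivOK (ivl := iv0) (by decide +kernel)
  have a1 : ∀ c < 43, e0 c ∈ threeJ3 F ω := fun c hc => Subgroup.subset_closure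
    ((gens_eq h2 hω _).2 ⟨c, hc, (h0.eq c).trans (by rw [lets_app hc])⟩)
  have a2 : ∀ c, e0 c ∈ threeJ3 F ω := h0.mem_of fun c hc => by
    have : ∀ c < (lG ++ lI).length, c < 43 ∨ ivOf iv0 c < 43 := by decide +kernel
    rcases this c hc with h | h
    · exact a1 c h
    · exact (inv_mem_iff).1 (i0 c ▸ a1 _ h)
  have h1 := h0.words (wl := E2G) (l' := lE) (by decide +kernel)
  refine ⟨e0, _, h0, a2, h1, le_antisymm (gen_le.2 fun c _ => ev_mem fun d _ => a2 d) ?_⟩
  have h3 := h1.words (wl := G2E) (l' := lG) (by decide +kernel)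
  refine (Subgroup.closure_le _).2 fun g hg => ?_
  obtain ⟨c, hc, h4⟩ := (gens_eq h2 hω _).1 hg
  rw [show g = wE _ G2E c from Units.ext (h4.trans (h3.eq c).symm)]
  have : ∀ c < 43, ∀ d ∈ nth [] G2E c, d ∈ cols := by decide +kernel
  exact ev_mem_gen (this c hc)

theorem two_eq_zero {F : Type*} [Field F] [Fintype F] (hF : Fintype.card F = 4) : (2 : F) = 0 := by
  have h := FiniteField.cast_card_eq_zero F
  rw [hF] at h
  exact mul_self_eq_zero.1 (by rw [← h]; norm_num)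

theorem three (h2 : (2 : F) = 0) (hω : ω ^ 2 + ω + 1 = 0) :
    Nat.card (Subgroup.center (threeJ3 F ω)) = 3 ∧ Nat.card (threeJ3 F ω) = 150698880 ∧
      Nonempty (S ≃* J3 F ω) := by
  obtain ⟨-, e, -, -, h, h1⟩ := exists_model h2 hω
  have := cover_sub h
  rwa [h1] at this

theorem isoJ3 {G : Type*} [Group G] (f : S ≃* G) : IsoJ3 G := by
  obtain ⟨g⟩ := (three (F := F4) (ω := F4.mk 2) (by decide) (by decide)).2.2
  exact ⟨F4, inferInstance, inferInstance, F4.mk 2, F4.card, by decide, ⟨f.symm.trans g⟩⟩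

theorem isJ3 {G : Type*} [Group G] (f : S ≃* G) : Cfsg.IsJ3 G :=
  ⟨f.symm.isSimpleGroup, by rw [← Nat.card_congr f.toEquiv, card]⟩

end H7.J3
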