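import Mathlib
import Cfsg.Agent.H9.CG2
import Cfsg.Agent.H29.Ext

set_option autoImplicit false
set_option maxRecDepth 100000
set_option Elab.async false
set_option linter.all false

namespace H7.L16T0

open H29 H9.MX

noncomputable def n0 : Net := ben 5 [(nat_lit 0x43c3),
 (nat_lit 0xabb1),
 (nat_lit 0x3b08),
 (nat_lit 0x121),
 (nat_lit 0x1)]
noncomputable def t0 : List ℕ := [(nat_lit 0x11000),
 (nat_lit 0x0),
 (nat_lit 0x0),
 (nat_lit 0x13100)]
noncomputable def d0 : ℕ := (nat_lit 0x8ca4)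
noncomputable def n1 : Net := ben 5 [(nat_lit 0xa184),
 (nat_lit 0x4165),
 (nat_lit 0x1801),
 (nat_lit 0x111),
 (nat_lit 0x1)]
noncomputable def t1 : List ℕ := [(nat_lit 0x2a32),
 (nat_lit 0x8224),
 (nat_lit 0x2e10),
 (nat_lit 0xa800)]
noncomputable def d1 : ℕ := (nat_lit 0x14148)
noncomputable def n2 : Net := n1.rev
noncomputable def t2 : List ℕ := mapPull n2 t1
noncomputable def d2 : ℕ := (nat_lit 0x3000)
noncomputable def n3 : Net := ben 5 [(nat_lit 0xc0d),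
 (nat_lit 0x2050),
 (nat_lit 0xbf04),
 (nat_lit 0x1b1),
 (nat_lit 0x1)]
noncomputable def t3 : List ℕ := [(nat_lit 0xa484),
 (nat_lit 0x1b140),
 (nat_lit 0x4940),
 (nat_lit 0xe800)]
noncomputable def d3 : ℕ := (nat_lit 0x212)
def ivl : List ℕ := [0, 2, 1, 3]
def cols : List ℕ := [0, 1, 2, 3]
def hcols : List ℕ := [0, 1, 2]
def G0 : List (List ℕ) := [[1, 1, 1, 1, 1, 1, 1, 1, 1, 1, 1, 1, 1, 1, 1],
 [0, 1, 0, 2, 0, 1, 0, 2],
 [0, 1, 1, 0, 2, 2, 0, 1, 1, 0, 2, 2],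
 [0, 1, 1, 1, 0, 2, 2, 2, 0, 1, 1, 1, 0, 2, 2, 2],
 [0, 1, 0, 1, 1, 1, 0, 2, 2, 2, 2],
 [3, 1, 3, 1],
 [3, 0, 3, 0, 3, 0]]
def R0 : List (List ℕ) := G0
theorem hii : ∀ c, ivOf ivl (ivOf ivl c) = c := ivOf_ivOf (by decide +kernel)
theorem der : Derives (ivOf ivl) R0 R0 := Derives.refl _ _
noncomputable def nl : List Net := [n0, n1, n2, n3]
noncomputable def T : TCData := ⟨17, 17, 5, 4, nth Net.nil nl, ivOf ivl, cols, hcols, R0,
  nth [] [t0, t1, t2, t3], nth 0 [d0, d1, d2, d3]⟩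
theorem hn : NetsOK 17 (nth Net.nil nl) := netsOK_of_all (by decide +kernel)
theorem hiv : IvOK (sg (nth Net.nil nl)) (ivOf ivl) :=
  ivOK_of_chk (k := 5) hn (by decide) (n := 4) (by decide) (by decide) (allN_true.1 (by decide +kernel))
theorem hb : T.Basic := TCData.basic_of_chk hn hiv (by decide +kernel)
theorem hG0 : ∀ r ∈ G0, ev (sg (nth Net.nil nl)) r = 1 :=
  rels_of_chk (k := 5) hn (by decide) hiv (allN_true.1 (by decide +kernel))
noncomputable def s0 : List TCData.Step := [.pts 1 2 0 9 [12],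
 .pts 4 2 0 8 [8]]
noncomputable def s1 : List TCData.Step := []
noncomputable def s2 : List TCData.Step := [.pts 1 1 0 3 [7],
 .pts 1 1 0 10 [16],
 .pts 4 4 0 5 [6],
 .pts 4 4 0 13 [14, 15],
 .all 5 1 0]
noncomputable def s3 : List TCData.Step := [.all 5 0 0,
 .pts 6 0 0 1 [2, 7],
 .pts 6 0 0 12 [11]]
theorem hR0 : ∀ r ∈ R0, ev (sg (nth Net.nil nl)) r = 1 := hG0
theorem col0 : T.ColOK 0 := TCData.colOK_of_chk (U := (T.stepsMask 0 s0 (T.mask0 0))) (V := (T.stepsMask 0 s0 (T.mask0 0))) hb (TCData.cov_stepsMask hb (by decide) s0 _ (T.cov_mask0 0)) (TCData.cov_stepsMask hb (by decide) s0 _ (T.cov_mask0 0)) (by decide +kernel)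
theorem col1 : T.ColOK 1 := TCData.colOK_of_chk (U := (T.stepsMask 1 s1 (T.mask0 1))) (V := (T.stepsMask 2 s2 (T.mask0 2))) hb (TCData.cov_stepsMask hb (by decide) s1 _ (T.cov_mask0 1)) (TCData.cov_stepsMask hb (by decide) s2 _ (T.cov_mask0 2)) (by decide +kernel)
theorem col2 : T.ColOK 2 := TCData.colOK_of_chk (U := (T.stepsMask 2 s2 (T.mask0 2))) (V := (T.stepsMask 1 s1 (T.mask0 1))) hb (TCData.cov_stepsMask hb (by decide) s2 _ (T.cov_mask0 2)) (TCData.cov_stepsMask hb (by decide) s1 _ (T.cov_mask0 1)) (by decide +kernel)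
theorem col3 : T.ColOK 3 := TCData.colOK_of_chk (U := (T.stepsMask 3 s3 (T.mask0 3))) (V := (T.stepsMask 3 s3 (T.mask0 3))) hb (TCData.cov_stepsMask hb (by decide) s3 _ (T.cov_mask0 3)) (TCData.cov_stepsMask hb (by decide) s3 _ (T.cov_mask0 3)) (by decide +kernel)
theorem ok : T.OK := ⟨hb, TCData.treeOK_of_chk hn (by decide +kernel), (List.forall_mem_cons.2 ⟨col0, (List.forall_mem_cons.2 ⟨col1, (List.forall_mem_cons.2 ⟨col2, (List.forall_mem_cons.2 ⟨col3, (fun _ h => absurd h List.not_mem_nil)⟩)⟩)⟩)⟩), der _ _ hiv hR0⟩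
theorem bd {G : Type} [Group G] {e : ℕ → G} (h1 : IvOK e (ivOf ivl)) (h2 : ∀ r ∈ R0, ev e r = 1)
    {m : ℕ} (h : Bd (gen e hcols) m) : Bd (gen e cols) (17 * m) := ok.bd h1 (der G e h1 h2) h
theorem cm {G : Type} [Group G] {e : ℕ → G} (h1 : IvOK e (ivOf ivl)) (h2 : ∀ r ∈ R0, ev e r = 1)
    (h3 : gen e cols = ⊤) {ρ : G →* Equiv.Perm ℕ} (h4 : ∀ c, ρ (e c) = sg (nth Net.nil nl) c) :
    CosetModel ρ (gen e hcols) 17 := ok.cosetModel h1 (der G e h1 h2) h3 fun c _ => h4 c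

end H7.L16T0
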