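import Mathlib
import Cfsg.Agent.H9.CG2
import Cfsg.Agent.H29.Ext

set_option autoImplicit false
set_option maxRecDepth 100000
set_option Elab.async false
set_option linter.all false

namespace H7.L16T1

open H29 H9.MX

noncomputable def n0 : Net := ben 4 [(nat_lit 0x73c1),
 (nat_lit 0xf550),
 (nat_lit 0x3f0c),
 (nat_lit 0x30)]
noncomputable def t0 : List ℕ := [(nat_lit 0x0),
 (nat_lit 0x0),
 (nat_lit 0x480)]
noncomputable def d0 : ℕ := (nat_lit 0xb152)
noncomputable def n1 : Net := ben 4 [(nat_lit 0x9a98),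
 (nat_lit 0x2b12),
 (nat_lit 0x804),
 (nat_lit 0x80)]
noncomputable def t1 : List ℕ := [(nat_lit 0x9510),
 (nat_lit 0x3008),
 (nat_lit 0xa500)]
noncomputable def d1 : ℕ := (nat_lit 0x48a4)
noncomputable def n2 : Net := n1.rev
noncomputable def t2 : List ℕ := mapPull n2 t1
noncomputable def d2 : ℕ := (nat_lit 0x608)
def ivl : List ℕ := [0, 2, 1, 3]
def cols : List ℕ := [0, 1, 2]
def hcols : List ℕ := [1, 2]
def G0 : List (List ℕ) := [[1, 1, 1, 1, 1, 1, 1, 1, 1, 1, 1, 1, 1, 1, 1],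
 [0, 1, 0, 2, 0, 1, 0, 2],
 [0, 1, 1, 0, 2, 2, 0, 1, 1, 0, 2, 2],
 [0, 1, 1, 1, 0, 2, 2, 2, 0, 1, 1, 1, 0, 2, 2, 2],
 [0, 1, 0, 1, 1, 1, 0, 2, 2, 2, 2]]
def R0 : List (List ℕ) := G0
theorem hii : ∀ c, ivOf ivl (ivOf ivl c) = c := ivOf_ivOf (by decide +kernel)
theorem der : Derives (ivOf ivl) R0 R0 := Derives.refl _ _
noncomputable def nl : List Net := [n0, n1, n2]
noncomputable def T : TCData := ⟨16, 16, 4, 3, nth Net.nil nl, ivOf ivl, cols, hcols, R0,
  nth [] [t0, t1, t2], nth 0 [d0, d1, d2]⟩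
theorem hn : NetsOK 16 (nth Net.nil nl) := netsOK_of_all (by decide +kernel)
theorem hiv : IvOK (sg (nth Net.nil nl)) (ivOf ivl) :=
  ivOK_of_chk (k := 4) hn (by decide) (n := 4) (by decide) (by decide) (allN_true.1 (by decide +kernel))
theorem hb : T.Basic := TCData.basic_of_chk hn hiv (by decide +kernel)
theorem hG0 : ∀ r ∈ G0, ev (sg (nth Net.nil nl)) r = 1 :=
  rels_of_chk (k := 4) hn (by decide) hiv (allN_true.1 (by decide +kernel))
noncomputable def s0 : List TCData.Step := [.pts 4 2 0 4 [7]]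
noncomputable def s1 : List TCData.Step := []
noncomputable def s2 : List TCData.Step := [.all 1 1 0,
 .pts 2 2 0 5 [11, 12, 14],
 .pts 4 4 0 2 [5]]
theorem hR0 : ∀ r ∈ R0, ev (sg (nth Net.nil nl)) r = 1 := hG0
theorem col0 : T.ColOK 0 := TCData.colOK_of_chk (U := (T.stepsMask 0 s0 (T.mask0 0))) (V := (T.stepsMask 0 s0 (T.mask0 0))) hb (TCData.cov_stepsMask hb (by decide) s0 _ (T.cov_mask0 0)) (TCData.cov_stepsMask hb (by decide) s0 _ (T.cov_mask0 0)) (by decide +kernel)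
theorem col1 : T.ColOK 1 := TCData.colOK_of_chk (U := (T.stepsMask 1 s1 (T.mask0 1))) (V := (T.stepsMask 2 s2 (T.mask0 2))) hb (TCData.cov_stepsMask hb (by decide) s1 _ (T.cov_mask0 1)) (TCData.cov_stepsMask hb (by decide) s2 _ (T.cov_mask0 2)) (by decide +kernel)
theorem col2 : T.ColOK 2 := TCData.colOK_of_chk (U := (T.stepsMask 2 s2 (T.mask0 2))) (V := (T.stepsMask 1 s1 (T.mask0 1))) hb (TCData.cov_stepsMask hb (by decide) s2 _ (T.cov_mask0 2)) (TCData.cov_stepsMask hb (by decide) s1 _ (T.cov_mask0 1)) (by decide +kernel)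
theorem ok : T.OK := ⟨hb, TCData.treeOK_of_chk hn (by decide +kernel), (List.forall_mem_cons.2 ⟨col0, (List.forall_mem_cons.2 ⟨col1, (List.forall_mem_cons.2 ⟨col2, (fun _ h => absurd h List.not_mem_nil)⟩)⟩)⟩), der _ _ hiv hR0⟩
theorem bd {G : Type} [Group G] {e : ℕ → G} (h1 : IvOK e (ivOf ivl)) (h2 : ∀ r ∈ R0, ev e r = 1)
    {m : ℕ} (h : Bd (gen e hcols) m) : Bd (gen e cols) (16 * m) := ok.bd h1 (der G e h1 h2) h
theorem cm {G : Type} [Group G] {e : ℕ → G} (h1 : IvOK e (ivOf ivl)) (h2 : ∀ r ∈ R0, ev e r = 1)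
    (h3 : gen e cols = ⊤) {ρ : G →* Equiv.Perm ℕ} (h4 : ∀ c, ρ (e c) = sg (nth Net.nil nl) c) :
    CosetModel ρ (gen e hcols) 16 := ok.cosetModel h1 (der G e h1 h2) h3 fun c _ => h4 c

end H7.L16T1
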