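import Mathlib
import Cfsg.Agent.H7.J3
import Cfsg.Agent.H7.L16T0
import Cfsg.Agent.H7.L16T1
import Cfsg.Agent.H7.L16T2
import Cfsg.Agent.H7.Fix
import Cfsg.Agent.H7.SL

/-! The subgroup `SL(2,16):2` of the third Janko group. -/

set_option autoImplicit false
set_option maxRecDepth 100000
set_option linter.all false

namespace H7.J3

open H29 H9.MX Matrix

namespace L16

theorem ubd : UBd (ivOf L16T0.ivl) L16T0.R0 L16T0.cols 4080 := fun _ _ _ hi hR =>
  L16T0.bd hi hR (L16T1.bd hi (rels_sub hR (by decide +kernel))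
    (L16T2.bd hi (rels_sub hR (by decide +kernel)) (bd_nil _)))

theorem hL : ∀ c ∈ L16T0.cols, ivOf L16T0.ivl c ∈ L16T0.cols := by decide

section Field

variable {K : Type} [Field K] [Fintype K]

theorem exists_zeta (hK : Fintype.card K = 16) (h2 : (2 : K) = 0) :
    ∃ ζ : K, ζ ≠ 0 ∧ ζ ^ 4 + ζ + 1 = 0 ∧ ∀ x : K, x ≠ 0 → ∃ n : ℕ, x = ζ ^ n := by
  classical
  obtain ⟨g, hg⟩ := IsCyclic.exists_generator (α := Kˣ)
  have ho : orderOf g = 15 := by
    rw [orderOf_eq_card_of_forall_mem_zpowers hg, Nat.card_eq_fintype_card, Fintype.card_units, hK]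
  have key : ∀ u : Kˣ, (∀ x, x ∈ Subgroup.zpowers u) → ∀ x : K, x ≠ 0 → ∃ n : ℕ, x = (u : K) ^ n :=
    fun u hu x hx => by
      obtain ⟨n, hn⟩ := (mem_powers_iff_mem_zpowers).2 (hu (Units.mk0 x hx))
      exact ⟨n, by simpa using congrArg Units.val hn.symm⟩
  have h15 : (g : K) ^ 15 = 1 := by rw [← Units.val_pow_eq_pow_val, ← ho, pow_orderOf_eq_one]; rfl
  have hne : ∀ m, 0 < m → m < 15 → (g : K) ^ m - 1 ≠ 0 := fun m h0 h1 h => by
    rw [sub_eq_zero, ← Units.val_pow_eq_pow_val, Units.val_eq_one] at h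
    exact pow_ne_one_of_lt_orderOf h0.ne' (ho ▸ h1) h
  have h1 : ((g : K) ^ 5 - 1) * (((g : K) ^ 3 - 1) *
      (((g : K) ^ 4 + g + 1) * ((g : K) ^ 4 + g ^ 3 + 1))) = 0 := by
    linear_combination ((g : K) - 1) * h15 + ((g : K) ^ 5 - 1) * ((g : K) ^ 3 - 1) *
      ((g : K) ^ 7 + 2 * g ^ 4 + g) * h2
  rcases mul_eq_zero.1 ((mul_eq_zero.1 ((mul_eq_zero.1 h1).resolve_left
    (hne 5 (by decide) (by decide)))).resolve_left (hne 3 (by decide) (by decide))) with h | h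
  · exact ⟨g, g.ne_zero, h, key g hg⟩
  · refine ⟨(g⁻¹ : Kˣ), (g⁻¹).ne_zero, ?_, key g⁻¹ (by simpa using hg)⟩
    have := g.ne_zero
    rw [Units.val_inv_eq_inv_val]
    field_simp
    linear_combination h

/-- unipotent elements -/
def uu (x : K) : SpecialLinearGroup (Fin 2) K := ⟨!![1, x; 0, 1], by simp [det_fin_two]⟩
/-- diagonal elements -/
def hh {x : K} (hx : x ≠ 0) : SpecialLinearGroup (Fin 2) K :=
  ⟨!![x, 0; 0, x⁻¹], by simp [det_fin_two, hx]⟩
/-- the Weyl element -/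
def ww (h2 : (2 : K) = 0) : SpecialLinearGroup (Fin 2) K :=
  ⟨!![0, 1; 1, 0], by rw [det_fin_two]; simp; linear_combination -h2⟩

theorem cu (x : K) : (uu x : Matrix (Fin 2) (Fin 2) K) = !![1, x; 0, 1] := rfl
theorem ch {x : K} (hx : x ≠ 0) : (hh hx : Matrix (Fin 2) (Fin 2) K) = !![x, 0; 0, x⁻¹] := rfl
theorem cw' (h2 : (2 : K) = 0) : (ww h2 : Matrix (Fin 2) (Fin 2) K) = !![0, 1; 1, 0] := rfl

theorem uu_mul (x y : K) : uu x * uu y = uu (x + y) := by
  ext i j; fin_cases i <;> fin_cases j <;> simp [cu, add_comm]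
theorem uu_zero : uu (0 : K) = 1 := by
  ext i j; fin_cases i <;> fin_cases j <;> simp [cu]
theorem hh_mul {x y : K} (hx : x ≠ 0) (hy : y ≠ 0) : hh hx * hh hy = hh (mul_ne_zero hx hy) := by
  ext i j; fin_cases i <;> fin_cases j <;> simp [ch, mul_comm]
theorem hh_one : hh (one_ne_zero (α := K)) = 1 := by
  ext i j; fin_cases i <;> fin_cases j <;> simp [ch]
theorem hh_congr {x y : K} (hx : x ≠ 0) (hy : y ≠ 0) (h : x = y) : hh hx = hh hy := by
  subst h; rfl
theorem hh_inv {x : K} (hx : x ≠ 0) : hh (inv_ne_zero hx) = (hh hx)⁻¹ :=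
  eq_inv_of_mul_eq_one_left (by rw [hh_mul, ← hh_one]; exact hh_congr _ _ (inv_mul_cancel₀ hx))
theorem hh_pow {x : K} (hx : x ≠ 0) : ∀ n : ℕ, hh hx ^ n = hh (pow_ne_zero n hx)
  | 0 => by rw [pow_zero, ← hh_one]; exact hh_congr _ _ (pow_zero _).symm
  | n + 1 => by rw [pow_succ, hh_pow hx n, hh_mul]; exact hh_congr _ _ (pow_succ _ _).symm
theorem hh_uu {x : K} (hx : x ≠ 0) (y : K) : hh hx * uu y = uu (x ^ 2 * y) * hh hx := by
  ext i j; fin_cases i <;> fin_cases j <;> simp [ch, cu]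
  field_simp
theorem hh_uu' {x : K} (hx : x ≠ 0) (y : K) (g : SpecialLinearGroup (Fin 2) K) :
    hh hx * (uu y * g) = uu (x ^ 2 * y) * (hh hx * g) := by rw [← mul_assoc, hh_uu, mul_assoc]
theorem uu_mul' (x y : K) (g : SpecialLinearGroup (Fin 2) K) :
    uu x * (uu y * g) = uu (x + y) * g := by rw [← mul_assoc, uu_mul]
theorem ww_sq (h2 : (2 : K) = 0) : ww h2 * ww h2 = 1 := by
  ext i j; fin_cases i <;> fin_cases j <;> simp [cw']

/-- the letters -/
def eK (h2 : (2 : K) = 0) {ζ : K} (hζ : ζ ≠ 0) : ℕ → SpecialLinearGroup (Fin 2) K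
  | 0 => uu 1
  | 1 => hh hζ
  | 2 => (hh hζ)⁻¹
  | 3 => ww h2
  | _ => 1

theorem ivK (h2 : (2 : K) = 0) {ζ : K} (hζ : ζ ≠ 0) : IvOK (eK h2 hζ) (ivOf L16T0.ivl)
  | 0 => eq_inv_of_mul_eq_one_left (by
      change uu 1 * uu 1 = 1
      rw [uu_mul, one_add_one_eq_two, h2, uu_zero])
  | 1 => rfl
  | 2 => (inv_inv _).symm
  | 3 => eq_inv_of_mul_eq_one_left (ww_sq h2)
  | _ + 4 => inv_one.symm

theorem relK (h2 : (2 : K) = 0) {ζ : K} (hζ : ζ ≠ 0) (h4 : ζ ^ 4 + ζ + 1 = 0) :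
    ∀ r ∈ L16T0.R0, ev (eK h2 hζ) r = 1 := by
  have h15 : ζ ^ 15 = 1 := by
    linear_combination (ζ ^ 11 - ζ ^ 8 - ζ ^ 7 + ζ ^ 5 + 2 * ζ ^ 4 + ζ ^ 3 - ζ ^ 2 - 3 * ζ - 3) * h4 +
      (2 * ζ ^ 2 + 3 * ζ + 1) * h2
  intro r hr
  simp only [L16T0.R0, L16T0.G0, List.mem_cons, List.not_mem_nil, or_false] at hr
  rcases hr with rfl | rfl | rfl | rfl | rfl | rfl | rfl
  · have : hh hζ ^ 15 = 1 := by rw [hh_pow, ← hh_one]; exact hh_congr _ _ h15
    simpa [eK, pow_succ'] using this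
  · simp only [ev_cons, ev_nil, eK, hh_uu', mul_inv_cancel_left, uu_mul', mul_one, mul_inv_cancel,
      uu_mul]
    rw [← uu_zero]; congr 1; linear_combination (1 + ζ ^ 2) * h2
  · simp only [ev_cons, ev_nil, eK, hh_uu', mul_inv_cancel_left, uu_mul', mul_one, mul_inv_cancel,
      uu_mul]
    rw [← uu_zero]; congr 1; linear_combination (1 + ζ ^ 4) * h2
  · simp only [ev_cons, ev_nil, eK, hh_uu', mul_inv_cancel_left, uu_mul', mul_one, mul_inv_cancel,
      uu_mul]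
    rw [← uu_zero]; congr 1; linear_combination (1 + ζ ^ 6) * h2
  · simp only [ev_cons, ev_nil, eK, hh_uu', mul_inv_cancel_left, uu_mul', mul_one, mul_inv_cancel,
      uu_mul]
    rw [← uu_zero]; congr 1
    linear_combination (ζ ^ 4 + ζ + 1) * h4 - (ζ ^ 5 + ζ ^ 4 + ζ) * h2
  · ext i j; fin_cases i <;> fin_cases j <;> simp [eK, ch, cw', hζ]
  · ext i j; fin_cases i <;> fin_cases j <;> simp [eK, cu, cw', one_add_one_eq_two, h2]

theorem topK (h2 : (2 : K) = 0) {ζ : K} (hζ : ζ ≠ 0) (h15 : ∀ x : K, x ≠ 0 → x ^ 15 = 1)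
    (hg : ∀ x : K, x ≠ 0 → ∃ n : ℕ, x = ζ ^ n) : gen (eK h2 hζ) L16T0.cols = ⊤ := by
  have mu : uu 1 ∈ gen (eK h2 hζ) L16T0.cols := mem_gen (c := 0) (by decide)
  have mw : ww h2 ∈ gen (eK h2 hζ) L16T0.cols := mem_gen (c := 3) (by decide)
  have mh : ∀ {x : K} (hx : x ≠ 0), hh hx ∈ gen (eK h2 hζ) L16T0.cols := fun {x} hx => by
    obtain ⟨n, rfl⟩ := hg x hx
    rw [← hh_pow hζ]
    exact pow_mem (mem_gen (c := 1) (by decide)) n
  have mu' : ∀ x : K, uu x ∈ gen (eK h2 hζ) L16T0.cols := fun x => by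
    by_cases hx : x = 0
    · rw [hx, uu_zero]; exact one_mem _
    · have h1 := hh_uu (pow_ne_zero 8 hx) 1
      rw [show (x ^ 8) ^ 2 * 1 = x by linear_combination x * h15 x hx, ← mul_inv_eq_iff_eq_mul] at h1
      rw [← h1]
      exact mul_mem (mul_mem (mh _) mu) (inv_mem (mh _))
  rw [eq_top_iff]
  intro A _
  have hd := A.det_coe
  rw [det_fin_two] at hd
  by_cases hc : A 1 0 = 0
  · have ha : A 0 0 ≠ 0 := fun h => by simp [h, hc] at hd
    have : A = hh ha * uu (A 0 1 / A 0 0) := by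
      ext i j; fin_cases i <;> fin_cases j <;> simp [ch, cu, hc]
      · field_simp
      · field_simp; rw [hc] at hd; linear_combination hd
    rw [this]; exact mul_mem (mh _) (mu' _)
  · have : A = uu (A 0 0 / A 1 0) * (ww h2 * (hh hc * uu (A 1 1 / A 1 0))) := by
      ext i j; fin_cases i <;> fin_cases j <;> simp [ch, cu, cw']
      · field_simp
      · field_simp; linear_combination -hd - h2
      · field_simp
    rw [this]; exact mul_mem (mu' _) (mul_mem mw (mul_mem (mh _) (mu' _)))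

end Field

/-- the letters in the Janko group -/
noncomputable def eJ : ℕ → S
  | 0 => extE eS 11 J3X.defs 11
  | 1 => extE eS 11 J3X.defs 13
  | 2 => extE eS 11 J3X.defs 14
  | 3 => extE eS 11 J3X.defs 2
  | _ => 1

theorem ivX : IvOK (extE eS 11 J3X.defs) (ivOf J3X.ivx) := ivOK_extE hiv J3X.hext

theorem ivJ : IvOK eJ (ivOf L16T0.ivl)
  | 0 => eq_inv_of_mul_eq_one_left (by
      change extE eS 11 J3X.defs 11 * extE eS 11 J3X.defs 11 = 1
      simpa using hX [11, 11] (by decide +kernel))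
  | 1 => ivX 13
  | 2 => ivX 14
  | 3 => ivX 2
  | _ + 4 => inv_one.symm

theorem relJ : ∀ r ∈ L16T0.R0, ev eJ r = 1 := fun r hr => by
  have h1 : ∀ r ∈ L16T0.R0, (∀ c ∈ r, c < 4) ∧ r.map (nth 0 [11, 13, 14, 2]) ∈
      J3X.KR ++ J3X.RL ++ [powW 17 J3X.g17] := by decide +kernel
  rw [← hX _ (h1 r hr).2, ev, ev, List.map_map]
  congr 1
  refine List.map_congr_left fun c hc => ?_
  have := (h1 r hr).1 c hc
  interval_cases c <;> rfl

theorem genJ : gen eJ L16T0.cols = gen (extE eS 11 J3X.defs) [11, 13, 14, 2] := by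
  refine le_antisymm (gen_le.2 fun c hc => ?_) (gen_le.2 fun c hc => ?_) <;>
    simp only [L16T0.cols, List.mem_cons, List.not_mem_nil, or_false] at hc <;>
    rcases hc with rfl | rfl | rfl | rfl
  exacts [mem_gen (c := 11) (by decide), mem_gen (c := 13) (by decide),
    mem_gen (c := 14) (by decide), mem_gen (c := 2) (by decide), mem_gen (c := 0) (by decide),
    mem_gen (c := 1) (by decide), mem_gen (c := 2) (by decide), mem_gen (c := 3) (by decide)]

theorem cardJ : 4080 ≤ Nat.card (gen eJ L16T0.cols) := by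
  rw [genJ]
  exact le_card_gen_of_chain (k := 13) (ch := [(759, 12, 2040, [11]), (1, 1, 2, [])]) J3X.hn
    (PG_faithful J3P.hn) (fun c _ => J3X.map (pe_rho _) c) (by decide +kernel)

theorem le_stab : gen eJ L16T0.cols ≤ stab (PG J3P.nl).subtype 0 := by
  rw [genJ]
  exact gen_le.2 fun c hc => by
    rw [mem_stab, J3X.map (pe_rho _) c]
    exact J3X.prim.fix c ((by decide : ∀ c ∈ [11, 13, 14, 2], c ∈ [11, 13, 14, 2, 15]) c hc)

theorem card_stab : Nat.card (stab (PG J3P.nl).subtype 0) = 8160 := by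
  have := J3.trans.card_eq
  rw [card] at this
  exact Nat.eq_of_mul_eq_mul_left (by decide : 0 < 6156) this.symm

end L16

theorem exists_sl216 {G : Type*} [Group G] (f : S ≃* G) : ∃ (H : Subgroup G) (N : Subgroup H) (K : Type) (_ : Field K) (_ : Fintype K), N.Normal ∧ N.index = 2 ∧ Fintype.card K = 16 ∧ Nonempty (N ≃* Matrix.SpecialLinearGroup (Fin 2) K) := by
  classical
  have : Fact (Nat.Prime 2) := ⟨by norm_num⟩
  let K := GaloisField 2 4
  let _ : Fintype K := Fintype.ofFinite K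
  have hK : Fintype.card K = 16 := by
    rw [← Nat.card_eq_fintype_card]; exact GaloisField.card 2 4 (by norm_num)
  have h2 : (2 : K) = 0 := CharP.cast_eq_zero K 2
  obtain ⟨ζ, hζ, h4, hg⟩ := L16.exists_zeta hK h2
  have top := L16.topK h2 hζ (fun x hx => by simpa [hK] using FiniteField.pow_card_sub_one_eq_one x hx) hg
  have cK : 4080 ≤ Nat.card (gen (L16.eK h2 hζ) L16T0.cols) := by
    rw [top, Subgroup.card_top, H7.card_sl_two hK]; norm_num
  obtain ⟨φ, -⟩ := (tr_of_bd L16.ubd L16.hL L16.ivJ (L16.ivK h2 hζ) L16.relJ (L16.relK h2 hζ h4)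
    L16.cardJ).equiv (tr_of_bd L16.ubd L16.hL (L16.ivK h2 hζ) L16.ivJ (L16.relK h2 hζ h4) L16.relJ
      cK) L16.ivJ (L16.ivK h2 hζ) L16.hL
  have c1 : Nat.card (gen L16.eJ L16T0.cols) = 4080 :=
    le_antisymm (L16.ubd _ _ L16.ivJ L16.relJ).2 L16.cardJ
  have hle := Subgroup.map_mono (f := f.toMonoidHom) L16.le_stab
  have ψ := Subgroup.subgroupOfEquivOfLe hle
  have hi : (((gen L16.eJ L16T0.cols).map f.toMonoidHom).subgroupOf
      ((stab (PG J3P.nl).subtype 0).map f.toMonoidHom)).index = 2 := by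
    have := (((gen L16.eJ L16T0.cols).map f.toMonoidHom).subgroupOf
      ((stab (PG J3P.nl).subtype 0).map f.toMonoidHom)).card_mul_index
    rw [Nat.card_congr ψ.toEquiv, Subgroup.card_map_of_injective f.injective,
      Subgroup.card_map_of_injective f.injective, c1, L16.card_stab] at this
    omega
  exact ⟨_, _, K, inferInstance, inferInstance, Subgroup.normal_of_index_eq_two hi, hi, hK,
    ⟨ψ.trans ((f.subgroupMap _).symm.trans (φ.trans ((MulEquiv.subgroupCongr top).trans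
      Subgroup.topEquiv)))⟩⟩

end H7.J3
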