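import Mathlib
import Cfsg.Agent.H7.JA5
import Cfsg.Agent.H7.JM1
import Cfsg.Agent.H7.SmallTools
import Cfsg.Agent.H22.SuzII1

/-!
# The two groups `2^{1+4} . A₅` with self-centralising `2^{1+4}`
-/

set_option autoImplicit false
set_option maxRecDepth 100000
set_option linter.all false

namespace H7.JA

open H29 H7.Cay H9.MX H7.JP Equiv Subgroup H3
open scoped commutatorElement

variable {M : Type*} [Group M]

/-- The hypothesis on the centraliser. -/
structure Hyp (z : M) (Q : Subgroup M) [Q.Normal] : Prop where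
  xs : XS 2 z Q
  card : Nat.card Q = 32
  cent : ∀ g, (∀ q ∈ Q, Commute q g) → g ∈ Q
  central : ∀ g, Commute z g
  quot : Nat.card ((M ⧸ Q) ⧸ center (M ⧸ Q)) = 60

theorem xs_sq {z : M} {Q : Subgroup M} (h : XS 2 z Q) : z * z = 1 := by rw [← sq, h.z_pow]

/-- A non-central involution. -/
theorem exists_invol [Finite M] {z : M} {Q : Subgroup M} (h : XS 2 z Q) (hc : Nat.card Q = 32) :
    ∃ x ∈ Q, x * x = 1 ∧ x ∉ zpowers z := by
  obtain ⟨n, ε, -, hd⟩ := h.exists_xdec_two fun h1 => by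
    rw [← h1, Nat.card_zpowers, h.ord] at hc; omega
  have h1 := hd.card
  rw [hc, show 32 = 2 ^ 5 by norm_num] at h1
  have h2 := Nat.pow_right_injective le_rfl h1
  obtain rfl : n = 1 := by simp at h2; omega
  cases hd with
  | cons x y _ hx hy hxy h3 _ _ =>
    refine ⟨x, hx, by simpa [sq] using h3, fun h4 => h.z_ne_one ?_⟩
    rw [← hxy, commutatorElement_eq_one_iff_commute]
    exact h.commute_of_mem h4 hy

variable [Finite M] {z : M} {Q : Subgroup M} [hQ : Q.Normal]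

namespace Hyp

theorem zz (h : Hyp z Q) : z * z = 1 := xs_sq h.xs
theorem mem_z (h : Hyp z Q) {x : M} : x ∈ zpowers z ↔ x = 1 ∨ x = z := mem_zpowers_two h.zz
theorem cent' (h : Hyp z Q) {g : M} (hg : ∀ q ∈ Q, Commute q g) : g = 1 ∨ g = z :=
  h.mem_z.1 (h.xs.center_le g (h.cent g hg) fun y hy => (hg y hy).symm)
theorem conj_z (h : Hyp z Q) (g : M) {x : M} (hx : x ∈ zpowers z) : g * x * g⁻¹ = x := by
  rcases h.mem_z.1 hx with rfl | rfl
  · simp
  · rw [← (h.central g).eq]; simp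

theorem exists_five (h : Hyp z Q) : ∃ f : M, orderOf f = 5 :=
  haveI : Fact (Nat.Prime 5) := ⟨by norm_num⟩
  exists_prime_orderOf_dvd_card' 5 ((show 5 ∣ 60 by decide).trans (h.quot ▸
    (card_quotient_dvd_card _).trans (card_quotient_dvd_card _)))

theorem inv_cases (h : Hyp z Q) {f : M} (hf : orderOf f = 5) {W : Subgroup M} (hW : W ≤ Q)
    (hz : z ∈ W) (hi : ∀ w ∈ W, f * w * f⁻¹ ∈ W) : W = Q ∨ W ≤ zpowers z := by
  have : Fact (Nat.Prime 5) := ⟨by norm_num⟩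
  have hP : IsPGroup 5 (zpowers f) := IsPGroup.of_card (n := 1) (by rw [Nat.card_zpowers, hf]; rfl)
  have key : ∀ {W : Subgroup M}, (∀ w ∈ W, f * w * f⁻¹ ∈ W) →
      Nat.card W ≡ Nat.card ↥(W ⊓ centralizer (zpowers f : Set M)) [MOD 5] := fun {W} hi =>
    H22.card_modEq_cent hP fun g hg u hu =>
      (mem_normalizer_iff.1 (zpowers_le.2 (mem_normalizer_fintype hi) hg) u).1 hu
  have dv : ∀ {W : Subgroup M}, W ≤ Q → Nat.card W % 5 = 2 → Nat.card W = 2 ∨ W = Q :=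
    fun {W} hW h1 => by
      have h2 := card_dvd_of_le hW
      rw [h.card] at h2
      have h3 : ∀ d ∈ Nat.divisors 32, d % 5 = 2 → d = 2 ∨ d = 32 := by decide
      exact (h3 _ (Nat.mem_divisors.2 ⟨h2, by decide⟩) h1).imp id fun h4 =>
        eq_of_le_of_card_ge hW (by rw [h4, h.card])
  have zc : zpowers z ≤ centralizer (zpowers f : Set M) :=
    zpowers_le.2 fun g _ => (h.central g).symm.eq
  have cz : Nat.card (zpowers z) = 2 := by rw [Nat.card_zpowers, h.xs.ord]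
  have h1 : Q ⊓ centralizer (zpowers f : Set M) = zpowers z := by
    have a := key (W := Q) fun w hw => hQ.conj_mem w hw f
    rw [h.card] at a
    rcases dv inf_le_left a.symm with a1 | a1
    · exact (eq_of_le_of_card_ge (le_inf (zpowers_le.2 h.xs.mem) zc) (by rw [a1, cz])).symm
    · have := h.cent' (g := f) fun q hq =>
        ((a1.ge hq).2 f (mem_zpowers f)).symm
      rcases this with rfl | rfl
      · simp at hf
      · rw [h.xs.ord] at hf; omega
  have h2 : W ⊓ centralizer (zpowers f : Set M) = zpowers z :=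
    le_antisymm (h1 ▸ inf_le_inf_right _ hW) (le_inf (zpowers_le.2 hz) zc)
  have a := key hi
  rw [h2, cz] at a
  exact (dv hW a).symm.imp id fun a1 =>
    (eq_of_le_of_card_ge (zpowers_le.2 hz) (by rw [a1, cz])).ge

end Hyp

/-- Five involutions that generate `Q`. -/
structure Bas (z : M) (Q : Subgroup M) (c : Fin 5 → M) : Prop where
  mem : ∀ i, c i ∈ Q
  sq : ∀ i, c i * c i = 1
  comm : ∀ i j, i ≠ j → ⁅c i, c j⁆ = z
  prod : c 0 * c 1 * c 2 * c 3 * c 4 = 1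
  gen : ∀ W : Subgroup M, z ∈ W → (∀ i, c i ∈ W) → Q ≤ W

theorem Hyp.orbit (h : Hyp z Q) {f : M} (hf : orderOf f = 5) {x : M} (hx : x ∈ Q) (h1 : x * x = 1)
    (h2 : x ∉ zpowers z) (c : ℕ → M) (hc : ∀ i, c i = f ^ i * x * (f ^ i)⁻¹) :
    (∀ i < 5, ∀ j < 5, i ≠ j → ⁅c i, c j⁆ = z) ∧ c 0 * c 1 * c 2 * c 3 * c 4 ∈ zpowers z := by
  have f5 : f ^ 5 = 1 := hf ▸ pow_orderOf_eq_one f
  have m : ∀ i, c i ∈ Q := fun i => hc i ▸ hQ.conj_mem x hx _
  have s : ∀ i, f * c i * f⁻¹ = c (i + 1) := fun i => by rw [hc, hc, pow_succ']; group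
  have c5 : c 5 = c 0 := by rw [hc, hc, f5, pow_zero]
  have c0 : c 0 = x := by simp [hc]
  have sq : ∀ i, c i * c i = 1 := fun i => by
    rw [hc, conj_mul, h1]; simp
  have iv : ∀ i, (c i)⁻¹ = c i := fun i => inv_eq_of_mul_eq_one_left (sq i)
  have cs : ∀ i j, ⁅c (i + 1), c (j + 1)⁆ = ⁅c i, c j⁆ := fun i j => by
    rw [← s, ← s, ← h.conj_z f (h.xs.comm _ (m i) _ (m j))]
    simp only [commutatorElement_def]; group
  have zi : ∀ {w}, w ∈ zpowers z → w * w = 1 := fun hw => by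
    rcases h.mem_z.1 hw with rfl | rfl
    exacts [mul_one _, h.zz]
  have sy : ∀ i j, ⁅c j, c i⁆ = ⁅c i, c j⁆ := fun i j => by
    rw [← commutatorElement_inv, inv_eq_of_mul_eq_one_left (zi (h.xs.comm _ (m i) _ (m j)))]
  have hp : c 0 * c 1 * c 2 * c 3 * c 4 ∈ zpowers z := by
    set p := c 0 * c 1 * c 2 * c 3 * c 4 with hp
    have mp : p ∈ Q := mul_mem (mul_mem (mul_mem (mul_mem (m _) (m _)) (m _)) (m _)) (m _)
    have e : f * p * f⁻¹ = ⁅c 0, p⁆ * p := by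
      have : f * p * f⁻¹ = c 1 * c 2 * c 3 * c 4 * c 5 := by
        simp only [hp, ← s]; group
      rw [this, c5, commutatorElement_def, iv, hp]
      simp [mul_assoc, ← mul_assoc (c 0) (c 0), sq]
    have zp : ∀ w ∈ zpowers z, w ∈ centralizer {p} := fun w hw =>
      mem_centralizer_singleton_iff.2 (h.xs.commute_of_mem hw mp)
    have := h.inv_cases hf (W := zpowers p ⊔ zpowers z) (sup_le (zpowers_le.2 mp)
      (zpowers_le.2 h.xs.mem)) (mem_sup_right (mem_zpowers z)) fun w hw => by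
        have : zpowers p ⊔ zpowers z ≤ (zpowers p ⊔ zpowers z).comap (MulAut.conj f).toMonoidHom :=
          sup_le (zpowers_le.2 (by
            change f * p * f⁻¹ ∈ zpowers p ⊔ zpowers z
            rw [e]
            exact mul_mem (mem_sup_right (h.xs.comm _ (m 0) _ mp)) (mem_sup_left (mem_zpowers p))))
            (zpowers_le.2 (by
              change f * z * f⁻¹ ∈ zpowers p ⊔ zpowers z
              rw [h.conj_z f (mem_zpowers z)]; exact mem_sup_right (mem_zpowers z)))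
        exact this hw
    rcases this with h3 | h3
    · refine h.xs.center_le p mp fun y hy => ?_
      have : zpowers p ⊔ zpowers z ≤ centralizer {p} :=
        sup_le (zpowers_le.2 (mem_centralizer_singleton_iff.2 rfl)) zp
      exact (mem_centralizer_singleton_iff.1 (this (h3 ▸ hy))).symm
    · exact h3 (mem_sup_left (mem_zpowers p))
  refine ⟨?_, hp⟩
  obtain ⟨α, hα⟩ : ∃ α, ⁅c 0, c 1⁆ = α := ⟨_, rfl⟩
  obtain ⟨β, hβ⟩ : ∃ β, ⁅c 0, c 2⁆ = β := ⟨_, rfl⟩
  have mα : α ∈ zpowers z := hα ▸ h.xs.comm _ (m _) _ (m _)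
  have mβ : β ∈ zpowers z := hβ ▸ h.xs.comm _ (m _) _ (m _)
  have a04 : ⁅c 0, c 4⁆ = α := by rw [← cs, c5, sy, hα]
  have a03 : ⁅c 0, c 3⁆ = β := by rw [← cs, ← cs, c5, sy, hβ]
  have all : ∀ i < 5, ∀ j < i, ⁅c i, c j⁆ = if i - j = 1 ∨ i - j = 4 then α else β := by
    intro i hi j hj
    rw [sy]
    interval_cases i <;> interval_cases j <;> simp [cs, hα, hβ, a04, a03]
  have e1 : α * β = 1 := by
    have sw : ∀ i < 5, ∀ j < i, ∀ t, c i * (c j * t) =
        (if i - j = 1 ∨ i - j = 4 then α else β) * (c j * (c i * t)) := fun i hi j hj t => by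
      rw [← all i hi j hj, commutatorElement_def]; group
    have ca : ∀ i t, c i * (α * t) = α * (c i * t) := fun i t => by
      rw [← mul_assoc, ← (h.xs.commute_of_mem mα (m i)).eq, mul_assoc]
    have cb : ∀ i t, c i * (β * t) = β * (c i * t) := fun i t => by
      rw [← mul_assoc, ← (h.xs.commute_of_mem mβ (m i)).eq, mul_assoc]
    have ab : ∀ t, β * (α * t) = α * (β * t) := fun t => by
      rw [← mul_assoc, ← (h.xs.commute_of_mem mα (zpowers_le.2 h.xs.mem mβ)).eq, mul_assoc]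
    have aa : ∀ t, α * (α * t) = t := fun t => by rw [← mul_assoc, zi mα, one_mul]
    have bb : ∀ t, β * (β * t) = t := fun t => by rw [← mul_assoc, zi mβ, one_mul]
    have e2 : c 4 * (c 3 * (c 2 * (c 1 * (c 0 * 1)))) = c 0 * (c 1 * (c 2 * (c 3 * (c 4 * 1)))) := by
      have := inv_eq_of_mul_eq_one_left (zi hp)
      simpa only [mul_inv_rev, iv, mul_assoc, mul_one] using this
    simp only [sw 1 (by decide) 0 (by decide), sw 2 (by decide) 0 (by decide),
      sw 3 (by decide) 0 (by decide), sw 4 (by decide) 0 (by decide), sw 2 (by decide) 1 (by decide),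
      sw 3 (by decide) 1 (by decide), sw 4 (by decide) 1 (by decide), sw 3 (by decide) 2 (by decide),
      sw 4 (by decide) 2 (by decide), sw 4 (by decide) 3 (by decide), ca, cb, ab, aa, bb,
      Nat.reduceSub, OfNat.ofNat_ne_one, Nat.reduceEqDiff, or_self, or_true, true_or, if_true,
      if_false, tsub_zero, Nat.add_one_sub_one] at e2
    simpa [← mul_assoc] using e2
  obtain rfl : α = β := by rw [eq_inv_of_mul_eq_one_left e1, inv_eq_of_mul_eq_one_left (zi mβ)]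
  have all' : ∀ i < 5, ∀ j < 5, i ≠ j → ⁅c i, c j⁆ = α := fun i hi j hj hij => by
    rcases hij.lt_or_gt with h3 | h3
    · rw [← sy, all j hj i h3, ite_self]
    · rw [all i hi j h3, ite_self]
  rcases h.mem_z.1 mα with rfl | rfl
  · exfalso
    have cm : ∀ i < 5, ∀ j < 5, Commute (c i) (c j) := fun i hi j hj => by
      by_cases hij : i = j
      · rw [hij]
      · exact commutatorElement_eq_one_iff_commute.1 (all' i hi j hj hij)
    have mx : x ∈ Q ⊓ centralizer (c '' Set.Iio 5) := ⟨hx, by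
      rintro _ ⟨i, hi, rfl⟩; exact c0 ▸ cm i hi 0 (by decide)⟩
    have := h.inv_cases hf (W := Q ⊓ centralizer (c '' Set.Iio 5)) inf_le_left
      ⟨h.xs.mem, fun g _ => (h.central g).symm⟩ fun w hw => ⟨hQ.conj_mem w hw.1 f, by
        rintro _ ⟨i, hi, rfl⟩
        obtain ⟨j, hj, e⟩ : ∃ j < 5, c i = c (j + 1) := by
          rcases i with _ | i
          exacts [⟨4, by decide, c5.symm⟩, ⟨i, by have : i + 1 < 5 := hi; omega, rfl⟩]
        rw [e, ← s, conj_mul, conj_mul, hw.2 _ ⟨j, hj, rfl⟩]⟩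
    rcases this with h3 | h3
    · exact h2 (h.xs.center_le x hx fun y hy => (h3.ge hy).2 x ⟨0, by decide, c0⟩)
    · exact h2 (h3 mx)
  · exact all'

theorem Hyp.exists_bas (h : Hyp z Q) : ∃ c, Bas z Q c := by
  obtain ⟨f, hf⟩ := h.exists_five
  obtain ⟨x, hx, h1, h2⟩ := exists_invol h.xs h.card
  have key : ∀ x ∈ Q, x * x = 1 → x ∉ zpowers z → (f ^ 0 * x * (f ^ 0)⁻¹) * (f ^ 1 * x * (f ^ 1)⁻¹) *
      (f ^ 2 * x * (f ^ 2)⁻¹) * (f ^ 3 * x * (f ^ 3)⁻¹) * (f ^ 4 * x * (f ^ 4)⁻¹) = 1 →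
      ∃ c, Bas z Q c := fun x hx h1 h2 h3 =>
    ⟨fun i => f ^ i.1 * x * (f ^ i.1)⁻¹, fun i => hQ.conj_mem x hx _,
      fun i => by rw [conj_mul, h1]; simp,
      fun i j hij => (h.orbit hf hx h1 h2 _ fun _ => rfl).1 i i.2 j j.2 (Fin.val_ne_of_ne hij), h3,
      fun W hz hW => by
        have f5 : f ^ 5 = 1 := hf ▸ pow_orderOf_eq_one f
        let U := Q ⊓ ⨅ i : ℕ, W.comap (MulAut.conj (f ^ i)).toMonoidHom
        have mU : ∀ {y}, y ∈ U ↔ y ∈ Q ∧ ∀ i : ℕ, f ^ i * y * (f ^ i)⁻¹ ∈ W :=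
          fun {y} => by rw [mem_inf, mem_iInf]; rfl
        rcases h.inv_cases hf (W := U) inf_le_left
          (mU.2 ⟨h.xs.mem, fun i => by rwa [h.conj_z _ (mem_zpowers z)]⟩) (fun w hw =>
            mU.2 ⟨hQ.conj_mem _ hw.1 f, fun i => by
              have := (mU.1 hw).2 (i + 1)
              rw [pow_succ] at this
              simpa [mul_assoc] using this⟩) with h4 | h4
        · exact fun y hy => by simpa using (mU.1 (h4.ge hy)).2 0
        · refine absurd (h4 (mU.2 ⟨hx, fun i => ?_⟩)) h2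
          rw [pow_eq_pow_mod i f5]
          exact hW ⟨i % 5, Nat.mod_lt _ (by decide)⟩⟩
  rcases h.mem_z.1 (h.orbit hf hx h1 h2 _ fun _ => rfl).2 with h3 | h3
  · exact key x hx h1 h2 h3
  · have e : ∀ g : M, g * (x * z) * g⁻¹ = z * (g * x * g⁻¹) := fun g => by
      rw [(h.central _).eq, ← h.conj_z g (mem_zpowers z), conj_mul, h.conj_z g (mem_zpowers z)]
    have e2 : ∀ g t : M, g * (z * t) = z * (g * t) := fun g t => by
      rw [← mul_assoc, ← (h.central g).eq, mul_assoc]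
    refine key (x * z) (mul_mem hx h.xs.mem) (by
      rw [mul_assoc, ← e2, ← mul_assoc, h1, h.zz, one_mul])
      (fun h4 => h2 (by simpa using mul_mem h4 (inv_mem (mem_zpowers z)))) ?_
    simp only [e]
    generalize f ^ 0 * x * (f ^ 0)⁻¹ = a at h3
    generalize f ^ 1 * x * (f ^ 1)⁻¹ = b at h3
    generalize f ^ 2 * x * (f ^ 2)⁻¹ = c at h3
    generalize f ^ 3 * x * (f ^ 3)⁻¹ = d at h3
    generalize f ^ 4 * x * (f ^ 4)⁻¹ = u at h3
    simp only [mul_assoc] at h3 ⊢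
    rw [e2 d, e2 c, e2 c, e2 b, e2 b, e2 b, e2 a, e2 a, e2 a, e2 a, h3]
    simp only [← mul_assoc, h.zz, one_mul]

/-! ### Letters -/

/-- Exact action on the five involutions. -/
def Ex (c : Fin 5 → M) (g : M) (σ : Perm (Fin 5)) : Prop := ∀ i, g * c i * g⁻¹ = c (σ i)

theorem Ex.one (c : Fin 5 → M) : Ex c 1 1 := fun i => by simp
theorem Ex.mul {c : Fin 5 → M} {g h : M} {σ τ : Perm (Fin 5)} (h1 : Ex c g σ) (h2 : Ex c h τ) :
    Ex c (g * h) (σ * τ) := fun i => by rw [Perm.mul_apply, ← h1, ← h2]; group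
theorem Ex.inv {c : Fin 5 → M} {g : M} {σ : Perm (Fin 5)} (h1 : Ex c g σ) : Ex c g⁻¹ σ⁻¹ :=
  fun i => by rw [← σ.apply_symm_apply i, ← h1]; simp [mul_assoc]
theorem Ex.pow {c : Fin 5 → M} {g : M} {σ : Perm (Fin 5)} (h1 : Ex c g σ) :
    ∀ n : ℕ, Ex c (g ^ n) (σ ^ n)
  | 0 => by simpa using Ex.one c
  | n + 1 => by rw [pow_succ, pow_succ]; exact (h1.pow n).mul h1
theorem Ex.ev {c : Fin 5 → M} {e : ℕ → M} {s : ℕ → Perm (Fin 5)} :
    ∀ {w : List ℕ}, (∀ l ∈ w, Ex c (e l) (s l)) → Ex c (ev e w) (ev s w)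
  | [], _ => Ex.one c
  | l :: w, h => (h l List.mem_cons_self).mul (Ex.ev fun l hl => h l (List.mem_cons_of_mem _ hl))
theorem Hyp.ex_z (h : Hyp z Q) (c : Fin 5 → M) : Ex c z 1 := fun i => by
  rw [(h.central _).eq]; simp

/-- The relators that hold for every choice of exact lifts. -/
def good (iv : ℕ → ℕ) (s : ℕ → Perm (Fin 5)) : List ℕ → Prop
  | [a, b, c, d] => (a = 5 ∧ c = 5 ∧ d = iv b) ∨ (6 ≤ a ∧ c = iv a ∧ ∃ i : Fin 5, b = i ∧ d = s a i)
  | [a, b, c, d, f] => (∃ i j : Fin 5, i ≠ j ∧ a = i ∧ b = j ∧ c = i ∧ d = j ∧ f = 5) ∨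
      [a, b, c, d, f] = [0, 1, 2, 3, 4]
  | _ => False

instance (iv : ℕ → ℕ) (s : ℕ → Perm (Fin 5)) : ∀ r, Decidable (good iv s r)
  | [] | [_] | [_, _] | [_, _, _] | _ :: _ :: _ :: _ :: _ :: _ :: _ => isFalse id
  | [_, _, _, _] | [_, _, _, _, _] => by unfold good; infer_instance

theorem Bas.good (h : Hyp z Q) {c : Fin 5 → M} (hc : Bas z Q c) {e : ℕ → M} {iv : ℕ → ℕ}
    {s : ℕ → Perm (Fin 5)} (h1 : IvOK e iv) (h2 : ∀ i : Fin 5, e i = c i) (h3 : e 5 = z)
    (h4 : ∀ l, 6 ≤ l → Ex c (e l) (s l)) : ∀ r, good iv s r → ev e r = 1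
  | [a, b, c', d], hr => by
    rcases hr with ⟨rfl, rfl, rfl⟩ | ⟨h5, rfl, i, rfl, rfl⟩
    · simp only [ev_cons, ev_nil, h1 b, h3, mul_one]
      rw [← mul_assoc, (h.central _).eq, mul_assoc, ← mul_assoc z, h.zz, one_mul, mul_inv_cancel]
    · simp only [ev_cons, ev_nil, h1 a, h2, mul_one]
      rw [← mul_assoc, ← mul_assoc, h4 a h5, hc.sq]
  | [a, b, c', d, f], hr => by
    rcases hr with ⟨i, j, hij, rfl, rfl, rfl, rfl, rfl⟩ | hr
    · have := hc.comm i j hij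
      rw [commutatorElement_def, inv_eq_of_mul_eq_one_left (hc.sq i),
        inv_eq_of_mul_eq_one_left (hc.sq j)] at this
      simp only [ev_cons, ev_nil, h2, h3, mul_one, ← mul_assoc, this, h.zz]
    · rw [hr, ← hc.prod, ← h2, ← h2, ← h2, ← h2, ← h2]; simp [mul_assoc]

/-- Letters from a list of further elements. -/
noncomputable def lets (c : Fin 5 → M) (z : M) (l : List M) (i : ℕ) : M :=
  (c 0 :: c 1 :: c 2 :: c 3 :: c 4 :: z :: l).getD i 1

theorem lets_c (c : Fin 5 → M) (z : M) (l : List M) (i : Fin 5) : lets c z l i = c i := by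
  fin_cases i <;> rfl

/-- The codes of the non-central involutions. -/
def cd (i : Fin 5) (b : Bool) : ℕ := [1, 2, 4, 8, 15].getD i 0 + if b then 16 else 0

theorem Bas.model (h : Hyp z Q) {c : Fin 5 → M} (hc : Bas z Q c) : ∃ φ : ℕ → M, JQ.M.Sound φ ∧
    JQ.M.Inj φ ∧ (∀ g, g ∈ Q ↔ ∃ k < 32, φ k = g) ∧ φ 16 = z ∧
    ∀ i b, φ (cd i b) = if b then c i * z else c i := by
  have i1 : IvOK (lets c z []) (ivOf JQ.ivl) := fun l => by
    have : ivOf JQ.ivl l = l := by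
      by_cases hl : l < 6
      · revert l; decide
      · exact nth_default _ (by simpa [JQ.ivl] using hl)
    rw [this, eq_inv_iff_mul_eq_one]
    rcases l with _ | _ | _ | _ | _ | _ | l
    exacts [hc.sq 0, hc.sq 1, hc.sq 2, hc.sq 3, hc.sq 4, h.zz, mul_one _]
  have i2 : ∀ r ∈ JQ.R, ev (lets c z []) r = 1 := fun r hr =>
    hc.good h (s := fun _ => 1) i1 (lets_c _ _ _) rfl (fun l hl => by
      obtain ⟨l, rfl⟩ := Nat.exists_eq_add_of_le' hl; exact Ex.one c) r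
      ((by decide +kernel : ∀ r ∈ JQ.R, JA.good (ivOf JQ.ivl) (fun _ => 1) r) r hr)
  have hs := JQ.sound i1 i2
  have hw : ∀ (u : List ℕ) {k}, k < 32 → JQ.C.run u 0 = k → JQ.C.val (lets c z []) k = ev _ u :=
    fun u k h1 h2 => (JQ.ok i1 i2).word h1 h2
  have a1 : JQ.C.val (lets c z []) 16 = z := by
    rw [hw [5] (by decide) (by decide +kernel)]; exact mul_one _
  have a2 : ∀ i b, JQ.C.val (lets c z []) (cd i b) = if b then c i * z else c i := fun i b => by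
    rw [hw (if b then [i.1, 5] else [i.1]) (by revert i b; decide) (by revert i b; decide +kernel)]
    cases b <;> simp [lets_c] <;> rfl
  have a3 : hs.sub = Q := le_antisymm (by
    rintro _ ⟨k, -, rfl⟩
    refine JQ.C.val_mem (fun l => ?_) k
    rcases l with _ | _ | _ | _ | _ | _ | l
    exacts [hc.mem 0, hc.mem 1, hc.mem 2, hc.mem 3, hc.mem 4, h.xs.mem, one_mem _])
    (hc.gen _ ⟨16, by decide, a1⟩ fun i => ⟨cd i false, by revert i; decide, a2 i false⟩)
  exact ⟨_, hs, hs.inj_of_card (by rw [a3, h.card]; rfl), fun g => by rw [← a3]; rfl, a1, a2⟩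

theorem Bas.cent (h : Hyp z Q) {c : Fin 5 → M} (hc : Bas z Q c) {g : M} (hg : Ex c g 1) :
    g = 1 ∨ g = z := h.cent' fun q hq => mem_centralizer_singleton_iff.1 (hc.gen _
      (mem_centralizer_singleton_iff.2 (h.central g)) (fun i => mem_centralizer_singleton_iff.2
        (eq_comm.1 (mul_inv_eq_iff_eq_mul.1 (hg i)))) hq)

theorem cd_lt : ∀ i b, cd i b < JQ.M.n := by decide

theorem Bas.invol (h : Hyp z Q) {c : Fin 5 → M} (hc : Bas z Q c) {q : M} (hq : q ∈ Q)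
    (h1 : q * q = 1) : q = 1 ∨ q = z ∨ ∃ i, q = c i ∨ q = c i * z := by
  obtain ⟨φ, hs, hi, hm, hz, hd⟩ := hc.model h
  obtain ⟨k, hk, rfl⟩ := (hm q).1 hq
  have key : ∀ k < 32, JQ.M.mul k k = 0 → k = 0 ∨ k = 16 ∨ ∃ i b, k = cd i b := by decide +kernel
  rw [← hs.map_mul k hk k hk, ← hs.zero] at h1
  rcases key k hk (hi _ (hs.mul_lt k hk k hk) _ hs.pos h1) with rfl | rfl | ⟨i, b, rfl⟩
  · exact Or.inl hs.zero
  · exact Or.inr (Or.inl hz)
  · refine Or.inr (Or.inr ⟨i, ?_⟩)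
    rw [hd]; cases b <;> simp

theorem Bas.exact (h : Hyp z Q) {c : Fin 5 → M} (hc : Bas z Q c) {g : M} {σ : Perm (Fin 5)}
    (hσ : Perm.sign σ = 1) (hg : ∀ i, g * c i * g⁻¹ = c (σ i) ∨ g * c i * g⁻¹ = c (σ i) * z) :
    ∃ q ∈ Q, Ex c (q * g) σ := by
  obtain ⟨φ, hs, hi, hm, hz, hd⟩ := hc.model h
  have key : ∀ σ : Perm (Fin 5), Perm.sign σ = 1 → ∀ b0 b1 b2 b3 b4 : Bool,
      JQ.M.mul (JQ.M.mul (JQ.M.mul (JQ.M.mul (cd (σ 0) b0) (cd (σ 1) b1)) (cd (σ 2) b2))
        (cd (σ 3) b3)) (cd (σ 4) b4) = 0 → ∃ q < 32, ∀ i,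
        JQ.M.mul q (cd (σ i) (![b0, b1, b2, b3, b4] i)) = JQ.M.mul (cd (σ i) false) q := by
    decide +kernel
  obtain ⟨b, hb⟩ : ∃ b : Fin 5 → Bool, ∀ i, g * c i * g⁻¹ = φ (cd (σ i) (b i)) := by
    have : ∀ i, ∃ b, g * c i * g⁻¹ = φ (cd (σ i) b) := fun i =>
      (hg i).elim (fun h => ⟨false, by rwa [hd]⟩) fun h => ⟨true, by rwa [hd]⟩
    exact Classical.skolem.1 this
  have l1 := hs.mul_lt _ (cd_lt (σ 0) (b 0)) _ (cd_lt (σ 1) (b 1))
  have l2 := hs.mul_lt _ l1 _ (cd_lt (σ 2) (b 2))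
  have l3 := hs.mul_lt _ l2 _ (cd_lt (σ 3) (b 3))
  obtain ⟨q, hq, h1⟩ := key σ hσ (b 0) (b 1) (b 2) (b 3) (b 4)
    (hi _ (hs.mul_lt _ l3 _ (cd_lt _ _)) _ hs.pos (by
      rw [hs.map_mul _ l3 _ (cd_lt _ _), hs.map_mul _ l2 _ (cd_lt _ _),
        hs.map_mul _ l1 _ (cd_lt _ _), hs.map_mul _ (cd_lt _ _) _ (cd_lt _ _), ← hb, ← hb, ← hb,
        ← hb, ← hb, conj_mul, conj_mul, conj_mul, conj_mul, hc.prod, hs.zero]; simp))
  refine ⟨φ q, (hm _).2 ⟨q, hq, rfl⟩, fun i => ?_⟩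
  have h2 := congrArg φ (h1 i)
  rw [show ![b 0, b 1, b 2, b 3, b 4] i = b i by fin_cases i <;> rfl, hs.map_mul _ hq _ (cd_lt _ _),
    hs.map_mul _ (cd_lt _ _) _ hq, ← hb, hd] at h2
  simp only [Bool.false_eq_true, if_false] at h2
  rw [← mul_inv_eq_iff_eq_mul.2 h2]; group

theorem Bas.perm (h : Hyp z Q) {c : Fin 5 → M} (hc : Bas z Q c) : ∃ π : M →* Perm (Fin 5),
    π.ker = Q ∧ ∀ g i, g * c i * g⁻¹ = c (π g i) ∨ g * c i * g⁻¹ = c (π g i) * z := by
  have nz : ∀ i, c i ∉ zpowers z := fun i hi => by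
    obtain ⟨j, hj⟩ := exists_ne i
    have := hc.comm i j hj.symm
    rw [commutatorElement_eq_one_iff_commute.2 (h.xs.commute_of_mem hi (hc.mem j))] at this
    exact h.xs.z_ne_one this.symm
  have uq : ∀ {i j y}, (y = c i ∨ y = c i * z) → (y = c j ∨ y = c j * z) → i = j := by
    intro i j y h1 h2
    by_contra hij
    have h3 : Commute (c i) (c j) := by
      have a : ∀ {k}, (y = c k ∨ y = c k * z) → c k = y ∨ c k = y * z := by
        rintro k (rfl | rfl)
        exacts [Or.inl rfl, Or.inr (by rw [mul_assoc, h.zz, mul_one])]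
      have b := (h.central y).symm
      rcases a h1 with h1 | h1 <;> rcases a h2 with h2 | h2 <;> rw [h1, h2]
      exacts [(Commute.refl y).mul_right b, (Commute.refl y).mul_left b.symm]
    exact h.xs.z_ne_one ((hc.comm i j hij).symm.trans (commutatorElement_eq_one_iff_commute.2 h3))
  have cz : ∀ g y : M, g * (y * z) * g⁻¹ = g * y * g⁻¹ * z := fun g y => by
    rw [← conj_mul, h.conj_z g (mem_zpowers z)]
  obtain ⟨φ, hφ⟩ := exists_perm_hom_of_family (G := ConjAct M) (Y := M)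
    (fun (i : Fin 5) y => y = c i ∨ y = c i * z) (fun i j h1 => uq (Or.inl rfl) (h1 _ (Or.inl rfl)))
    fun g i => by
      have h1 := hc.invol h (hQ.conj_mem _ (hc.mem i) (ConjAct.ofConjAct g)) (by
        rw [conj_mul, hc.sq]; simp)
      have h2 : ConjAct.ofConjAct g * c i * (ConjAct.ofConjAct g)⁻¹ ∉ zpowers z := fun h2 =>
        nz i (by have := h.conj_z (ConjAct.ofConjAct g)⁻¹ h2; simp [mul_assoc] at this
                 rw [this, ← mul_assoc]; exact h2)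
      rw [h.mem_z, not_or] at h2
      obtain ⟨j, hj⟩ := (h1.resolve_left h2.1).resolve_left h2.2
      refine ⟨j, ?_⟩
      rintro _ (rfl | rfl)
      · exact hj
      · rw [ConjAct.smul_def, cz]
        exact hj.symm.imp (fun h3 => by rw [h3, mul_assoc, h.zz, mul_one]) fun h3 => by rw [h3]
  let π : M →* Perm (Fin 5) := φ.comp ConjAct.toConjAct.toMonoidHom
  have hπ : ∀ g i, g * c i * g⁻¹ = c (π g i) ∨ g * c i * g⁻¹ = c (π g i) * z := fun g i =>
    (hφ (ConjAct.toConjAct g) i (c i)).1 (Or.inl rfl)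
  refine ⟨π, le_antisymm (fun g hg => ?_) fun g hg => Equiv.ext fun i => uq (hπ g i) ?_, hπ⟩
  · let W : Subgroup M :=
      { carrier := {k | ⁅g, k⁆ ∈ zpowers z}
        one_mem' := by simp
        mul_mem' := fun {a b} ha hb => by
          have : ⁅g, a * b⁆ = ⁅g, a⁆ * (a * ⁅g, b⁆ * a⁻¹) := by
            simp only [commutatorElement_def]; group
          rw [Set.mem_setOf_eq, this, h.conj_z a hb]; exact mul_mem ha hb
        inv_mem' := fun {a} ha => by
          have : ⁅g, a⁻¹⁆ = a⁻¹ * ⁅g, a⁆⁻¹ * a⁻¹⁻¹ := by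
            simp only [commutatorElement_def]; group
          rw [Set.mem_setOf_eq, this, h.conj_z _ (inv_mem ha)]; exact inv_mem ha }
    obtain ⟨q, hq, h1⟩ := h.xs.exists_mul_mem_centralizer (h.central g) (hc.gen W
      (by change ⁅g, z⁆ ∈ zpowers z
          rw [commutatorElement_eq_one_iff_commute.2 (h.central g).symm]
          exact one_mem _) fun i => by
        change g * c i * g⁻¹ * (c i)⁻¹ ∈ zpowers z
        have := hπ g i
        rw [MonoidHom.mem_ker.1 hg, Perm.one_apply] at this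
        rcases this with h1 | h1 <;> rw [h1]
        · simp
        · rw [h.conj_z _ (mem_zpowers z)]; exact mem_zpowers z)
    simpa using mul_mem (inv_mem hq) (h.cent _ h1)
  · have : g * c i * g⁻¹ = c i * ⁅(c i)⁻¹, g⁆ := by simp only [commutatorElement_def]; group
    rw [this]
    rcases h.mem_z.1 (h.xs.comm _ (inv_mem (hc.mem i)) _ hg) with h1 | h1 <;> simp [h1]

theorem Bas.lift (h : Hyp z Q) {c : Fin 5 → M} (hc : Bas z Q c) : Nat.card M = 1920 ∧
    (∀ g, ∃ σ, Perm.sign σ = 1 ∧ ∃ q ∈ Q, Ex c (q * g) σ) ∧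
    ∀ σ, Perm.sign σ = 1 → ∃ g, Ex c g σ := by
  obtain ⟨π, h1, h2⟩ := hc.perm h
  subst h1
  have e := QuotientGroup.quotientKerEquivRange π
  have a1 := card_eq_card_quotient_mul_card_subgroup (center (M ⧸ π.ker))
  have a2 := π.range.index_mul_card
  have a3 := Nat.card_congr e.toEquiv
  rw [h.quot] at a1
  rw [Nat.card_perm, Nat.card_eq_fintype_card (α := Fin 5), Fintype.card_fin, ← a3, a1,
    show Nat.factorial 5 = 120 from rfl] at a2
  have a4 : π.range.index = 2 := by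
    by_contra a4
    have a5 : π.range.index = 1 := by
      have : π.range.index ∣ 2 := ⟨Nat.card (center (M ⧸ π.ker)), by nlinarith⟩
      have := (Nat.dvd_prime Nat.prime_two).1 this
      tauto
    have a6 : center (M ⧸ π.ker) = ⊥ := (eq_bot_iff_forall _).2 fun x hx => by
      have key : ∀ p : Perm (Fin 5), swap 0 1 * p = p * swap 0 1 →
          finRotate 5 * p = p * finRotate 5 → p = 1 := by decide +kernel
      have : ∀ p : Perm (Fin 5), p * e x = e x * p := fun p => by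
        have := congrArg (fun y => (e y : Perm (Fin 5)))
          (mem_center_iff.1 hx (e.symm ⟨p, index_eq_one.1 a5 ▸ mem_top p⟩))
        simpa using this
      exact e.injective (Subtype.ext (by simpa using key _ (this _) (this _)))
    rw [a5, a6, card_bot] at a2
    omega
  have a5 := Perm.eq_alternatingGroup_of_index_eq_two a4
  have a6 : ∀ g, Perm.sign (π g) = 1 := fun g => Perm.mem_alternatingGroup.1 (a5 ▸ ⟨g, rfl⟩)
  refine ⟨?_, fun g => ⟨π g, a6 g, hc.exact h (a6 g) (h2 g)⟩, fun σ hσ => ?_⟩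
  · rw [card_eq_card_quotient_mul_card_subgroup π.ker, h.card, a3, a5, card_A5]
  · obtain ⟨g, rfl⟩ : σ ∈ π.range := a5 ▸ Perm.mem_alternatingGroup.2 hσ
    obtain ⟨q, -, hq⟩ := hc.exact h hσ (h2 g)
    exact ⟨_, hq⟩

theorem Bas.odd (h : Hyp z Q) {c : Fin 5 → M} (hc : Bas z Q c) {u g : M} {τ σ : Perm (Fin 5)}
    (hu : Ex c u τ) (hg : Ex c g σ) {k : ℕ} (h1 : (τ * σ) ^ (2 * k + 1) = 1) :
    ∃ g, Ex c g σ ∧ (u * g) ^ (2 * k + 1) = 1 := by
  rcases hc.cent h (h1 ▸ (hu.mul hg).pow (2 * k + 1)) with h2 | h2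
  · exact ⟨g, hg, h2⟩
  · refine ⟨g * z, by simpa using hg.mul (h.ex_z c), ?_⟩
    rw [← mul_assoc, (h.central _).symm.mul_pow, h2, pow_succ, pow_mul, pow_two z, h.zz, one_pow,
      one_mul, h.zz]

theorem Bas.sq_eq (h : Hyp z Q) {c : Fin 5 → M} (hc : Bas z Q c) {g g' : M} {σ σ' : Perm (Fin 5)}
    (hg : Ex c g σ) (hg' : Ex c g' σ') (h1 : ∃ ρ, Perm.sign ρ = 1 ∧ σ'⁻¹ * (ρ * σ * ρ⁻¹) = 1)
    (h2 : σ * σ = 1) : g' * g' = g * g := by
  obtain ⟨ρ, h1, h3⟩ := h1
  obtain ⟨r, hr⟩ := (hc.lift h).2.2 ρ h1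
  have a1 := h.conj_z r (h.mem_z.2 (hc.cent h (h2 ▸ hg.mul hg)))
  rw [← a1, ← conj_mul]
  rcases hc.cent h (h3 ▸ hg'.inv.mul ((hr.mul hg).mul hr.inv)) with h4 | h4
  · rw [inv_mul_eq_one.1 h4]
  · rw [inv_mul_eq_iff_eq_mul.1 h4, mul_assoc, ← mul_assoc z, (h.central _).eq, mul_assoc,
      h.zz, mul_one]

theorem Bas.top (h : Hyp z Q) {c : Fin 5 → M} (hc : Bas z Q c) {H : Subgroup M} (hz : z ∈ H)
    (h1 : ∀ i, c i ∈ H) {e : ℕ → M} (h2 : ∀ l ∈ [6, 7, 8, 9], e l ∈ H ∧ Ex c (e l) (s5 l)) :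
    H = ⊤ := (eq_top_iff' _).2 fun g => by
  obtain ⟨σ, a1, q, a2, a3⟩ := (hc.lift h).2.1 g
  obtain ⟨w, a4, rfl⟩ := exists_word s5_iv (l := [6, 7, 8, 9]) (by decide)
    (s5_gen ▸ Perm.mem_alternatingGroup.2 a1)
  have a5 := hc.cent h (inv_mul_cancel (ev s5 w) ▸ (Ex.ev fun l hl => (h2 l (a4 l hl)).2).inv.mul a3)
  have a6 : ev e w ∈ H := gen_le.2 (fun l hl => (h2 l hl).1) (ev_mem_gen a4)
  have a7 := mul_mem (inv_mem (hc.gen H hz h1 a2)) (mul_mem a6 (zpowers_le.2 hz (h.mem_z.2 a5)))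
  simpa using a7

/-- The action of the letters of the second model. -/
def s1 (c : ℕ) : Perm (Fin 5) := s5 ([0, 0, 0, 0, 0, 0, 6, 6, 7, 7, 8, 9].getD c 0)

/-- The two isomorphism types, in letters. -/
theorem Hyp.letters (h : Hyp z Q) :
    (∃ e : ℕ → M, IvOK e iv ∧ (∀ r ∈ JM0.R, ev e r = 1) ∧ e 5 = z ∧ gen e colsM = ⊤) ∨
    ∃ φ : ℕ → M, JM1.M.Sound φ ∧ JM1.M.Inj φ ∧ φ 16 = z ∧ ∀ g, ∃ k < 1920, φ k = g := by
  obtain ⟨c, hc⟩ := h.exists_bas
  obtain ⟨l1, -, l2⟩ := hc.lift h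
  obtain ⟨a, ha⟩ := l2 (s5 6) (by decide)
  obtain ⟨n, hn⟩ := l2 (s5 7) (by decide)
  obtain ⟨x, hx⟩ := l2 (s5 8) (by decide)
  obtain ⟨x, hx, r1⟩ := hc.odd h (Ex.one c) hx (k := 1) (by decide)
  obtain ⟨a, ha, r2⟩ := hc.odd h hx ha (k := 1) (by decide)
  obtain ⟨n, hn, r3⟩ := hc.odd h ha hn (k := 2) (by decide)
  have hX : Ex c x⁻¹ (s5 9) := (by decide : (s5 8)⁻¹ = s5 9) ▸ hx.inv
  have r4 := hc.sq_eq h ha hn (by decide +kernel) (by decide)
  have r5 := hc.sq_eq h ha (hn.mul hx) (by decide +kernel) (by decide)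
  have r6 := hc.sq_eq h ha ((((ha.mul hn).mul ha).mul hn).mul hX) (by decide +kernel) (by decide)
  replace r1 : x * (x * x) = 1 := by simpa [pow_succ, mul_assoc] using r1
  replace r2 : a * (x * (a * (x * (a * x)))) = 1 := by
    rw [← mul_right_inj x, mul_one, ← mul_inv_eq_one, ← r2]; simp [pow_succ, mul_assoc]
  replace r3 : a * (n * (a * (n * (a * (n * (a * (n * (a * n)))))))) = 1 := by
    simpa [pow_succ, mul_assoc] using r3
  simp only [mul_assoc] at r5 r6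
  have iv5 : ∀ (L : List M) (l : ℕ), l < 6 → lets c z L l = (lets c z L l)⁻¹ := fun L l hl => by
    rw [eq_inv_iff_mul_eq_one]
    interval_cases l
    exacts [hc.sq 0, hc.sq 1, hc.sq 2, hc.sq 3, hc.sq 4, h.zz]
  rcases hc.cent h ((by decide : s5 6 * s5 6 = 1) ▸ ha.mul ha) with r0 | r0 <;> rw [r0] at r4 r5 r6
  · have i1 : IvOK (lets c z [a, n, x, x⁻¹]) iv := fun l => by
      rcases l with _ | _ | _ | _ | _ | _ | _ | _ | _ | _ | l
      iterate 6 exact iv5 _ _ (by decide)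
      exacts [eq_inv_of_mul_eq_one_left r0, eq_inv_of_mul_eq_one_left r4, rfl, (inv_inv x).symm,
        by rw [show iv (l + 10) = l + 10 from nth_default _ (by simp [JM0.ivl])]; exact inv_one.symm]
    have i2 : ∀ l, 6 ≤ l → Ex c (lets c z [a, n, x, x⁻¹] l) (s5 l) := fun l hl => by
      obtain ⟨l, rfl⟩ := Nat.exists_eq_add_of_le' hl
      rcases l with _ | _ | _ | _ | l
      exacts [ha, hn, hx, hX, Ex.one c]
    refine Or.inl ⟨_, i1, fun r hr => ?_, rfl, hc.top h (mem_gen (c := 5) (by decide))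
      (fun i => lets_c c z _ i ▸ mem_gen (by revert i; decide))
      fun l hl => ⟨mem_gen (by revert l; decide), i2 l (by revert l; decide)⟩⟩
    rcases (by decide +kernel : ∀ r ∈ JM0.R, good iv s5 r ∨ r ∈ JM0.R.drop 34) r hr with hr | hr
    · exact hc.good h i1 (lets_c _ _ _) rfl i2 r hr
    · simp only [JM0.R, List.drop, List.mem_cons, List.not_mem_nil, or_false] at hr
      rcases hr with rfl | rfl | rfl | rfl | rfl <;> simp only [ev_cons, ev_nil, mul_one]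
      exacts [r1, r2, r3, r5, r6]
  · have i1 : IvOK (lets c z [a, a⁻¹, n, n⁻¹, x, x⁻¹]) (ivOf JM1.ivl) := fun l => by
      rcases l with _ | _ | _ | _ | _ | _ | _ | _ | _ | _ | _ | _ | l
      iterate 6 exact iv5 _ _ (by decide)
      exacts [rfl, (inv_inv a).symm, rfl, (inv_inv n).symm, rfl, (inv_inv x).symm, by
        rw [show ivOf JM1.ivl (l + 12) = l + 12 from nth_default _ (by simp [JM1.ivl])]
        exact inv_one.symm]
    have i2 : ∀ l, 6 ≤ l → Ex c (lets c z [a, a⁻¹, n, n⁻¹, x, x⁻¹] l) (s1 l) := fun l hl => by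
      obtain ⟨l, rfl⟩ := Nat.exists_eq_add_of_le' hl
      rcases l with _ | _ | _ | _ | _ | _ | l
      exacts [ha, (by decide : (s5 6)⁻¹ = s1 7) ▸ ha.inv, hn, (by decide : (s5 7)⁻¹ = s1 9) ▸ hn.inv,
        hx, hX, Ex.one c]
    have i3 : ∀ r ∈ JM1.R, ev (lets c z [a, a⁻¹, n, n⁻¹, x, x⁻¹]) r = 1 := fun r hr => by
      rcases (by decide +kernel : ∀ r ∈ JM1.R, good (ivOf JM1.ivl) s1 r ∨ r ∈ JM1.R.drop 34) r hr
        with hr | hr
      · exact hc.good h i1 (lets_c _ _ _) rfl i2 r hr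
      · have k : ∀ {u}, u = z → u * z = 1 := by rintro _ rfl; exact h.zz
        have k0 := k r0; have k4 := k r4; have k5 := k r5; have k6 := k r6
        simp only [mul_assoc] at k0 k4 k5 k6
        simp only [JM1.R, List.drop, List.mem_cons, List.not_mem_nil, or_false] at hr
        rcases hr with rfl | rfl | rfl | rfl | rfl | rfl | rfl <;>
          simp only [ev_cons, ev_nil, mul_one]
        exacts [r1, r2, r3, k5, k6, k0, k4]
    have hs := JM1.sound i1 i3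
    have hw : ∀ l < 12, lets c z [a, a⁻¹, n, n⁻¹, x, x⁻¹] l ∈ hs.sub := fun l hl =>
      ⟨JM1.C.run [l] 0, by revert l; decide +kernel,
        ((JM1.ok i1 i3).word (by revert l; decide +kernel) rfl).trans (mul_one _)⟩
    have top := hc.top h (hw 5 (by decide)) (fun i => lets_c c z _ i ▸ hw i (by omega))
      (e := lets c z [a, n, x, x⁻¹]) (by
        simp only [List.mem_cons, List.not_mem_nil, or_false]
        rintro _ (rfl | rfl | rfl | rfl)
        exacts [⟨hw 6 (by decide), ha⟩, ⟨hw 8 (by decide), hn⟩, ⟨hw 10 (by decide), hx⟩,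
          ⟨hw 11 (by decide), hX⟩])
    exact Or.inr ⟨_, hs, hs.inj_of_card (by rw [top, card_top, l1]; rfl),
      ((JM1.ok i1 i3).word (u := [5]) (by decide) (by decide +kernel)).trans (mul_one _),
      fun g => (top ▸ mem_top g : g ∈ hs.sub)⟩

end H7.JA
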