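import Mathlib
import Cfsg.Agent.H7.JA5

/-!
# The group `2^{1+4} : A₅` of codes
-/

set_option autoImplicit false
set_option maxRecDepth 100000
set_option linter.all false

namespace H7.JP

open H29 H7.Cay H9.MX

/-- The codes. -/
@[ext] structure K : Type where
  val : ℕ
  lt : val < 1920

namespace K

theorem snd : JM0.M.Sound (JM0.C.val (pe nl)) :=
  JM0.sound (ivOK_sub _ hiv) (rels_subE (mem_PG nl) hR)

noncomputable instance : Mul K := ⟨fun a b =>
  ⟨lit a.val fun x => lit b.val fun y => JM0.M.mul x y, snd.mul_lt _ a.lt _ b.lt⟩⟩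
noncomputable instance : Inv K := ⟨fun a => ⟨JM0.M.inv a.val, snd.inv_lt _ a.lt⟩⟩
instance : One K := ⟨⟨0, by decide⟩⟩
instance : DecidableEq K := fun a b => decidable_of_iff (Nat.beq a.val b.val = true)
  (nbeq.trans K.ext_iff.symm)

section
variable {G : Type*} [Group G] {φ : ℕ → G} (h : JM0.M.Sound φ)
include h
theorem v_mul (a b : K) : φ (a * b).val = φ a.val * φ b.val := h.map_mul _ a.lt _ b.lt
theorem v_inv (a : K) : φ a⁻¹.val = (φ a.val)⁻¹ := h.map_inv _ a.lt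
theorem v_one : φ (1 : K).val = 1 := h.zero
end

theorem inj {a b : K} (h : JM0.C.val (pe nl) a.val = JM0.C.val (pe nl) b.val) : a = b :=
  K.ext (inj32 _ a.lt _ b.lt h)

noncomputable instance : Group K := Group.ofLeftAxioms
  (fun a b c => inj (by simp only [v_mul snd, mul_assoc]))
  (fun a => inj (by rw [v_mul snd, v_one snd, one_mul]))
  (fun a => inj (by rw [v_mul snd, v_inv snd, v_one snd, inv_mul_cancel]))

/-- The code with a given number. -/
def of (c : ℕ) : K := ⟨Nat.mod c 1920, Nat.mod_lt _ (by decide)⟩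
theorem of_val (a : K) : of a.val = a := K.ext (Nat.mod_eq_of_lt a.lt)

noncomputable instance decAll (P : K → Prop) [DecidablePred P] : Decidable (∀ k, P k) :=
  decidable_of_iff (allF 1920 (fun c => decide (P (of c))) = true) <| by
    simp only [allF_true, decide_eq_true_eq]
    exact ⟨fun h k => of_val k ▸ h _ k.lt, fun h _ _ => h _⟩

/-- Search. -/
noncomputable def anyF (n : ℕ) (f : ℕ → Bool) : Bool :=
  Nat.rec (motive := fun _ => Bool) false (fun m ih => or2 (lit m f) ih) n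
theorem anyF_true {n : ℕ} {f : ℕ → Bool} : anyF n f = true ↔ ∃ a < n, f a = true := by
  induction n with
  | zero => simp [anyF]
  | succ m ih =>
    rw [show anyF (m + 1) f = or2 (f m) (anyF m f) from rfl, or2_true, ih,
      Nat.exists_lt_succ_right, or_comm]

noncomputable instance decEx (P : K → Prop) [DecidablePred P] : Decidable (∃ k, P k) :=
  decidable_of_iff (anyF 1920 (fun c => decide (P (of c))) = true) <| by
    simp only [anyF_true, decide_eq_true_eq]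
    exact ⟨fun ⟨_, _, h⟩ => ⟨_, h⟩, fun ⟨k, h⟩ => ⟨k.val, k.lt, (of_val k).symm ▸ h⟩⟩

instance : Finite K := Finite.of_injective (fun k => (⟨k.val, k.lt⟩ : Fin 1920))
  fun a b h => K.ext (congrArg Fin.val h)

def e0 : K := ⟨1, by decide⟩
def e1 : K := ⟨2, by decide⟩
def z : K := ⟨16, by decide⟩
def a : K := ⟨32, by decide⟩
def n : K := ⟨64, by decide⟩
def x : K := ⟨96, by decide⟩

variable {G : Type*} [Group G] {e : ℕ → G}

/-- The homomorphism given by letters. -/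
noncomputable def hom (h1 : IvOK e iv) (h2 : ∀ r ∈ JM0.R, ev e r = 1) : K →* G where
  toFun k := JM0.C.val e k.val
  map_one' := v_one (JM0.sound h1 h2)
  map_mul' := v_mul (JM0.sound h1 h2)

variable (h1 : IvOK e iv) (h2 : ∀ r ∈ JM0.R, ev e r = 1)

theorem hom_inj (hz : e 5 ≠ 1) : Function.Injective (hom h1 h2) := fun a b h =>
  K.ext (inj_of_z (JM0.sound h1 h2) (by rwa [v16 h1 h2]) _ a.lt _ b.lt h)

theorem hom_range : (hom h1 h2).range = gen e colsM := by
  rw [← sub_eq h1 h2]; ext g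
  exact ⟨fun ⟨k, hk⟩ => ⟨k.val, k.lt, hk⟩, fun ⟨c, hc, h⟩ => ⟨⟨c, hc⟩, h⟩⟩

theorem hom_l (k : K) (l : ℕ) (h : and2 (Cay.lt k.val 1920) (Nat.beq (JM0.C.run [l] 0) k.val) = true) :
    hom h1 h2 k = e l := (vw h1 h2 [l] h).trans (mul_one _)
theorem hom_e0 : hom h1 h2 e0 = e 0 := hom_l _ _ _ _ (by decide +kernel)
theorem hom_e1 : hom h1 h2 e1 = e 1 := hom_l _ _ _ _ (by decide +kernel)
theorem hom_z : hom h1 h2 z = e 5 := hom_l _ _ _ _ (by decide +kernel)
theorem hom_a : hom h1 h2 a = e 6 := hom_l _ _ _ _ (by decide +kernel)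
theorem hom_n : hom h1 h2 n = e 7 := hom_l _ _ _ _ (by decide +kernel)
theorem hom_x : hom h1 h2 x = e 8 := hom_l _ _ _ _ (by decide +kernel)

/-! ### Facts read from the table -/

theorem z_comm : ∀ k : K, z * k = k * z := by decide +kernel

theorem classes (k : K) (h : k * k = 1) : k = 1 ∨ k = z ∨ IsConj k e0 ∨ IsConj k a := by
  have key : ∀ k : K, k * k = 1 → k = 1 ∨ k = z ∨
      (∃ g ∈ [0, 2, 64, 66, 256, 258, 576, 578, 608, 610], of g * k * (of g)⁻¹ = e0) ∨
      ∃ g ∈ [0, 2, 4, 6, 8, 10, 12, 14, 64, 66, 68, 70, 72, 74, 76, 78, 96, 98, 100, 102, 104, 106, 108, 110, 128, 130, 132, 134, 136, 138, 140, 142, 256, 258, 260, 262, 264, 266, 268, 270, 288, 290, 292, 294, 296, 298, 300, 302, 320, 322, 324, 326, 328, 330, 332, 334, 576, 578, 580, 582, 584, 586, 588, 590, 608, 610, 612, 614, 616, 618, 620, 622, 672, 674, 676, 678, 680, 682, 684, 686, 704, 706, 708, 710, 712, 714, 716, 718, 1088, 1090, 1092, 1094, 1096, 1098, 1100,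 1102, 1184, 1186, 1188, 1190, 1192, 1194, 1196, 1198, 1248, 1250, 1252, 1254, 1256, 1258, 1260, 1262, 1344, 1346, 1348, 1350, 1352, 1354, 1356, 1358], of g * k * (of g)⁻¹ = a := by decide +kernel
  exact (key k h).imp id (Or.imp id (Or.imp (fun ⟨g, _, h⟩ => isConj_iff.2 ⟨_, h⟩)
    fun ⟨g, _, h⟩ => isConj_iff.2 ⟨_, h⟩))

theorem cent_a : ∀ k : K, k * a = a * k → ∃ v ∈ [1, z, e0, e0 * z],
    ∃ w ∈ [1, a, x * a * x⁻¹, x⁻¹ * a * x], k = v * w := by decide +kernel

theorem cent_a' (k : K) (h : k * a = a * k) :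
    k * k = 1 ∧ (k ∈ [1, z, e0, e0 * z] ∨ IsConj k a) := by
  have key : ∀ k : K, k * a = a * k → k * k = 1 ∧ (k ∈ [1, z, e0, e0 * z] ∨
      ∃ g ∈ [0, 10, 6, 12, 128, 138, 134, 140, 96, 106, 102, 108], of g * k * (of g)⁻¹ = a) := by
    decide +kernel
  exact (key k h).imp id (Or.imp id fun ⟨g, _, h⟩ => isConj_iff.2 ⟨_, h⟩)

theorem three (k : K) (h : k * e0 = e0 * k) (h1 : k * k * k = 1) (h2 : k ≠ 1) :
    ∃ d : K, d * e0 = e0 * d ∧ (d * k * d⁻¹ = x ∨ d * k * d⁻¹ = x⁻¹) := by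
  have key : ∀ k : K, k * e0 = e0 * k → k * k * k = 1 → k ≠ 1 →
      ∃ d ∈ [0, 6, 10, 12, 32, 38, 42, 44, 192, 198, 202, 204, 224, 230, 234, 236],
      of d * e0 = e0 * of d ∧ (of d * k * (of d)⁻¹ = x ∨ of d * k * (of d)⁻¹ = x⁻¹) := by
    decide +kernel
  obtain ⟨d, -, hd⟩ := key k h h1 h2
  exact ⟨_, hd⟩

theorem not_inv : ∀ k : K, k * e0 = e0 * k → k * x * k⁻¹ ≠ x⁻¹ := by decide +kernel

theorem cent_ex : ∀ k : K, k * e0 = e0 * k → k * x = x * k →
    ∃ v ∈ [1, z, e0, e0 * z], ∃ y ∈ [1, x, x⁻¹], k = v * y := by decide +kernel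

/-- The second involution. -/
noncomputable def b : K := e1 * a * e1

/-- The six involutions. -/
noncomputable def six : List K := [a, b, x * a * x⁻¹, x * b * x⁻¹, x⁻¹ * a * x, x⁻¹ * b * x]

theorem mem_six : ∀ d : K, d * e0 = e0 * d → d * d = 1 → d ≠ 1 → d * x * (d * x) * (d * x) = 1 →
    d ∈ six := by decide +kernel

theorem pairs : ∀ c ∈ six, ∀ d ∈ six, c * d = e0 * (d * c) →
    x * c * x⁻¹ * d = e0 * z * (d * (x * c * x⁻¹)) → (c = b ↔ d = a) →
    c = x⁻¹ * b * x ∧ d = x * a * x⁻¹ := by decide +kernel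

theorem cent_x : ∀ k : K, k * x = x * k → (∃ y ∈ [1, x, x⁻¹], ∃ i ∈ [0, 1, 2, 3],
    k * y = (e0 * e1) ^ i ∨ e0 * (k * y) = (e0 * e1) ^ i) ∧
    (k * k * k = 1 → k ∈ [1, x, x⁻¹]) := by decide +kernel

theorem center3 : ∀ k : K, k * a = a * k → k * k * k = 1 → k = 1 := by decide +kernel

theorem five : ∀ k : K, k * e0 = e0 * k → k * k * k * k * k = 1 → k = 1 := by decide +kernel

end K

end H7.JP
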