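import Mathlib
import Cfsg.Agent.H7.DihQuat
import Cfsg.Agent.S0848
import Cfsg.Agent.S0497
import Cfsg.Agent.S1225

/-!
# Lemmas on involutions for the recognition of `J₂` and `J₃`
-/

set_option autoImplicit false
set_option linter.all false

namespace H7.JL

open Subgroup

variable {G : Type*} [Group G] [Finite G]

theorem ord2 {t : G} (h : t * t = 1) (h1 : t ≠ 1) : orderOf t = 2 :=
  orderOf_eq_prime (by rwa [sq]) h1

theorem sq2 {t : G} (h : orderOf t = 2) : t * t = 1 := by rw [← sq, ← h, pow_orderOf_eq_one]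

theorem ne2 {t : G} (h : orderOf t = 2) : t ≠ 1 := by rintro rfl; simp at h

theorem exists_conj_mem {H : Subgroup G} (hH : Odd H.index) {t : G} (ht : t * t = 1) :
    ∃ g, g * t * g⁻¹ ∈ H := by
  have hP : IsPGroup 2 (zpowers t) := fun ⟨_, k, rfl⟩ => ⟨1, Subtype.ext (by
    change (t ^ k) ^ 2 ^ 1 = 1
    rw [pow_one, ← zpow_natCast, ← zpow_mul, mul_comm, zpow_mul, zpow_natCast, sq, ht, one_zpow])⟩
  obtain ⟨y, hy⟩ := hP.nonempty_fixed_point_of_prime_not_dvd_card (G ⧸ H)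
    (fun h => Nat.not_even_iff_odd.2 hH (even_iff_two_dvd.2 h))
  obtain ⟨g, rfl⟩ := QuotientGroup.mk_surjective y
  have := QuotientGroup.eq.1 (hy ⟨t, mem_zpowers t⟩ : ((t * g : G) : G ⧸ H) = g).symm
  exact ⟨g⁻¹, by simpa [mul_assoc] using this⟩

theorem exists_invol {H : Subgroup G} (h : ¬ Odd (Nat.card H)) : ∃ t ∈ H, orderOf t = 2 := by
  obtain ⟨t, ht⟩ := exists_prime_orderOf_dvd_card' (G := H) 2
    (even_iff_two_dvd.1 (Nat.not_odd_iff_even.1 h))
  exact ⟨t, t.2, by rwa [Subgroup.orderOf_coe]⟩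

theorem eq_one_of_odd {H : Subgroup G} (h : Odd (Nat.card H)) {g : G} (hg : g ∈ H) {k : ℕ}
    (h1 : g ^ 2 ^ k = 1) : g = 1 :=
  orderOf_eq_one_iff.1 (Nat.eq_one_of_dvd_coprimes (Nat.Coprime.pow_left k
    (Nat.coprime_two_left.2 h)) (orderOf_dvd_of_pow_eq_one h1) (H.orderOf_dvd_natCard hg))

theorem ord_conj {a b : G} (h : IsConj a b) : orderOf b = orderOf a := by
  obtain ⟨c, rfl⟩ := isConj_iff.1 h
  exact (MulAut.conj c).orderOf_eq a

theorem inv_of_fpf {K : Subgroup G} [K.Normal] {u : G} (hu : u * u = 1)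
    (h : ∀ k ∈ K, Commute u k → k = 1) {k : G} (hk : k ∈ K) : u * k * u⁻¹ = k⁻¹ := by
  have := MonoidHom.FixedPointFree.coe_eq_inv_of_involutive (φ := MulAut.conjNormal (H := K) u)
    (fun g hg => Subtype.ext (h g g.2 (mul_inv_eq_iff_eq_mul.1 (congrArg Subtype.val hg))))
    fun g => Subtype.ext (by
      simp only [MulAut.conjNormal_apply]
      rw [← inv_eq_of_mul_eq_one_left hu]; simp [mul_assoc, inv_eq_of_mul_eq_one_left hu,
        ← mul_assoc u u, hu])
  exact congrArg Subtype.val (congrFun this ⟨k, hk⟩)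

/-- The consequences of strong embedding. -/
theorem se {H : Subgroup G} {t : G} (ht : t ∈ H) (h2 : orderOf t = 2)
    (hH : ∀ t ∈ H, orderOf t = 2 → ∀ g, g * t * g⁻¹ ∈ H → g ∈ H) (hne : H ≠ ⊤) :
    (∀ a b : G, orderOf a = 2 → orderOf b = 2 → IsConj a b) ∧ ∃ D ≤ H, Odd (Nat.card D) ∧
      ∀ g ∈ H, ∃ d ∈ D, d * t * d⁻¹ = g * t * g⁻¹ := by
  have co : ∀ g s : G, orderOf (g * s * g⁻¹) = orderOf s := fun g s =>
    (MulAut.conj g).orderOf_eq s
  have hS : Cfsg.IsStronglyEmbedded H := ⟨hne, even_iff_two_dvd.2 (h2 ▸ H.orderOf_dvd_natCard ht),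
    fun g hg => by
      by_contra h
      obtain ⟨_, ⟨h3, s, h4, rfl⟩, h5⟩ := exists_invol h
      exact hg (hH s h4 ((co g s).symm.trans h5) g h3)⟩
  obtain ⟨g, hg⟩ : ∃ g, g ∉ H := by simpa [eq_top_iff'] using hne
  have hu := fun h => hg (hH t ht h2 g h)
  have key := Cfsg.Agent.S1225.result H hS _ ((co g t).trans h2) hu t
  exact ⟨(key t h2 ht h2 ht).2, _, inf_le_left, hS.2.2 _ hu, fun g' hg' =>
    (key _ h2 ht ((co g' t).trans h2) (mul_mem (mul_mem hg' ht) (inv_mem hg'))).1⟩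

/-- The order of `s t` in the amalgam of two groups `S₄` over `D₈`. -/
theorem amalgam {p q s t z : G} (hp : p * p = 1) (hq : q * q = 1) (hs : s * s = 1) (ht : t * t = 1)
    (hz : p * q * (p * q) = z) (z1 : z ≠ 1) (zz : z * z = 1) (sz : s * z * s = p)
    (tz : t * z * t = q) (sq3 : (s * q) ^ 3 = 1) (tp3 : (t * p) ^ 3 = 1)
    (top : ∀ W : Subgroup G, p ∈ W → q ∈ W → s ∈ W → t ∈ W → W = ⊤)
    (hC : ∀ g, Commute z g → g ∈ zpowers (p * q) ∨ p * g ∈ zpowers (p * q)) :
    (s * t) ^ 3 = 1 ∨ (s * t) ^ 4 = 1 ∨ (s * t) ^ 5 = 1 := by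
  have ip := inv_eq_of_mul_eq_one_left hp
  have iq := inv_eq_of_mul_eq_one_left hq
  have is := inv_eq_of_mul_eq_one_left hs
  have it := inv_eq_of_mul_eq_one_left ht
  have pp : ∀ y, p * (p * y) = y := fun y => by rw [← mul_assoc, hp, one_mul]
  have qq : ∀ y, q * (q * y) = y := fun y => by rw [← mul_assoc, hq, one_mul]
  have zi : q * (p * (q * p)) = z := by
    rw [← inv_eq_of_mul_eq_one_left zz, ← hz]; simp [ip, iq, mul_assoc]
  have o4 : orderOf (p * q) = 4 := orderOf_eq_prime_pow (p := 2) (n := 1)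
    (by rwa [pow_one, sq, hz]) (by rw [← zz, ← hz]; simp [pow_succ, mul_assoc])
  have cp : Commute z p := by
    change z * p = p * z
    nth_rewrite 2 [← zi]; rw [← hz]; simp only [mul_assoc]
  have cc : Commute z (p * q) := hz ▸ (Commute.refl _).mul_left (Commute.refl _)
  have pc : p * (p * q) * p⁻¹ = (p * q)⁻¹ := by simp [ip, iq, hp, ← mul_assoc]
  obtain ⟨e⟩ : Nonempty (centralizer {z} ≃* DihedralGroup 4) :=
    nonempty_equiv_dihedral 4 ⟨p * q, mem_centralizer_singleton_iff.2 cc.symm⟩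
      ⟨p, mem_centralizer_singleton_iff.2 cp.symm⟩ (by rw [← Subgroup.orderOf_coe]; exact o4)
      (Subtype.ext hp) (Subtype.ext pc) (fun ⟨k, hk⟩ => by
        have h1 : (p * q) ^ k = p := congrArg Subtype.val hk
        have h2 : Commute p (p * q) := by
          nth_rewrite 1 [← h1]; exact (Commute.refl _).zpow_left k
        rw [h2.eq, mul_inv_cancel_right] at pc
        exact z1 (by rw [← hz]; nth_rewrite 1 [pc]; exact inv_mul_cancel _))
      fun g => (hC g (mem_centralizer_singleton_iff.1 g.2).symm).imp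
        (fun ⟨k, hk⟩ => ⟨k, Subtype.ext hk⟩) fun ⟨k, hk⟩ => ⟨k, Subtype.ext (hk.trans (by simp [ip]))⟩
  have c8 : Nat.card (centralizer ({z} : Set G)) = 8 := by
    rw [Nat.card_congr e.toEquiv, DihedralGroup.nat_card]
  have j1 : IsConj z p := isConj_iff.2 ⟨s, by rw [is, sz]⟩
  have j2 : IsConj z q := isConj_iff.2 ⟨t, by rw [it, tz]⟩
  have br : ∀ {a b : G}, a * a = 1 → b * b = 1 → (a * b) ^ 3 = 1 → IsConj b a := fun {a b} h1 h2 h3 =>
    isConj_iff.2 ⟨b * a, by
      rw [← mul_right_inj a, h1, ← h3, mul_inv_rev, inv_eq_of_mul_eq_one_left h1,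
        inv_eq_of_mul_eq_one_left h2]; simp [pow_succ, mul_assoc]⟩
  have nt : ∀ (W : Subgroup G) [W.Normal], z ∈ W → W = ⊤ := fun W hW h => by
    have k : ∀ {y}, IsConj z y → y ∈ W := fun hy => by
      obtain ⟨c, rfl⟩ := isConj_iff.1 hy; exact hW.conj_mem _ h c
    exact top W (k j1) (k j2) (k (j2.trans (br hs hq sq3))) (k (j1.trans (br ht hp tp3)))
  have hL := Cfsg.Agent.S0848.result (nt _ (by
    rw [← hz, commutator_def]; simpa [commutatorElement_def, ip, iq, mul_assoc] using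
      commutator_mem_commutator (mem_top p) (mem_top q))) z (ord2 zz z1) e
  have c4 : ∀ g, Commute z g → (∃ i < 4, g = (p * q) ^ i) ∨ ∃ i < 4, g = p * (p * q) ^ i :=
    fun g hg => by
      have k : ∀ {y}, y ∈ zpowers (p * q) → ∃ i < 4, y = (p * q) ^ i := fun hy => by
        classical
        obtain ⟨i, h1, h2⟩ := Finset.mem_image.1 (mem_zpowers_iff_mem_range_orderOf.1 hy)
        exact ⟨i, o4 ▸ Finset.mem_range.1 h1, h2.symm⟩
      exact (hC g hg).imp k fun h => (k h).imp fun i hi => ⟨hi.1, by rw [← hi.2, pp]⟩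
  have cj : ∀ u, orderOf u = 2 → IsConj z u := fun u hu => by
    have := (centralizer ({z} : Set G)).index_mul_card
    obtain ⟨g, hg⟩ := exists_conj_mem (H := centralizer {z}) (by
      rcases hL with h | h <;> rw [c8, h] at this
      exacts [⟨10, by omega⟩, ⟨22, by omega⟩]) (sq2 hu)
    refine IsConj.trans ?_ (isConj_iff.2 ⟨g, rfl⟩).symm
    have h1 : orderOf (g * u * g⁻¹) = 2 := ((MulAut.conj g).orderOf_eq u).trans hu
    generalize g * u * g⁻¹ = w at hg h1
    rcases c4 w (mem_centralizer_singleton_iff.1 hg).symm with ⟨i, hi, rfl⟩ | ⟨i, hi, rfl⟩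
    · rw [orderOf_pow, o4] at h1
      interval_cases i <;> simp at h1
      rw [sq, hz]
    · interval_cases i
      · simpa using j1
      · simpa [pp] using j2
      · exact j1.trans (isConj_iff.2 ⟨q, by simp [pow_succ, mul_assoc, iq, pp]⟩)
      · exact j2.trans (isConj_iff.2 ⟨p, by
          rw [show p * (p * q) ^ 3 = q * (p * (q * p)) * q by simp [pow_succ, mul_assoc, pp], zi, ← hz]
          simp [mul_assoc, ip, hq]⟩)
  have e4 : ∀ u g : G, orderOf u = 2 → Commute u g → g ^ 4 = 1 := fun u g hu hg => by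
    obtain ⟨c, rfl⟩ := isConj_iff.1 (cj u hu)
    have h1 : c⁻¹ * g * c ∈ centralizer {z} := mem_centralizer_singleton_iff.2 (by
      have := congrArg (fun y => c⁻¹ * y * c) hg.eq
      simpa [mul_assoc] using this.symm)
    have h2 : ∀ y : DihedralGroup 4, y ^ 4 = 1 := by decide
    have h3 := congrArg Subtype.val (e.injective ((map_pow e ⟨_, h1⟩ 4).trans
      ((h2 _).trans (map_one e).symm)))
    have h4 : (c⁻¹ * g * c⁻¹⁻¹) ^ 4 = 1 := by simpa using h3
    rwa [conj_pow, conj_eq_one_iff] at h4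
  have : Nontrivial G := ⟨z, 1, z1⟩
  have : IsSimpleGroup G := ⟨fun N hN => by
    by_cases h : Odd (Nat.card N)
    · have k : ∀ u, orderOf u = 2 → ∀ k ∈ N, Commute u k → k = 1 := fun u hu k hk h1 =>
        eq_one_of_odd h hk (k := 2) (e4 u k hu h1)
      have op : orderOf p = 2 := (ord_conj j1).trans (ord2 zz z1)
      refine Or.inl ((eq_bot_iff_forall _).2 fun y hy => k (z * p) (ord2 (by
        rw [mul_assoc, ← mul_assoc p, ← cp.eq, mul_assoc, hp, mul_one, zz]) fun h1 => ?_) y hy ?_)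
      · rw [eq_inv_of_mul_eq_one_left h1, ip] at hz
        rw [eq_inv_of_mul_eq_one_left h1, ip] at z1
        have h2 := congrArg (fun y => q * p * y * q * p * q) hz
        exact z1 (by simpa [mul_assoc, pp, qq, hq, hp] using h2)
      · have h1 := inv_of_fpf hp (k _ op) hy
        have h2 := inv_of_fpf zz (k _ (ord2 zz z1)) (inv_mem hy)
        rw [inv_inv, ← h1] at h2
        exact mul_inv_eq_iff_eq_mul.1 (by simpa [mul_assoc] using h2)
    · obtain ⟨u, h1, h2⟩ := exists_invol h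
      obtain ⟨c, hc⟩ := isConj_iff.1 (cj u h2).symm
      exact Or.inr (nt N (hc ▸ hN.conj_mem _ h1 c))⟩
  rcases hL with hL | hL
  · have hd := hL ▸ orderOf_dvd_natCard (s * t)
    by_cases h2 : 2 ∣ orderOf (s * t)
    · refine Or.inr (Or.inl (e4 ((s * t) ^ (orderOf (s * t) / 2)) _ ?_ ((Commute.refl _).pow_left _)))
      exact orderOf_pow_orderOf_div (orderOf_pos _).ne' h2
    by_cases h7 : 7 ∣ orderOf (s * t)
    · exfalso
      have : Fact (Nat.Prime 7) := ⟨by norm_num⟩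
      have h3 := orderOf_pow_orderOf_div (orderOf_pos _).ne' h7
      have h4 : s * (s * t) ^ (orderOf (s * t) / 7) * s⁻¹ = ((s * t) ^ (orderOf (s * t) / 7))⁻¹ := by
        rw [← conj_pow, ← inv_pow]; simp [is, it, hs, ← mul_assoc]
      generalize (s * t) ^ (orderOf (s * t) / 7) = y at h3 h4
      let P : Sylow 7 G := Sylow.ofCard (zpowers y) (by
        rw [Nat.card_zpowers, h3, hL, show 168 = 7 ^ 1 * 24 by norm_num, Nat.factorization_mul
          (by decide) (by decide), Nat.Prime.factorization_pow (by norm_num)]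
        simp [Nat.factorization_eq_zero_of_not_dvd])
      have h5 : s ∈ normalizer (P : Set G) := mem_normalizer_fintype (by
        rintro _ ⟨k, rfl⟩
        exact ⟨-k, by simp only [← conj_zpow, h4, zpow_neg, inv_zpow]⟩)
      have h6 := card_sylow_modEq_one 7 G
      have h7 := (normalizer (P : Set G)).index_mul_card
      rw [← P.card_eq_index_normalizer, hL] at h7
      have h8 : 14 ∣ Nat.card (normalizer (P : Set G)) :=
        Nat.Coprime.mul_dvd_of_dvd_of_dvd (m := 2) (n := 7) (by decide)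
          ((ord_conj (j2.trans (br hs hq sq3))).trans (ord2 zz z1) ▸
            Subgroup.orderOf_dvd_natCard _ h5)
          (h3.symm.dvd.trans
            (Subgroup.orderOf_dvd_natCard _ (le_normalizer (H := (P : Subgroup G)) (mem_zpowers y))))
      obtain ⟨m, hm⟩ := h8
      have h9 : Nat.card (Sylow 7 G) = 1 := by
        have : Nat.card (Sylow 7 G) ∣ 12 := ⟨m, by rw [hm] at h7; nlinarith⟩
        exact (by decide : ∀ d ∈ Nat.divisors 12, d % 7 = 1 % 7 → d = 1) _
          (Nat.mem_divisors.2 ⟨this, by decide⟩) h6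
      have := P.card_eq_index_normalizer
      rw [h9, eq_comm, index_eq_one] at this
      rcases (normalizer_eq_top_iff.1 this).eq_bot_or_eq_top with h | h
      · rw [show y = 1 from mem_bot.1 (h ▸ mem_zpowers y)] at h3; simp at h3
      · have : Nat.card (zpowers y) = 168 := by rw [show zpowers y = ⊤ from h, card_top, hL]
        rw [Nat.card_zpowers] at this; omega
    · exact Or.inl (orderOf_dvd_iff_pow_eq_one.1 ((by decide : ∀ d ∈ Nat.divisors 168, ¬ 2 ∣ d →
        ¬ 7 ∣ d → d ∣ 3) _ (Nat.mem_divisors.2 ⟨hd, by decide⟩) h2 h7))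
  · obtain ⟨f⟩ := Cfsg.Agent.S0497.result hL
    have key : ∀ y : Equiv.Perm (Fin 6), Equiv.Perm.sign y = 1 → y ^ 3 = 1 ∨ y ^ 4 = 1 ∨ y ^ 5 = 1 := by
      decide +kernel
    have k : ∀ n, (f (s * t) : Equiv.Perm (Fin 6)) ^ n = 1 → (s * t) ^ n = 1 := fun n h =>
      f.injective (by rw [map_pow, map_one]; exact Subtype.ext h)
    exact (key _ (f (s * t)).2).imp (k 3) (Or.imp (k 4) (k 5))

/-- The same inside the centraliser of an element of order three. -/
theorem amalgam' {p q s t z x : G} (hp : p * p = 1) (hq : q * q = 1) (hs : s * s = 1)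
    (ht : t * t = 1) (hz : p * q * (p * q) = z) (z1 : z ≠ 1) (zz : z * z = 1) (sz : s * z * s = p)
    (tz : t * z * t = q) (sq3 : (s * q) ^ 3 = 1) (tp3 : (t * p) ^ 3 = 1) (x3 : x ^ 3 = 1)
    (xp : Commute x p) (xq : Commute x q) (xs : Commute x s) (xt : Commute x t)
    (hC : ∀ g, Commute z g → Commute x g → ∃ y ∈ zpowers x,
      g * y ∈ zpowers (p * q) ∨ p * (g * y) ∈ zpowers (p * q)) :
    (s * t) ^ 3 = 1 ∨ (s * t) ^ 4 = 1 ∨ (s * t) ^ 5 = 1 := by
  let A := closure ({p, q, s, t} : Set G)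
  have hA : ∀ g : A, Commute x g := fun g => (mem_centralizer_singleton_iff.1
    ((closure_le (centralizer {x})).2 (by
      rintro _ (rfl | rfl | rfl | rfl) <;> apply mem_centralizer_singleton_iff.2 <;> symm <;>
        assumption) g.2)).symm
  have mp : p ∈ A := subset_closure (by simp)
  have mq : q ∈ A := subset_closure (by simp)
  have ms : s ∈ A := subset_closure (by simp)
  have mt : t ∈ A := subset_closure (by simp)
  have mz : z ∈ A := hz ▸ mul_mem (mul_mem mp mq) (mul_mem mp mq)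
  have k3 : ∀ {y}, y ∈ zpowers x → y * y = 1 → y = 1 := by
    rintro _ ⟨k, rfl⟩ h
    have : (x ^ k) ^ 3 = 1 := by
      rw [← zpow_natCast, ← zpow_mul, mul_comm, zpow_mul, zpow_natCast, x3, one_zpow]
    simpa only [pow_succ, pow_zero, one_mul, h] using this
  have kc : ∀ {y} (g : A), y ∈ zpowers x → Commute y g := by
    rintro _ g ⟨k, rfl⟩; exact (hA g).zpow_left k
  let X := (zpowers x).subgroupOf A
  have : X.Normal := ⟨fun y hy g => by
    change (g : G) * y * (g : G)⁻¹ ∈ zpowers x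
    rw [← (kc (y := y) g hy).eq, mul_inv_cancel_right]; exact hy⟩
  let π := QuotientGroup.mk' X
  have tr : ∀ {a b : A}, (a : G) = b → π a = π b := fun h => congrArg π (Subtype.ext h)
  have k1 : ∀ a : A, π a = 1 ↔ (a : G) ∈ zpowers x := fun a => QuotientGroup.eq_one_iff a
  have key := amalgam (p := π ⟨p, mp⟩) (q := π ⟨q, mq⟩) (s := π ⟨s, ms⟩) (t := π ⟨t, mt⟩)
    (z := π ⟨z, mz⟩) (tr (b := 1) hp) (tr (b := 1) hq) (tr (b := 1) hs) (tr (b := 1) ht) (tr hz)
    (fun h => z1 (k3 ((k1 _).1 h) zz)) (tr (b := 1) zz) (tr sz) (tr tz)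
    (tr (a := (⟨s, ms⟩ * ⟨q, mq⟩) ^ 3) (b := 1) sq3) (tr (a := (⟨t, mt⟩ * ⟨p, mp⟩) ^ 3) (b := 1) tp3)
    (fun W h1 h2 h3 h4 => (eq_top_iff' _).2 fun g => by
      obtain ⟨g, rfl⟩ := QuotientGroup.mk'_surjective X g
      obtain ⟨g', h5, h6⟩ := (closure_le ((W.comap π).map A.subtype)).2 (by
        rintro _ (rfl | rfl | rfl | rfl)
        exacts [⟨_, h1, rfl⟩, ⟨_, h2, rfl⟩, ⟨_, h3, rfl⟩, ⟨_, h4, rfl⟩]) g.2
      exact Subtype.ext h6 ▸ h5)
    fun g hg => by
      obtain ⟨g, rfl⟩ := QuotientGroup.mk'_surjective X g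
      have h1 : z * ((g : G) * z * (g : G)⁻¹) ∈ zpowers x := by
        refine (k1 (⟨z, mz⟩ * (g * ⟨z, mz⟩ * g⁻¹))).1 ?_
        change π _ * (π g * π _ * (π g)⁻¹) = 1
        rw [← hg.eq, mul_inv_cancel_right]; exact tr (b := 1) zz
      have h2 := k3 h1 (by
        rw [← mul_assoc _ z, (kc ⟨z, mz⟩ h1).eq]
        simp only [← mul_assoc, zz, one_mul, inv_mul_cancel_right]
        rw [mul_assoc (g : G) z z, zz]; simp)
      have h3 : Commute z g := by
        rw [mul_eq_one_iff_eq_inv, mul_inv_rev, mul_inv_rev, inv_inv,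
          inv_eq_of_mul_eq_one_left zz, ← mul_assoc, eq_mul_inv_iff_mul_eq] at h2
        exact h2
      obtain ⟨y, h4, h5⟩ := hC g h3 (hA g)
      have k : ∀ a : A, (a : G) * y ∈ zpowers (p * q) → π a ∈ zpowers (π ⟨p, mp⟩ * π ⟨q, mq⟩) := by
        rintro a ⟨k, hk⟩
        refine ⟨k, inv_mul_eq_one.1 ?_⟩
        refine (k1 (((⟨p, mp⟩ * ⟨q, mq⟩ : A) ^ k)⁻¹ * a)).2 ?_
        change ((p * q) ^ k)⁻¹ * (a : G) ∈ zpowers x
        simp only at hk
        simpa [hk] using h4
      exact h5.imp (k g) fun h => k (⟨p, mp⟩ * g) (by simpa [mul_assoc] using h)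
  have k : ∀ n, (π ⟨s, ms⟩ * π ⟨t, mt⟩) ^ n = 1 → (s * t) ^ n = 1 := fun n h => by
    have h1 : (s * t) ^ n ∈ zpowers x :=
      (k1 ((⟨s, ms⟩ * ⟨t, mt⟩) ^ n)).1 h
    refine k3 h1 ?_
    have h2 : s * (s * t) ^ n * s⁻¹ = ((s * t) ^ n)⁻¹ := by
      rw [← conj_pow, ← inv_pow]
      simp [inv_eq_of_mul_eq_one_left hs, inv_eq_of_mul_eq_one_left ht, hs, ← mul_assoc]
    rw [← (kc ⟨s, ms⟩ h1).eq, mul_inv_cancel_right] at h2
    exact mul_eq_one_iff_eq_inv.2 h2
  exact key.imp (k 3) (Or.imp (k 4) (k 5))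

end H7.JL
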