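import Mathlib
import Cfsg.Agent.H7.JA
import Cfsg.Agent.H7.JK
import Cfsg.Agent.H7.JL
import Cfsg.Agent.H7.JT3

/-!
# The involution that interchanges `z` and `e₀`
-/

set_option autoImplicit false
set_option maxRecDepth 100000
set_option linter.all false

namespace H7.JP

open H29 H7.Cay H9.MX K MulAut

variable {G : Type*} [Group G]

/-- The non-split extension does not occur. -/
theorem no_m1 {φ : ℕ → G} (hs : JM1.M.Sound φ) (hi : JM1.M.Inj φ)
    (hc : ∀ g, Commute (φ 16) g ↔ ∃ k < 1920, φ k = g) {g : G}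
    (h1 : Commute (φ 16) (conj g (φ 16))) : conj g (φ 16) = φ 16 := by
  by_contra h2
  have lt : ∀ {k}, k < 1920 → k < JM1.M.n := id
  have z1 : φ 16 ≠ 1 := fun h => absurd (hi 16 (by decide) 0 hs.pos (h.trans hs.zero.symm)) (by decide)
  have zz : φ 16 * φ 16 = 1 := by
    rw [← hs.map_mul 16 (by decide) 16 (by decide), ← hs.zero]
    exact congrArg φ (by decide +kernel)
  have key : ∀ g, Commute (φ 16) (conj g (φ 16)) → conj g (φ 16) ≠ φ 16 →
      ∃ m, Commute (φ 16) m ∧ conj (m * g) (φ 16) = φ 1 := fun g h1 h2 => by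
    obtain ⟨k, hk, h3⟩ := (hc _).1 h1
    have t : allF 1920 (fun k => imp2 (Nat.beq (JM1.M.mul k k) 0) (or2 (Nat.beq k 0)
        (or2 (Nat.beq k 16) (anyL [0, 64, 256, 576, 608, 2, 66, 258, 578, 610] fun m =>
          and2 (Cay.lt m 1920) (Nat.beq (JM1.M.mul m k) (JM1.M.mul 1 m)))))) = true := by
      decide +kernel
    simp only [allF_true, imp2_true, or2_true, nbeq, anyL_true, and2_true, lt_true] at t
    rcases t k hk (hi _ (hs.mul_lt _ hk _ hk) _ hs.pos (by
      rw [hs.map_mul _ hk _ hk, h3, ← map_mul, zz, map_one, hs.zero])) with rfl | rfl | ⟨m, -, a, b⟩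
    · exact absurd ((conj g).injective (h3.symm.trans (hs.zero.trans (map_one _).symm))) z1
    · exact absurd h3.symm h2
    · refine ⟨φ m, (hc _).2 ⟨m, a, rfl⟩, ?_⟩
      have := congrArg φ b
      rw [hs.map_mul _ a _ hk, hs.map_mul _ (by decide) _ a, h3] at this
      rw [map_mul, MulAut.mul_apply, conj_apply, this, mul_inv_cancel_right]
  obtain ⟨m, -, a1⟩ := key g h1 h2
  generalize m * g = g at a1
  have c1 : Commute (φ 16) (φ 1) := (hc _).2 ⟨1, by decide, rfl⟩
  obtain ⟨m, a2, a3⟩ := key g⁻¹ (by simpa [← a1, mul_assoc] using c1.symm.map (conj g⁻¹)) fun h => by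
    have := congrArg (conj g) h
    rw [a1] at this
    exact absurd (hi 16 (by decide) 1 (by decide) (by simpa [mul_assoc] using this)) (by decide)
  have a4 : conj (m * g⁻¹) (φ 1) = φ 16 := by
    rw [← a1, ← MulAut.mul_apply, ← map_mul, inv_mul_cancel_right, conj_apply, ← a2.eq,
      mul_inv_cancel_right]
  generalize conj (m * g⁻¹) = α at a3 a4
  have b1 : ∀ d < 1920, JM1.M.mul 1 d = JM1.M.mul d 1 → JM1.M.mul d d = 16 →
      ∃ c ∈ [42, 43, 58, 59, 780, 781, 796, 797, 838, 839, 854, 855], φ c = α (φ d) :=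
    fun d hd e1 e2 => by
      have e3 : Commute (φ 1) (φ d) := by
        have := congrArg φ e1
        rwa [hs.map_mul _ (by decide) _ hd, hs.map_mul _ hd _ (by decide)] at this
      obtain ⟨c, hc, e4⟩ := (hc _).1 (a4 ▸ e3.map α)
      have t : allF 1920 (fun k => imp2 (Nat.beq (JM1.M.mul k k) 1)
          (anyL [42, 43, 58, 59, 780, 781, 796, 797, 838, 839, 854, 855] (Nat.beq k))) = true := by
        decide +kernel
      simp only [allF_true, imp2_true, nbeq, anyL_true] at t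
      obtain ⟨_, e5, rfl⟩ := t c hc (hi _ (hs.mul_lt _ hc _ hc) _ (by decide) (by
        rw [hs.map_mul _ hc _ hc, e4, ← map_mul, ← hs.map_mul _ hd _ hd, e2, a3]))
      exact ⟨c, e5, e4⟩
  obtain ⟨c, c1, c2⟩ := b1 6 (by decide) (by decide +kernel) (by decide +kernel)
  obtain ⟨d, d1, d2⟩ := b1 778 (by decide) (by decide +kernel) (by decide +kernel)
  have t : ∀ c ∈ [42, 43, 58, 59, 780, 781, 796, 797, 838, 839, 854, 855],
      ∀ d ∈ [42, 43, 58, 59, 780, 781, 796, 797, 838, 839, 854, 855], c < 1920 ∧ d < 1920 ∧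
        JM1.M.mul c d ≠ JM1.M.mul 16 (JM1.M.mul d c) := by decide +kernel
  obtain ⟨t1, t2, t3⟩ := t c c1 d d1
  have t4 := hs.mul_lt _ t2 _ t1
  refine t3 (hi _ (hs.mul_lt _ t1 _ t2) _ (hs.mul_lt _ (by decide) _ t4) ?_)
  rw [hs.map_mul _ t1 _ t2, hs.map_mul _ (by decide) _ t4, hs.map_mul _ t2 _ t1, c2, d2, ← a4,
    ← map_mul, ← map_mul, ← map_mul, ← hs.map_mul _ (by decide) _ (by decide),
    ← hs.map_mul _ (by decide) _ (by decide), ← hs.map_mul _ (by decide) _ (by decide +kernel)]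
  exact congrArg (fun k => α (φ k)) (by decide +kernel)

/-- The centraliser of `ι z` is the image of `K`. -/
structure Emb (ι : K →* G) : Prop where
  inj : Function.Injective ι
  cent : ∀ g, Commute (ι z) g → ∃ k, ι k = g

namespace Emb

variable {ι : K →* G} (h : Emb ι)
include h

theorem comm (k : K) : Commute (ι z) (ι k) := (show Commute z k from z_comm k).map ι
theorem eq {a b : K} : ι a = ι b ↔ a = b := h.inj.eq_iff
theorem cz (k : K) : conj (ι k) (ι z) = ι z := by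
  rw [conj_apply, ← (h.comm k).eq, mul_inv_cancel_right]

theorem fuse {g : G} (h1 : Commute (ι z) (conj g (ι z))) (h2 : conj g (ι z) ≠ ι z) :
    ∃ m, conj (ι m * g) (ι z) = ι e0 ∨ conj (ι m * g) (ι z) = ι a := by
  obtain ⟨k, hk⟩ := h.cent _ h1
  have k1 : ∀ {u}, IsConj k u → ∃ m, conj (ι m * g) (ι z) = ι u := fun hu => by
    obtain ⟨m, rfl⟩ := isConj_iff.1 hu
    exact ⟨m, by rw [map_mul, MulAut.mul_apply, ← hk]; simp⟩
  rcases classes k (h.inj (by rw [map_mul, hk, ← map_mul, ← map_mul,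
    show z * z = 1 by decide +kernel]; simp)) with rfl | rfl | h3 | h3
  · exact absurd (h.inj ((conj g).injective (hk.symm.trans (by simp)) : ι z = ι 1)) (by decide)
  · exact absurd hk.symm h2
  · exact (k1 h3).imp fun _ => Or.inl
  · exact (k1 h3).imp fun _ => Or.inr

theorem back {g : G} {u : K} (h1 : conj g (ι z) = ι u) (h2 : u ≠ z) :
    ∃ g, conj g (ι u) = ι z ∧ (conj g (ι z) = ι e0 ∨ conj g (ι z) = ι a) := by
  obtain ⟨m, hm⟩ := h.fuse (g := g⁻¹) 
    (by simpa [← h1, mul_assoc] using (h.comm u).symm.map (conj g⁻¹))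
    fun h3 => h2 (h.inj (by rw [← h1]; nth_rewrite 1 [← h3]; simp [mul_assoc]))
  exact ⟨_, by rw [← h1, ← MulAut.mul_apply, ← map_mul, inv_mul_cancel_right, h.cz], hm⟩

theorem swap {g : G} (h1 : Commute (ι z) (conj g (ι z))) (h2 : conj g (ι z) ≠ ι z) :
    ∃ g, conj g (ι z) = ι e0 ∧ conj g (ι e0) = ι z := by
  have ca : ∀ {g : G} {u v w : K}, conj g (ι u) = ι z → conj g (ι v) = ι a → u * w = w * u →
      v * w = w * v → ∃ k, ι k = conj g (ι w) ∧ k * a = a * k := fun {g u v w} a1 a2 a3 a4 => by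
    obtain ⟨k, hk⟩ := h.cent _ (a1 ▸ ((show Commute u w from a3).map ι).map (conj g))
    exact ⟨k, hk, h.inj (by rw [map_mul, map_mul, hk, ← a2, ← map_mul, ← map_mul, ← map_mul,
      ← map_mul, a4])⟩
  have key : ∀ g, conj g (ι z) = ι e0 → ∃ g, conj g (ι z) = ι e0 ∧ conj g (ι e0) = ι z :=
    fun g hg => by
      obtain ⟨g, a1, a2 | a2⟩ := h.back hg (by decide)
      · exact ⟨g, a2, a1⟩
      · obtain ⟨k, a3, a4⟩ := ca (w := x) a1 a2 (by decide +kernel) (by decide +kernel)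
        have := congrArg ι (cent_a' k a4).1
        rw [map_mul, a3, ← map_mul, ← map_mul, map_one, MulEquiv.map_eq_one_iff, ← map_one ι] at this
        exact absurd (h.inj this) (by decide +kernel)
  obtain ⟨m, a1 | a1⟩ := h.fuse h1 h2
  · exact key _ a1
  obtain ⟨g, a2, a3 | a3⟩ := h.back a1 (by decide)
  · exact key _ a3
  have cj : ∀ {u : K}, IsConj (ι u) (ι z) → IsConj u e0 →
      ∃ g, conj g (ι z) = ι e0 ∧ conj g (ι e0) = ι z := fun b1 b2 => by
    obtain ⟨c, hc⟩ := isConj_iff.1 (b1.symm.trans (ι.map_isConj b2))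
    exact key c hc
  have az : IsConj (ι a) (ι z) := isConj_iff.2 ⟨g, a2⟩
  have ca' : ∀ {k u : K}, ι k = conj g (ι u) → IsConj k a → IsConj (ι u) (ι z) := fun b1 b2 =>
    (isConj_iff.2 ⟨g, b1.symm⟩).trans ((ι.map_isConj b2).trans az)
  obtain ⟨k, a4, a5⟩ := ca (w := e0) a2 a3 (by decide +kernel) (by decide +kernel)
  have a6 : ι (k * a) = conj g (ι (e0 * z)) := by rw [map_mul, map_mul, map_mul, a4, a3]
  have a7 : IsConj (e0 * z) e0 := isConj_iff.2 ⟨e1, by decide +kernel⟩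
  rcases (cent_a' k a5).2 with a8 | a8
  · simp only [List.mem_cons, List.not_mem_nil, or_false] at a8
    rcases a8 with rfl | rfl | rfl | rfl
    · rw [map_one, eq_comm, MulEquiv.map_eq_one_iff, ← map_one ι] at a4
      exact absurd (h.inj a4) (by decide)
    · exact cj (isConj_iff.2 ⟨g, a4.symm⟩) (IsConj.refl _)
    · exact cj (ca' a6 (isConj_iff.2 ⟨of 10, by decide +kernel⟩)) a7
    · exact cj (ca' a6 (isConj_iff.2 ⟨of 12, by decide +kernel⟩)) a7
  · exact cj (ca' a4 a8) (IsConj.refl _)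

theorem tr {g : G} (g1 : conj g (ι z) = ι e0) (g2 : conj g (ι e0) = ι z) {d : K}
    (hd : d * e0 = e0 * d) : ∃ c, c * e0 = e0 * c ∧ ι c = conj g (ι d) := by
  obtain ⟨c, hc⟩ := h.cent _ (g2 ▸ ((show Commute e0 d from hd.symm).map ι).map (conj g))
  exact ⟨c, h.inj (by rw [map_mul, map_mul, hc, ← g1]; exact ((h.comm d).map (conj g)).symm), hc⟩

/-- An element that fixes `z`, `e₀` and `x`. -/
theorem fix {g : G} (g1 : conj g (ι z) = ι z) (g2 : conj g (ι e0) = ι e0) :
    ∃ k, k * e0 = e0 * k ∧ ι k = g := by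
  obtain ⟨k, rfl⟩ := h.cent g (mul_inv_eq_iff_eq_mul.1 g1).symm
  exact ⟨k, h.inj (by simpa using mul_inv_eq_iff_eq_mul.1 g2), rfl⟩

omit h in
theorem conj_r (g : G) {m u v : K} (h : m * u * m⁻¹ = v) : conj (g * ι m) (ι u) = conj g (ι v) := by
  subst h; simp [mul_assoc]

theorem cube {g : G} (g1 : conj g (ι z) = ι e0) (g2 : conj g (ι e0) = ι z) :
    ∃ k, k * e0 = e0 * k ∧ ι k = (g * ι e1) ^ 3 := by
  have c : ∀ {u v : K}, e1 * u * e1⁻¹ = v → conj (g * ι e1) (ι u) = conj g (ι v) :=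
    conj_r g
  have c1 := (c (u := z) (by decide +kernel)).trans g1
  have c2 : conj (g * ι e1) (ι e0) = ι (e0 * z) := by
    rw [c (v := z * e0) (by decide +kernel), map_mul, map_mul, g1, g2, map_mul]
  have c3 : conj (g * ι e1) (ι (e0 * z)) = ι z := (c (by decide +kernel)).trans g2
  refine h.fix ?_ ?_ <;> simp only [pow_succ, pow_zero, one_mul, map_mul conj (_ * _ * _),
    map_mul conj (_ * _) (_ * _), MulAut.mul_apply, c1, c2, c3]

theorem swapx {g : G} (g1 : conj g (ι z) = ι e0) (g2 : conj g (ι e0) = ι z) :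
    ∃ g, conj g (ι z) = ι e0 ∧ conj g (ι e0) = ι z ∧ conj g (ι x) = ι x := by
  obtain ⟨k, a1, a2⟩ := h.tr g1 g2 (d := x) (by decide +kernel)
  obtain ⟨d, a3, a4⟩ := three k a1 (h.inj (by
    rw [map_mul, map_mul, a2, ← map_mul, ← map_mul, ← map_mul, ← map_mul,
      show x * x * x = 1 by decide +kernel]; simp)) (by
    rintro rfl
    rw [map_one, eq_comm, MulEquiv.map_eq_one_iff, ← map_one ι] at a2
    exact absurd (h.inj a2) (by decide))
  have b1 : conj (ι d * g) (ι z) = ι e0 := by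
    rw [map_mul, MulAut.mul_apply, g1, conj_apply, ← map_mul, a3]; simp
  have b2 : conj (ι d * g) (ι e0) = ι z := by rw [map_mul, MulAut.mul_apply, g2, h.cz]
  have b3 : conj (ι d * g) (ι x) = ι (d * k * d⁻¹) := by
    rw [map_mul, MulAut.mul_apply, ← a2]; simp
  refine ⟨_, b1, b2, a4.elim (fun a4 => a4 ▸ b3) fun a4 => ?_⟩
  rw [a4] at b3
  generalize ι d * g = g at b1 b2 b3
  obtain ⟨c, c1, c2⟩ := h.cube b1 b2
  have c3 : conj (g * ι e1) (ι x) = (ι x)⁻¹ := by
    rw [← map_inv, ← b3]; exact conj_r g (by decide +kernel)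
  refine absurd (h.inj ?_) (not_inv c c1)
  rw [map_mul, map_mul, map_inv, ← conj_apply, c2]
  simp only [pow_succ, pow_zero, one_mul, map_mul conj (_ * _ * _),
    map_mul conj (_ * _) (_ * _), MulAut.mul_apply, c3, map_inv, inv_inv]

/-- The involution `σ`. -/
theorem sigma {g : G} (g1 : conj g (ι z) = ι e0) (g2 : conj g (ι e0) = ι z)
    (g3 : conj g (ι x) = ι x) : ∃ σ, σ * σ = 1 ∧ conj σ (ι z) = ι e0 ∧ conj σ (ι e0) = ι z ∧
      conj σ (ι x) = ι x := by
  obtain ⟨k, a1, a2⟩ := h.fix (g := g * g) (by rw [map_mul, MulAut.mul_apply, g1, g2])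
    (by rw [map_mul, MulAut.mul_apply, g2, g1])
  have gx : Commute g (ι x) := mul_inv_eq_iff_eq_mul.1 g3
  obtain ⟨v, hv, y, hy, rfl⟩ := cent_ex k a1 (h.inj (by
    rw [map_mul, map_mul, a2]; exact gx.mul_left gx))
  have b0 : ∀ y ∈ [1, x, x⁻¹], y * z * y⁻¹ = z ∧ y * e0 * y⁻¹ = e0 ∧ y * x * y⁻¹ = x ∧
      y * (y * y) = 1 := by decide +kernel
  obtain ⟨b1, b2, b3, b4⟩ := b0 y hy
  have gy : Commute g (ι y) := by
    simp only [List.mem_cons, List.not_mem_nil, or_false] at hy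
    rcases hy with rfl | rfl | rfl <;> simp [gx]
  have c0 : g * ι y * (g * ι y) = ι v := by
    rw [mul_assoc, ← mul_assoc (ι y), ← gy.eq, mul_assoc, ← mul_assoc, ← a2, ← map_mul, ← map_mul,
      mul_assoc, b4, mul_one]
  have c1 := (conj_r g b1).trans g1
  have c2 := (conj_r g b2).trans g2
  have c3 := (conj_r g b3).trans g3
  generalize g * ι y = g at c0 c1 c2 c3
  have c4 : conj g (ι v) = ι v := by rw [← c0]; simp [mul_assoc]
  simp only [List.mem_cons, List.not_mem_nil, or_false] at hv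
  rcases hv with rfl | rfl | rfl | rfl
  · exact ⟨g, c0.trans (map_one ι), c1, c2, c3⟩
  · exact absurd (h.inj (c4.symm.trans c1)) (by decide)
  · exact absurd (h.inj (c4.symm.trans c2)) (by decide)
  · refine ⟨g * ι z, ?_, (conj_r g (by decide +kernel)).trans c1,
      (conj_r g (by decide +kernel)).trans c2, (conj_r g (by decide +kernel)).trans c3⟩
    rw [show g * ι z * (g * ι z) = conj g (ι z) * (g * g) * ι z by simp [mul_assoc], c1, c0,
      ← map_mul, ← map_mul, ← map_one ι]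
    exact congrArg ι (by decide +kernel)

theorem braid {σ : G} (g0 : σ * σ = 1) (g1 : conj σ (ι z) = ι e0) (g2 : conj σ (ι e0) = ι z)
    (g3 : conj σ (ι x) = ι x) : (σ * ι e1) ^ 3 = 1 := by
  obtain ⟨k, a1, a2⟩ := h.cube g1 g2
  have gx : Commute σ (ι x) := mul_inv_eq_iff_eq_mul.1 g3
  have ex : Commute (ι e1) (ι x) := (show Commute e1 x from by
    change _ = _; decide +kernel).map ι
  obtain ⟨v, hv, y, hy, rfl⟩ := cent_ex k a1 (h.inj (by
    rw [map_mul, map_mul, a2]; exact (gx.mul_left ex).pow_left 3))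
  have gy : conj σ (ι y) = ι y := by
    simp only [List.mem_cons, List.not_mem_nil, or_false] at hy
    rcases hy with rfl | rfl | rfl
    exacts [by simp, g3, by rw [map_inv, map_inv, g3]]
  have c1 : conj σ (ι (v * y)) = ι (v * y)⁻¹ := by
    rw [map_inv, a2, map_pow, ← inv_pow]
    simp [inv_eq_of_mul_eq_one_left g0, g0, ← mul_assoc, ← map_inv,
      show e1⁻¹ = e1 by decide +kernel]
  have c2 : conj σ (ι (e1 * (v * y) * e1⁻¹)) = ι (v * y) := by
    rw [← conj_r σ rfl, a2]; simp [pow_succ, mul_assoc]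
  have c3 : conj σ (ι (e0 * z)) = ι (e0 * z) := by
    rw [map_mul, map_mul, g1, g2, ← map_mul, z_comm, map_mul]
  have c4 : ∀ {v'}, conj σ (ι v) = ι v' → v' * y = (v * y)⁻¹ := fun hv' =>
    h.inj (by rw [← c1, map_mul, map_mul, map_mul, hv', gy])
  have key : ∀ y ∈ [1, x, x⁻¹], (1 * y = (1 * y)⁻¹ → 1 * y = 1) ∧ e0 * y ≠ (z * y)⁻¹ ∧
      z * y ≠ (e0 * y)⁻¹ ∧ (e0 * z * y = (e0 * z * y)⁻¹ →
        e1 * (e0 * z * y) * e1⁻¹ = e0 ∧ z ≠ e0 * z * y) := by decide +kernel
  obtain ⟨k1, k2, k3, k4⟩ := key y hy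
  simp only [List.mem_cons, List.not_mem_nil, or_false] at hv
  rcases hv with rfl | rfl | rfl | rfl
  · rw [← a2, k1 (c4 (by simp)), map_one]
  · exact absurd (c4 g1) k2
  · exact absurd (c4 g2) k3
  · obtain ⟨k5, k6⟩ := k4 (c4 c3)
    rw [k5, g2] at c2
    exact absurd (h.inj c2) k6

theorem act {σ : G} (g0 : σ * σ = 1) (g1 : conj σ (ι z) = ι e0) (g2 : conj σ (ι e0) = ι z)
    (g3 : conj σ (ι x) = ι x) :
    conj σ (ι a) = ι (x⁻¹ * b * x) ∧ conj σ (ι b) = ι (x * a * x⁻¹) := by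
  have inv : ∀ y, conj σ (conj σ y) = y := fun y => by
    rw [← MulAut.mul_apply, ← map_mul, g0, map_one, MulAut.one_apply]
  have key : ∀ d : K, d * e0 = e0 * d → d * d = 1 → d ≠ 1 → d * x * (d * x) * (d * x) = 1 →
      ∃ c ∈ six, ι c = conj σ (ι d) := fun d a1 a2 a3 a4 => by
    obtain ⟨c, b1, b2⟩ := h.tr g1 g2 a1
    refine ⟨c, mem_six c b1 (h.inj ?_) ?_ (h.inj ?_), b2⟩
    · rw [map_mul, b2, ← map_mul, ← map_mul, a2]; simp
    · rintro rfl
      rw [map_one, eq_comm, MulEquiv.map_eq_one_iff, ← map_one ι] at b2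
      exact a3 (h.inj b2)
    · have := congrArg (fun y => conj σ (ι y)) a4
      simpa only [map_mul, g3, ← b2, map_one] using this
  obtain ⟨c, c1, c2⟩ := key a (by decide +kernel) (by decide +kernel) (by decide) (by decide +kernel)
  obtain ⟨d, d1, d2⟩ := key b (by decide +kernel) (by decide +kernel) (by decide +kernel)
    (by decide +kernel)
  obtain ⟨rfl, rfl⟩ := pairs c c1 d d1 (h.inj (by
    have := congrArg (fun y => conj σ (ι y)) (show a * b = z * (b * a) by decide +kernel)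
    simpa only [map_mul, g1, ← c2, ← d2] using this)) (h.inj (by
    have := congrArg (fun y => conj σ (ι y))
      (show x * a * x⁻¹ * b = z * e0 * (b * (x * a * x⁻¹)) by decide +kernel)
    simpa only [map_mul, map_inv, g1, g2, g3, ← c2, ← d2] using this))
    ⟨fun e => h.inj (by rw [d2, ← e, c2, inv]), fun e => h.inj (by rw [c2, ← e, d2, inv])⟩
  exact ⟨c2.symm, d2.symm⟩

end Emb

end H7.JP
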