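import Mathlib
import Cfsg.Agent.H7.JB
import Cfsg.Agent.H7.J2
import Cfsg.Agent.H7.J3

/-!
# The subgroup generated by `C(z)` and `σ`
-/

set_option autoImplicit false
set_option maxRecDepth 100000
set_option linter.all false

namespace H7.JP

open H29 H7.Cay H9.MX K MulAut

variable {G : Type*} [Group G] {e : ℕ → G}

theorem emb (h1 : IvOK e iv) (h2 : ∀ r ∈ JM0.R, ev e r = 1) (hz : e 5 ≠ 1)
    (hc : ∀ g, Commute (e 5) g → g ∈ gen e colsM) : Emb (hom h1 h2) :=
  ⟨hom_inj h1 h2 hz, fun g hg => (hom_range h1 h2).ge (hc g (hom_z h1 h2 ▸ hg))⟩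

/-- The amalgam inside `G`. -/
structure Am (e : ℕ → G) : Prop where
  iv : IvOK e iv
  rel : ∀ r ∈ R, ev e r = 1
  nz : e 5 ≠ 1
  cent : ∀ g, Commute (e 5) g → g ∈ gen e colsM
  sz : e 10 * e 5 * e 10 = e 0

theorem exists_am (h1 : IvOK e iv) (h2 : ∀ r ∈ JM0.R, ev e r = 1) (hz : e 5 ≠ 1)
    (hc : ∀ g, Commute (e 5) g → g ∈ gen e colsM) {g : G} (g1 : Commute (e 5) (conj g (e 5)))
    (g2 : conj g (e 5) ≠ e 5) : ∃ e' : ℕ → G, Am e' := by
  have h := emb h1 h2 hz hc
  rw [← hom_z h1 h2] at g1 g2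
  obtain ⟨g, a1, a2⟩ := h.swap g1 g2
  obtain ⟨g, a1, a2, a3⟩ := h.swapx a1 a2
  obtain ⟨σ, a0, a1, a2, a3⟩ := h.sigma a1 a2 a3
  have a4 := h.braid a0 a1 a2 a3
  obtain ⟨a5, a6⟩ := h.act a0 a1 a2 a3
  have is := inv_eq_of_mul_eq_one_left a0
  simp only [b, map_mul, map_inv, conj_apply, is, hom_z, hom_e0, hom_e1, hom_a, hom_x] at a1 a3 a4 a5 a6
  have u : ∀ {c}, c ≠ 10 → Function.update e 10 σ c = e c := fun h => Function.update_of_ne h _ _
  have i1 : e 1 * e 1 = 1 := by nth_rewrite 1 [show e 1 = (e 1)⁻¹ from h1 1]; simp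
  have i6 : e 6 * e 6 = 1 := by nth_rewrite 1 [show e 6 = (e 6)⁻¹ from h1 6]; simp
  have i9 : e 9 = (e 8)⁻¹ := h1 8
  have ss : ∀ y, σ * (σ * y) = y := fun y => by rw [← mul_assoc, a0, one_mul]
  have s1 : ∀ y, e 1 * (e 1 * y) = y := fun y => by rw [← mul_assoc, i1, one_mul]
  have s6 : ∀ y, e 6 * (e 6 * y) = y := fun y => by rw [← mul_assoc, i6, one_mul]
  refine ⟨Function.update e 10 σ, fun c => ?_, rels_append (fun r hr => ?_) ?_, by rwa [u (by decide)],
    fun g hg => ?_, by simpa using a1⟩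
  · by_cases hc : c = 10
    · subst hc; exact is.symm
    · rw [u hc, u, h1]
      by_cases h10 : c < 10
      · clear hc; revert c; decide
      · rwa [show iv c = c from nth_default _ (by simpa [JM0.ivl] using h10)]
  · rw [← h2 r hr]
    exact ev_congr fun c hc => u ((by decide : ∀ r ∈ JM0.R, ∀ c ∈ r, c ≠ 10) r hr c hc)
  · simp only [RY, List.mem_cons, List.not_mem_nil, or_false]
    rintro _ (rfl | rfl | rfl | rfl) <;>
      simp only [ev_cons, ev_nil, Function.update_self, u, ne_eq, Nat.reduceEqDiff, not_false_eq_true,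
        OfNat.one_ne_ofNat, i9, mul_one]
    · nth_rewrite 1 [← a3]; simp [mul_assoc, ss, is, a0]
    · simpa only [mul_assoc, ss, a0, i6, mul_one] using
        (congrArg (fun y => e 6 * (σ * (y * σ))) a5).symm
    · simpa only [mul_assoc, ss, a0, i1, s1, s6, mul_one] using
        (congrArg (fun y => e 1 * (e 6 * (e 1 * (σ * (y * σ))))) a6).symm
    · simpa [pow_succ, mul_assoc] using a4
  · rw [gen_congr fun c hc => u (by revert c; decide)]
    exact hc g (by rwa [u (by decide)] at hg)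

namespace Am

variable (h : Am e)
include h

/-- The embedding of the table. -/
noncomputable abbrev ι : K →* G := hom h.iv (rM h.rel)
theorem emb : Emb h.ι := JP.emb h.iv (rM h.rel) h.nz h.cent
theorem zz : e 5 * e 5 = 1 := by nth_rewrite 1 [show e 5 = (e 5)⁻¹ from h.iv 5]; simp

theorem tr {u v : K} (huv : u = v) : h.ι u = h.ι v := congrArg _ huv

theorem not_mem : e 10 ∉ gen e colsM := fun h1 => by
  obtain ⟨k, hk⟩ := (hom_range h.iv (rM h.rel)).ge h1
  have h2 := h.sz
  have h3 := (h.emb.comm k).eq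
  rw [hom_z, hk] at h3
  rw [← h3, mul_assoc, show e 10 * e 10 = 1 by nth_rewrite 1 [← s_inv h.iv]; simp, mul_one,
    ← hom_z h.iv (rM h.rel), ← hom_e0 h.iv (rM h.rel)] at h2
  exact absurd (h.emb.inj h2) (by decide)

theorem dich [Finite G] : (∀ r ∈ R2, ev e r = 1) ∨ ∀ r ∈ R3 ++ [J3P.W], ev e r = 1 := by
  have ss : e 10 * e 10 = 1 := by nth_rewrite 1 [← s_inv h.iv]; simp
  have f1 := h.tr (show e0 * e0 = 1 by decide +kernel)
  have f2 := h.tr (show e1 * e1 = 1 by decide +kernel)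
  have f3 := h.tr (show n * n = 1 by decide +kernel)
  have f4 := h.tr (show e0 * e1 * (e0 * e1) = z by decide +kernel)
  have f5 := h.tr (show z * n = n * z by decide +kernel)
  have f6 := h.tr (show e0 * n = n * e1 by decide +kernel)
  have f7 := h.tr (show x ^ 3 = 1 by decide +kernel)
  have f8 := h.tr (show x * e0 = e0 * x by decide +kernel)
  have f9 := h.tr (show x * e1 = e1 * x by decide +kernel)
  have f10 := h.tr (show x * n = n * x⁻¹ by decide +kernel)
  have f11 := h.tr (show x⁻¹ * n = n * x by decide +kernel)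
  simp only [map_mul, map_inv, map_pow, map_one, hom_z, hom_e0, hom_e1, hom_n, hom_x]
    at f1 f2 f3 f4 f5 f6 f7 f8 f9 f10 f11
  have i9 : e 9 = (e 8)⁻¹ := h.iv 8
  have nn : ∀ y, e 7 * (e 7 * y) = y := fun y => by rw [← mul_assoc, f3, one_mul]
  have r1 : Commute (e 8) (e 10) := by
    have := h.rel [8, 10, 9, 10] (by decide)
    simp only [ev_cons, ev_nil, mul_one, i9] at this
    nth_rewrite 2 [← s_inv h.iv] at this
    exact commutatorElement_eq_one_iff_commute.1 (by rw [← this, commutatorElement_def]; group)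
  have r2 : (e 10 * e 1) ^ 3 = 1 := by
    simpa [pow_succ, mul_assoc] using h.rel [10, 1, 10, 1, 10, 1] (by decide)
  have tt : e 7 * e 10 * e 7 * (e 7 * e 10 * e 7) = 1 := by
    simp only [mul_assoc, nn]; rw [← mul_assoc (e 10), ss, one_mul, f3]
  have tz : e 7 * e 10 * e 7 * e 5 * (e 7 * e 10 * e 7) = e 1 := by
    have : e 7 * (e 10 * e 5 * e 10) * e 7 = e 1 := by rw [h.sz, mul_assoc, f6, nn]
    rw [← this]
    simp only [mul_assoc]
    rw [← mul_assoc (e 5), f5, mul_assoc, nn]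
  have tp : (e 7 * e 10 * e 7 * e 0) ^ 3 = 1 := by
    have : e 7 * e 10 * e 7 * e 0 = e 7 * (e 10 * e 1) * (e 7)⁻¹ := by
      rw [eq_mul_inv_iff_mul_eq, mul_assoc, mul_assoc, f6, nn, mul_assoc]
    rw [this, conj_pow, r2]; simp
  have xt : Commute (e 8) (e 7 * e 10 * e 7) := by
    change _ = _
    rw [← mul_assoc, ← mul_assoc, f10, mul_assoc (e 7), r1.inv_left.eq, mul_assoc, mul_assoc, f11]
    simp only [mul_assoc]
  have cx : ∀ g, Commute (e 5) g → Commute (e 8) g → ∃ k, h.ι k = g ∧ k * x = x * k :=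
    fun g h1 h2 => by
      obtain ⟨k, rfl⟩ := h.emb.cent g (by rwa [hom_z])
      exact ⟨k, rfl, h.emb.inj (by rw [map_mul, map_mul, hom_x, h2.eq])⟩
  have pw : ∀ k, (e 10 * (e 7 * e 10 * e 7)) ^ k = (e 10 * e 7) ^ (2 * k) := fun k => by
    rw [pow_mul, sq]; simp only [mul_assoc]
  rcases JL.amalgam' f1 f2 ss tt f4 h.nz h.zz h.sz tz r2 tp f7 f8 f9 r1 xt (fun g h1 h2 => by
    obtain ⟨k, rfl, h3⟩ := cx g h1 h2
    obtain ⟨y, h4, i, -, h5⟩ := (cent_x k h3).1
    refine ⟨h.ι y, ?_, h5.imp (fun h5 => ⟨i, ?_⟩) fun h5 => ⟨i, ?_⟩⟩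
    · simp only [List.mem_cons, List.not_mem_nil, or_false] at h4
      rcases h4 with rfl | rfl | rfl <;> simp [hom_x]
    all_goals simpa [hom_e0, hom_e1] using (h.tr h5).symm) with h1 | h1 | h1 <;> rw [pw] at h1
  · exact absurd (k3 h.iv h.rel h1) h.not_mem
  · exact absurd (k4 h.iv h.rel h1) h.not_mem
  obtain ⟨y1, y2⟩ := JT3.y3 (e := fun i => [e 0, e 1, e 10, e 7 * e 10 * e 7].getD i 1) (fun c => by
    rcases c with _ | _ | _ | _ | c
    exacts [eq_inv_of_mul_eq_one_left f1, eq_inv_of_mul_eq_one_left f2,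
      eq_inv_of_mul_eq_one_left ss, eq_inv_of_mul_eq_one_left tt, by
        rw [show ivOf JT3.ivl (c + 4) = c + 4 from nth_default _ (by simp [JT3.ivl])]
        exact inv_one.symm]) (by
    simp only [JT3.R, List.mem_cons, List.not_mem_nil, or_false]
    rintro _ (rfl | rfl | rfl | rfl | rfl | rfl) <;>
      simp only [ev_cons, ev_nil, List.getD_cons_zero, List.getD_cons_succ, mul_one]
    · rw [← h.zz, ← f4]; simp only [mul_assoc]
    · rw [← f1]; nth_rewrite 4 [← h.sz]; rw [← f4]; simp only [mul_assoc]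
    · rw [← f2]; nth_rewrite 4 [← tz]; rw [← f4]; simp only [mul_assoc]
    · simpa only [pow_succ, pow_zero, one_mul, mul_assoc] using r2
    · simpa only [pow_succ, pow_zero, one_mul, mul_assoc] using tp
    · simpa only [pow_succ, pow_zero, one_mul, mul_assoc] using h1)
  simp only [ev_cons, ev_nil, List.getD_cons_zero, List.getD_cons_succ, mul_one] at y1 y2
  obtain ⟨k, k1, k2⟩ := cx ((e 10 * e 7 * e 10 * e 7 * e 0) ^ 4) (by
    change _ = _
    rw [← f4]; simpa only [pow_succ, pow_zero, one_mul, mul_assoc] using y2.symm) (by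
    simpa only [mul_assoc] using ((r1.mul_right xt).mul_right f8).pow_right 4)
  have k3 := (cent_x k k2).2 (h.emb.inj (by
    rw [map_mul, map_mul, k1, map_one]
    simpa only [pow_succ, pow_zero, one_mul, mul_assoc] using y1))
  simp only [List.mem_cons, List.not_mem_nil, or_false] at k3
  rcases k3 with rfl | rfl | rfl
  · have a1 := rels3 h.rel h1 (k1.symm.trans (map_one _))
    obtain ⟨a2, a3⟩ := J3.W_central h.iv a1
    obtain ⟨w, a4⟩ := h.emb.cent (ev e J3P.W) (by rw [hom_z]; exact a3 5 (by decide))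
    refine Or.inr (rels_append a1 fun r hr => ?_)
    rw [List.mem_singleton.1 hr, ← a4, center3 w (h.emb.inj ?_) (h.emb.inj ?_), map_one]
    · rw [map_mul, map_mul, a4, hom_a, a3 6 (by decide)]
    · rw [map_mul, map_mul, a4, map_one, ← a2]; simp only [pow_succ, pow_zero, one_mul]
  · exact absurd (kbad h.iv h.rel h1 (by rw [← k1, hom_x, i9, mul_inv_cancel])) h.not_mem
  · exact Or.inl (rels2 h.rel h1 (by rw [← k1, map_inv, hom_x, inv_mul_cancel]))

end Am

end H7.JP
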