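import Mathlib
import Cfsg.Agent.H7.JB
import Cfsg.Agent.S0074

/-!
# The subgroup generated by the amalgam is the whole group
-/

set_option autoImplicit false
set_option maxRecDepth 100000
set_option linter.all false

namespace H7.JL

open Subgroup

variable {G : Type*} [Group G] [Finite G]

theorem se' {N H : Subgroup G} {t : G} (h0 : t ∈ N) (ht : t ∈ H) (h2 : orderOf t = 2)
    (hH : ∀ t ∈ N, t ∈ H → orderOf t = 2 → ∀ g, g * t * g⁻¹ ∈ H → g ∈ H) (hne : ¬ N ≤ H) :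
    ∃ D : Subgroup G, D ≤ N ∧ Odd (Nat.card D) ∧
      ∀ g ∈ N, g ∈ H → ∃ d ∈ D, d * t * d⁻¹ = g * t * g⁻¹ := by
  obtain ⟨-, D, -, h3, h4⟩ := se (G := N) (H := H.subgroupOf N) (t := ⟨t, h0⟩) ht
    ((orderOf_coe _).symm.trans h2) (fun s h1 h2 g h3 => hH s s.2 h1 ((orderOf_coe _).trans h2) g h3)
    (by rwa [Ne, subgroupOf_eq_top])
  refine ⟨D.map N.subtype, map_subtype_le _, by rwa [card_map_of_injective N.subtype_injective],
    fun g h5 h6 => ?_⟩
  obtain ⟨d, h7, h8⟩ := h4 ⟨g, h5⟩ h6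
  exact ⟨d, ⟨d, h7, rfl⟩, congrArg Subtype.val h8⟩

theorem index_dvd {D M : Subgroup G} (h : ∀ s, ∃ d ∈ D, d⁻¹ * s ∈ M) : M.index ∣ Nat.card D := by
  have : MulAction.IsPretransitive D (G ⧸ M) := ⟨fun x y => by
    obtain ⟨x, rfl⟩ := QuotientGroup.mk_surjective x
    obtain ⟨y, rfl⟩ := QuotientGroup.mk_surjective y
    obtain ⟨c, h1, h2⟩ := h x
    obtain ⟨d, h3, h4⟩ := h y
    refine ⟨⟨d * c⁻¹, mul_mem h3 (inv_mem h1)⟩, QuotientGroup.eq (a := d * c⁻¹ * x).2 ?_⟩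
    simpa [mul_assoc] using mul_mem (inv_mem h2) h4⟩
  rw [index, ← MulAction.index_stabilizer_of_transitive D ((1 : G) : G ⧸ M)]
  exact index_dvd_card _

theorem mem_of_pow {D : Subgroup G} {f : G} {k n : ℕ} (h : f ^ k ∈ D) (h1 : f ^ n = 1)
    (h2 : k.Coprime n) : f ∈ D :=
  zpowers_le.2 h (mem_zpowers_pow_iff.2 (h2.coprime_dvd_right (orderOf_dvd_of_pow_eq_one h1)))

end H7.JL

namespace H7.JP.Emb

open K MulAut Subgroup JL
open scoped commutatorElement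

variable {G : Type*} [Group G] [Finite G] {ι : K →* G} (h : Emb ι)
include h

theorem ord {k : K} (h1 : k * k = 1) (h2 : k ≠ 1) : orderOf (ι k) = 2 :=
  (orderOf_injective ι h.inj k).trans (ord2 h1 h2)

theorem cls {H : Subgroup G} (hK : ∀ k, ι k ∈ H)
    (h1 : ∀ t ∈ H, t * t = 1 → ∃ g ∈ H, ∃ k, conj g t = ι k) {r : G} (hr : r ∈ H)
    (r1 : conj r (ι z) = ι e0) {t : G} (ht : t ∈ H) (h2 : orderOf t = 2) :
    ∃ g ∈ H, conj g t = ι z ∨ conj g t = ι a := by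
  obtain ⟨g, a1, k, a2⟩ := h1 t ht (sq2 h2)
  have a3 : orderOf k = 2 := by
    rw [← orderOf_injective ι h.inj, ← a2, MulEquiv.orderOf_eq, h2]
  have k1 : ∀ {u}, IsConj k u → ∃ g ∈ H, conj g t = ι u := fun hu => by
    obtain ⟨m, rfl⟩ := isConj_iff.1 hu
    exact ⟨ι m * g, mul_mem (hK m) a1, by rw [map_mul, MulAut.mul_apply, a2]; simp⟩
  rcases classes k (sq2 a3) with h3 | rfl | h3 | h3
  · exact absurd h3 (ne2 a3)
  · exact ⟨g, a1, Or.inl a2⟩
  · obtain ⟨g, b1, b2⟩ := k1 h3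
    exact ⟨r⁻¹ * g, mul_mem (inv_mem hr) b1, Or.inl (by
      rw [map_mul, MulAut.mul_apply, b2, ← r1]; simp [mul_assoc])⟩
  · exact (k1 h3).imp fun _ => And.imp_right Or.inr

omit h in
/-- Control of fusion for one class. -/
theorem ctrl {H : Subgroup G} {u : G} (h1 : ∀ g, Commute u g → g ∈ H) {c d s g : G} (hc : c ∈ H)
    (hd : d ∈ H) (h2 : conj c s = u) (h3 : conj d (g * s * g⁻¹) = u) : g ∈ H := by
  have := h1 (d * g * c⁻¹) (mul_inv_eq_iff_eq_mul.1 (show _ * u * _ = u by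
    nth_rewrite 1 [← h2]; rw [← h3]; simp [mul_assoc])).symm
  simpa [mul_assoc] using mul_mem (mul_mem (inv_mem hd) this) hc

theorem top2 {H : Subgroup G} (hK : ∀ k, ι k ∈ H)
    (h1 : ∀ t ∈ H, t * t = 1 → ∃ g ∈ H, ∃ k, conj g t = ι k) {r g : G} (hr : r ∈ H) (hg : g ∈ H)
    (r1 : conj r (ι z) = ι e0) (r2 : conj r (ι e0) = ι (e0 * z)) (r3 : Commute (ι a) r)
    (r4 : Commute (ι (x * a * x⁻¹)) r) (g1 : Commute (ι a) g) (g2 : Commute (ι (x * a * x⁻¹)) g)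
    (f1 : (ι z * conj g (ι z)) ^ 5 = 1)
    (f2 : ι z * conj g (ι z) * conj r ((ι z * conj g (ι z)) ^ 2) = ι (e0 * z)) :
    H = ⊤ ∧ ¬ IsConj (ι z) (ι a) := by
  classical
  have cm : ∀ {u v : K}, u * v = v * u → Commute (ι u) (ι v) := fun h => (show Commute _ _ from h).map ι
  have cf : ∀ {u : K}, Commute (ι u) g → Commute (ι u) (ι z * conj g (ι z)) := fun {u} hu =>
    (h.comm u).symm.mul_right ((hu.mul_right (h.comm u).symm).mul_right hu.inv_right)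
  have oz := h.ord (k := z) (by decide +kernel) (by decide)
  have hM : ∀ g, Commute (ι z) g → g ∈ H := fun g hg => by
    obtain ⟨k, rfl⟩ := h.cent g hg; exact hK k
  have na : ¬ IsConj (ι z) (ι a) := fun hc => by
    obtain ⟨c, hc⟩ := isConj_iff.1 hc.symm
    replace hc : conj c (ι a) = ι z := hc
    obtain ⟨k, a1⟩ := h.cent _ (hc ▸ (cf g1).map (conj c))
    obtain ⟨t, a2⟩ := h.cent _ (hc ▸ (cm (u := a) (v := x * a * x⁻¹) (by decide +kernel)).map (conj c))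
    have a3 : Commute t k := h.inj (by rw [map_mul, map_mul, a1, a2]; exact (cf g2).map (conj c))
    have a4 : k ^ 5 = 1 := h.inj (by rw [map_pow, a1, ← map_pow, f1]; simp)
    have a5 : orderOf t = 2 := by
      rw [← orderOf_injective ι h.inj, a2, MulEquiv.orderOf_eq]
      exact h.ord (by decide +kernel) (by decide +kernel)
    have a6 : k ≠ 1 := by
      rintro rfl
      rw [map_one, eq_comm, MulEquiv.map_eq_one_iff] at a1
      rw [a1, one_pow, map_one, one_mul, ← map_one ι] at f2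
      exact absurd (h.inj f2) (by decide +kernel)
    have a7 : ∀ {u}, IsConj t u → ∃ k : K, k ≠ 1 ∧ k * u = u * k ∧ k ^ 5 = 1 := fun hu => by
      obtain ⟨m, rfl⟩ := isConj_iff.1 hu
      exact ⟨m * k * m⁻¹, by simpa using a6, (a3.map (conj m)).symm, by rw [conj_pow, a4]; simp⟩
    rcases classes t (sq2 a5) with h3 | rfl | h3 | h3
    · exact ne2 a5 h3
    · exact absurd (h.inj ((conj c).injective (hc.trans a2))) (by decide +kernel)
    · obtain ⟨k, b1, b2, b3⟩ := a7 h3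
      exact b1 (five k b2 (by simpa [pow_succ] using b3))
    · obtain ⟨k, b1, b2, b3⟩ := a7 h3
      exact b1 (by simpa [pow_succ, (cent_a' k b2).1] using b3)
  have cz : ∀ s ∈ H, IsConj (ι z) s → ∃ c ∈ H, conj c s = ι z := fun s hs hc => by
    obtain ⟨c, a1, a2 | a2⟩ := h.cls hK h1 hr r1 hs ((ord_conj hc).trans oz)
    exacts [⟨c, a1, a2⟩, absurd (hc.trans (isConj_iff.2 ⟨c, a2⟩)) na]
  have pz : ∀ s ∈ H, IsConj (ι z) s → ∀ g, g * s * g⁻¹ ∈ H → g ∈ H := fun s hs hc g hg => by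
    obtain ⟨c, a1, a2⟩ := cz s hs hc
    obtain ⟨d, a3, a4⟩ := cz _ hg (hc.trans (isConj_iff.2 ⟨g, rfl⟩))
    exact ctrl hM a1 a3 a2 a4
  have r0 : conj r (ι (e0 * z)) = ι z := by
    rw [map_mul, map_mul, r1, r2, ← map_mul]; exact congrArg ι (by decide +kernel)
  have zv : ∀ v ∈ [1, z, e0, e0 * z], v ≠ 1 → IsConj (ι z) (ι v) := by
    simp only [List.mem_cons, List.not_mem_nil, or_false]
    rintro _ (rfl | rfl | rfl | rfl) h
    exacts [absurd rfl h, IsConj.refl _, isConj_iff.2 ⟨r, r1⟩, (isConj_iff.2 ⟨r, r0⟩).symm]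
  let R := centralizer ({ι a} : Set G)
  have mR : ∀ {y}, y ∈ R ↔ Commute (ι a) y := mem_centralizer_singleton_iff.trans eq_comm
  have zR : ι z ∈ R := mR.2 (h.comm a).symm
  have hE : ∀ y ∈ R, Commute (ι z) y → ∃ k, k * a = a * k ∧ ι k = y := fun y hy h2 => by
    obtain ⟨k, rfl⟩ := h.cent y h2
    exact ⟨k, h.inj (by rw [map_mul, map_mul, (mR.1 hy).eq]), rfl⟩
  have n1 : ∀ t ∈ R, Commute (ι z) (conj t (ι z)) → ∃ i : ℕ, Commute (ι z) (r ^ i * t) := by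
    intro t ht h2
    obtain ⟨k, a1, a2⟩ := hE _ (mul_mem (mul_mem ht zR) (inv_mem ht)) h2
    replace a2 : ι k = conj t (ι z) := a2
    have k1 : ∀ i : ℕ, conj (r ^ i) (ι k) = ι z → ∃ i : ℕ, Commute (ι z) (r ^ i * t) := fun i hi =>
      ⟨i, (mul_inv_eq_iff_eq_mul.1 (by rwa [a2, ← MulAut.mul_apply, ← map_mul] at hi)).symm⟩
    rcases (cent_a' k a1).2 with a3 | a3
    · simp only [List.mem_cons, List.not_mem_nil, or_false] at a3
      rcases a3 with rfl | rfl | rfl | rfl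
      · rw [map_one, eq_comm, MulEquiv.map_eq_one_iff] at a2
        exact absurd a2 (ne2 oz)
      · exact k1 0 (by simp)
      · exact k1 2 (by rw [sq, map_mul, MulAut.mul_apply, r2, r0])
      · exact k1 1 (by rw [pow_one, r0])
    · exact absurd ((isConj_iff.2 ⟨t, a2.symm⟩).trans (ι.map_isConj a3)) na
  let V : Subgroup G := closure {ι z, ι e0}
  have hV : ∀ y ∈ V, ∃ v ∈ [1, z, e0, e0 * z], ι v = y := fun y hy => by
    induction hy using closure_induction with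
    | mem y hy => rcases hy with rfl | rfl <;> exact ⟨_, by simp, rfl⟩
    | one => exact ⟨1, by simp, map_one ι⟩
    | mul u v _ _ hu hv =>
      obtain ⟨u, a1, rfl⟩ := hu; obtain ⟨v, a2, rfl⟩ := hv
      exact ⟨u * v, (by decide +kernel : ∀ u ∈ [1, z, e0, e0 * z], ∀ v ∈ [1, z, e0, e0 * z],
        u * v ∈ [1, z, e0, e0 * z]) u a1 v a2, map_mul _ _ _⟩
    | inv u _ hu =>
      obtain ⟨u, a1, rfl⟩ := hu
      exact ⟨u⁻¹, (by decide +kernel : ∀ u ∈ [1, z, e0, e0 * z], u⁻¹ ∈ [1, z, e0, e0 * z]) u a1,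
        map_inv _ _⟩
  have zV : ι z ∈ V := subset_closure (by simp)
  have eV : ι e0 ∈ V := subset_closure (by simp)
  have vV : ∀ v ∈ [1, z, e0, e0 * z], ι v ∈ V := by
    simp only [List.mem_cons, List.not_mem_nil, or_false]
    rintro _ (rfl | rfl | rfl | rfl)
    exacts [(map_one ι).symm ▸ one_mem V, zV, eV, (map_mul ι _ _).symm ▸ mul_mem eV zV]
  have rV : r ∈ normalizer (V : Set G) := mem_normalizer_fintype fun y hy =>
    (closure_le (V.comap (conj r).toMonoidHom)).2 (by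
      rintro _ (rfl | rfl)
      exacts [show conj r _ ∈ V from r1 ▸ eV, show conj r _ ∈ V from r2 ▸ vV _ (by simp)]) hy
  have pV : ∀ s ∈ zpowers r, ∀ y ∈ V, s * y * s⁻¹ ∈ V := fun s hs y =>
    (mem_normalizer_iff.1 (zpowers_le.2 rV hs) y).1
  have rR : r ∈ R := mR.2 r3
  have sq1 : ∀ y ∈ R, Commute (ι z) y → y * y = 1 := fun y h1 h2 => by
    obtain ⟨k, a1, rfl⟩ := hE y h1 h2
    rw [← map_mul, (cent_a' k a1).1, map_one]
  have ab : ∀ y ∈ R, Commute (ι z) y → ∀ u ∈ R, Commute (ι z) u → Commute y u :=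
    fun y a1 a2 u a3 a4 => by
      have := inv_eq_of_mul_eq_one_left (sq1 _ (mul_mem a1 a3) (a2.mul_right a4))
      rw [mul_inv_rev, inv_eq_of_mul_eq_one_left (sq1 _ a1 a2),
        inv_eq_of_mul_eq_one_left (sq1 _ a3 a4)] at this
      exact this.symm
  have VE : ∀ y ∈ V, y ∈ R ∧ Commute (ι z) y := fun y hy => by
    obtain ⟨v, a1, rfl⟩ := hV y hy
    exact ⟨mR.2 (cm ((by decide +kernel : ∀ v ∈ [1, z, e0, e0 * z], a * v = v * a) v a1)), h.comm v⟩
  let E : Subgroup R := centralizer {⟨ι z, zR⟩}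
  have mE : ∀ {y : R}, y ∈ E ↔ Commute (ι z) y :=
    mem_centralizer_singleton_iff.trans (Subtype.ext_iff.trans eq_comm)
  obtain ⟨T, hT⟩ := IsPGroup.exists_le_sylow (p := 2) (P := E) fun y =>
    ⟨1, Subtype.ext (Subtype.ext (by simpa [sq] using sq1 _ y.1.2 (mE.1 y.2)))⟩
  have TE : (T : Subgroup R) = E := by
    by_contra hne
    have := T.isPGroup'.isNilpotent
    obtain ⟨t, a1, a2⟩ := SetLike.exists_of_lt (normalizerCondition_of_isNilpotent
      (E.subgroupOf T) (lt_top_iff_ne_top.2 fun h1 => hne (le_antisymm (subgroupOf_eq_top.1 h1) hT)))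
    have a3 : Commute (ι z) (conj ((t : R) : G) (ι z)) := mE.1 ((mem_normalizer_iff.1 a1
      ⟨⟨ι z, zR⟩, hT (mE.2 (Commute.refl _))⟩).1 (mE.2 (Commute.refl _)))
    obtain ⟨i, a4⟩ := n1 _ t.1.2 a3
    obtain ⟨k, a5⟩ := T.isPGroup' t
    refine a2 (mE.2 (mem_centralizer_singleton_iff.1 (mem_of_pow (k := 3) (n := 2 ^ k) ?_
      (congrArg (fun y : T => ((y : R) : G)) a5) (Nat.Coprime.pow_right _ (by decide)))).symm)
    have a6 := t.1.2
    generalize ((t : R) : G) = t at a4 a6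
    have m : ∀ y ∈ V, conj (r ^ i)⁻¹ y ∈ V := pV _ (inv_mem (npow_mem_zpowers r i))
    have k : ∀ y ∈ V, conj t y = conj (r ^ i)⁻¹ y := fun y hy => by
      nth_rewrite 2 [← mul_inv_eq_iff_eq_mul.2
        (ab _ (mul_mem (pow_mem rR i) a6) a4 _ (VE _ hy).1 (VE _ hy).2).eq]
      simp only [conj_apply]; group
    have a7 : Commute (r ^ 3) (ι z) := mul_inv_eq_iff_eq_mul.1 (show conj (r ^ 3) (ι z) = ι z by
      simp only [pow_succ, pow_zero, one_mul, map_mul conj, MulAut.mul_apply, r1, r2, r0])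
    have a8 : conj (t ^ 3) (ι z) = conj ((r ^ i)⁻¹ ^ 3) (ι z) := by
      simp only [pow_succ, pow_zero, one_mul, map_mul conj, MulAut.mul_apply]
      rw [k _ zV, k _ (m _ zV), k _ (m _ (m _ zV))]
    rw [inv_pow, ← pow_mul, mul_comm, pow_mul, conj_apply, conj_apply, (a7.pow_left i).inv_left.eq,
      mul_inv_cancel_right] at a8
    exact mem_centralizer_singleton_iff.2 (mul_inv_eq_iff_eq_mul.1 a8)
  have dec : ∀ t ∈ normalizer (T : Set R), ∃ s ∈ zpowers r, ∃ v ∈ V, ∃ w ∈ R, Commute (ι z) w ∧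
      Commute w r ∧ (t : G) = s * v * w := fun t ht => by
    obtain ⟨i, a1⟩ := n1 _ t.2 (mE.1 (TE.le ((mem_normalizer_iff.1 ht ⟨ι z, zR⟩).1
      (hT (mE.2 (Commute.refl _))))))
    obtain ⟨k, a2, a3⟩ := hE _ (mul_mem (pow_mem rR i) t.2) a1
    obtain ⟨v, a4, w, a5, rfl⟩ := cent_a k a2
    refine ⟨_, inv_mem (npow_mem_zpowers r i), _, vV v a4, ι w, mR.2 (cm ((by decide +kernel :
      ∀ w ∈ [1, a, x * a * x⁻¹, x⁻¹ * a * x], a * w = w * a) w a5)), h.comm w, ?_, by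
        rw [mul_assoc, ← map_mul, a3, inv_mul_cancel_left]⟩
    simp only [List.mem_cons, List.not_mem_nil, or_false] at a5
    rcases a5 with rfl | rfl | rfl | rfl
    exacts [by simp, r3, r4, by
      rw [show x⁻¹ * a * x = a * (x * a * x⁻¹) by decide +kernel, map_mul]; exact r3.mul_left r4]
  have foc : commutator R ⊓ T ≤ V.subgroupOf R := by
    rw [Cfsg.Agent.S0074.result T ⟨⟨fun y u => Subtype.ext (Subtype.ext
      (ab _ y.1.2 (mE.1 (TE.le y.2)) _ u.1.2 (mE.1 (TE.le u.2))))⟩⟩]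
    refine inf_le_left.trans (commutator_le.2 fun t1 h1 t2 h2 => ?_)
    obtain ⟨s1, a1, v1, a2, w1, a3, a4, a5, a6⟩ := dec t1 h1
    obtain ⟨s2, b1, v2, b2, w2, b3, b4, b5, b6⟩ := dec t2 h2
    change (t1 : G) * t2 * (t1 : G)⁻¹ * (t2 : G)⁻¹ ∈ V
    have cs : ∀ {w s}, Commute w r → s ∈ zpowers r → Commute w s := by
      rintro w _ h ⟨k, rfl⟩; exact h.zpow_right k
    have c1 : Commute w1 t2 := b6 ▸ ((cs a5 b1).mul_right
      (ab _ a3 a4 _ (VE _ b2).1 (VE _ b2).2)).mul_right (ab _ a3 a4 _ b3 b4)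
    have c2 : Commute w2 (s1 * v1) := (cs b5 a1).mul_right (ab _ b3 b4 _ (VE _ a2).1 (VE _ a2).2)
    have c3 : Commute s1 s2 := by obtain ⟨k, rfl⟩ := a1; exact cs ((Commute.refl r).zpow_left k) b1
    have e1 : (t1 : G) * t2 * (t1 : G)⁻¹ = s1 * v1 * t2 * (s1 * v1)⁻¹ := by
      rw [a6, mul_assoc _ w1, c1.eq]; group
    have e2 : s1 * v1 * t2 * (s1 * v1)⁻¹ * (t2 : G)⁻¹ =
        s1 * v1 * (s2 * v2) * (s1 * v1)⁻¹ * (s2 * v2)⁻¹ := by
      rw [b6, ← mul_assoc _ _ w2, mul_assoc _ w2, c2.inv_right.eq]; group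
    have e3 : s1 * v1 * (s2 * v2) * (s1 * v1)⁻¹ * (s2 * v2)⁻¹ = s1 * v1 * s1⁻¹ *
        (s1 * s2 * (v2 * v1⁻¹) * (s1 * s2)⁻¹) * (s1 * s2 * s1⁻¹ * v2⁻¹ * s2⁻¹) := by group
    rw [e1, e2, e3, c3.eq, mul_inv_cancel_right]
    exact mul_mem (mul_mem (pV _ a1 _ a2) (pV _ (mul_mem b1 a1) _ (mul_mem b2 (inv_mem a2))))
      (pV _ b1 _ (inv_mem b2))
  let N := (commutator R).map R.subtype
  have nN : ∀ c ∈ R, ∀ y ∈ N, c * y * c⁻¹ ∈ N := by
    rintro c hc _ ⟨y, hy, rfl⟩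
    exact ⟨_, (inferInstance : (commutator R).Normal).conj_mem y hy ⟨c, hc⟩, rfl⟩
  have NV : ∀ y ∈ N, Commute (ι z) y → y ∈ V := by
    rintro _ ⟨y, hy, rfl⟩ h2
    exact foc ⟨hy, hT (mE.2 h2)⟩
  have zN : ι z ∈ N := ⟨⁅⟨r, rR⟩, ⟨ι e0, (VE _ eV).1⟩⁆,
    commutator_mem_commutator (mem_top _) (mem_top _), by
      change conj r (ι e0) * (ι e0)⁻¹ = _
      rw [r2, ← map_inv, ← map_mul]; exact congrArg ι (by decide +kernel)⟩
  have NH : N ≤ H := by
    by_contra hne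
    obtain ⟨D, a1, a2, a3⟩ := se' zN (hK z) oz (fun s b1 b2 b3 => pz s b2 (by
      obtain ⟨c, b4⟩ := exists_conj_mem (H := (T : Subgroup R)) (Nat.not_even_iff_odd.1 fun h =>
        T.not_dvd_index (even_iff_two_dvd.1 h)) (t := ⟨s, map_subtype_le _ b1⟩) (Subtype.ext (sq2 b3))
      obtain ⟨v, b5, b6⟩ := hV _ (NV _ (nN c c.2 s b1) (mE.1 (TE.le b4)))
      refine (zv v b5 ?_).trans (isConj_iff.2 ⟨(c : G), b6.symm⟩).symm
      rintro rfl
      exact ne2 b3 (by simpa using b6.symm))) hne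
    have key : ∀ f ∈ N, f ∈ H → f ^ 5 = 1 → f ∈ D := fun f b1 b2 b3 => by
      choose d d1 d2 using fun i : ℕ => a3 (f ^ i) (pow_mem b1 i) (pow_mem b2 i)
      obtain ⟨i, b4, j, b5, b6, b7⟩ := Finset.exists_ne_map_eq_of_card_lt_of_maps_to
        (s := Finset.range 5) (t := ([1, z, e0, e0 * z].map ι).toFinset)
        ((List.toFinset_card_le _).trans_lt (by simp)) (f := fun i => (d i)⁻¹ * f ^ i) fun i _ => by
          obtain ⟨v, b4, b5⟩ := hV _ (NV _ (mul_mem (inv_mem (a1 (d1 i))) (pow_mem b1 i)) (by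
            have := congrArg (fun y => (d i)⁻¹ * y * f ^ i) (d2 i)
            change _ = _
            simpa [mul_assoc] using this))
          exact Finset.mem_coe.2 (List.mem_toFinset.2 (List.mem_map.2 ⟨v, b4, b5⟩))
      wlog hij : i < j generalizing i j
      · exact this j b5 i b4 b6.symm b7.symm (by omega)
      obtain ⟨k, rfl⟩ := Nat.exists_eq_add_of_lt hij
      rw [Finset.mem_range] at b5
      refine mem_of_pow (k := k + 1) ?_ b3 ((by decide : ∀ k < 4, (k + 1).Coprime 5) k (by omega))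
      have : f ^ (k + 1) = d (i + k + 1) * (d i)⁻¹ := by
        have b8 : f ^ (i + k + 1) = d (i + k + 1) * ((d i)⁻¹ * f ^ i) := by
          rw [show (d i)⁻¹ * f ^ i = _ from b7, mul_inv_cancel_left]
        rw [← mul_left_inj (f ^ i), ← pow_add, mul_assoc, ← b8]; congr 1; omega
      exact this ▸ mul_mem (d1 _) (inv_mem (d1 _))
    have fN := mul_mem zN (nN g (mR.2 g1) _ zN)
    have fH := mul_mem (hK z) (mul_mem (mul_mem hg (hK z)) (inv_mem hg))
    have := eq_one_of_odd a2 (k := 1) (f2 ▸ mul_mem (key _ fN fH f1) (key _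
      (nN r rR _ (pow_mem fN 2)) (mul_mem (mul_mem hr (pow_mem fH 2)) (inv_mem hr)) (by
        rw [conj_pow, ← pow_mul, mul_comm 2, pow_mul, ← conj_apply g, f1]; simp))) (by
      rw [← map_pow, ← map_one ι]; exact congrArg ι (by decide +kernel))
    rw [← map_one ι] at this
    exact absurd (h.inj this) (by decide +kernel)
  have RH : ∀ t, Commute (ι a) t → t ∈ H := fun t ht =>
    pz _ (hK z) (IsConj.refl _) t (NH (nN t (mR.2 ht) _ zN))
  refine ⟨by_contra fun hne => na ((se (hK z) oz (fun s b1 b2 t b3 => ?_) hne).1 _ _ oz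
    (h.ord (by decide +kernel) (by decide))), na⟩
  obtain ⟨c, b4, b5 | b5⟩ := h.cls hK h1 hr r1 b1 b2
  · exact pz s b1 (isConj_iff.2 ⟨c, b5⟩).symm t b3
  obtain ⟨d, b6, b7 | b7⟩ := h.cls hK h1 hr r1 b3 (((conj t).orderOf_eq s).trans b2)
  · exact absurd (((isConj_iff.2 ⟨d, b7⟩).symm.trans (isConj_iff.2 ⟨t, rfl⟩).symm).trans
      (isConj_iff.2 ⟨c, b5⟩)) na
  · exact ctrl RH b4 b6 b5 b7

theorem top3 {H : Subgroup G} (hK : ∀ k, ι k ∈ H)
    (h1 : ∀ t ∈ H, t * t = 1 → ∃ g ∈ H, ∃ k, conj g t = ι k) {r g : G} (hr : r ∈ H) (hg : g ∈ H)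
    (r1 : conj r (ι z) = ι e0) (g1 : conj g (ι a) = ι z)
    (hD : ∀ D ≤ H, Odd (Nat.card D) → ¬ ∀ g ∈ H, ∃ d ∈ D, Commute (ι z) (d⁻¹ * g)) :
    H = ⊤ ∧ ∀ s t : G, orderOf s = 2 → orderOf t = 2 → IsConj s t := by
  have cz : ∀ s ∈ H, orderOf s = 2 → ∃ c ∈ H, conj c s = ι z := fun s hs h2 => by
    obtain ⟨c, a1, a2 | a2⟩ := h.cls hK h1 hr r1 hs h2
    exacts [⟨c, a1, a2⟩, ⟨g * c, mul_mem hg a1, by rw [map_mul, MulAut.mul_apply, a2, g1]⟩]
  have top : H = ⊤ := by_contra fun hne => by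
    obtain ⟨-, D, a1, a2, a3⟩ := se (hK z) (h.ord (by decide +kernel) (by decide))
      (fun s b1 b2 t b3 => by
        obtain ⟨c, b4, b5⟩ := cz s b1 b2
        obtain ⟨d, b6, b7⟩ := cz _ b3 (((conj t).orderOf_eq s).trans b2)
        exact ctrl (fun g hg => by obtain ⟨k, rfl⟩ := h.cent g hg; exact hK k) b4 b6 b5 b7) hne
    refine hD D a1 a2 fun g hg => (a3 g hg).imp fun d hd => ⟨hd.1, ?_⟩
    have := congrArg (fun y => d⁻¹ * y * g) hd.2
    change _ = _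
    simpa [mul_assoc] using this
  refine ⟨top, fun s t hs ht => ?_⟩
  obtain ⟨c, -, a1⟩ := cz s (top ▸ mem_top s) hs
  obtain ⟨d, -, a2⟩ := cz t (top ▸ mem_top t) ht
  exact (isConj_iff.2 ⟨c, a1⟩).trans (isConj_iff.2 ⟨d, a2⟩).symm

end H7.JP.Emb
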