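import Mathlib
import Cfsg.Agent.H7.JC
import Cfsg.Agent.H7.JF
import Cfsg.Agent.H7.J2U
import Cfsg.Agent.H7.J3L16

/-!
# Recognition of `J₂` and `J₃` by the centraliser of an involution
-/

set_option autoImplicit false
set_option maxRecDepth 100000
set_option linter.all false

namespace H7.J3

open H29 H9 H9.MX H7.JP Subgroup

theorem fuse : ev eS [10, 7, 10, 3, 7, 10, 2, 7, 10, 7, 2, 10, 7, 10, 7, 2, 6, 2, 7, 10, 7, 10, 2, 7,
    10, 7, 2, 10, 7, 3, 10, 7, 10, 5] = 1 :=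
  rels_subE _ (rels_of_chk (k := 13) J3P.hn (by decide) J3P.hiv (ws := [[10, 7, 10, 3, 7, 10, 2, 7, 10,
    7, 2, 10, 7, 10, 7, 2, 6, 2, 7, 10, 7, 10, 2, 7, 10, 7, 2, 10, 7, 3, 10, 7, 10, 5]])
    (allN_true.1 (by decide +kernel))) _ List.mem_cons_self

/-- An element of order 17. -/
noncomputable def g17 : S := ev (extE eS 11 J3X.defs) J3X.g17

theorem g17_fix {i : ℕ} (hi : i < 6156) : (g17 : Equiv.Perm ℕ) i = i ↔ i = 0 ∨ i = 6042 := by
  have := map_ev_sg (ρ := (PG J3P.nl).subtype) (w := J3X.g17) fun c _ => J3X.map (pe_rho _) c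
  rw [show (g17 : Equiv.Perm ℕ) = _ from this,
    fix_iff (k := 13) (V := 2 ^ 0 ||| 2 ^ 6042) J3X.hn (by decide) (by decide +kernel) hi,
    Nat.testBit_or, Nat.testBit_two_pow, Nat.testBit_two_pow, Bool.or_eq_true, decide_eq_true_eq,
    decide_eq_true_eq, eq_comm, @eq_comm _ _ i]

theorem g17_ord : orderOf g17 = 17 :=
  haveI : Fact (Nat.Prime 17) := ⟨by norm_num⟩
  orderOf_eq_prime ((ev_powW _ _ 17).symm.trans (hX _ (by simp))) fun h =>
    absurd ((g17_fix (i := 1) (by decide)).1 (by rw [h]; rfl)) (by decide)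

theorem no_odd (D : Subgroup S) (h1 : Odd (Nat.card D)) : ¬ 26163 ∣ Nat.card D := fun h2 => by
  have : Fact (Nat.Prime 17) := ⟨by norm_num⟩
  have h3 := card ▸ card_subgroup_dvd_card D
  obtain ⟨P⟩ : Nonempty (Sylow 17 D) := inferInstance
  have f17 : ∀ {n}, 17 ∣ n → n ∣ 50232960 → n.factorization 17 = 1 := fun {n} a b => by
    have := ne_zero_of_dvd_ne_zero (by decide) b
    refine le_antisymm (not_lt.1 fun h => ?_) ((Nat.Prime.dvd_iff_one_le_factorization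
      (by norm_num) this).1 a)
    exact absurd (((Nat.Prime.pow_dvd_iff_le_factorization (by norm_num) this).2 h).trans b)
      (by decide)
  have h4 : Nat.card P = 17 := by
    rw [P.card_eq_multiplicity, f17 (Dvd.dvd.trans (by decide) h2) h3, pow_one]
  obtain ⟨c, hc⟩ := MulAction.exists_smul_eq S
    (Sylow.ofCard (p := 17) ((P : Subgroup D).map D.subtype) (by
      rw [card_map_of_injective D.subtype_injective, h4, card, f17 (by decide) dvd_rfl, pow_one]))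
    (Sylow.ofCard (zpowers g17) (by
      rw [Nat.card_zpowers, g17_ord, card, f17 (by decide) dvd_rfl, pow_one]))
  replace hc : ((P : Subgroup D).map D.subtype).map (MulAut.conj c).toMonoidHom = zpowers g17 :=
    congrArg (fun P : Sylow 17 S => (P : Subgroup S)) hc
  let N := normalizer (P : Set D)
  let φ : N →* S := (MulAut.conj c).toMonoidHom.comp (D.subtype.comp N.subtype)
  have h5 : ∀ n, φ n ∈ stab (PG J3P.nl).subtype 0 := fun n => by
    have a1 : φ n ∈ normalizer (zpowers g17 : Set S) := by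
      rw [← hc]
      exact le_normalizer_map _ ⟨_, le_normalizer_map _ ⟨_, n.2, rfl⟩, rfl⟩
    have a2 : φ n ^ Nat.card D = 1 := by
      rw [← map_pow]
      exact congrArg (fun y : D => MulAut.conj c (y : S)) (pow_card_eq_one' (x := (n : D))) |>.trans
        (map_one _)
    generalize φ n = m at a1 a2
    obtain ⟨k, a3⟩ := (mem_normalizer_iff.1 (inv_mem a1) g17).1 (mem_zpowers _)
    have a4 : ∀ i < 6156, i = 0 ∨ i = 6042 →
        (m : Equiv.Perm ℕ) i = 0 ∨ (m : Equiv.Perm ℕ) i = 6042 := fun i hi h => by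
      refine (g17_fix (trans.lt m i hi)).1 ?_
      have : g17 ^ k ∈ stab (PG J3P.nl).subtype i := zpow_mem ((g17_fix hi).2 h) k
      rw [show g17 ^ k = _ from a3, mem_stab] at this
      simpa [Equiv.symm_apply_eq] using this
    refine JL.mem_of_pow (k := 2) ?_ a2 (Nat.coprime_two_left.2 h1)
    change (m : Equiv.Perm ℕ) ((m : Equiv.Perm ℕ) 0) = 0
    rcases a4 0 (by decide) (Or.inl rfl) with b | b
    · rw [b, b]
    · rw [b]
      exact (a4 6042 (by decide) (Or.inr rfl)).resolve_right fun b' =>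
        absurd ((m : Equiv.Perm ℕ).injective (b.trans b'.symm)) (by decide)
  have h6 := L16.card_stab ▸ card_dvd_of_injective (φ.codRestrict _ h5) fun a b h =>
    Subtype.ext (Subtype.ext ((MulAut.conj c).injective (congrArg Subtype.val h)))
  have h7 : 17 ∣ Nat.card N := h4 ▸ card_dvd_of_le le_normalizer
  have h8 := N.index_mul_card
  have h9 := card_sylow_modEq_one 17 D
  rw [P.card_eq_index_normalizer] at h9
  obtain ⟨m, hm⟩ := h2
  obtain ⟨n, hn⟩ := h7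
  have b1 : m ∣ 1920 := Nat.dvd_of_mul_dvd_mul_left (by decide : 0 < 26163) (hm ▸ h3)
  have b2 : n ∣ 480 := Nat.dvd_of_mul_dvd_mul_left (by decide : 0 < 17) (hn ▸ h6)
  have b3 : Odd m := (Nat.odd_mul.1 (hm ▸ h1)).2
  have b4 : Odd n := (Nat.odd_mul.1 (hn ▸ (Nat.odd_mul.1 (h8 ▸ h1)).2)).2
  have key : ∀ m ∈ Nat.divisors 1920, Odd m → m = 1 ∨ m = 3 ∨ m = 5 ∨ m = 15 := by decide +kernel
  rw [hm, hn] at h8
  change N.index % 17 = 1 at h9
  rcases key m (Nat.mem_divisors.2 ⟨b1, by decide⟩) b3 with rfl | rfl | rfl | rfl <;>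
    rcases key n (Nat.mem_divisors.2 ⟨b2.trans (by decide), by decide⟩) b4 with
      rfl | rfl | rfl | rfl <;> omega

end H7.J3

namespace H7.JP

open H29 H9 H9.MX K MulAut Subgroup

variable {G : Type*} [Group G] [Finite G] {e : ℕ → G}

namespace Am

variable (h : Am e) {S : Type} [Group S] [Finite S] {eS : ℕ → S} {ψ : S →* G}
include h

theorem map_M (h1 : ∀ c ∈ cols, ψ (eS c) = e c) : (gen eS colsM).map ψ = h.ι.range := by
  rw [hom_range, map_gen]
  exact gen_congr fun c hc => h1 c (by revert c; decide)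

theorem mem_range (h1 : ∀ c ∈ cols, ψ (eS c) = e c) (k : K) : h.ι k ∈ ψ.range :=
  map_le_range _ _ ((h.map_M h1).ge ⟨k, rfl⟩)

theorem cls (h1 : ∀ c ∈ cols, ψ (eS c) = e c) (h2 : Function.Injective ψ)
    (h3 : Odd (gen eS colsM).index) : ∀ t ∈ ψ.range, t * t = 1 →
      ∃ g ∈ ψ.range, ∃ k, conj g t = h.ι k := by
  rintro _ ⟨s, rfl⟩ hs
  obtain ⟨g, hg⟩ := JL.exists_conj_mem h3 (t := s) (h2 (by rw [map_mul, hs, map_one]))
  obtain ⟨k, hk⟩ := (h.map_M h1).le ⟨_, hg, rfl⟩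
  exact ⟨ψ g, ⟨g, rfl⟩, k, by rw [hk]; simp⟩

omit h in
theorem inj [IsSimpleGroup S] (h : Am e) (h1 : ∀ c ∈ cols, ψ (eS c) = e c) :
    Function.Injective ψ := (MonoidHom.ker_eq_bot_iff ψ).1 <|
  (inferInstance : ψ.ker.Normal).eq_bot_or_eq_top.resolve_right fun h2 =>
    h.nz ((h1 5 (by decide)).symm.trans (h2.ge (mem_top _)))

theorem main2 (h2 : ∀ r ∈ R2, ev e r = 1) :
    Nonempty (J2.S ≃* G) ∧ ∃ s t : G, orderOf s = 2 ∧ orderOf t = 2 ∧ ¬ IsConj s t := by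
  obtain ⟨ψ, a1, a2⟩ := exists_hom_of_tr (J2.trS h.iv h2) J2.hiv h.iv hL J2.top
  have a3 := h.inj a2
  have tr : ∀ r ∈ [[10, 1, 9, 5, 8, 1, 10, 0], [10, 1, 9, 0, 8, 1, 10, 5, 0],
      [6, 10, 1, 9, 6, 8, 1, 10], [8, 6, 9, 10, 1, 9, 8, 6, 9, 8, 1, 10],
      [6, 10, 7, 10, 7, 10, 7, 10, 7, 10, 6, 10, 7, 10, 7, 10, 7, 10, 7, 10],
      [8, 6, 9, 10, 7, 10, 7, 10, 7, 10, 7, 10, 8, 6, 9, 10, 7, 10, 7, 10, 7, 10, 7, 10],
      powW 10 [5, 10, 7, 10, 7, 10, 7, 10, 7, 10],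
      powW 2 [5, 10, 7, 10, 7, 10, 7, 10, 7, 10] ++ [10, 1, 9] ++
        powW 4 [5, 10, 7, 10, 7, 10, 7, 10, 7, 10] ++ [8, 1, 10, 5, 0]], ev e r = 1 := fun r hr => by
    rw [← ev_congr fun c hc => a2 c (by revert c r; decide +kernel), ← map_ev,
      J2.relS (by decide +kernel) r hr, map_one]
  simp only [List.forall_mem_cons, ev_append, ev_powW, ev_cons, ev_nil, mul_one] at tr
  obtain ⟨t1, t2, t3, t4, t5, t6, t7, t8, -⟩ := tr
  have i0 : (e 0)⁻¹ = e 0 := (h.iv 0).symm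
  have i1 : (e 1)⁻¹ = e 1 := (h.iv 1).symm
  have i5 : (e 5)⁻¹ = e 5 := (h.iv 5).symm
  have i6 : (e 6)⁻¹ = e 6 := (h.iv 6).symm
  have i7 : (e 7)⁻¹ = e 7 := (h.iv 7).symm
  have i8 : (e 8)⁻¹ = e 9 := (h.iv 8).symm
  have i9 : (e 9)⁻¹ = e 8 := (h.iv 9).symm
  have i10 := s_inv h.iv
  have m : ∀ w : List ℕ, (∀ c ∈ w, c ∈ cols) → ev e w ∈ ψ.range := fun w hw => a1 ▸ ev_mem_gen hw
  suffices b : ψ.range = ⊤ ∧ ¬ IsConj (h.ι z) (h.ι a) from
    ⟨⟨MulEquiv.ofBijective ψ ⟨a3, MonoidHom.range_eq_top.1 b.1⟩⟩, _, _,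
      h.emb.ord (by decide +kernel) (by decide), h.emb.ord (by decide +kernel) (by decide), b.2⟩
  refine h.emb.top2 (h.mem_range a2) (h.cls a2 a3 (by
      have := (gen J2.eS colsM).index_mul_card
      rw [J2.card, cardM J2.hiv (rM fun r hr => J2.hR r (List.mem_append_left _ hr)) J2.hz] at this
      exact ⟨157, by omega⟩)) (m [10, 1, 9] (by decide))
    (m [10, 7, 10, 7, 10, 7, 10, 7, 10] (by decide)) (mul_inv_eq_one.1 ?_) (mul_inv_eq_one.1 ?_)
    (commutatorElement_eq_one_iff_commute.1 ?_) (commutatorElement_eq_one_iff_commute.1 ?_)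
    (commutatorElement_eq_one_iff_commute.1 ?_) (commutatorElement_eq_one_iff_commute.1 ?_) ?_
    (mul_inv_eq_one.1 ?_)
  all_goals simp only [commutatorElement_def, conj_apply]
  all_goals simp only [map_mul, map_inv, hom_z, hom_e0, hom_a,
    hom_x, ev_cons, ev_nil, mul_one, mul_inv_rev, i0, i1, i5, i6, i7, i8, i9, i10, mul_assoc,
    pow_succ, pow_zero, one_mul] at t7 t8 ⊢
  all_goals assumption

theorem main3 (h2 : ∀ r ∈ R3 ++ [J3P.W], ev e r = 1) :
    Nonempty (J3.S ≃* G) ∧ ∀ s t : G, orderOf s = 2 → orderOf t = 2 → IsConj s t := by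
  obtain ⟨ψ, a1, a2⟩ := exists_hom_of_tr (J3.trS h.iv h2) J3.hiv h.iv hL J3.top
  have a3 := h.inj a2
  have tr := congrArg ψ J3.fuse
  rw [map_ev, ev_congr fun c hc => a2 c (by revert c; decide), map_one] at tr
  have i2 : (e 2)⁻¹ = e 2 := (h.iv 2).symm
  have i3 : (e 3)⁻¹ = e 3 := (h.iv 3).symm
  have i5 : (e 5)⁻¹ = e 5 := (h.iv 5).symm
  have i7 : (e 7)⁻¹ = e 7 := (h.iv 7).symm
  have i10 := s_inv h.iv
  have m : ∀ w : List ℕ, (∀ c ∈ w, c ∈ cols) → ev e w ∈ ψ.range := fun w hw => a1 ▸ ev_mem_gen hw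
  have ix : (gen J3.eS colsM).index = 26163 := by
    have := (gen J3.eS colsM).index_mul_card
    rw [J3.card, cardM J3.hiv (rM fun r hr => J3.hR r (List.mem_append_left _
      (List.mem_append_left _ hr))) fun h5 => h.nz (by rw [← a2 5 (by decide), h5, map_one])] at this
    omega
  obtain ⟨b1, b2⟩ := h.emb.top3 (h.mem_range a2) (h.cls a2 a3 (ix ▸ ⟨13081, rfl⟩))
    (m [10] (by decide)) (m [10, 7, 10, 3, 7, 10, 2, 7, 10, 7, 2, 10, 7, 10, 7, 2] (by decide))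
    (by simpa [hom_z, hom_e0, i10] using h.sz) (mul_inv_eq_one.1 (by
      simpa only [conj_apply, hom_z, hom_a, ev_cons, ev_nil, mul_one, mul_inv_rev, i2, i3, i5, i7,
        i10, mul_assoc] using tr)) fun D c1 c2 c3 =>
      J3.no_odd (D.comap ψ) (c2.of_dvd_nat (card_comap_dvd_of_injective D ψ a3))
        (ix ▸ JL.index_dvd fun s => by
          obtain ⟨d, d1, d2⟩ := c3 _ ⟨s, rfl⟩
          obtain ⟨d, rfl⟩ := c1 d1
          refine ⟨d, d1, (mem_map_iff_mem a3).1 ?_⟩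
          rw [h.map_M a2, map_mul, map_inv]
          exact h.emb.cent _ d2)
  exact ⟨⟨MulEquiv.ofBijective ψ ⟨a3, MonoidHom.range_eq_top.1 b1⟩⟩, b2⟩

end Am

/-- The recognition theorem. -/
theorem main {z : G} (hz : orderOf z = 2) {Q : Subgroup (centralizer ({z} : Set G))} [Q.Normal]
    (h1 : Cfsg.IsExtraspecial 2 Q) (h2 : Nat.card Q = 32) (h3 : centralizer (Q : Set _) ≤ Q)
    (h4 : Nat.card ((_ ⧸ Q) ⧸ center (_ ⧸ Q)) = 60) {g : G} (g1 : Commute z (g * z * g⁻¹))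
    (g2 : g * z * g⁻¹ ≠ z) :
    (Nonempty (J2.S ≃* G) ∧ ∃ s t : G, orderOf s = 2 ∧ orderOf t = 2 ∧ ¬ IsConj s t) ∨
    (Nonempty (J3.S ≃* G) ∧ ∀ s t : G, orderOf s = 2 → orderOf t = 2 → IsConj s t) := by
  have mC : ∀ {y}, y ∈ centralizer ({z} : Set G) ↔ Commute z y :=
    mem_centralizer_singleton_iff.trans eq_comm
  let z' : centralizer ({z} : Set G) := ⟨z, mC.2 (Commute.refl z)⟩
  have cz : ∀ y, Commute z' y := fun y => Subtype.ext (mC.1 y.2)
  obtain ⟨u, a1, -, a2⟩ := H3.IsExtraspecial.exists_xs h1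
  obtain rfl : z' = u := ((mem_zpowers_two (JA.xs_sq a1)).1 (a2.ge ⟨h3 fun y _ => (cz y).symm,
    fun y _ => (cz y).symm⟩)).resolve_left fun h => JL.ne2 hz (congrArg Subtype.val h)
  have H : JA.Hyp z' Q := ⟨a1, h2, fun g hg => h3 hg, cz, h4⟩
  rcases H.letters with ⟨e, b1, b2, b3, b4⟩ | ⟨φ, b1, b2, b3, b4⟩
  · have e5 : (e 5 : G) = z := congrArg Subtype.val b3
    obtain ⟨e', h⟩ := exists_am (e := fun c => (e c : G)) (fun c => congrArg Subtype.val (b1 c))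
      (fun r hr => (map_ev (Subgroup.subtype _) e r).symm.trans (congrArg Subtype.val (b2 r hr)))
      (e5.trans_ne (JL.ne2 hz)) (fun y hy => (map_gen (Subgroup.subtype _) e colsM).le
        ⟨⟨y, mC.2 (e5 ▸ hy)⟩, b4.ge (mem_top _), rfl⟩) (g := g) (by rwa [e5]) (by rwa [e5])
    exact h.dich.imp h.main2 h.main3
  · have e5 : (φ 16 : G) = z := congrArg Subtype.val b3
    rw [← e5] at g1 g2
    refine absurd (no_m1 (b1.comp (Subgroup.subtype _))
      (fun a ha b hb h => b2 a ha b hb (Subtype.ext h)) (fun y => ?_) (g := g) g1) g2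
    refine ⟨fun hy => ?_, ?_⟩
    · obtain ⟨k, c1, c2⟩ := b4 ⟨y, mC.2 (e5 ▸ hy)⟩
      exact ⟨k, c1, congrArg Subtype.val c2⟩
    · rintro ⟨k, -, rfl⟩
      exact Subtype.ext_iff.1 (b3 ▸ cz (φ k))

end H7.JP
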