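import Mathlib
import Cfsg.Agent.H7.SpSuSimple

/-!
Classification of even-dimensional quadratic spaces over a finite field by the number of zeros;
the quadratic form of a Hermitian space; tools for building homomorphisms to orthogonal groups.
-/

set_option autoImplicit false
set_option backward.isDefEq.respectTransparency false
set_option linter.unusedSectionVars false

namespace H7

open Module H15

universe u v w

attribute [-simp] ofQuad_B

section Class

variable {F : Type u} [Field F] [Fintype F]

theorem aniso_equiv {a b a' b' : F} (h : Aniso a b) (h' : Aniso a' b') :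
    ∃ g : (Fin 2 → F) ≃ₗ[F] (Fin 2 → F), ∀ v, (g v) 0 ^ 2 + a' * (g v) 0 * (g v) 1 +
      b' * (g v) 1 ^ 2 = v 0 ^ 2 + a * v 0 * v 1 + b * v 1 ^ 2 := by
  have := h.fact
  have := h'.fact
  have := qa_finite a b
  have := qa_finite a' b'
  obtain ⟨φ⟩ := FiniteField.nonempty_algHom_of_finrank_dvd (F := F) (K := QA a b) (L := QA a' b')
    (by simp [QuadraticAlgebra.finrank_eq_two])
  have hφ : Function.Bijective φ := by
    rw [Nat.bijective_iff_injective_and_card]
    exact ⟨φ.injective, by rw [qa_card rfl, qa_card rfl]⟩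
  let ψ := AlgEquiv.ofBijective φ hφ
  let e : ∀ c d : F, QA c d ≃ₗ[F] (Fin 2 → F) := fun c d =>
    (QuadraticAlgebra.linearEquivTuple (-d) c)
  refine ⟨(e a b).symm ≪≫ₗ ψ.toLinearEquiv ≪≫ₗ e a' b', fun v => ?_⟩
  have h1 := Algebra.norm_eq_of_algEquiv ψ ((e a b).symm v)
  rw [qa_algebra_norm, qa_algebra_norm, qa_norm, qa_norm] at h1
  exact h1

/-- Coordinates with respect to a hyperbolic pair, as a linear equivalence. -/
def HypPair.linEquiv {F : Type*} [Field F] {σ : F →+* F} {V : Type*} [AddCommGroup V] [Module F V]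
    {Φ : Form σ V} {e f : V} (H : HypPair Φ e f) : (F × F × hypPerp Φ e f) ≃ₗ[F] V :=
  { H.equiv with
    map_add' := fun x y => by
      simp only [Equiv.toFun_as_coe, H.equiv_apply, Prod.fst_add, Prod.snd_add, Submodule.coe_add]
      module
    map_smul' := fun c x => by
      simp only [Equiv.toFun_as_coe, H.equiv_apply, Prod.smul_fst, Prod.smul_snd,
        Submodule.coe_smul, smul_eq_mul, RingHom.id_apply]
      module }

theorem exists_sing_iff {V : Type*} [AddCommGroup V] [Module F V] [FiniteDimensional F V]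
    (Q : QuadraticForm F V) : (∀ v, Q v = 0 → v = 0) ↔ nz Q = 1 := by
  refine ⟨nz_of_aniso, fun h v hv => ?_⟩
  have := (Nat.card_eq_one_iff_unique.1 h).1
  exact congrArg Subtype.val (Subsingleton.elim (⟨v, hv⟩ : {v // Q v = 0}) ⟨0, map_zero Q⟩)

/-- **Classification of even-dimensional quadratic spaces** by the number of zeros. -/
theorem exists_equiv_of_nz_eq (m : ℕ) : ∀ (V : Type v) [AddCommGroup V] [Module F V]
    [FiniteDimensional F V] (W : Type w) [AddCommGroup W] [Module F W] [FiniteDimensional F W]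
    (Q : QuadraticForm F V) (R : QuadraticForm F W), (ofQuad Q).Nondeg → (ofQuad R).Nondeg →
    finrank F V = 2 * m → finrank F W = 2 * m → nz Q = nz R →
    ∃ g : V ≃ₗ[F] W, ∀ v, R (g v) = Q v := by
  induction m with
  | zero =>
    intro V _ _ _ W _ _ _ Q R _ _ hV hW _
    have : Subsingleton V := finrank_zero_iff.1 hV
    have : Subsingleton W := finrank_zero_iff.1 hW
    exact ⟨LinearEquiv.ofSubsingleton V W, fun v => by
      rw [Subsingleton.elim v 0, map_zero, map_zero, map_zero]⟩
  | succ m ih =>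
    intro V _ _ _ W _ _ _ Q R hQ hR hV hW hnz
    by_cases ha : ∀ v, Q v = 0 → v = 0
    · have ha' : ∀ v, R v = 0 → v = 0 := by rwa [exists_sing_iff, ← hnz, ← exists_sing_iff]
      have hm : m = 0 := by
        by_contra hm
        obtain ⟨e, -, he, hQe⟩ := exists_singular Q (U := ⊤) (by rw [finrank_top]; omega)
        exact he (ha e hQe)
      subst hm
      obtain ⟨a, b, g, hab, hg⟩ := exists_equiv_aniso hQ hV ha
      obtain ⟨a', b', g', hab', hg'⟩ := exists_equiv_aniso hR hW ha'
      obtain ⟨k, hk⟩ := aniso_equiv hab hab'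
      refine ⟨g.symm ≪≫ₗ k ≪≫ₗ g', fun v => ?_⟩
      simp only [LinearEquiv.trans_apply]
      rw [hg', hk, ← hg, g.apply_symm_apply]
    · have ha' : ¬ ∀ v, R v = 0 → v = 0 := by rwa [exists_sing_iff, ← hnz, ← exists_sing_iff]
      push Not at ha ha'
      obtain ⟨e, hQe, he⟩ := ha
      obtain ⟨e', hRe, he'⟩ := ha'
      obtain ⟨f, H⟩ := exists_hypPair_quad hQ he hQe
      obtain ⟨f', H'⟩ := exists_hypPair_quad hR he' hRe
      have h1 : finrank F (hypPerp (ofQuad Q) e f) = 2 * m := by have := H.finrank_perp hQ; omega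
      have h2 : finrank F (hypPerp (ofQuad R) e' f') = 2 * m := by
        have := H'.finrank_perp hR; omega
      obtain ⟨k, hk⟩ := ih _ _ _ _ (H.quadPerp_nondeg hQ) (H'.quadPerp_nondeg hR) h1 h2 (by
        rw [H.nz_eq, H'.nz_eq, card_eq_pow h1, card_eq_pow h2] at hnz
        exact Nat.eq_of_mul_eq_mul_left Fintype.card_pos (Nat.add_right_cancel hnz))
      refine ⟨H.linEquiv.symm ≪≫ₗ ((LinearEquiv.refl F F).prodCongr
        ((LinearEquiv.refl F F).prodCongr k)) ≪≫ₗ H'.linEquiv, fun v => ?_⟩
      obtain ⟨⟨a, b, w⟩, rfl⟩ := H.linEquiv.surjective v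
      simp only [LinearEquiv.trans_apply, LinearEquiv.symm_apply_apply]
      change R (a • e' + b • f' + (k w : W)) = Q (a • e + b • f + (w : V))
      rw [H.quad_eq _ _ w.2, H'.quad_eq _ _ (k w).2]
      exact congrArg _ (hk w)

end Class

section HermQuad

variable {F K : Type*} [Field F] [Fintype F] [Field K] [Fintype K] [Algebra F K] {q : ℕ}
  (hF : Fintype.card F = q) (hK : Fintype.card K = q ^ 2)

include hF in
theorem frob_algebraMap (x : F) : frob hK (algebraMap F K x) = algebraMap F K x := by
  rw [frob_apply, ← map_pow, ← hF, FiniteField.pow_card]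

include hF in
theorem exists_algebraMap_eq {z : K} (hz : frob hK z = z) : ∃ x, algebraMap F K x = z := by
  have h1 : Function.Bijective (fun x : F =>
      (⟨algebraMap F K x, frob_algebraMap hF hK x⟩ : {x : K // x ^ q = x})) := by
    rw [Nat.bijective_iff_injective_and_card]
    exact ⟨fun x y h => (algebraMap F K).injective (congrArg Subtype.val h),
      by rw [card_fixed hK, Nat.card_eq_fintype_card, hF]⟩
  obtain ⟨x, hx⟩ := h1.2 ⟨z, hz⟩
  exact ⟨x, congrArg Subtype.val hx⟩

include hF in
theorem frob_smul (c : F) (z : K) : frob hK (c • z) = c • frob hK z := by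
  rw [Algebra.smul_def, Algebra.smul_def, map_mul, frob_algebraMap hF hK]

include hF hK in
theorem finrank_eq_two_of_card : finrank F K = 2 := by
  have h1 := card_eq_pow (F := F) (V := K) rfl
  rw [Nat.card_eq_fintype_card, hK, hF] at h1
  exact (Nat.pow_right_injective (two_le_of_card_sq hK) h1).symm

include hF in
/-- The quadratic form over the fixed field attached to a Hermitian form. -/
theorem exists_quad_of_herm {V : Type*} [AddCommGroup V] [Module K V] [Module F V]
    [IsScalarTower F K V] {Φ : Form (frob hK) V} (hH : Φ.IsHerm) (h : Φ.Nondeg) :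
    ∃ Q : QuadraticForm F V, (∀ v, algebraMap F K (Q v) = Φ.B v v) ∧ (ofQuad Q).Nondeg := by
  choose N hN using fun v => exists_algebraMap_eq hF hK (hH.symm v v)
  have hsm : ∀ (c : F) (v : V), c • v = algebraMap F K c • v := fun c v =>
    (algebraMap_smul K c v).symm
  have hpol : ∀ x y, algebraMap F K (QuadraticMap.polar N x y) = Φ.B x y + Φ.B y x := by
    intro x y
    simp only [QuadraticMap.polar, map_sub, hN, map_add, LinearMap.add_apply]
    ring
  refine ⟨QuadraticMap.ofPolar N (fun c v => (algebraMap F K).injective ?_)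
    (fun x y z => (algebraMap F K).injective ?_) (fun c x y => (algebraMap F K).injective ?_),
    hN, fun x hx => h x fun y => ?_⟩
  · simp only [hN, hsm c v, LinearMap.map_smulₛₗ, LinearMap.smul_apply, smul_eq_mul, map_mul,
      frob_algebraMap hF hK, RingHom.id_apply]
    ring
  · simp only [hpol, map_add, LinearMap.add_apply]
    ring
  · simp only [hpol, hsm c x, LinearMap.map_smulₛₗ, LinearMap.smul_apply, smul_eq_mul, map_mul,
      frob_algebraMap hF hK, RingHom.id_apply]
    ring
  · by_contra hxy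
    obtain ⟨θ, hθ⟩ := exists_trace_eq_one (frob hK) hH.1 Φ.invol
    have h1 := hpol x ((θ / Φ.B x y) • y)
    have h2 : QuadraticMap.polar N x ((θ / Φ.B x y) • y) = 0 := hx _
    rw [h2, map_zero, ← hH.symm x, map_smul, smul_eq_mul, div_mul_cancel₀ _ hxy, hθ] at h1
    exact zero_ne_one h1

end HermQuad

theorem nonempty_ringHom_of_card_sq {F K : Type*} [Field F] [Fintype F] [Field K] [Fintype K]
    {q : ℕ} (hF : Fintype.card F = q) (hK : Fintype.card K = q ^ 2) : Nonempty (F →+* K) := by
  obtain ⟨a, b, hab⟩ := exists_aniso (F := F)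
  have := hab.fact
  have := qa_finite a b
  have := Fintype.ofFinite (QA a b)
  exact ⟨(FiniteField.ringEquivOfCardEq (K := QA a b) (K' := K)
    (by rw [← Nat.card_eq_fintype_card, qa_card hF, hK])).toRingHom.comp (algebraMap F _)⟩

section Rep

variable {F : Type*} [Field F] {V : Type*} [AddCommGroup V] [Module F V]

/-- A homomorphism to an orthogonal group from a representation on a larger module. -/
theorem exists_hom_of_rep {G : Type*} [Group G] {M : Type*} [AddCommGroup M] [Module F M]
    (Q : QuadraticForm F V) (R : G → M → M) (hadd : ∀ g x y, R g (x + y) = R g x + R g y)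
    (hsmul : ∀ g (c : F) x, R g (c • x) = c • R g x) (hone : ∀ x, R 1 x = x)
    (hmul : ∀ g h x, R (g * h) x = R g (R h x)) (ι : V →ₗ[F] M) (hι : Function.Injective ι)
    (hinv : ∀ g v, ∃ w, ι w = R g (ι v) ∧ Q w = Q v) :
    ∃ ρ : G →* (ofQuad Q).Isom, ∀ g v, ι ((ρ g).1 v) = R g (ι v) := by
  choose s hs hQ using hinv
  have h1 : ∀ g h v, s g (s h v) = s (g * h) v := fun g h v => hι (by rw [hs, hs, hs, hmul])
  have h2 : ∀ v, s 1 v = v := fun v => hι (by rw [hs, hone])
  refine ⟨MonoidHom.mk' (fun g => ⟨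
    { toFun := s g
      invFun := s g⁻¹
      map_add' := fun x y => hι (by rw [map_add, hs, hs, hs, map_add, hadd])
      map_smul' := fun c x => hι (by rw [map_smul, hs, hs, map_smul, hsmul]; rfl)
      left_inv := fun x => by rw [h1, inv_mul_cancel, h2]
      right_inv := fun x => by rw [h1, mul_inv_cancel, h2] },
    (mem_Isom_ofQuad Q _).2 (hQ g)⟩) fun g h => Form.Isom.ext fun v => (h1 g h v).symm, hs⟩

theorem range_le_commutator_of_perfect {G H : Type*} [Group G] [Group H] (ρ : G →* H)
    (h : commutator G = ⊤) (g : G) : ρ g ∈ commutator H := by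
  have h1 : g ∈ commutator G := by rw [h]; trivial
  have h2 := Subgroup.mem_map_of_mem ρ h1
  rw [map_commutator_eq] at h2
  exact Subgroup.commutator_mono le_top le_top h2

/-- A homomorphism compatible with the centres induces an isomorphism of central quotients of the
same order. -/
theorem nonempty_quot_center_equiv {G H : Type*} [Group G] [Group H] [Finite H] (f : G →* H)
    (hf : ∀ g, f g ∈ Subgroup.center H ↔ g ∈ Subgroup.center G)
    (hc : Nat.card (G ⧸ Subgroup.center G) = Nat.card (H ⧸ Subgroup.center H)) :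
    Nonempty (G ⧸ Subgroup.center G ≃* H ⧸ Subgroup.center H) := by
  refine ⟨MulEquiv.ofBijective (QuotientGroup.map (Subgroup.center G) (Subgroup.center H) f
    fun g hg => (hf g).2 hg) ?_⟩
  rw [Nat.bijective_iff_injective_and_card]
  refine ⟨?_, hc⟩
  rw [injective_iff_map_eq_one]
  intro x hx
  obtain ⟨g, rfl⟩ := QuotientGroup.mk_surjective x
  rw [QuotientGroup.map_mk, QuotientGroup.eq_one_iff, hf] at hx
  exact (QuotientGroup.eq_one_iff _).2 hx

theorem center_iff_of_simple {G H : Type*} [Group G] [Group H]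
    [IsSimpleGroup (G ⧸ Subgroup.center G)] (f : G →* H)
    (h1 : ∀ g ∈ Subgroup.center G, f g ∈ Subgroup.center H) (h2 : ∃ g, f g ∉ Subgroup.center H)
    (g : G) : f g ∈ Subgroup.center H ↔ g ∈ Subgroup.center G := by
  refine ⟨fun hg => ?_, h1 g⟩
  let ψ := QuotientGroup.map (Subgroup.center G) (Subgroup.center H) f fun g hg => h1 g hg
  rcases (MonoidHom.normal_ker ψ).eq_bot_or_eq_top with h | h
  · have : (g : G ⧸ Subgroup.center G) ∈ ψ.ker := by
      rw [MonoidHom.mem_ker, QuotientGroup.map_mk, QuotientGroup.eq_one_iff]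
      exact hg
    rw [h, Subgroup.mem_bot, QuotientGroup.eq_one_iff] at this
    exact this
  · obtain ⟨k, hk⟩ := h2
    have : (k : G ⧸ Subgroup.center G) ∈ ψ.ker := by rw [h]; trivial
    rw [MonoidHom.mem_ker, QuotientGroup.map_mk, QuotientGroup.eq_one_iff] at this
    exact absurd this hk

/-- The standard way to identify `PΩ` with a central quotient `G / Z(G)`. -/
theorem nonempty_pOmega_equiv [Finite F] [FiniteDimensional F V] {Q : QuadraticForm F V}
    (h : (ofQuad Q).Nondeg) (h24 : NotTwoFour F V) (hn : 3 ≤ finrank F V) {G : Type*} [Group G]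
    (ρ : G →* (ofQuad Q).Isom) (hρ : ∀ g, ρ g ∈ commutator (ofQuad Q).Isom)
    (hZ : ∀ g, ((∀ x, (ρ g).1 x = x) ∨ ∀ x, (ρ g).1 x = -x) ↔ g ∈ Subgroup.center G)
    (hc : Nat.card (G ⧸ Subgroup.center G) =
      Nat.card (commutator (ofQuad Q).Isom ⧸ Subgroup.center (commutator (ofQuad Q).Isom))) :
    Nonempty (G ⧸ Subgroup.center G ≃*
      commutator (ofQuad Q).Isom ⧸ Subgroup.center (commutator (ofQuad Q).Isom)) := by
  have : Finite V := Module.finite_of_finite F
  have : Finite (V ≃ₗ[F] V) := Finite.of_injective _ DFunLike.coe_injective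
  exact nonempty_quot_center_equiv (ρ.codRestrict _ hρ)
    (fun g => (mem_center_omega_iff h h24 hn _).trans (hZ g)) hc

theorem nonempty_pOmega_equiv_of_simple [Finite F] [FiniteDimensional F V] {Q : QuadraticForm F V}
    (h : (ofQuad Q).Nondeg) (h24 : NotTwoFour F V) (hn : 3 ≤ finrank F V) {G : Type*} [Group G]
    [IsSimpleGroup (G ⧸ Subgroup.center G)] (hG : commutator G = ⊤)
    (ρ : G →* (ofQuad Q).Isom)
    (hZ : ∀ g ∈ Subgroup.center G, (∀ x, (ρ g).1 x = x) ∨ ∀ x, (ρ g).1 x = -x)
    (hZ' : ∃ g x, ∀ c : F, (ρ g).1 x ≠ c • x)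
    (hc : Nat.card (G ⧸ Subgroup.center G) =
      Nat.card (commutator (ofQuad Q).Isom ⧸ Subgroup.center (commutator (ofQuad Q).Isom))) :
    Nonempty (G ⧸ Subgroup.center G ≃*
      commutator (ofQuad Q).Isom ⧸ Subgroup.center (commutator (ofQuad Q).Isom)) := by
  have hρ := range_le_commutator_of_perfect ρ hG
  refine nonempty_pOmega_equiv h h24 hn ρ hρ (fun g => ?_) hc
  refine (mem_center_omega_iff h h24 hn (ρ.codRestrict _ hρ g)).symm.trans
    (center_iff_of_simple (ρ.codRestrict _ hρ) (fun g hg => ?_) ?_ g)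
  · exact (mem_center_omega_iff h h24 hn _).2 (hZ g hg)
  · obtain ⟨g, x, hg⟩ := hZ'
    refine ⟨g, fun h1 => ?_⟩
    rcases (mem_center_omega_iff h h24 hn _).1 h1 with h2 | h2
    · exact hg 1 (by simpa using h2 x)
    · exact hg (-1) (by simpa using h2 x)

/-- Isometric quadratic spaces have isomorphic groups `PΩ`. -/
def pOmegaCongr {W : Type*} [AddCommGroup W] [Module F W] (Q : QuadraticForm F V)
    (R : QuadraticForm F W) (g : V ≃ₗ[F] W) (hg : ∀ v, R (g v) = Q v) :
    (commutator (ofQuad Q).Isom ⧸ Subgroup.center (commutator (ofQuad Q).Isom)) ≃*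
      (commutator (ofQuad R).Isom ⧸ Subgroup.center (commutator (ofQuad R).Isom)) :=
  quotCenterCongr (commutatorCongr (Form.isomCongr _ _ g (fun x y => by
    simp only [ofQuad_B, QuadraticMap.polar, ← map_add, hg]) hg))

end Rep

end H7
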