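import Mathlib
import Cfsg.Agent.H7.QuadClass

/-!
The isomorphisms `PΩ₃(q) ≅ PSL₂(q)`, `PΩ₄⁺(q) ≅ PSL₂(q) × PSL₂(q)`, `PΩ₄⁻(q) ≅ PSL₂(q²)`.
-/

set_option autoImplicit false
set_option backward.isDefEq.respectTransparency false
set_option linter.unusedSectionVars false

namespace H7

open Module H15 Matrix
open scoped MatrixGroups

attribute [-simp] ofQuad_B

variable {F : Type*} [Field F]

theorem sl_coe_mul_inv {ι : Type*} [Fintype ι] [DecidableEq ι] {R : Type*} [CommRing R]
    (g : Matrix.SpecialLinearGroup ι R) : g.1 * (g⁻¹).1 = 1 :=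
  congrArg Subtype.val (mul_inv_cancel g)

theorem sl_coe_inv_mul {ι : Type*} [Fintype ι] [DecidableEq ι] {R : Type*} [CommRing R]
    (g : Matrix.SpecialLinearGroup ι R) : (g⁻¹).1 * g.1 = 1 :=
  congrArg Subtype.val (inv_mul_cancel g)

theorem sl_coe_mul {ι : Type*} [Fintype ι] [DecidableEq ι] {R : Type*} [CommRing R]
    (g h : Matrix.SpecialLinearGroup ι R) : (g * h).1 = g.1 * h.1 := rfl

theorem sl_center_smul {ι : Type*} [Fintype ι] [DecidableEq ι] {R : Type*} [CommRing R]
    {g : Matrix.SpecialLinearGroup ι R} (hg : g ∈ Subgroup.center _) :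
    ∃ r : R, r ^ Fintype.card ι = 1 ∧ g.1 = r • (1 : Matrix ι ι R) := by
  obtain ⟨r, h1, h2⟩ := Matrix.SpecialLinearGroup.mem_center_iff.1 hg
  exact ⟨r, h1, by rw [← h2, Matrix.scalar_apply, Matrix.smul_one_eq_diagonal]⟩

theorem sl_mem_center_of_smul {ι : Type*} [Fintype ι] [DecidableEq ι] {R : Type*} [CommRing R]
    {g : Matrix.SpecialLinearGroup ι R} {r : R} (hg : g.1 = r • (1 : Matrix ι ι R)) :
    g ∈ Subgroup.center (Matrix.SpecialLinearGroup ι R) := by
  rw [Subgroup.mem_center_iff]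
  intro h
  exact Subtype.ext (by rw [sl_coe_mul, sl_coe_mul, hg]; simp)

theorem sl2_induction (P : SL(2, F) → Prop) (h1 : P 1)
    (hu : ∀ g : SL(2, F), ∀ c, g.1 = !![1, c; 0, 1] → (g⁻¹).1 = !![1, -c; 0, 1] → P g)
    (hl : ∀ g : SL(2, F), ∀ c, g.1 = !![1, 0; c, 1] → (g⁻¹).1 = !![1, 0; -c, 1] → P g)
    (hmul : ∀ A B, P A → P B → P (A * B)) (A : SL(2, F)) : P A := by
  refine sl_transvection_induction P h1 (fun i j h c => ?_) hmul A
  rw [show P = fun g => P g from rfl]
  fin_cases i <;> fin_cases j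
  · exact absurd rfl h
  · refine hu _ c ?_ ?_
    · rw [Matrix.SpecialLinearGroup.transvection_coe]
      ext a b; fin_cases a <;> fin_cases b <;> simp
    · rw [Matrix.SpecialLinearGroup.transvection_inv, Matrix.SpecialLinearGroup.transvection_coe]
      ext a b; fin_cases a <;> fin_cases b <;> simp
  · refine hl _ c ?_ ?_
    · rw [Matrix.SpecialLinearGroup.transvection_coe]
      ext a b; fin_cases a <;> fin_cases b <;> simp
    · rw [Matrix.SpecialLinearGroup.transvection_inv, Matrix.SpecialLinearGroup.transvection_coe]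
      ext a b; fin_cases a <;> fin_cases b <;> simp
  · exact absurd rfl h

/-! ### Dimension three -/

/-- Trace-zero matrices. -/
def iota3 : (Unit ⊕ (Fin 1 ⊕ Fin 1) → F) →ₗ[F] Matrix (Fin 2) (Fin 2) F where
  toFun v := !![v (.inl ()), v (.inr (.inl 0)); v (.inr (.inr 0)), -v (.inl ())]
  map_add' x y := by ext i j; fin_cases i <;> fin_cases j <;> simp [add_comm]
  map_smul' c x := by ext i j; fin_cases i <;> fin_cases j <;> simp

theorem iota3_apply (v : Unit ⊕ (Fin 1 ⊕ Fin 1) → F) :
    iota3 v = !![v (.inl ()), v (.inr (.inl 0)); v (.inr (.inr 0)), -v (.inl ())] := rfl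

theorem iota3_injective : Function.Injective (iota3 (F := F)) := by
  intro x y h
  ext (i | i | i)
  · exact congrFun (congrFun h 0) 0
  · rw [Subsingleton.elim i 0]; exact congrFun (congrFun h 0) 1
  · rw [Subsingleton.elim i 0]; exact congrFun (congrFun h 1) 0

theorem qOdd_one_eq (v : Unit ⊕ (Fin 1 ⊕ Fin 1) → F) : qOdd 1 F v = -(iota3 v).det := by
  simp [qOdd_apply, iota3_apply, det_fin_two]; ring

theorem exists_rep3 : ∃ ρ : SL(2, F) →* (ofQuad (qOdd 1 F)).Isom,
    ∀ g v, iota3 ((ρ g).1 v) = g.1 * iota3 v * (g⁻¹).1 := by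
  refine exists_hom_of_rep (qOdd 1 F) (fun (g : SL(2, F)) A => g.1 * A * (g⁻¹).1)
    (fun g x y => by rw [Matrix.mul_add, Matrix.add_mul]) (fun g c x => by simp)
    (fun x => by simp) (fun g h x => by
      simp only [_root_.mul_inv_rev, sl_coe_mul, Matrix.mul_assoc]) iota3 iota3_injective
    fun g v => ?_
  obtain ⟨A, hA⟩ : ∃ A, A = g.1 * iota3 v * (g⁻¹).1 := ⟨_, rfl⟩
  have h1 : A.trace = 0 := by
    rw [hA, Matrix.trace_mul_cycle, sl_coe_inv_mul, Matrix.one_mul, iota3_apply]
    simp
  have h2 : iota3 (Sum.elim (fun _ => A 0 0) (Sum.elim (fun _ => A 0 1) fun _ => A 1 0)) = A := by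
    rw [Matrix.trace_fin_two] at h1
    ext i j
    fin_cases i <;> fin_cases j <;> simp [iota3_apply]
    linear_combination -h1
  refine ⟨_, h2.trans hA, ?_⟩
  rw [qOdd_one_eq, qOdd_one_eq, h2, hA, det_mul, det_mul, g.2, (g⁻¹).2, one_mul, mul_one]

theorem pOmega3_equiv [Fintype F] (h2 : (2 : F) ≠ 0) :
    Nonempty (Cfsg.POmega F (Cfsg.quadFormOdd 1 F) ≃* PSL(2, F)) := by
  obtain ⟨ρ, hρ⟩ := exists_rep3 (F := F)
  have h := qOdd_nondeg 1 h2
  have h24 : NotTwoFour F (Unit ⊕ (Fin 1 ⊕ Fin 1) → F) := notTwoFour_of_two_ne_zero h2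
  refine (nonempty_pOmega_equiv h h24 (by simp) ρ (fun g => ?_) (fun g => ?_) ?_).map
    fun e => (pOmegaEquiv (qOdd 1 F)).trans e.symm
  · refine sl2_induction (fun g => ρ g ∈ commutator _) (by simp) (fun g c h3 h4 => ?_)
      (fun g c h3 h4 => ?_) (fun A B hA hB => by rw [map_mul]; exact Subgroup.mul_mem _ hA hB) g
    · have hu : qOdd 1 F (Pi.single (.inr (.inl 0)) 1) = 0 := by simp [qOdd_apply]
      have huv : pol (qOdd 1 F) (Pi.single (.inr (.inl 0)) 1) (Pi.single (.inl ()) (-c)) = 0 := by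
        simp [pol_qOdd]
      rw [show ρ g = eich _ _ _ hu huv from Form.Isom.ext fun x => iota3_injective (by
        rw [hρ, h3, h4, eich_apply]
        ext i j
        fin_cases i <;> fin_cases j <;>
          simp [iota3_apply, pol_qOdd, qOdd_apply, Matrix.mul_apply, Fin.sum_univ_two] <;> ring)]
      exact eich_mem_commutator h h24 hu huv
    · have hu : qOdd 1 F (Pi.single (.inr (.inr 0)) 1) = 0 := by simp [qOdd_apply]
      have huv : pol (qOdd 1 F) (Pi.single (.inr (.inr 0)) 1) (Pi.single (.inl ()) c) = 0 := by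
        simp [pol_qOdd]
      rw [show ρ g = eich _ _ _ hu huv from Form.Isom.ext fun x => iota3_injective (by
        rw [hρ, h3, h4, eich_apply]
        ext i j
        fin_cases i <;> fin_cases j <;>
          simp [iota3_apply, pol_qOdd, qOdd_apply, Matrix.mul_apply, Fin.sum_univ_two] <;> ring)]
      exact eich_mem_commutator h h24 hu huv
  · constructor
    · intro hg
      obtain ⟨ε, hε, hg⟩ : ∃ ε : F, (ε = 1 ∨ ε = -1) ∧ ∀ x, (ρ g).1 x = ε • x := by
        rcases hg with hg | hg
        · exact ⟨1, Or.inl rfl, by simpa using hg⟩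
        · exact ⟨-1, Or.inr rfl, by simpa using hg⟩
      have key : ∀ x, g.1 * iota3 x = ε • (iota3 x * g.1) := fun x => by
        rw [← smul_mul_assoc, ← map_smul, ← hg, hρ, Matrix.mul_assoc, sl_coe_inv_mul,
          Matrix.mul_one]
      have e1 := key (Pi.single (.inr (.inl 0)) 1)
      have e2 := key (Pi.single (.inr (.inr 0)) 1)
      have e3 := key (Pi.single (.inl ()) 1)
      have f1 := congrFun (congrFun e1 1) 1
      have f2 := congrFun (congrFun e1 0) 1
      have f3 := congrFun (congrFun e2 0) 0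
      have f4 := congrFun (congrFun e3 0) 0
      simp [iota3_apply, Matrix.mul_apply, Fin.sum_univ_two, Matrix.vecMul, dotProduct]
        at f1 f2 f3 f4
      have hd := g.2
      rw [det_fin_two, f1, f3] at hd
      rcases hε with rfl | rfl
      · refine sl_mem_center_of_smul (r := g.1 0 0) ?_
        ext i j
        fin_cases i <;> fin_cases j <;> simp [f1, f3]
        simpa using f2.symm
      · exfalso
        apply h2
        linear_combination 2 * (-hd) + g.1 1 1 * f4
    · intro hg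
      obtain ⟨r, -, hr⟩ := sl_center_smul hg
      refine Or.inl fun x => iota3_injective ?_
      rw [hρ]
      have : g.1 * iota3 x = iota3 x * g.1 := by rw [hr]; simp
      rw [this, Matrix.mul_assoc, sl_coe_mul_inv, Matrix.mul_one]
  · have h3 := card_POmega_odd h2 1 le_rfl
    have h4 := card_psl_two (F := F) rfl
    have h5 : Nat.gcd 2 (Fintype.card F - 1) = 2 :=
      Nat.gcd_eq_left (Nat.Odd.sub_odd (card_odd_iff.2 h2) odd_one).two_dvd
    rw [← Nat.card_congr (pOmegaEquiv (qOdd 1 F)).toEquiv]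
    apply Nat.eq_of_mul_eq_mul_left (show 0 < 2 by omega)
    rw [h5] at h4
    refine h4.trans (Eq.trans ?_ h3.symm)
    simp

/-! ### Dimension four, plus type -/

/-- The central quotient of a product. -/
theorem nonempty_quot_center_prod (G H : Type*) [Group G] [Group H] :
    Nonempty ((G × H) ⧸ Subgroup.center (G × H) ≃*
      (G ⧸ Subgroup.center G) × (H ⧸ Subgroup.center H)) := by
  let f : G × H →* (G ⧸ Subgroup.center G) × (H ⧸ Subgroup.center H) :=
    (QuotientGroup.mk' _).prodMap (QuotientGroup.mk' _)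
  have hf : Function.Surjective f :=
    (QuotientGroup.mk'_surjective _).prodMap (QuotientGroup.mk'_surjective _)
  have hk : Subgroup.center (G × H) = f.ker := by
    ext ⟨g, h⟩
    simp only [f, MonoidHom.mem_ker, MonoidHom.coe_prodMap, Prod.map_apply, Prod.mk_eq_one,
      QuotientGroup.mk'_apply, QuotientGroup.eq_one_iff, Subgroup.mem_center_iff, Prod.forall,
      Prod.mk_mul_mk, Prod.mk.injEq]
    exact ⟨fun h => ⟨fun a => (h a 1).1, fun b => (h 1 b).2⟩, fun h a b => ⟨h.1 a, h.2 b⟩⟩
  exact ⟨(QuotientGroup.quotientMulEquivOfEq hk).trans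
    (QuotientGroup.quotientKerEquivOfSurjective f hf)⟩

theorem mem_center_prod_iff {G H : Type*} [Group G] [Group H] (g : G) (h : H) :
    (g, h) ∈ Subgroup.center (G × H) ↔ g ∈ Subgroup.center G ∧ h ∈ Subgroup.center H := by
  simp only [Subgroup.mem_center_iff, Prod.forall, Prod.mk_mul_mk, Prod.mk.injEq]
  exact ⟨fun h => ⟨fun a => (h a 1).1, fun b => (h 1 b).2⟩, fun h a b => ⟨h.1 a, h.2 b⟩⟩

/-- All two by two matrices. -/
def iota4 : (Fin 2 ⊕ Fin 2 → F) →ₗ[F] Matrix (Fin 2) (Fin 2) F where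
  toFun v := !![v (.inl 0), v (.inl 1); -v (.inr 1), v (.inr 0)]
  map_add' x y := by ext i j; fin_cases i <;> fin_cases j <;> simp [add_comm]
  map_smul' c x := by ext i j; fin_cases i <;> fin_cases j <;> simp

theorem iota4_apply (v : Fin 2 ⊕ Fin 2 → F) :
    iota4 v = !![v (.inl 0), v (.inl 1); -v (.inr 1), v (.inr 0)] := rfl

theorem iota4_injective : Function.Injective (iota4 (F := F)) := by
  intro x y h
  ext (i | i) <;> fin_cases i
  · exact congrFun (congrFun h 0) 0
  · exact congrFun (congrFun h 0) 1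
  · exact congrFun (congrFun h 1) 1
  · exact neg_injective (congrFun (congrFun h 1) 0)

theorem iota4_surjective : Function.Surjective (iota4 (F := F)) := fun A =>
  ⟨Sum.elim ![A 0 0, A 0 1] ![A 1 1, -A 1 0], by
    ext i j; fin_cases i <;> fin_cases j <;> simp [iota4_apply]⟩

theorem qPlus_two_eq (v : Fin 2 ⊕ Fin 2 → F) : qPlus 2 F v = (iota4 v).det := by
  simp [qPlus_apply, iota4_apply, det_fin_two]

theorem exists_rep4 : ∃ ρ : SL(2, F) × SL(2, F) →* (ofQuad (qPlus 2 F)).Isom,
    ∀ g v, iota4 ((ρ g).1 v) = g.1.1 * iota4 v * (g.2⁻¹).1 := by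
  refine exists_hom_of_rep (qPlus 2 F) (fun (g : SL(2, F) × SL(2, F)) A => g.1.1 * A * (g.2⁻¹).1)
    (fun g x y => by rw [Matrix.mul_add, Matrix.add_mul]) (fun g c x => by simp)
    (fun x => by simp) (fun g h x => by
      simp only [Prod.fst_mul, Prod.snd_mul, _root_.mul_inv_rev, sl_coe_mul, Matrix.mul_assoc])
    iota4 iota4_injective fun g v => ?_
  obtain ⟨w, hw⟩ := iota4_surjective (g.1.1 * iota4 v * (g.2⁻¹).1)
  refine ⟨w, hw, ?_⟩
  rw [qPlus_two_eq, qPlus_two_eq, hw, det_mul, det_mul, g.1.2, (g.2⁻¹).2, one_mul, mul_one]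

theorem pOmega4plus_equiv [Fintype F] (hF : 3 ≤ Fintype.card F) :
    Nonempty (Cfsg.POmega F (Cfsg.quadFormPlus 2 F) ≃* PSL(2, F) × PSL(2, F)) := by
  obtain ⟨ρ, hρ⟩ := exists_rep4 (F := F)
  have h := qPlus_nondeg 2 F
  have h24 : NotTwoFour F (Fin 2 ⊕ Fin 2 → F) := notTwoFour_of_card (Or.inl (by omega))
  obtain ⟨e'⟩ := nonempty_quot_center_prod SL(2, F) SL(2, F)
  have hE : ∀ (g : SL(2, F) × SL(2, F)) (i j : Fin 2 ⊕ Fin 2) (c : F)
      (hu : qPlus 2 F (Pi.single i 1) = 0) (huv : pol (qPlus 2 F) (Pi.single i 1)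
        (Pi.single j c) = 0),
      (∀ x, g.1.1 * iota4 x * (g.2⁻¹).1 = iota4 ((eich _ _ _ hu huv).1 x)) →
      ρ g ∈ commutator _ := fun g i j c hu huv hx => by
    rw [show ρ g = eich _ _ _ hu huv from Form.Isom.ext fun x => iota4_injective (by
      rw [hρ, hx])]
    exact eich_mem_commutator h h24 hu huv
  refine (nonempty_pOmega_equiv h h24 (by simp) ρ (fun g => ?_) (fun g => ?_) ?_).map
    fun e => (pOmegaEquiv (qPlus 2 F)).trans (e.symm.trans e')
  · obtain ⟨g, k⟩ := g
    rw [show (g, k) = (g, 1) * (1, k) by simp, map_mul]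
    refine Subgroup.mul_mem _ ?_ ?_
    · refine sl2_induction (fun g => ρ (g, 1) ∈ commutator _) (by simp [← Prod.one_eq_mk])
        (fun g c h3 h4 => ?_) (fun g c h3 h4 => ?_) (fun A B hA hB => by
          rw [show (A * B, (1 : SL(2, F))) = (A, 1) * (B, 1) by simp, map_mul]
          exact Subgroup.mul_mem _ hA hB) g
      · refine hE _ (.inl 0) (.inl 1) (-c) (by simp [qPlus_apply]) (by simp [pol_qPlus])
          fun x => ?_
        rw [h3, eich_apply]
        ext i j
        fin_cases i <;> fin_cases j <;>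
          simp [iota4_apply, pol_qPlus, qPlus_apply, Matrix.mul_apply, Fin.sum_univ_two] <;> ring
      · refine hE _ (.inr 0) (.inr 1) c (by simp [qPlus_apply]) (by simp [pol_qPlus])
          fun x => ?_
        rw [h3, eich_apply]
        ext i j
        fin_cases i <;> fin_cases j <;>
          simp [iota4_apply, pol_qPlus, qPlus_apply, Matrix.mul_apply, Fin.sum_univ_two] <;> ring
    · refine sl2_induction (fun g => ρ (1, g) ∈ commutator _) (by simp [← Prod.one_eq_mk])
        (fun g c h3 h4 => ?_) (fun g c h3 h4 => ?_) (fun A B hA hB => by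
          rw [show ((1 : SL(2, F)), A * B) = (1, A) * (1, B) by simp, map_mul]
          exact Subgroup.mul_mem _ hA hB) k
      · refine hE _ (.inr 0) (.inl 1) c (by simp [qPlus_apply]) (by simp [pol_qPlus])
          fun x => ?_
        rw [h4, eich_apply]
        ext i j
        fin_cases i <;> fin_cases j <;>
          simp [iota4_apply, pol_qPlus, qPlus_apply, Matrix.mul_apply, Fin.sum_univ_two] <;> ring
      · refine hE _ (.inl 0) (.inr 1) (-c) (by simp [qPlus_apply]) (by simp [pol_qPlus])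
          fun x => ?_
        rw [h4, eich_apply]
        ext i j
        fin_cases i <;> fin_cases j <;>
          simp [iota4_apply, pol_qPlus, qPlus_apply, Matrix.mul_apply, Fin.sum_univ_two] <;> ring
  · obtain ⟨g, k⟩ := g
    rw [mem_center_prod_iff]
    constructor
    · intro hg
      obtain ⟨ε, hε, hg⟩ : ∃ ε : F, ε ≠ 0 ∧ ∀ x, (ρ (g, k)).1 x = ε • x := by
        rcases hg with hg | hg
        · exact ⟨1, one_ne_zero, by simpa using hg⟩
        · exact ⟨-1, by simp, by simpa using hg⟩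
      have key : ∀ A, g.1 * A = ε • (A * k.1) := fun A => by
        obtain ⟨x, rfl⟩ := iota4_surjective A
        rw [← smul_mul_assoc, ← map_smul, ← hg, hρ, Matrix.mul_assoc, sl_coe_inv_mul,
          Matrix.mul_one]
      have e1 := key 1
      rw [Matrix.mul_one, Matrix.one_mul] at e1
      constructor
      · rw [Subgroup.mem_center_iff]
        intro a
        exact Subtype.ext (by rw [sl_coe_mul, sl_coe_mul, key, e1, mul_smul_comm])
      · rw [Subgroup.mem_center_iff]
        intro a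
        refine Subtype.ext (smul_right_injective _ hε ?_)
        simp only [sl_coe_mul]
        rw [← key, e1, smul_mul_assoc]
    · rintro ⟨hg, hk⟩
      obtain ⟨r, hr1, hr⟩ := sl_center_smul hg
      obtain ⟨s, hs1, hs⟩ := sl_center_smul (Subgroup.inv_mem _ hk)
      have h1 : ∀ x, (ρ (g, k)).1 x = (r * s) • x := fun x => iota4_injective (by
        rw [hρ, hr, hs]; simp [smul_smul, mul_comm])
      have h3 : (r * s) * (r * s) = 1 := by
        simp only [Fintype.card_fin] at hr1 hs1
        linear_combination s ^ 2 * hr1 + hs1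
      rcases mul_self_eq_one_iff.1 h3 with h4 | h4
      · left; simpa [h4] using h1
      · right; simpa [h4] using h1
  · have h3 := card_POmega_plus (F := F) 1 le_rfl (Or.inl (by omega))
    have h4 := card_psl_two (F := F) rfl
    have h5 : Nat.gcd 4 (Fintype.card F ^ (1 + 1) - 1) = Nat.gcd 2 (Fintype.card F - 1) ^ 2 := by
      obtain ⟨k, hk⟩ : ∃ k, Fintype.card F = k + 1 := ⟨Fintype.card F - 1, by omega⟩
      rw [hk, show (k + 1) ^ (1 + 1) - 1 = k * (k + 2) by apply Nat.sub_eq_of_eq_add; ring,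
        Nat.add_sub_cancel, Nat.gcd_rec 4, Nat.gcd_rec 2, Nat.mul_mod, Nat.add_mod,
        ← Nat.mod_mod_of_dvd k (show 2 ∣ 4 by norm_num)]
      have := Nat.mod_lt k (show 0 < 4 by omega)
      interval_cases k % 4 <;> rfl
    rw [← Nat.card_congr (pOmegaEquiv (qPlus 2 F)).toEquiv, Nat.card_congr e'.toEquiv,
      Nat.card_prod]
    apply Nat.eq_of_mul_eq_mul_left (show 0 < Nat.gcd 2 (Fintype.card F - 1) ^ 2 by positivity)
    rw [h5] at h3
    refine Eq.trans ?_ h3.symm
    rw [← sq, ← mul_pow]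
    refine (congrArg (· ^ 2) h4).trans ?_
    simp
    ring

/-! ### Dimension four, minus type -/

section Minus

variable {K : Type*} [Fintype F] [Field K] [Fintype K] [Algebra F K] {q : ℕ}
  (hF : Fintype.card F = q) (hK : Fintype.card K = q ^ 2)

include hF in
/-- The norm form of a quadratic extension of finite fields. -/
theorem exists_normForm : ∃ N : QuadraticForm F K,
    (∀ z, algebraMap F K (N z) = z * frob hK z) ∧ (ofQuad N).Nondeg := by
  let B : K →ₛₗ[frob hK] K →ₗ[K] K := LinearMap.mk₂'ₛₗ (frob hK) (RingHom.id K)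
    (fun u v => v * frob hK u) (by intros; simp [mul_add]) (by intros; simp [mul_left_comm])
    (by intros; simp [add_mul]) (by intros; simp [mul_assoc])
  have hB : B.IsSymm := ⟨fun x y => by
    change frob hK (y * frob hK x) = x * frob hK y
    rw [map_mul, frob_frob, mul_comm]⟩
  exact exists_quad_of_herm hF hK
    (ofHerm_isHerm (frob hK) (frob_ne_id hK) (frob_frob hK) B hB) fun x hx => by
      have : (1 : K) * frob hK x = 0 := hx 1
      simpa using this

theorem center_eq_bot_of_simple {G : Type*} [Group G] [IsSimpleGroup G] (h : commutator G = ⊤) :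
    Subgroup.center G = ⊥ := by
  rcases (inferInstance : (Subgroup.center G).Normal).eq_bot_or_eq_top with h1 | h1
  · exact h1
  · exfalso
    have h2 : commutator G = ⊥ := by
      rw [commutator_def, Subgroup.commutator_eq_bot_iff_le_centralizer, Subgroup.coe_top,
        Subgroup.centralizer_univ, h1]
    rw [h] at h2
    exact top_ne_bot h2

include hF hK in
theorem pOmega4minus_equiv_aux {a b : F} (hab : Aniso a b) :
    Nonempty (Cfsg.POmega F (Cfsg.quadFormMinus 1 F a b) ≃* PSL(2, K)) := by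
  have hq := two_le_of_card_sq hK
  obtain ⟨N, hN, hNd⟩ := exists_normForm hF hK
  have hσ := frob_algebraMap hF hK
  let Q : QuadraticForm F (F × F × K) :=
    QuadraticMap.linMulLin (LinearMap.fst F _ _) (LinearMap.fst F _ _ ∘ₗ LinearMap.snd F _ _) +
      N.comp (LinearMap.snd F _ _ ∘ₗ LinearMap.snd F _ _)
  have hQ : ∀ v, Q v = v.1 * v.2.1 + N v.2.2 := fun v => rfl
  have hpol : ∀ u v, pol Q u v = u.1 * v.2.1 + u.2.1 * v.1 + pol N u.2.2 v.2.2 := fun u v => by
    simp only [pol_eq, QuadraticMap.polar, hQ, Prod.fst_add, Prod.snd_add]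
    ring
  have hQd : (ofQuad Q).Nondeg := by
    rintro ⟨x, y, z⟩ h
    have h1 : pol Q _ _ = 0 := h (0, 1, 0)
    have h2 : pol Q _ _ = 0 := h (1, 0, 0)
    have h3 : z = 0 := hNd z fun w => by
      have h4 : pol Q _ _ = 0 := h (0, 0, w)
      simpa [hpol] using h4
    simp [hpol] at h1 h2
    simp [h1, h2, h3]
  have hrank : finrank F (F × F × K) = 2 * 2 := by simp [finrank_eq_two_of_card hF hK]
  have hnz : nz Q = nz (qMinus 1 F a b) := by
    have h1 := nz_qMinus 1 hab
    have h2 := card_hyp_zero (F := F) N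
    have h3 : nz N = 1 := nz_of_aniso fun z hz => by
      have := hN z
      rw [hz, map_zero] at this
      simpa using this.symm
    have h4 : nz Q = q * 1 + (q - 1) * q ^ 2 := by
      rw [show Nat.card {w // N w = 0} = 1 from h3, Nat.card_eq_fintype_card (α := K), hK, hF] at h2
      exact h2
    rw [hF] at h1
    zify [show 1 ≤ q by omega] at h1 h4 ⊢
    linear_combination h4 - h1
  obtain ⟨γ, hγ⟩ := exists_equiv_of_nz_eq 2 _ _ Q (qMinus 1 F a b) hQd (qMinus_nondeg 1 hab) hrank
    finrank_minus hnz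
  have hcard : Nat.card (ofQuad Q).Isom = 2 * (q ^ 2 * (q ^ 4 - 1)) := by
    rw [Nat.card_congr (isomCongrQuad Q _ γ hγ).toEquiv, card_isom_qMinus 1 hab, hF]
    have h1 : 1 ≤ q ^ 2 := Nat.one_le_pow _ _ (by omega)
    have h2 : 1 ≤ q ^ 4 := Nat.one_le_pow _ _ (by omega)
    simp only [Finset.range_one, Finset.prod_singleton]
    zify [h1, h2]
    ring
  let ι : (F × F × K) →ₗ[F] Matrix (Fin 2) (Fin 2) K :=
    { toFun := fun v => !![algebraMap F K v.1, v.2.2; frob hK v.2.2, -algebraMap F K v.2.1]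
      map_add' := fun x y => by ext i j; fin_cases i <;> fin_cases j <;> simp [add_comm]
      map_smul' := fun c x => by
        ext i j; fin_cases i <;> fin_cases j <;> simp [Algebra.smul_def, hσ] }
  have hι : ∀ v, ι v = !![algebraMap F K v.1, v.2.2; frob hK v.2.2, -algebraMap F K v.2.1] :=
    fun _ => rfl
  have hιi : Function.Injective ι := by
    rintro ⟨x, y, z⟩ ⟨x', y', z'⟩ h
    have h1 := congrFun (congrFun h 0) 0
    have h2 := congrFun (congrFun h 0) 1
    have h3 := congrFun (congrFun h 1) 1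
    simp [hι] at h1 h2 h3
    simp [h1, h2, h3]
  have hQι : ∀ v, algebraMap F K (Q v) = -(ι v).det := fun v => by
    simp [hQ, hι, det_fin_two, hN]; ring
  obtain ⟨ρ, hρ⟩ : ∃ ρ : SL(2, K) →* (ofQuad Q).Isom,
      ∀ g v, ι ((ρ g).1 v) = g.1 * ι v * (g.1.map (frob hK))ᵀ := by
    refine exists_hom_of_rep Q (fun (g : SL(2, K)) A => g.1 * A * (g.1.map (frob hK))ᵀ)
      (fun g x y => by rw [Matrix.mul_add, Matrix.add_mul]) (fun g c x => by simp)
      (fun x => by simp) (fun g h x => by
        simp only [sl_coe_mul, Matrix.map_mul, Matrix.transpose_mul, Matrix.mul_assoc])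
      ι hιi fun g v => ?_
    obtain ⟨A, hA⟩ : ∃ A, A = g.1 * ι v * (g.1.map (frob hK))ᵀ := ⟨_, rfl⟩
    have h1 : ∀ i j, frob hK (A i j) = A j i := fun i j => by
      simp [hA, hι, Matrix.mul_apply, Fin.sum_univ_two, hσ, frob_frob, Matrix.vecMul, dotProduct]
      ring
    obtain ⟨x, hx⟩ := exists_algebraMap_eq hF hK (h1 0 0)
    obtain ⟨y, hy⟩ := exists_algebraMap_eq hF hK (h1 1 1)
    have h2 : ι (x, -y, A 0 1) = A := by
      ext i j
      fin_cases i <;> fin_cases j <;> simp [hι, hx, hy, h1]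
    refine ⟨_, h2.trans hA, (algebraMap F K).injective ?_⟩
    rw [hQι, hQι, h2, hA, det_mul, det_mul, det_transpose, ← RingHom.mapMatrix_apply,
      ← RingHom.map_det, g.2, map_one, one_mul, mul_one]
  have h4 : 4 ≤ Fintype.card K := by rw [hK]; nlinarith
  obtain ⟨t, ht0, ht⟩ := exists_sq_ne_one_of_card h4
  have hperf : commutator SL(2, K) = ⊤ := Matrix.SL2.commutator_eq_top ht0 ht
  have hsimple : IsSimpleGroup PSL(2, K) :=
    Matrix.ProjectiveSpecialLinearGroup.rank_two_simple' ⟨t, ht0, ht⟩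
  have hZ : Subgroup.center SL(2, K) ≤ ρ.ker := fun g hg => by
    obtain ⟨r, hr1, hr⟩ := sl_center_smul hg
    refine Form.Isom.ext fun x => hιi ?_
    rw [hρ, hr]
    simp only [Fintype.card_fin, sq] at hr1
    rcases mul_self_eq_one_iff.1 hr1 with rfl | rfl
    · simp
    · simp [Matrix.map_neg]
  let ψ := QuotientGroup.lift _ ρ hZ
  have hψ : Function.Injective ψ := by
    rw [← MonoidHom.ker_eq_bot_iff]
    refine (MonoidHom.normal_ker ψ).eq_bot_or_eq_top.resolve_right fun h => ?_
    let g : SL(2, K) := ⟨!![1, 1; 0, 1], by simp [det_fin_two]⟩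
    have h1 : (g : PSL(2, K)) ∈ ψ.ker := by rw [h]; trivial
    have h2 : ρ g = 1 := h1
    have h3 := congrFun (congrFun (hρ g (0, 1, 0)) 0) 0
    rw [h2] at h3
    simp [hι, g, Matrix.mul_apply, Fin.sum_univ_two, Matrix.vecMul, dotProduct] at h3
  have hle : ψ.range ≤ commutator _ := by
    rintro _ ⟨g, rfl⟩
    obtain ⟨g, rfl⟩ := QuotientGroup.mk_surjective g
    exact range_le_commutator_of_perfect ρ hperf g
  have hc := card_psl_two hK
  rw [Nat.card_congr (MonoidHom.ofInjective hψ).toEquiv, ← pow_mul] at hc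
  have : Finite ((F × F × K) ≃ₗ[F] (F × F × K)) := Finite.of_injective _ DFunLike.coe_injective
  have hrange : ψ.range = commutator _ := by
    have h5 := Subgroup.card_mul_index ψ.range
    by_cases h2 : (2 : F) = 0
    · refine le_antisymm hle ?_
      have h6 : Nat.gcd 2 (q ^ 2 - 1) = 1 := Nat.coprime_two_left.2
        (Nat.Even.sub_odd (Nat.one_le_pow _ _ (by omega))
          ((hF ▸ even_card_of_two_eq_zero h2).pow_of_ne_zero (by omega)) odd_one)
      rw [h6, one_mul] at hc
      rw [hcard, ← hc, mul_comm] at h5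
      have h7 : ψ.range.index = 2 := Nat.eq_of_mul_eq_mul_right Nat.card_pos h5
      have := Subgroup.normal_of_index_eq_two h7
      rw [← Subgroup.Normal.quotient_commutative_iff_commutator_le]
      have : Fact (Nat.Prime 2) := ⟨Nat.prime_two⟩
      have := isCyclic_of_prime_card (α := _ ⧸ ψ.range) h7
      infer_instance
    · have h6 : Nat.gcd 2 (q ^ 2 - 1) = 2 :=
        Nat.gcd_eq_left (Nat.Odd.sub_odd (hF ▸ card_odd_iff.2 h2).pow odd_one).two_dvd
      have h7 := Subgroup.card_mul_index (commutator (ofQuad Q).Isom)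
      rw [index_commutator_odd h2 hQd (by omega), hcard, ← hc, h6] at h7
      exact Subgroup.eq_of_le_of_card_ge hle (by omega)
  let e : PSL(2, K) ≃* commutator (ofQuad Q).Isom :=
    (MonoidHom.ofInjective hψ).trans (MulEquiv.subgroupCongr hrange)
  have hbot : Subgroup.center PSL(2, K) = ⊥ :=
    center_eq_bot_of_simple (SL2Simple.PSL_commutator_eq_top ⟨t, ht0, ht⟩)
  exact ⟨(pOmegaEquiv (qMinus 1 F a b)).trans ((pOmegaCongr Q _ γ hγ).symm.trans
    ((quotCenterCongr e).symm.trans (quotCenterEquivOfBot hbot)))⟩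

end Minus

theorem pOmega4minus_equiv {K : Type*} [Fintype F] [Field K] [Fintype K] {q : ℕ}
    (hF : Fintype.card F = q) (hK : Fintype.card K = q ^ 2) {a b : F} (hab : Aniso a b) :
    Nonempty (Cfsg.POmega F (Cfsg.quadFormMinus 1 F a b) ≃* PSL(2, K)) := by
  obtain ⟨ι⟩ := nonempty_ringHom_of_card_sq hF hK
  let _ : Algebra F K := ι.toAlgebra
  exact pOmega4minus_equiv_aux hF hK hab

end H7
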