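import Mathlib
import Cfsg.Agent.H7.JMain
import Cfsg.Agent.H7.J2Syl
import Cfsg.Agent.H7.LowDim2
import Cfsg.Agent.H17.ZStar
import Cfsg.Agent.H23.Components

/-!
# The forms of the hypothesis for `J₂` and `J₃`
-/

set_option autoImplicit false
set_option linter.all false

namespace H7.JP

open Subgroup
open scoped commutatorElement

theorem card_quot_center {X Y : Type*} [Group X] [Group Y] (e : X ≃* Y) :
    Nat.card (X ⧸ center X) = Nat.card (Y ⧸ center Y) :=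
  Nat.card_congr (QuotientGroup.congr _ _ e (by
    ext y
    obtain ⟨y, rfl⟩ := e.surjective y
    rw [show e y = (e : X →* Y) y from rfl, mem_map_iff_mem e.injective, mem_center_iff,
      mem_center_iff, e.surjective.forall]
    simp [← map_mul])).toEquiv

theorem comm_mul {X : Type*} [Group X] {a b c d : X} (h1 : Commute a c) (h2 : Commute a d)
    (h3 : Commute b c) (h4 : Commute b d) : ⁅a * c, b * d⁆ = ⁅a, b⁆ * ⁅c, d⁆ := by
  simp only [commutatorElement_def, mul_inv_rev, mul_assoc, h3.symm.left_comm, h4.inv_inv.symm.eq,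
    h1.inv_left.symm.left_comm, h2.inv_left.symm.left_comm, h1.inv_inv.symm.left_comm,
    h3.inv_left.symm.left_comm, h4.inv_left.symm.left_comm, h3.inv_inv.symm.left_comm]

theorem center_A5 : center (alternatingGroup (Fin 5)) = ⊥ :=
  alternatingGroup.center_eq_bot (by simp)

variable {G : Type*} [Group G] [Finite G]

theorem exists_fused [IsSimpleGroup G] {t : G} (ht : orderOf t = 2)
    {Q : Subgroup (centralizer ({t} : Set G))} (h2 : Nat.card Q = 32) :
    ∃ g, Commute t (g * t * g⁻¹) ∧ g * t * g⁻¹ ≠ t := by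
  by_contra! h
  have h3 := H17.zstar_central (G := G) ((Cfsg.pPrimeCore_normal 2 G).eq_bot_or_eq_top.resolve_right
    fun h1 => by
      have := H17.odd_card_pPrimeCore (G := G)
      exact JL.ne2 ht (JL.eq_one_of_odd this (h1 ▸ mem_top t) (k := 1)
        (by rw [pow_one, sq, JL.sq2 ht])))
    ⟨ht, h⟩
  have : (zpowers t).Normal := ⟨by
    rintro _ ⟨k, rfl⟩ g
    exact ⟨k, by rw [← ((h3 g).zpow_left k).eq, mul_inv_cancel_right]⟩⟩
  rcases this.eq_bot_or_eq_top with h4 | h4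
  · exact JL.ne2 ht (zpowers_eq_bot.1 h4)
  · have h5 := (card_subgroup_dvd_card Q).trans (card_subgroup_dvd_card _)
    rw [h2, ← card_top (G := G), ← h4, Nat.card_zpowers, ht] at h5
    omega

theorem main_simple [IsSimpleGroup G] {t : G} (ht : orderOf t = 2)
    {Q : Subgroup (centralizer ({t} : Set G))} [Q.Normal] (h1 : Cfsg.IsExtraspecial 2 Q)
    (h2 : Nat.card Q = 32) (e : _ ⧸ Q ≃* alternatingGroup (Fin 5)) :
    (Nonempty (J2.S ≃* G) ∧ ∃ s t : G, orderOf s = 2 ∧ orderOf t = 2 ∧ ¬ IsConj s t) ∨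
    (Nonempty (J3.S ≃* G) ∧ ∀ s t : G, orderOf s = 2 → orderOf t = 2 → IsConj s t) := by
  obtain ⟨g, g1, g2⟩ := exists_fused ht h2
  refine main ht h1 h2 ?_ (by
    rw [card_quot_center e, ← index, center_A5, index_bot, card_A5]) g1 g2
  let π := e.toMonoidHom.comp (QuotientGroup.mk' Q)
  have hπ : Function.Surjective π := e.surjective.comp (QuotientGroup.mk'_surjective Q)
  have kπ : ∀ {y}, π y = 1 ↔ y ∈ Q := e.map_eq_one_iff.trans (QuotientGroup.eq_one_iff _)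
  rcases ((normal_centralizer (H := Q)).map π hπ).eq_bot_or_eq_top with h3 | h3
  · exact fun y hy => kπ.1 (mem_bot.1 (h3 ▸ mem_map_of_mem π hy))
  exfalso
  have dec : ∀ y, ∃ q ∈ Q, ∃ k ∈ centralizer (Q : Set _), y = q * k := fun y => by
    obtain ⟨k, a1, a2⟩ := h3.ge (mem_top (π y))
    exact ⟨y * k⁻¹, kπ.1 (by rw [map_mul, map_inv, a2, mul_inv_cancel]), k, a1, by simp⟩
  have mC : ∀ {y}, y ∈ centralizer ({t} : Set G) ↔ Commute t y :=
    mem_centralizer_singleton_iff.trans eq_comm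
  let z : centralizer ({t} : Set G) := ⟨t, mC.2 (Commute.refl t)⟩
  have cz : ∀ y, Commute z y := fun y => Subtype.ext (mC.1 y.2)
  obtain ⟨u, a1, a3, a2⟩ := H3.IsExtraspecial.exists_xs h1
  have zz := JA.xs_sq a1
  obtain rfl : z = u := ((mem_zpowers_two zz).1 (a2.ge ⟨kπ.1 (mem_bot.1 (center_A5 ▸
    mem_center_iff.2 (hπ.forall.2 fun y => ((cz y).map π).symm))), fun y _ => (cz y).symm⟩)).resolve_left
      fun h => JL.ne2 ht (congrArg Subtype.val h)
  obtain ⟨q, b1, k, b2, b3⟩ := dec ⟨_, mC.2 g1⟩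
  obtain ⟨x, x1, y, y1, x2, y2, xy⟩ : ∃ x ∈ Q, ∃ y ∈ Q, Commute q x ∧ Commute q y ∧ ⁅x, y⁆ = z := by
    by_cases hq : q ∈ zpowers z
    · obtain ⟨x, c1, c2⟩ := a1.exists_not_mem a3
      obtain ⟨y, c3, c4⟩ := a1.exists_partner c1 c2
      exact ⟨x, c1, y, c3, a1.commute_of_mem hq c1, a1.commute_of_mem hq c3, c4⟩
    · obtain ⟨f, c1, c2⟩ := a1.exists_partner b1 hq
      have c3 := a1.step b1 c1 c2
      obtain ⟨x, c4, c5⟩ := c3.exists_not_mem fun h => by
        have := a1.card_step b1 c1 c2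
        rw [h2, ← h, Nat.card_zpowers, a1.ord] at this
        omega
      obtain ⟨y, c6, c7⟩ := c3.exists_partner c4 c5
      exact ⟨x, c4.1, y, c6.1, (mem_centralizer_singleton_iff.1 c4.2.1).symm,
        (mem_centralizer_singleton_iff.1 c6.2.1).symm, c7⟩
  have back : ∀ w ∈ Q, Commute q w → ∃ w' : centralizer ({t} : Set G), (w' : G) = g⁻¹ * w * g ∧
      π w' * π w' = 1 := fun w w1 w2 => by
    have c1 : Commute (g * t * g⁻¹) w :=
      Subtype.ext_iff.1 (b3 ▸ w2.mul_left (b2 w w1).symm :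
        Commute (⟨_, mC.2 g1⟩ : centralizer ({t} : Set G)) w).eq
    have c2 : w ^ 4 = 1 := by
      rw [show 4 = 2 * 2 from rfl, pow_mul]; exact a1.pow_of_mem (a1.pow w w1)
    refine ⟨⟨g⁻¹ * w * g, mC.2 (by simpa [mul_assoc] using c1.map (MulAut.conj g⁻¹))⟩, rfl, ?_⟩
    have key : ∀ p : Equiv.Perm (Fin 5), Equiv.Perm.sign p = 1 → p ^ 4 = 1 → p * p = 1 := by
      decide +kernel
    refine Subtype.ext (key _ (π _).2 ?_)
    rw [← Subgroup.coe_pow, ← map_pow, OneMemClass.coe_eq_one, kπ]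
    convert one_mem Q
    have := congrArg (fun y : centralizer ({t} : Set G) => g⁻¹ * (y : G) * g⁻¹⁻¹) c2
    exact Subtype.ext (by simpa [-conj_pow] using conj_pow.trans this)
  obtain ⟨x', x3, x4⟩ := back x x1 x2
  obtain ⟨y', y3, y4⟩ := back y y1 y2
  obtain ⟨w', w3, w4⟩ := back _ (mul_mem x1 y1) (x2.mul_right y2)
  obtain rfl : w' = x' * y' := Subtype.ext (by simp [w3, x3, y3, mul_assoc])
  have d1 : ((⁅x', y'⁆ : centralizer ({t} : Set G)) : G) = g⁻¹ * t * g := by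
    change _ = g⁻¹ * (z : G) * g
    rw [← xy]
    simp [commutatorElement_def, x3, y3, mul_assoc]
  obtain ⟨q1, e1, k1, e2, rfl⟩ := dec x'
  obtain ⟨q2, e3, k2, e4, rfl⟩ := dec y'
  have d2 := comm_mul (e2 _ e1) (e4 _ e1) (e2 _ e3) (e4 _ e3)
  have d3 : ⁅q1 * k1, q2 * k2⁆ ∈ Q := kπ.1 (by
    rw [map_commutatorElement, commutatorElement_def, inv_eq_of_mul_eq_one_left x4,
      inv_eq_of_mul_eq_one_left y4, mul_assoc, ← map_mul, w4])
  have d4 := a1.comm _ e1 _ e3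
  have d5 : ⁅k1, k2⁆ ∈ zpowers z := a2.ge (mem_inf.2 ⟨(mul_mem_cancel_left
    (zpowers_le.2 a1.mem d4)).1 (d2 ▸ d3),
    mul_mem (mul_mem (mul_mem e2 e4) (inv_mem e2)) (inv_mem e4)⟩)
  rcases (mem_zpowers_two zz).1 (d2 ▸ mul_mem d4 d5) with h | h <;> rw [h] at d1
  · exact JL.ne2 ht (by simpa [mul_assoc] using congrArg (fun y => g * y * g⁻¹) d1.symm)
  · exact g2 (by simpa [mul_assoc] using congrArg (fun y => g * y * g⁻¹) d1)

theorem large {z : G} (hz : orderOf z = 2) {Q : Subgroup (centralizer ({z} : Set G))} [Q.Normal]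
    (hF : Cfsg.generalizedFittingSubgroup (centralizer ({z} : Set G)) = Q)
    (hQ : Cfsg.IsExtraspecial 2 Q) (hcard : Nat.card Q = 2 ^ 5)
    (e : _ ⧸ Q ≃* Cfsg.Omega (ZMod 2) (Cfsg.quadFormMinus 1 (ZMod 2) 1 1))
    (hnwc : ∃ g : G, (∃ hq : g * z * g⁻¹ ∈ centralizer ({z} : Set G),
      (⟨g * z * g⁻¹, hq⟩ : centralizer ({z} : Set G)) ∈ Q) ∧ g * z * g⁻¹ ≠ z)
    (hcl : ∃ x y : G, orderOf x = 2 ∧ orderOf y = 2 ∧ ¬ IsConj x y) : Nonempty (J2.S ≃* G) := by
  obtain ⟨g, ⟨g1, -⟩, g2⟩ := hnwc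
  obtain ⟨x, y, h1, h2, h3⟩ := hcl
  have : Fintype (GaloisField 2 2) := Fintype.ofFinite _
  have hK : Fintype.card (GaloisField 2 2) = 2 ^ 2 := by
    rw [← Nat.card_eq_fintype_card, GaloisField.card 2 2 (by decide)]
  obtain ⟨f1⟩ := pOmega4minus_equiv (F := ZMod 2) (ZMod.card 2) hK (a := 1) (b := 1)
    (by unfold Aniso; decide)
  obtain ⟨f2⟩ := psl2_four_equiv_A5 hK
  refine ((main hz hQ hcard (hF ▸ H23.centralizer_fstar_le) ?_
    (mem_centralizer_singleton_iff.1 g1).symm g2).resolve_right fun h => h3 (h.2 x y h1 h2)).1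
  rw [card_quot_center e, Nat.card_congr (f1.trans f2).toEquiv, card_A5]

end H7.JP
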