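import Mathlib
import Cfsg.Agent.H7.LowDim2

/-!
The isomorphisms `PΩ₅(q) ≅ PSp₄(q)`, `PΩ₆⁺(q) ≅ PSL₄(q)`, `PΩ₆⁻(q) ≅ PSU₄(q)` through the
exterior square.
-/

set_option autoImplicit false
set_option backward.isDefEq.respectTransparency false
set_option linter.unusedSectionVars false

namespace H7

open Module H15 Matrix
open scoped MatrixGroups

attribute [-simp] ofQuad_B

section Alt4

variable {R : Type*} [CommRing R]

/-- The alternating `4 × 4` matrix with given entries above the diagonal. -/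
def alt4 (a b c d e f : R) : Matrix (Fin 4) (Fin 4) R :=
  !![0, a, b, c; -a, 0, d, e; -b, -d, 0, f; -c, -e, -f, 0]

/-- The Pfaffian. -/
def pf4 (A : Matrix (Fin 4) (Fin 4) R) : R := A 0 1 * A 2 3 - A 0 2 * A 1 3 + A 0 3 * A 1 2

/-- The Hodge dual of an alternating matrix. -/
def hodge4 (A : Matrix (Fin 4) (Fin 4) R) : Matrix (Fin 4) (Fin 4) R :=
  alt4 (A 2 3) (-A 1 3) (A 1 2) (A 0 3) (-A 0 2) (A 0 1)

theorem det_fin_four' (g : Matrix (Fin 4) (Fin 4) R) : g.det =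
    g 0 0 * (g 1 1 * (g 2 2 * g 3 3 - g 2 3 * g 3 2) - g 1 2 * (g 2 1 * g 3 3 - g 2 3 * g 3 1) +
      g 1 3 * (g 2 1 * g 3 2 - g 2 2 * g 3 1)) -
    g 0 1 * (g 1 0 * (g 2 2 * g 3 3 - g 2 3 * g 3 2) - g 1 2 * (g 2 0 * g 3 3 - g 2 3 * g 3 0) +
      g 1 3 * (g 2 0 * g 3 2 - g 2 2 * g 3 0)) +
    g 0 2 * (g 1 0 * (g 2 1 * g 3 3 - g 2 3 * g 3 1) - g 1 1 * (g 2 0 * g 3 3 - g 2 3 * g 3 0) +
      g 1 3 * (g 2 0 * g 3 1 - g 2 1 * g 3 0)) -
    g 0 3 * (g 1 0 * (g 2 1 * g 3 2 - g 2 2 * g 3 1) - g 1 1 * (g 2 0 * g 3 2 - g 2 2 * g 3 0) +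
      g 1 2 * (g 2 0 * g 3 1 - g 2 1 * g 3 0)) := by
  rw [Matrix.det_succ_row_zero, Fin.sum_univ_four]
  simp only [det_fin_three, submatrix_apply]
  simp [Fin.succAbove]
  ring

theorem conj_alt4_apply (g : Matrix (Fin 4) (Fin 4) R) (a b c d e f : R) (i j : Fin 4) :
    (g * alt4 a b c d e f * gᵀ) i j =
      a * (g i 0 * g j 1 - g i 1 * g j 0) + b * (g i 0 * g j 2 - g i 2 * g j 0) +
      c * (g i 0 * g j 3 - g i 3 * g j 0) + d * (g i 1 * g j 2 - g i 2 * g j 1) +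
      e * (g i 1 * g j 3 - g i 3 * g j 1) + f * (g i 2 * g j 3 - g i 3 * g j 2) := by
  simp [alt4, Matrix.mul_apply, Fin.sum_univ_four]
  ring

theorem eq_alt4 {A : Matrix (Fin 4) (Fin 4) R} (h1 : ∀ i, A i i = 0) (h2 : ∀ i j, A j i = -A i j) :
    alt4 (A 0 1) (A 0 2) (A 0 3) (A 1 2) (A 1 3) (A 2 3) = A := by
  ext i j
  fin_cases i <;> fin_cases j <;> simp [alt4, h1] <;> exact (h2 _ _).symm

theorem conj_alt4 (g : Matrix (Fin 4) (Fin 4) R) (a b c d e f : R) {A : Matrix (Fin 4) (Fin 4) R}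
    (hA : A = g * alt4 a b c d e f * gᵀ) :
    alt4 (A 0 1) (A 0 2) (A 0 3) (A 1 2) (A 1 3) (A 2 3) = A :=
  eq_alt4 (fun i => by rw [hA, conj_alt4_apply]; ring)
    (fun i j => by rw [hA, conj_alt4_apply, conj_alt4_apply]; ring)

theorem pf4_alt4 (a b c d e f : R) : pf4 (alt4 a b c d e f) = a * f - b * e + c * d := by
  simp [pf4, alt4]

theorem pf4_conj (g : Matrix (Fin 4) (Fin 4) R) (a b c d e f : R) :
    pf4 (g * alt4 a b c d e f * gᵀ) = g.det * pf4 (alt4 a b c d e f) := by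
  rw [pf4_alt4, det_fin_four']
  simp only [pf4, conj_alt4_apply]
  ring

theorem hodge4_alt4 (a b c d e f : R) :
    hodge4 (alt4 a b c d e f) = alt4 f (-e) d c (-b) a := by
  simp [hodge4, alt4]

theorem hodge4_conj (g : Matrix (Fin 4) (Fin 4) R) (a b c d e f : R) :
    gᵀ * hodge4 (g * alt4 a b c d e f * gᵀ) * g = g.det • hodge4 (alt4 a b c d e f) := by
  have h := conj_alt4_apply gᵀ
  rw [transpose_transpose] at h
  rw [hodge4_alt4, det_fin_four']
  ext i j
  rw [hodge4, h]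
  simp only [conj_alt4_apply, transpose_apply]
  fin_cases i <;> fin_cases j <;> simp [alt4] <;> ring

theorem alt4_inj {a b c d e f a' b' c' d' e' f' : R} (h : alt4 a b c d e f = alt4 a' b' c' d' e' f') :
    a = a' ∧ b = b' ∧ c = c' ∧ d = d' ∧ e = e' ∧ f = f' :=
  ⟨congrFun (congrFun h 0) 1, congrFun (congrFun h 0) 2, congrFun (congrFun h 0) 3,
    congrFun (congrFun h 1) 2, congrFun (congrFun h 1) 3, congrFun (congrFun h 2) 3⟩

theorem alt4_add (a b c d e f a' b' c' d' e' f' : R) :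
    alt4 a b c d e f + alt4 a' b' c' d' e' f' =
      alt4 (a + a') (b + b') (c + c') (d + d') (e + e') (f + f') := by
  ext i j; fin_cases i <;> fin_cases j <;> simp [alt4, add_comm]

theorem alt4_smul {S : Type*} [Monoid S] [DistribMulAction S R] (t : S) (a b c d e f : R) :
    t • alt4 a b c d e f = alt4 (t • a) (t • b) (t • c) (t • d) (t • e) (t • f) := by
  ext i j; fin_cases i <;> fin_cases j <;> simp [alt4]

theorem alt4_map {S : Type*} [CommRing S] (φ : R →+* S) (a b c d e f : R) :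
    (alt4 a b c d e f).map φ = alt4 (φ a) (φ b) (φ c) (φ d) (φ e) (φ f) := by
  ext i j; fin_cases i <;> fin_cases j <;> simp [alt4]

end Alt4

variable {F : Type*} [Field F]

/-! ### Dimension six, plus type -/

/-- Alternating matrices as the six-dimensional space of plus type. -/
def iota6 : (Fin 3 ⊕ Fin 3 → F) →ₗ[F] Matrix (Fin 4) (Fin 4) F where
  toFun v := alt4 (v (.inl 0)) (v (.inl 1)) (v (.inl 2)) (v (.inr 2)) (-v (.inr 1)) (v (.inr 0))
  map_add' x y := by simp [alt4_add, add_comm]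
  map_smul' c x := by simp [alt4_smul]

theorem iota6_apply (v : Fin 3 ⊕ Fin 3 → F) : iota6 v =
    alt4 (v (.inl 0)) (v (.inl 1)) (v (.inl 2)) (v (.inr 2)) (-v (.inr 1)) (v (.inr 0)) := rfl

theorem iota6_injective : Function.Injective (iota6 (F := F)) := by
  intro x y h
  obtain ⟨h1, h2, h3, h4, h5, h6⟩ := alt4_inj h
  ext (i | i) <;> fin_cases i
  exacts [h1, h2, h3, h6, neg_injective h5, h4]

theorem qPlus_three_eq (v : Fin 3 ⊕ Fin 3 → F) : qPlus 3 F v = pf4 (iota6 v) := by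
  simp [qPlus_apply, iota6_apply, pf4_alt4, Fin.sum_univ_three]

theorem exists_rep6 : ∃ ρ : SL(4, F) →* (ofQuad (qPlus 3 F)).Isom,
    ∀ g v, iota6 ((ρ g).1 v) = g.1 * iota6 v * g.1ᵀ := by
  refine exists_hom_of_rep (qPlus 3 F) (fun (g : SL(4, F)) A => g.1 * A * g.1ᵀ)
    (fun g x y => by rw [Matrix.mul_add, Matrix.add_mul]) (fun g c x => by simp)
    (fun x => by simp) (fun g h x => by
      simp only [sl_coe_mul, Matrix.transpose_mul, Matrix.mul_assoc]) iota6 iota6_injective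
    fun g v => ?_
  obtain ⟨A, hA⟩ : ∃ A, A = g.1 * iota6 v * g.1ᵀ := ⟨_, rfl⟩
  have h2 : iota6 (Sum.elim ![A 0 1, A 0 2, A 0 3] ![A 2 3, -A 1 3, A 1 2]) = A := by
    rw [iota6_apply]
    simpa using conj_alt4 _ _ _ _ _ _ _ hA
  refine ⟨_, h2.trans hA, ?_⟩
  rw [qPlus_three_eq, qPlus_three_eq, h2, hA, iota6_apply, pf4_conj, g.2, one_mul]

theorem gcd_four_cube_sub (q : ℕ) (hq : 1 ≤ q) : Nat.gcd 4 (q ^ 3 - 1) = Nat.gcd 4 (q - 1) := by
  obtain ⟨k, rfl⟩ : ∃ k, q = k + 1 := ⟨q - 1, by omega⟩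
  rw [show (k + 1) ^ 3 - 1 = k * (k * (k + 3) + 3) by apply Nat.sub_eq_of_eq_add; ring,
    Nat.add_sub_cancel, Nat.gcd_rec 4, Nat.gcd_rec 4 k, Nat.mul_mod, Nat.add_mod, Nat.mul_mod k,
    Nat.add_mod k]
  have := Nat.mod_lt k (show 0 < 4 by omega)
  interval_cases k % 4 <;> rfl

theorem gcd_four_cube_add (q : ℕ) : Nat.gcd 4 (q ^ 3 + 1) = Nat.gcd 4 (q + 1) := by
  rw [Nat.gcd_rec 4, Nat.gcd_rec 4 (q + 1), Nat.add_mod, Nat.pow_mod, Nat.add_mod q]
  have := Nat.mod_lt q (show 0 < 4 by omega)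
  interval_cases q % 4 <;> rfl

theorem smul_eq_or_neg {V : Type*} [AddCommGroup V] [Module F V] {f : V → V} {r : F}
    (hr : r * r = 1) (h : ∀ x, f x = r • x) : (∀ x, f x = x) ∨ ∀ x, f x = -x := by
  rcases mul_self_eq_one_iff.1 hr with rfl | rfl
  · left; simpa using h
  · right; simpa using h

theorem pOmega6plus_equiv [Fintype F] :
    Nonempty (Cfsg.POmega F (Cfsg.quadFormPlus 3 F) ≃* PSL(4, F)) := by
  obtain ⟨ρ, hρ⟩ := exists_rep6 (F := F)
  have : IsSimpleGroup (SL(4, F) ⧸ Subgroup.center SL(4, F)) := psl_simple (by simp)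
  refine (nonempty_pOmega_equiv_of_simple (qPlus_nondeg 3 F) (notTwoFour_of_card (Or.inr (by simp)))
    (by simp) (sl_commutator_eq_top (by simp)) ρ (fun g hg => ?_) ?_ ?_).map
    fun e => (pOmegaEquiv (qPlus 3 F)).trans e.symm
  · obtain ⟨r, hr1, hr⟩ := sl_center_smul hg
    refine smul_eq_or_neg (r := r * r) (by rw [← hr1]; simp; ring) fun x => iota6_injective ?_
    rw [hρ, hr]
    simp [smul_smul]
  · refine ⟨⟨!![1, 1, 0, 0; 0, 1, 0, 0; 0, 0, 1, 0; 0, 0, 0, 1], by simp [det_fin_four']⟩,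
      Pi.single (.inr 2) 1, fun c hc => ?_⟩
    have h1 := congrArg iota6 hc
    rw [hρ, map_smul, iota6_apply] at h1
    have h2 := congrFun (congrFun h1 0) 2
    rw [conj_alt4_apply] at h2
    simp [alt4] at h2
  · have h3 := card_POmega_plus (F := F) 2 (by omega) (Or.inr (by omega))
    have h4 := card_psl (F := F) rfl 4 (by omega)
    have hq := Fintype.one_lt_card (α := F)
    rw [← Nat.card_congr (pOmegaEquiv (qPlus 3 F)).toEquiv]
    rw [gcd_four_cube_sub _ hq.le] at h3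
    apply Nat.eq_of_mul_eq_mul_left (show 0 < Nat.gcd 4 (Fintype.card F - 1) by positivity)
    refine Eq.trans ?_ h3.symm
    apply Nat.eq_of_mul_eq_mul_left (show 0 < Fintype.card F - 1 by omega)
    rw [mul_left_comm]
    refine h4.trans ?_
    have h5 : ∀ i j, i ≤ j → Fintype.card F ^ i ≤ Fintype.card F ^ j := fun i j h =>
      Nat.pow_le_pow_right hq.le h
    have h6 : ∀ j, 1 ≤ Fintype.card F ^ j := fun j => Nat.one_le_pow _ _ (by omega)
    simp only [Fin.prod_univ_four, Finset.prod_range_succ, Finset.range_zero, Finset.prod_empty]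
    zify [h5 _ 4 (Fin.is_lt _).le, h6, hq.le]
    simp
    ring

/-! ### Dimension five -/

/-- Alternating matrices orthogonal to `J`. -/
def iota5 : (Unit ⊕ (Fin 2 ⊕ Fin 2) → F) →ₗ[F] Matrix (Fin 4) (Fin 4) F where
  toFun v := alt4 (v (.inr (.inl 0))) (v (.inl ())) (v (.inr (.inl 1))) (v (.inr (.inr 1)))
    (-v (.inl ())) (v (.inr (.inr 0)))
  map_add' x y := by simp [alt4_add, add_comm]
  map_smul' c x := by simp [alt4_smul]

theorem iota5_apply (v : Unit ⊕ (Fin 2 ⊕ Fin 2) → F) : iota5 v =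
    alt4 (v (.inr (.inl 0))) (v (.inl ())) (v (.inr (.inl 1))) (v (.inr (.inr 1)))
      (-v (.inl ())) (v (.inr (.inr 0))) := rfl

theorem iota5_injective : Function.Injective (iota5 (F := F)) := by
  intro x y h
  obtain ⟨h1, h2, h3, h4, h5, h6⟩ := alt4_inj h
  ext (i | i | i)
  · exact h2
  · fin_cases i
    exacts [h1, h3]
  · fin_cases i
    exacts [h6, h4]

theorem qOdd_two_eq (v : Unit ⊕ (Fin 2 ⊕ Fin 2) → F) : qOdd 2 F v = pf4 (iota5 v) := by
  simp [qOdd_apply, iota5_apply, pf4_alt4]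
  ring

/-- A symplectic matrix as a `4 × 4` matrix. -/
def sp4Mat : Matrix.symplecticGroup (Fin 2) F →* Matrix (Fin 4) (Fin 4) F :=
  (Matrix.reindexAlgEquiv F F (finSumFinEquiv (m := 2) (n := 2))).toMonoidHom.comp
    (Submonoid.subtype _)

theorem sp4Mat_apply (g : Matrix.symplecticGroup (Fin 2) F) :
    sp4Mat g = Matrix.reindex (finSumFinEquiv (m := 2) (n := 2)) finSumFinEquiv g.1 := rfl

theorem reindex_J : Matrix.reindex (finSumFinEquiv (m := 2) (n := 2)) finSumFinEquiv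
    (Matrix.J (Fin 2) F) = alt4 0 (-1) 0 0 (-1) 0 := by
  ext i j
  fin_cases i <;> fin_cases j <;> simp [alt4, Matrix.J, finSumFinEquiv, Fin.addCases]

theorem sp4Mat_conj (g : Matrix.symplecticGroup (Fin 2) F) :
    sp4Mat g * alt4 0 (-1) 0 0 (-1) 0 * (sp4Mat g)ᵀ = alt4 0 (-1) 0 0 (-1) 0 := by
  have h := congrArg (Matrix.reindexAlgEquiv F F (finSumFinEquiv (m := 2) (n := 2)))
    (SymplecticGroup.mem_iff.1 g.2)
  rw [map_mul, map_mul] at h
  rw [← reindex_J]
  exact h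

theorem det_sp4Mat (g : Matrix.symplecticGroup (Fin 2) F) : (sp4Mat g).det = 1 := by
  have h := pf4_conj (sp4Mat g) 0 (-1) 0 0 (-1) 0
  rw [sp4Mat_conj, pf4_alt4] at h
  simpa using h.symm

theorem exists_rep5 : ∃ ρ : Matrix.symplecticGroup (Fin 2) F →* (ofQuad (qOdd 2 F)).Isom,
    ∀ g v, iota5 ((ρ g).1 v) = sp4Mat g * iota5 v * (sp4Mat g)ᵀ := by
  refine exists_hom_of_rep (qOdd 2 F) (fun g A => sp4Mat g * A * (sp4Mat g)ᵀ)
    (fun g x y => by rw [Matrix.mul_add, Matrix.add_mul]) (fun g c x => by simp)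
    (fun x => by simp) (fun g h x => by
      simp only [map_mul, Matrix.transpose_mul, Matrix.mul_assoc]) iota5 iota5_injective
    fun g v => ?_
  obtain ⟨A, hA⟩ : ∃ A, A = sp4Mat g * iota5 v * (sp4Mat g)ᵀ := ⟨_, rfl⟩
  have h0 := conj_alt4 _ _ _ _ _ _ _ hA
  have h1 : pf4 A = pf4 (iota5 v) := by rw [hA, iota5_apply, pf4_conj, det_sp4Mat, one_mul]
  have h3 : pf4 (A + alt4 0 (-1) 0 0 (-1) 0) = pf4 (iota5 v + alt4 0 (-1) 0 0 (-1) 0) := by
    conv_lhs => rw [hA, ← sp4Mat_conj g, ← Matrix.add_mul, ← Matrix.mul_add]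
    rw [iota5_apply, alt4_add, pf4_conj, det_sp4Mat, one_mul]
  have h4 : A 1 3 = -A 0 2 := by
    rw [← h0, iota5_apply, pf4_alt4, pf4_alt4] at h1
    rw [← h0, iota5_apply, alt4_add, alt4_add, pf4_alt4, pf4_alt4] at h3
    linear_combination h3 - h1
  have h2 : iota5 (Sum.elim (fun _ => A 0 2) (Sum.elim ![A 0 1, A 0 3] ![A 2 3, A 1 2])) = A := by
    rw [iota5_apply]
    simpa [h4] using h0
  refine ⟨_, h2.trans hA, ?_⟩
  rw [qOdd_two_eq, qOdd_two_eq, h2, h1]

theorem sp_center_smul {m : ℕ} (hm : 1 ≤ m) {g : Matrix.symplecticGroup (Fin m) F}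
    (hg : g ∈ Subgroup.center _) : ∃ r : F, r * r = 1 ∧ g.1 = r • 1 := by
  have h := spForm_nondeg m F
  have hA := spForm_isAlt (F := F) m
  obtain ⟨e, f, H⟩ := alt_exists_hypPair h hA (by rw [finrank_sum_fun]; omega)
  obtain ⟨d, hd, hg'⟩ := exists_scalar_of_mem_center h (spEquiv m F).toMonoidHom one_ne_zero
    (fun s _ => ⟨(spEquiv m F).symm (altT h hA s 1), by simpa using altT_apply h hA s 1⟩) H
    (alt_hW hA e f) hg
  refine ⟨d, hd, matrix_ext_mulVec fun v => ?_⟩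
  rw [← spEquiv_apply, Matrix.smul_mulVec, Matrix.one_mulVec]
  exact hg' v

theorem pOmega5_equiv [Fintype F] (h2 : (2 : F) ≠ 0) :
    Nonempty (Cfsg.POmega F (Cfsg.quadFormOdd 2 F) ≃* Cfsg.PSp 2 F) := by
  obtain ⟨ρ, hρ⟩ := exists_rep5 (F := F)
  have hodd := card_odd_iff.2 h2
  have hq : 3 ≤ Fintype.card F := by
    have := Fintype.one_lt_card (α := F)
    have := Nat.odd_iff.1 hodd
    omega
  have : IsSimpleGroup (Cfsg.PSp 2 F) := psp_simple 2 le_rfl fun _ => hq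
  refine (nonempty_pOmega_equiv_of_simple (qOdd_nondeg 2 h2) (notTwoFour_of_two_ne_zero h2)
    (by simp) (sp_perfect 2 (Or.inr (Or.inl ⟨rfl, hq⟩))) ρ (fun g hg => ?_) ?_ ?_).map
    fun e => (pOmegaEquiv (qOdd 2 F)).trans e.symm
  · obtain ⟨r, hr1, hr⟩ := sp_center_smul (by omega) hg
    refine Or.inl fun x => iota5_injective ?_
    have : sp4Mat g = r • 1 := by
      rw [sp4Mat_apply, hr]
      ext i j
      simp [Matrix.one_apply]
    rw [hρ, this]
    simp [smul_smul, hr1]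
  · refine ⟨⟨Matrix.fromBlocks 1 !![1, 0; 0, 0] 0 1, ?_⟩,
      Pi.single (.inr (.inr 0)) 1, fun c hc => ?_⟩
    · rw [SymplecticGroup.mem_iff, Matrix.J, Matrix.fromBlocks_transpose, Matrix.fromBlocks_multiply,
        Matrix.fromBlocks_multiply]
      congr 1 <;> ext i j <;> fin_cases i <;> fin_cases j <;> simp
    · have h1 := congrArg iota5 hc
      rw [hρ, map_smul, iota5_apply] at h1
      have h2 := congrFun (congrFun h1 0) 3
      rw [conj_alt4_apply] at h2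
      simp [alt4, sp4Mat_apply, finSumFinEquiv, Fin.addCases] at h2
  · have h3 := card_POmega_odd h2 2 (by omega)
    have h4 := card_psp (F := F) 2 (by omega)
    have h5 : Nat.gcd 2 (Fintype.card F - 1) = 2 :=
      Nat.gcd_eq_left (Nat.Odd.sub_odd hodd odd_one).two_dvd
    rw [← Nat.card_congr (pOmegaEquiv (qOdd 2 F)).toEquiv]
    apply Nat.eq_of_mul_eq_mul_left (show 0 < 2 by omega)
    rw [h5] at h4
    exact h4.trans h3.symm

/-! ### Dimension six, minus type -/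

section Minus

variable {K : Type*} [Field K] [Fintype K] {q : ℕ} (hK : Fintype.card K = q ^ 2)

theorem su_transpose_mul_map {n : ℕ} (g : Cfsg.SU n K q) :
    g.1.1ᵀ * g.1.1.map (frob hK) = 1 := by
  have hq := two_le_of_card_sq hK
  ext i j
  have h := g.2 (Pi.single i 1) (Pi.single j 1)
  change Cfsg.hermForm n K q (g.1.1 *ᵥ _) (g.1.1 *ᵥ _) = _ at h
  simp only [Cfsg.hermForm, ← frob_apply hK, Matrix.mulVec_single_one, Matrix.col_apply] at h
  rw [Matrix.mul_apply]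
  simp only [transpose_apply, map_apply]
  rw [h]
  simp [Pi.single_apply, Matrix.one_apply, apply_ite (frob hK), eq_comm]

theorem su_center_smul {n : ℕ} (hn : 2 ≤ n) {g : Cfsg.SU n K q}
    (hg : g ∈ Subgroup.center _) : ∃ r : K, r * frob hK r = 1 ∧ r ^ n = 1 ∧ g.1.1 = r • 1 := by
  have h := unForm_nondeg hK n
  have hH := unForm_isHerm hK n
  obtain ⟨e, f, H⟩ := herm_exists_hypPair h hH (by simpa using hn)
  obtain ⟨c, hc0, -, hT⟩ := herm_exists_transv h hH
  obtain ⟨d, hd, hg'⟩ := exists_scalar_of_mem_center h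
    ((Subgroup.subtype _).comp (suEquiv hK n).toMonoidHom) hc0
    (fun s hs => by
      obtain ⟨k, hk⟩ := hT s hs
      exact ⟨(suEquiv hK n).symm k, by simpa using hk⟩) H (herm_hW hH H) hg
  have h1 : g.1.1 = (d : K) • 1 := matrix_ext_mulVec fun v => by
    rw [← suEquiv_apply hK, Matrix.smul_mulVec, Matrix.one_mulVec]
    exact hg' v
  refine ⟨d, hd, ?_, h1⟩
  have h2 := g.1.2
  rw [h1] at h2
  simpa using h2

variable [Fintype F] [Algebra F K] (hF : Fintype.card F = q)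

include hF hK in
theorem pOmega6minus_equiv_aux {a b : F} (hab : Aniso a b) :
    Nonempty (Cfsg.POmega F (Cfsg.quadFormMinus 2 F a b) ≃* Cfsg.PSU 4 K q) := by
  have hq := two_le_of_card_sq hK
  obtain ⟨Q, hQ, hQd⟩ := exists_quad_of_herm hF hK (unForm_isHerm hK 3) (unForm_nondeg hK 3)
  have hσ := frob_algebraMap hF hK
  have hrank : finrank F (Fin 3 → K) = 2 * 3 := by
    rw [Module.finrank_pi_fintype]
    simp [finrank_eq_two_of_card hF hK]
  have hnz : nz Q = nz (qMinus 2 F a b) := by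
    have h1 := nz_qMinus 2 hab
    have h2 : nz Q = hermCount 3 K q 0 := Nat.card_congr (Equiv.subtypeEquivRight fun v => by
      rw [← unForm_B hK, ← hQ, map_eq_zero (algebraMap F K)])
    have h3 := (hermCount_int hK 3).1
    rw [hF] at h1
    rw [h2]
    zify at h1 ⊢
    apply mul_left_cancel₀ (show (q : ℤ) ≠ 0 by omega)
    linear_combination h3 - q * h1
  obtain ⟨γ, hγ⟩ := exists_equiv_of_nz_eq 3 _ _ Q (qMinus 2 F a b) hQd (qMinus_nondeg 2 hab) hrank
    finrank_minus hnz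
  let ι : (Fin 3 → K) →ₗ[F] Matrix (Fin 4) (Fin 4) K :=
    { toFun := fun z => alt4 (z 0) (z 1) (z 2) (frob hK (z 2)) (-frob hK (z 1)) (frob hK (z 0))
      map_add' := fun x y => by simp [alt4_add, add_comm]
      map_smul' := fun c x => by simp [alt4_smul, frob_smul hF hK] }
  have hι : ∀ z, ι z =
      alt4 (z 0) (z 1) (z 2) (frob hK (z 2)) (-frob hK (z 1)) (frob hK (z 0)) := fun _ => rfl
  have hιi : Function.Injective ι := by
    intro x y h
    obtain ⟨h1, h2, h3, -⟩ := alt4_inj h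
    ext i
    fin_cases i
    exacts [h1, h2, h3]
  have hQι : ∀ v, algebraMap F K (Q v) = pf4 (ι v) := fun v => by
    simp [hQ, hι, pf4_alt4, unForm_B', Fin.sum_univ_three]
  obtain ⟨ρ, hρ⟩ : ∃ ρ : Cfsg.SU 4 K q →* (ofQuad Q).Isom,
      ∀ g v, ι ((ρ g).1 v) = g.1.1 * ι v * g.1.1ᵀ := by
    refine exists_hom_of_rep Q (fun (g : Cfsg.SU 4 K q) A => g.1.1 * A * g.1.1ᵀ)
      (fun g x y => by rw [Matrix.mul_add, Matrix.add_mul]) (fun g c x => by simp)
      (fun x => by simp) (fun g h x => by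
        simp only [Subgroup.coe_mul, sl_coe_mul, Matrix.transpose_mul, Matrix.mul_assoc])
      ι hιi fun g v => ?_
    obtain ⟨A, hA⟩ : ∃ A, A = g.1.1 * ι v * g.1.1ᵀ := ⟨_, rfl⟩
    have h0 := conj_alt4 _ _ _ _ _ _ _ hA
    have h1 := su_transpose_mul_map hK g
    have h2 : g.1.1.map (frob hK) * g.1.1ᵀ = 1 := mul_eq_one_comm.1 h1
    have h3 : g.1.1 * (g.1.1.map (frob hK))ᵀ = 1 := by
      simpa using congrArg Matrix.transpose h2
    have h4 : g.1.1ᵀ * hodge4 A * g.1.1 = (ι v).map (frob hK) := by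
      rw [hA, hι, hodge4_conj, g.1.2, one_smul, hodge4_alt4, alt4_map]
      simp [frob_frob]
    have h5 : hodge4 A = A.map (frob hK) := by
      conv_rhs => rw [hA, Matrix.map_mul, Matrix.map_mul, ← h4, ← Matrix.mul_assoc,
        ← Matrix.mul_assoc, h2, Matrix.one_mul, Matrix.transpose_map, Matrix.mul_assoc, h3,
        Matrix.mul_one]
    have h6 : ι ![A 0 1, A 0 2, A 0 3] = A := by
      have e1 := congrFun (congrFun h5 0) 1
      have e2 := congrFun (congrFun h5 0) 2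
      have e3 := congrFun (congrFun h5 0) 3
      simp [hodge4, alt4] at e1 e2 e3
      rw [hι]
      simpa [← e1, ← e2, ← e3] using h0
    refine ⟨_, h6.trans hA, (algebraMap F K).injective ?_⟩
    rw [hQι, hQι, h6, hA, hι, pf4_conj, g.1.2, one_mul]
  have : IsSimpleGroup (Cfsg.PSU 4 K q) := psu_simple hK 4 (by omega) (by omega)
  refine (nonempty_pOmega_equiv_of_simple hQd (Or.inr (by omega))
    (by omega) (su_perfect hK 4 (by omega) (by omega)) ρ (fun g hg => ?_) ?_ ?_).map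
    fun e => (pOmegaEquiv (qMinus 2 F a b)).trans ((pOmegaCongr Q _ γ hγ).symm.trans e.symm)
  · obtain ⟨r, -, hr1, hr⟩ := su_center_smul hK (by omega) hg
    have h1 : ∀ x, ι ((ρ g).1 x) = (r * r) • ι x := fun x => by
      rw [hρ, hr]
      simp [smul_smul]
    rcases mul_self_eq_one_iff.1 (show r * r * (r * r) = 1 by rw [← hr1]; ring) with h2 | h2
    · exact Or.inl fun x => hιi (by rw [h1, h2, one_smul])
    · exact Or.inr fun x => hιi (by rw [h1, h2, map_neg, neg_one_smul])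
  · refine ⟨⟨⟨!![0, 0, 1, 0; 1, 0, 0, 0; 0, 1, 0, 0; 0, 0, 0, 1], by simp [det_fin_four']⟩, ?_⟩,
      Pi.single 0 1, fun c hc => ?_⟩
    · intro u v
      change Cfsg.hermForm 4 K q (!![0, 0, 1, 0; 1, 0, 0, 0; 0, 1, 0, 0; 0, 0, 0, 1] *ᵥ u)
        (!![0, 0, 1, 0; 1, 0, 0, 0; 0, 1, 0, 0; 0, 0, 0, 1] *ᵥ v) = _
      simp [Cfsg.hermForm, Fin.sum_univ_four, Matrix.mulVec, dotProduct]
      ring
    · have h1 := congrArg ι hc
      rw [hρ, map_smul, hι] at h1
      have h2 := congrFun (congrFun h1 0) 3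
      rw [conj_alt4_apply] at h2
      simp [alt4] at h2
  · have h3 := card_POmega_minus (F := F) 2 (by omega) (Or.inr (by omega)) hab
    have h4 := card_psu hK 4 (by omega)
    rw [Nat.card_congr (pOmegaCongr Q _ γ hγ).toEquiv,
      ← Nat.card_congr (pOmegaEquiv (qMinus 2 F a b)).toEquiv]
    rw [gcd_four_cube_add, hF] at h3
    apply Nat.eq_of_mul_eq_mul_left (show 0 < Nat.gcd 4 (q + 1) by positivity)
    refine Eq.trans ?_ h3.symm
    apply Nat.eq_of_mul_eq_mul_left (show 0 < q + 1 by omega)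
    rw [mul_left_comm]
    refine h4.trans ?_
    simp [Finset.prod_range_succ, Nat.even_iff]
    ring

end Minus

theorem pOmega6minus_equiv {K : Type*} [Fintype F] [Field K] [Fintype K] {q : ℕ}
    (hF : Fintype.card F = q) (hK : Fintype.card K = q ^ 2) {a b : F} (hab : Aniso a b) :
    Nonempty (Cfsg.POmega F (Cfsg.quadFormMinus 2 F a b) ≃* Cfsg.PSU 4 K q) := by
  obtain ⟨ι⟩ := nonempty_ringHom_of_card_sq hF hK
  let _ : Algebra F K := ι.toAlgebra
  exact pOmega6minus_equiv_aux hK hF hab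

end H7
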