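import Mathlib
import Cfsg.Agent.H19.B1

/-! The stabiliser of two short classes has no subgroup of index 2 that contains `-1`. -/

set_option autoImplicit false
set_option linter.all false
set_option maxRecDepth 100000

open Cfsg H9 H10 H10.Mon H4.LR
open scoped symmDiff Pointwise

namespace H10.Mon.MG

namespace PS7

theorem fx_pow {w : C} {h : G0} (hh : Fx2 w h) (n : ℕ) : Fx2 w (h ^ n) := by
  induction n with
  | zero => rw [pow_zero]; exact Fx2.one w
  | succ n ih => rw [pow_succ]; exact ih.mul hh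

theorem odd_mem {w : C} {K : Subgroup G0} (h2 : ∀ h, Fx2 w h → h * h ∈ K) {h : G0} (hh : Fx2 w h)
    {n : ℕ} (hn : h ^ (2 * n + 1) = 1) : h ∈ K := by
  have := h2 _ (fx_pow hh (n + 1))
  rwa [← pow_add, show n + 1 + (n + 1) = 2 * n + 1 + 1 by ring, pow_succ, hn, one_mul] at this

theorem fx_D {h : G0} (hh : Fx2 w0 h) (hO : h • Om = Om) :
    h • D (some 0) none = D (some 0) none ∧ h • D (some 1) none = D (some 1) none := by
  have a := hh.1
  have b := hh.2
  rw [c0_D, smul_add, hO] at a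
  rw [w0, smul_add, hO] at b
  exact ⟨add_right_cancel a, add_right_cancel b⟩

theorem perm_fx {σ : M24} (h : σ.1 ∈ Stab [1, 0, 23] []) : Fx2 w0 (permHom σ) := by
  have hO : permHom σ • Om = Om := fix_Om.2 (mono_mem_N0 _ _)
  have e0 : σ.1 (some 0) = some 0 := h.2.1 0 (by simp)
  have e1 : σ.1 (some 1) = some 1 := h.2.1 1 (by simp)
  have e2 : σ.1 none = none := h.2.1 23 (by simp)
  exact ⟨by rw [c0_D, smul_add, hO, perm_D, e0, e2], by rw [w0, smul_add, hO, perm_D, e1, e2]⟩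

theorem seven : ∀ s ∈ {g | ∃ c ∈ g21, g = H9.pm c}, s ^ 7 = 1 := cl_pow gi21 (by decide +kernel)

theorem perm_mem {K : Subgroup G0} (h2 : ∀ h, Fx2 w0 h → h * h ∈ K) {σ : M24}
    (h : σ.1 ∈ Stab [1, 0, 23] []) : permHom σ ∈ K := by
  have : H9.cl g21 ≤ (K.comap permHom).map M24.subtype := (Subgroup.closure_le _).2 fun s hs => by
    have h7 := seven s hs
    obtain ⟨c, hc, rfl⟩ := hs
    have h1 := (gi21 c hc).2
    refine ⟨⟨_, h1.1⟩, odd_mem h2 (perm_fx h1) (n := 3) ?_, rfl⟩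
    rw [← map_pow, show (⟨_, h1.1⟩ : M24) ^ (2 * 3 + 1) = 1 from Subtype.ext h7, map_one]
  obtain ⟨τ, h1, h3⟩ := this (cl_g21 ▸ h)
  rwa [show σ = τ from Subtype.ext h3.symm]

/-- the first generator -/
def cc : ℕ := 959734792278201199218389937128321056

theorem cc_mem : cc ∈ g21 := by simp [cc, g21]

theorem inv_set : ∀ s ∈ GC, H9.pm cc • s = s → (some 0 ∈ s ↔ none ∈ s) → (some 1 ∈ s ↔ none ∈ s) →
    s = ∅ ∨ s = Finset.univ := by
  refine forall_GC _ (fun n => !(Nat.beq (actM cc n) n && ((n.testBit 0 == n.testBit 23) &&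
    (n.testBit 1 == n.testBit 23))) || (Nat.beq n 0 || Nat.beq n 16777215)) ?_ (by decide +kernel)
  intro m _ h h1 h2 h3
  have hv := (gi21 cc cc_mem).1
  rw [pm_smul_ofMask hv] at h1
  have h4 := ofMask_inj (actM_lt hv _) (cw_lt m) h1
  rw [mem_ofMask, mem_ofMask, ← Bool.eq_iff_iff] at h2 h3
  change (cw m).testBit 0 = (cw m).testBit 23 at h2
  change (cw m).testBit 1 = (cw m).testBit 23 at h3
  simp only [h4, h2, h3, Nat.beq_refl, beq_self_eq_true, Bool.and_self, Bool.not_true,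
    Bool.false_or, Bool.or_eq_true, Nat.beq_eq] at h
  rcases h with e | e <;> rw [e]
  exacts [.inl ofMask_zero, .inr ofMask_full]

theorem mono_pow (τ : M24) (o : GC) (n : ℕ) : ∃ o', mono τ o ^ n = mono (τ ^ n) o' := by
  induction n with
  | zero => exact ⟨gc0, by rw [pow_zero, pow_zero, mono_one]⟩
  | succ n ih =>
    obtain ⟨o', e⟩ := ih
    exact ⟨_, by rw [pow_succ, pow_succ, e, mono_mul]⟩

theorem split (σ : M24) (o : GC) : mono σ o = mono 1 o * permHom σ := by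
  rw [permHom_apply, mono_mul, one_mul]
  congr 1
  exact Subtype.ext (by simpa [gc0] using (symmDiff_bot o.1).symm)

theorem ind_iff {o : GC} {p : P} (h : mono 1 o • D p none = D p none) : p ∈ o.1 ↔ none ∈ o.1 := by
  rw [sign_D, add_eq_left] at h
  by_cases a : p ∈ o.1 <;> by_cases b : none ∈ o.1 <;> simp [ind2, a, b, Om_ne_zero] at h ⊢

theorem sign_mem {K : Subgroup G0} (h1 : neg1 ∈ K) (h2 : ∀ h, Fx2 w0 h → h * h ∈ K) {o : GC}
    (h : Fx2 w0 (mono 1 o)) : mono 1 o ∈ K := by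
  have hs := (gi21 cc cc_mem).2
  let τ : M24 := ⟨_, hs.1⟩
  have he : Fx2 w0 (mono τ o) := by rw [split]; exact h.mul (perm_fx hs)
  obtain ⟨o', e⟩ := mono_pow τ o 7
  rw [show τ ^ 7 = 1 from Subtype.ext (seven _ ⟨cc, cc_mem, rfl⟩)] at e
  have h3 : mono τ o * mono 1 o' = mono 1 o' * mono τ o := by rw [← e, ← pow_succ, ← pow_succ']
  rw [mono_mul, mono_mul] at h3
  have h4 : o.1 ∆ (H9.pm cc • o'.1) = o'.1 ∆ ((1 : Equiv.Perm P) • o.1) :=
    congrArg Subtype.val (mono_inj h3).2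
  rw [one_smul, symmDiff_comm o'.1, symmDiff_right_inj] at h4
  have h5 := fx_D (e ▸ fx_pow he 7) (fix_Om.2 (mono_mem_N0 _ _))
  have h6 : mono τ o ^ 7 ∈ K := by
    rw [e]
    rcases inv_set _ o'.2 h4 (ind_iff h5.1) (ind_iff h5.2) with k | k
    · rw [show o' = gc0 from Subtype.ext k, mono_one]; exact one_mem _
    · rw [show o' = ⟨Finset.univ, univ_mem_GC⟩ from Subtype.ext k, ← neg1_eq]; exact h1
  have h7 := h2 _ (fx_pow he 4)
  rw [← pow_add, show 4 + 4 = 7 + 1 from rfl, pow_succ, mul_mem_cancel_left h6, split] at h7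
  exact (mul_mem_cancel_right (perm_mem h2 hs)).1 h7

theorem core {K : Subgroup G0} (h1 : neg1 ∈ K) (h2 : ∀ h, Fx2 w0 h → h * h ∈ K) {h : G0}
    (hh : Fx2 w0 h) (hO : h • Om = Om) : h ∈ K := by
  obtain ⟨a, b⟩ := fx_D hh hO
  obtain ⟨σ, o, rfl⟩ := mem_N0_iff.1 (fix_Om.1 hO)
  have k : ∀ p : P, p ≠ none → mono σ o • D p none = D p none →
      (σ.1 p = p ∧ σ.1 none = none) ∨ (σ.1 p = none ∧ σ.1 none = p) := fun p hp e => by
    refine pair_inj (fun e => hp (σ.1.injective e)) hp ?_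
    rw [split, mul_smul, perm_D, sign_D] at e
    rw [← e]
    exact (pr_or (or_Om _ _)).symm
  have hs : σ.1 ∈ Stab [1, 0, 23] [] := by
    have k0 := k _ (by simp) a
    have k1 := k _ (by simp) b
    have n : σ.1 none = none := by
      rcases k0 with e | e
      · exact e.2
      rcases k1 with e' | e'
      · exact e'.2
      exact absurd (e.2.symm.trans e'.2) (by decide)
    refine ⟨σ.2, fun i hi => ?_, by simp⟩
    simp only [List.mem_cons, List.not_mem_nil, or_false] at hi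
    rcases hi with rfl | rfl | rfl
    · exact (k1.resolve_right fun e => by simpa using n.symm.trans e.2).1
    · exact (k0.resolve_right fun e => by simpa using n.symm.trans e.2).1
    · exact n
  rw [split] at hh ⊢
  refine mul_mem (sign_mem h1 h2 ?_) (perm_mem h2 hs)
  simpa using hh.mul (perm_fx hs).inv

end PS7

/-- The stabiliser of `c0` and `w` has no subgroup of index 2 that contains `-1`. -/
theorem perfS {w : C} (hw : AA w) (K : Subgroup G0) (h1 : neg1 ∈ K)
    (h2 : ∀ h, Fx2 w h → h * h ∈ K) {h : G0} (hh : Fx2 w h) : h ∈ K := by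
  have two : ∀ {a : G0} (k : ℕ), Fx2 w a → a ^ 2 ^ k = 1 → a ∈ K := fun {a} k ha hk => by
    have hX : IsPGroup 2 (Subgroup.zpowers a) := by
      obtain ⟨j, -, e⟩ := (Nat.dvd_prime_pow Nat.prime_two).1 (orderOf_dvd_of_pow_eq_one hk)
      exact IsPGroup.of_card (n := j) (by rw [Nat.card_zpowers, e])
    obtain ⟨r, hr, fr⟩ := oddRt hw hX fun g hg => by
      obtain ⟨n, rfl⟩ := (mem_powers_iff_mem_zpowers.2 hg : g ∈ Submonoid.powers a)
      exact ⟨(PS7.fx_pow ha n).1, .inl (PS7.fx_pow ha n).2⟩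
    obtain ⟨g, g1, g2, g3⟩ := hr.std hw
    have := PS7.core (K := K.comap (MulAut.conj g⁻¹).toMonoidHom) (h := g * a * g⁻¹) (by
        change g⁻¹ * neg1 * g⁻¹⁻¹ ∈ K
        rwa [neg1_comm, mul_inv_cancel_right])
      (fun x hx => by
        have := h2 (g⁻¹ * x * g) ⟨by rw [mul_smul, mul_smul, g1, hx.1, inv_smul_eq_iff, g1],
          by rw [mul_smul, mul_smul, g2, hx.2, inv_smul_eq_iff, g2]⟩
        change g⁻¹ * (x * x) * g⁻¹⁻¹ ∈ K
        convert this using 1; group)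
      ⟨by rw [mul_smul, mul_smul, inv_smul_eq_iff.2 g1.symm, ha.1, g1],
        by rw [mul_smul, mul_smul, inv_smul_eq_iff.2 g2.symm, ha.2, g2]⟩
      (by rw [mul_smul, mul_smul, inv_smul_eq_iff.2 g3.symm, fr a (Subgroup.mem_zpowers a), g3])
    change g⁻¹ * (g * a * g⁻¹) * g⁻¹⁻¹ ∈ K at this
    convert this using 1; group
  obtain ⟨k, m, ⟨n, rfl⟩, e⟩ := Nat.exists_eq_two_pow_mul_odd (orderOf_pos h).ne'
  have a : h ^ (2 * n + 1) ∈ K := two k (PS7.fx_pow hh _) (by
    rw [← pow_mul, mul_comm, ← e, pow_orderOf_eq_one])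
  rw [pow_succ, two_mul, pow_add] at a
  exact (mul_mem_cancel_left (h2 _ (PS7.fx_pow hh n))).1 a

end H10.Mon.MG
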