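import Mathlib
import Cfsg.Agent.H7.Cay

/-!
# Certificates of double coset enumeration

`H` is a small group given on codes, `g l` are further letters, each conjugating a subgroup of `H`
into `H` in a known way.  The name `(j, p)` stands for the right coset `H * rep j * φ p`.  A
certificate is a list of facts on names, each proved from earlier facts along a relator.
-/

set_option autoImplicit false

namespace H7.Cay

open H29

variable {G : Type*} [Group G]

/-- The value of a template `g l₁ * φ m₁ * g l₂ * φ m₂ * ⋯`. -/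
def evR (φ g : ℕ → G) : List (ℕ × ℕ) → G
  | [] => 1
  | a :: R => g a.1 * φ a.2 * evR φ g R

theorem evR_append (φ g : ℕ → G) : ∀ u v : List (ℕ × ℕ),
    evR φ g (u ++ v) = evR φ g u * evR φ g v
  | [], _ => by simp [evR]
  | a :: u, v => by simp [evR, evR_append φ g u v, mul_assoc]

/-- A template is good if its codes are in range and its value is trivial. -/
def Good (n : ℕ) (φ g : ℕ → G) (R : List (ℕ × ℕ)) : Prop := (∀ a ∈ R, a.2 < n) ∧ evR φ g R = 1

theorem Good.rot {n : ℕ} {φ g : ℕ → G} {R : List (ℕ × ℕ)} (h : Good n φ g R) (s : ℕ) :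
    Good n φ g (R.drop s ++ R.take s) := by
  refine ⟨fun a ha => h.1 a ?_, ?_⟩
  · rcases List.mem_append.1 ha with ha | ha
    · exact List.mem_of_mem_drop ha
    · exact List.mem_of_mem_take ha
  · have := h.2
    rw [← List.take_append_drop s R, evR_append] at this
    rw [evR_append, mul_eq_one_comm.1 this]

/-- The inverse template. -/
def invT (iv inv : ℕ → ℕ) : List (ℕ × ℕ) → ℕ → List (ℕ × ℕ) → List (ℕ × ℕ)
  | [], _, acc => acc
  | a :: R, c, acc => invT iv inv R a.2 ((iv a.1, inv c) :: acc)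

/-- The last code of a template. -/
def lastM : List (ℕ × ℕ) → ℕ → ℕ
  | [], c => c
  | a :: R, _ => lastM R a.2

theorem invT_spec {M : GM} {φ g : ℕ → G} (h : M.Sound φ) {iv : ℕ → ℕ} (hiv : IvOK g iv) :
    ∀ (R : List (ℕ × ℕ)) (c : ℕ) (acc : List (ℕ × ℕ)), (∀ a ∈ R, a.2 < M.n) → c < M.n →
      (∀ a ∈ acc, a.2 < M.n) → (∀ a ∈ invT iv M.inv R c acc, a.2 < M.n) ∧
        (φ (lastM R c))⁻¹ * evR φ g (invT iv M.inv R c acc) =
          (evR φ g R)⁻¹ * (φ c)⁻¹ * evR φ g acc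
  | [], c, acc, _, _, h3 => ⟨h3, by simp [lastM, invT, evR]⟩
  | a :: R, c, acc, h1, h2, h3 => by
    obtain ⟨a1, a2⟩ := invT_spec h hiv R a.2 ((iv a.1, M.inv c) :: acc)
      (fun b hb => h1 b (by simp [hb])) (h1 a (by simp))
      (by simpa using ⟨h.inv_lt c h2, fun x y hxy => h3 (x, y) hxy⟩)
    refine ⟨a1, ?_⟩
    rw [lastM, invT, a2]
    simp only [evR, hiv a.1, h.map_inv c h2]
    group

theorem lastM_lt {n : ℕ} : ∀ (R : List (ℕ × ℕ)) (c : ℕ), (∀ a ∈ R, a.2 < n) → c < n →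
    lastM R c < n
  | [], _, _, h => h
  | a :: R, _, h, _ => lastM_lt R a.2 (fun b hb => h b (by simp [hb])) (h a (by simp))

theorem Good.inv {M : GM} {φ g : ℕ → G} (h : M.Sound φ) {iv : ℕ → ℕ} (hiv : IvOK g iv)
    {R : List (ℕ × ℕ)} (hR : Good M.n φ g R) : Good M.n φ g (invT iv M.inv R (lastM R 0) []) := by
  obtain ⟨a1, a2⟩ := invT_spec h hiv R (lastM R 0) [] hR.1 (lastM_lt R 0 hR.1 h.pos) (by simp)
  refine ⟨a1, ?_⟩
  have : lastM R (lastM R 0) = lastM R 0 := by cases R <;> rfl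
  rw [this, hR.2] at a2
  simpa [evR] using a2

/-- The template with origin `(b, s, sg)`: `b = 0` the empty one, `b = 1` the trivial one on the
letter `s`, otherwise a rotation of the base relator `b - 2` or of its inverse. -/
def mkT (iv inv : ℕ → ℕ) (B : List (List (ℕ × ℕ))) (o : ℕ × ℕ × ℕ) : List (ℕ × ℕ) :=
  match o.1 with
  | 0 => []
  | 1 => [(o.2.1, 0), (iv o.2.1, 0)]
  | b + 2 =>
    let R := B.getD b []
    let U := if o.2.2 = 0 then R else invT iv inv R (lastM R 0) []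
    U.drop o.2.1 ++ U.take o.2.1

theorem good_mkT {M : GM} {φ g : ℕ → G} (h : M.Sound φ) {iv : ℕ → ℕ} (hiv : IvOK g iv)
    {B : List (List (ℕ × ℕ))} (hB : ∀ R ∈ B, Good M.n φ g R) (o : ℕ × ℕ × ℕ) :
    Good M.n φ g (mkT iv M.inv B o) := by
  obtain ⟨b, s, sg⟩ := o
  match b with
  | 0 => exact ⟨by simp [mkT], rfl⟩
  | 1 => exact ⟨by simp [mkT, h.pos], by simp [mkT, evR, h.zero, hiv s]⟩
  | b + 2 =>
    have h1 : Good M.n φ g (B.getD b []) := by
      rw [← nth_eq]
      exact nth_forall (p := Good M.n φ g) ⟨by simp, rfl⟩ hB b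
    simp only [mkT]
    split_ifs
    · exact h1.rot s
    · exact (h1.inv h hiv).rot s

theorem good_of_eq {M : GM} {φ g : ℕ → G} (h : M.Sound φ) {iv : ℕ → ℕ} (hiv : IvOK g iv)
    {B RL : List (List (ℕ × ℕ))} (hB : ∀ R ∈ B, Good M.n φ g R) {O : List (ℕ × ℕ × ℕ)}
    (he : RL = O.map (mkT iv M.inv B)) : ∀ R ∈ RL, Good M.n φ g R := by
  rw [he]
  intro R hR
  obtain ⟨o, -, rfl⟩ := List.mem_map.1 hR
  exact good_mkT h hiv hB o

/-- The test of a conjugation table `al` from generators `Y` and a rank function. -/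
noncomputable def chkAl (M : GM) (al rk : ℕ → ℕ) (Y : List (ℕ × ℕ)) : Bool :=
  and2 (allL Y fun y => and2 (lt y.1 M.n) (lt y.2 M.n)) (allF M.n fun c => lit (al c) fun a =>
    imp2 (lt a M.n) (or2 (and2 (Nat.beq c 0) (Nat.beq a 0)) (anyL Y fun y =>
      lit (M.mul c (M.inv y.1)) fun c' => and2 (lt (rk c') (rk c))
        (lit (al c') fun a' => and2 (lt a' M.n) (Nat.beq a (M.mul a' y.2))))))

theorem al_sound {M : GM} {φ : ℕ → G} (h : M.Sound φ) {al rk : ℕ → ℕ} {Y : List (ℕ × ℕ)} {s : G}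
    (hY : ∀ y ∈ Y, φ y.1 * s = s * φ y.2) (hc : chkAl M al rk Y = true) :
    ∀ c < M.n, al c < M.n → φ c * s = s * φ (al c) := by
  simp only [chkAl, and2_true, allL_true, allF_true, lit_eq, imp2_true, or2_true, anyL_true,
    lt_true, nbeq] at hc
  intro c
  induction hr : rk c using Nat.strong_induction_on generalizing c with
  | _ r ih =>
    intro h1 h2
    rcases hc.2 c h1 h2 with ⟨rfl, h3⟩ | ⟨y, hy, h3, h4, h5⟩
    · rw [h3, h.zero, one_mul, mul_one]
    · obtain ⟨y1, y2⟩ := hc.1 y hy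
      have a1 := h.mul_lt _ h1 _ (h.inv_lt _ y1)
      have a2 := ih _ (hr ▸ h3) _ rfl a1 h4
      rw [h.map_mul _ h1 _ (h.inv_lt _ y1), h.map_inv _ y1] at a2
      rw [h5, h.map_mul _ h4 _ y2, ← mul_assoc, ← a2, mul_assoc, ← hY y hy]
      group

/-- `x` and `y` lie in one right coset of `H`. -/
def RC (H : Subgroup G) (x y : G) : Prop := x * y⁻¹ ∈ H

theorem RC.refl (H : Subgroup G) (x : G) : RC H x x := by simp [RC]
theorem RC.symm {H : Subgroup G} {x y : G} (h : RC H x y) : RC H y x := by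
  have := H.inv_mem h
  simpa [RC] using this
theorem RC.trans {H : Subgroup G} {x y z : G} (h : RC H x y) (h' : RC H y z) : RC H x z := by
  have := H.mul_mem h h'
  simpa [RC, mul_assoc] using this
theorem RC.mul {H : Subgroup G} {x y : G} (h : RC H x y) (z : G) : RC H (x * z) (y * z) := by
  simpa [RC, mul_assoc] using h
theorem RC.congr {H : Subgroup G} {x y x' y' : G} (h : RC H x y) (h1 : x = x') (h2 : y = y') :
    RC H x' y' := h1 ▸ h2 ▸ h

/-- The data of a certificate. -/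
structure DC where
  M : GM
  nl : ℕ
  iv : ℕ → ℕ
  /-- conjugation by a letter; a value `≥ n` means undefined -/
  al : ℕ → ℕ → ℕ
  /-- templates -/
  RL : List (List (ℕ × ℕ))
  /-- bits for a field -/
  b : ℕ
  /-- definitions, three fields each -/
  DF : ℕ
  /-- facts, five fields each -/
  FT : ℕ

namespace DC

variable (D : DC)

/-- Field `a` of definition `k`. -/
def df (k a : ℕ) : ℕ := pk D.DF D.b (Nat.add (Nat.mul 3 k) a)

/-- The packed fact number `i`. -/
def ft (i : ℕ) : ℕ := pk D.FT (Nat.mul 5 D.b) i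

/-- Field `a` of a packed fact: `j, p, k, q, l + 1`. -/
def fl (x a : ℕ) : ℕ := pk x D.b a

/-- The representative of the double coset number `k`. -/
noncomputable def rep (φ g : ℕ → G) (k : ℕ) : G :=
  if D.df k 0 < k then rep φ g (D.df k 0) * φ (D.df k 1) * g (D.df k 2) else 1
termination_by k

theorem rep_zero (φ g : ℕ → G) : D.rep φ g 0 = 1 := by rw [rep]; simp

/-- The meaning of a packed fact. -/
def Sem (H : Subgroup G) (φ g : ℕ → G) (x : ℕ) : Prop :=
  D.fl x 1 < D.M.n ∧ D.fl x 3 < D.M.n ∧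
    (D.fl x 4 = 0 → RC H (D.rep φ g (D.fl x 0)) (D.rep φ g (D.fl x 2) * φ (D.fl x 3))) ∧
    (∀ l, D.fl x 4 = l + 1 → RC H (D.rep φ g (D.fl x 0) * φ (D.fl x 1) * g l)
      (D.rep φ g (D.fl x 2) * φ (D.fl x 3)))

/-- The standing hypotheses. -/
structure Hyp (H : Subgroup G) (φ g : ℕ → G) : Prop where
  snd : D.M.Sound φ
  mem : ∀ c < D.M.n, φ c ∈ H
  iv : IvOK g D.iv
  al : ∀ l, ∀ c < D.M.n, D.al l c < D.M.n → φ c * g l = g l * φ (D.al l c)
  rl : ∀ R ∈ D.RL, Good D.M.n φ g R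

/-- One crossing of a letter: from `(j, p)` by the fact `(j, p0) g l = (k, q0)`. -/
noncomputable def cross (l m p p0 k q0 : ℕ) (R : List (ℕ × ℕ))
    (ih : ℕ → ℕ → List (ℕ × ℕ) → Bool) : Bool :=
  lit (D.al l (D.M.mul (D.M.inv p0) p)) fun d =>
    and2 (lt d D.M.n) (lit (D.M.mul q0 d) fun y => lit (D.M.mul y m) fun y' => ih k y' R)

/-- One operation of a walk for fact number `i`. -/
noncomputable def op (i ty arg j p : ℕ) (R : List (ℕ × ℕ))
    (ih : ℕ → ℕ → List (ℕ × ℕ) → Bool) : Bool :=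
  Bool.rec (and2 (lt arg i) (lit (D.ft arg) fun x => lit (D.fl x 0) fun fj => lit (D.fl x 2) fun fk =>
      lit (D.fl x 3) fun fq => lit (D.fl x 4) fun l1 =>
      Nat.rec (motive := fun _ => Bool)
        (and2 (and2 (Nat.beq l1 0) (Nat.beq fj j)) (lit (D.M.mul fq p) fun y => ih fk y R))
        (fun t _ => Nat.rec (motive := fun _ => Bool)
          (and2 (and2 (Nat.beq l1 0) (Nat.beq fk j))
            (lit (D.M.mul (D.M.inv fq) p) fun y => ih fj y R))
          (fun t _ => List.rec (motive := fun _ => Bool) false (fun a R' _ =>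
            lit a.1 fun l => lit a.2 fun m => lit (D.fl x 1) fun fp =>
            Nat.rec (motive := fun _ => Bool)
              (and2 (and2 (Nat.beq l1 (Nat.succ l)) (Nat.beq fj j)) (D.cross l m p fp fk fq R' ih))
              (fun _ _ => and2 (and2 (and2 (lt 0 l1) (Nat.beq (D.iv (Nat.pred l1)) l))
                (Nat.beq fk j)) (D.cross l m p fq fj fp R' ih)) t) R) t) ty))
    (and2 (and2 (Nat.beq j 0) (lt arg D.M.n)) (ih 0 arg R)) (Nat.beq ty 4)

/-- A walk. -/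
noncomputable def walk (i : ℕ) (k : ℕ → ℕ → List (ℕ × ℕ) → Bool) (ops : List ℕ) :
    ℕ → ℕ → List (ℕ × ℕ) → Bool :=
  List.rec (motive := fun _ => ℕ → ℕ → List (ℕ × ℕ) → Bool) k (fun c _ ih j p R =>
    lit (Nat.mod c 8) fun ty => lit (Nat.div c 8) fun arg => D.op i ty arg j p R ih) ops

/-- The end of the walk for the packed fact `x`, started at `(sj, sp)`. -/
noncomputable def fin (x sj sp j p : ℕ) (R : List (ℕ × ℕ)) : Bool :=
  List.rec (motive := fun _ => Bool)
    (and2 (and2 (and2 (Nat.beq (D.fl x 4) 0) (Nat.beq (D.fl x 1) 0))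
      (and2 (Nat.beq (D.fl x 0) sj) (Nat.beq (D.fl x 2) j)))
      (Nat.beq (D.fl x 3) (D.M.mul p (D.M.inv sp))))
    (fun a R' _ => List.rec (motive := fun _ => Bool)
      (and2 (and2 (and2 (Nat.beq (D.fl x 4) (Nat.succ a.1)) (Nat.beq (D.fl x 1) p))
        (and2 (Nat.beq (D.fl x 0) j) (Nat.beq (D.fl x 2) sj)))
        (Nat.beq (D.fl x 3) (D.M.mul sp (D.M.inv a.2))))
      (fun _ _ _ => false) R') R

/-- The test of fact number `i`; `c` is empty for a definition, and otherwise is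
`r :: sj :: sp :: ops`. -/
noncomputable def chk1 (i : ℕ) (c : List ℕ) : Bool :=
  lit (D.ft i) fun x => List.rec (motive := fun _ => Bool)
    (lit (D.fl x 2) fun k =>
      and2 (and2 (and2 (lt (D.fl x 0) k) (lt (D.fl x 1) D.M.n)) (Nat.beq (D.fl x 3) 0))
        (and2 (and2 (Nat.beq (D.df k 0) (D.fl x 0)) (Nat.beq (D.df k 1) (D.fl x 1)))
          (Nat.beq (Nat.succ (D.df k 2)) (D.fl x 4))))
    (fun r c1 _ => List.rec (motive := fun _ => Bool) false (fun sj c2 _ =>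
      List.rec (motive := fun _ => Bool) false (fun sp ops _ =>
        and2 (lt sp D.M.n) (D.walk i (D.fin x sj sp) ops sj sp (nth [] D.RL r))) c2) c1) c

/-- The test of the facts from number `i` on. -/
noncomputable def chkL (l : List (List ℕ)) : ℕ → Bool :=
  List.rec (motive := fun _ => ℕ → Bool) (fun _ => true)
    (fun c _ ih i => and2 (D.chk1 i c) (lit (Nat.succ i) ih)) l

/-- The facts below `i` hold. -/
def Upto (H : Subgroup G) (φ g : ℕ → G) (i : ℕ) : Prop := ∀ f < i, D.Sem H φ g (D.ft f)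

/-- The invariant of a walk. -/
def Inv (H : Subgroup G) (φ g : ℕ → G) (x0 : G) (j p : ℕ) (R : List (ℕ × ℕ)) : Prop :=
  p < D.M.n ∧ (∀ a ∈ R, a.2 < D.M.n) ∧ RC H (x0 * (evR φ g R)⁻¹) (D.rep φ g j * φ p)

variable {D} {H : Subgroup G} {φ g : ℕ → G}

theorem cross_spec (h : D.Hyp H φ g) {x0 : G} {l m j p p0 k q0 : ℕ} {R : List (ℕ × ℕ)}
    {ih : ℕ → ℕ → List (ℕ × ℕ) → Bool} (hi : D.Inv H φ g x0 j p ((l, m) :: R))
    (hp : p0 < D.M.n) (hq : q0 < D.M.n)
    (hf : RC H (D.rep φ g j * φ p0 * g l) (D.rep φ g k * φ q0))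
    (hc : D.cross l m p p0 k q0 R ih = true) :
    ∃ j' p' R', D.Inv H φ g x0 j' p' R' ∧ ih j' p' R' = true := by
  simp only [cross, lit_eq, and2_true, lt_true] at hc
  obtain ⟨a1, a2, a3⟩ := hi
  have hm : m < D.M.n := a2 (l, m) (by simp)
  have s := h.snd
  have b1 := s.mul_lt _ (s.inv_lt _ hp) _ a1
  have b2 := h.al l _ b1 hc.1
  rw [s.map_mul _ (s.inv_lt _ hp) _ a1, s.map_inv _ hp] at b2
  have b3 := s.mul_lt _ hq _ hc.1
  refine ⟨_, _, _, ⟨s.mul_lt _ b3 _ hm, fun a ha => a2 a (by simp [ha]), ?_⟩, hc.2⟩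
  rw [s.map_mul _ b3 _ hm, s.map_mul _ hq _ hc.1]
  generalize φ (D.al l (D.M.mul (D.M.inv p0) p)) = d at b2 ⊢
  have b4 : φ p * g l = φ p0 * g l * d := by
    rw [mul_assoc, ← b2]; group
  refine ((a3.mul (g l * φ m)).congr ?_ ?_).trans ((hf.mul (d * φ m)).congr rfl ?_)
  · simp only [evR]; group
  · calc D.rep φ g j * φ p * (g l * φ m) = D.rep φ g j * (φ p * g l) * φ m := by group
      _ = _ := by rw [b4]; group
  · group

theorem op_spec (h : D.Hyp H φ g) {i : ℕ} (hu : D.Upto H φ g i) {x0 : G} {ty arg j p : ℕ}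
    {R : List (ℕ × ℕ)} {ih : ℕ → ℕ → List (ℕ × ℕ) → Bool} (hi : D.Inv H φ g x0 j p R)
    (hc : D.op i ty arg j p R ih = true) :
    ∃ j' p' R', D.Inv H φ g x0 j' p' R' ∧ ih j' p' R' = true := by
  have s := h.snd
  unfold op at hc
  cases h4 : Nat.beq ty 4 with
  | true =>
    rw [h4] at hc
    change and2 _ _ = true at hc
    simp only [and2_true, nbeq, lt_true] at hc
    obtain ⟨⟨rfl, a1⟩, a2⟩ := hc
    refine ⟨0, arg, R, ⟨a1, hi.2.1, hi.2.2.trans ?_⟩, a2⟩
    rw [rep_zero, one_mul, one_mul]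
    exact H.mul_mem (h.mem _ hi.1) (H.inv_mem (h.mem _ a1))
  | false =>
    rw [h4] at hc
    change and2 _ _ = true at hc
    simp only [and2_true, lt_true, lit_eq] at hc
    obtain ⟨a1, hc⟩ := hc
    obtain ⟨f1, f2, f3, f4⟩ := hu arg a1
    generalize D.ft arg = x at *
    match ty, R with
    | 0, R =>
      change and2 _ _ = true at hc
      simp only [and2_true, nbeq] at hc
      obtain ⟨⟨b1, rfl⟩, b2⟩ := hc
      refine ⟨_, _, _, ⟨s.mul_lt _ f2 _ hi.1, hi.2.1, hi.2.2.trans ?_⟩, b2⟩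
      rw [s.map_mul _ f2 _ hi.1]
      exact ((f3 b1).mul _).congr rfl (mul_assoc _ _ _)
    | 1, R =>
      change and2 _ _ = true at hc
      simp only [and2_true, nbeq] at hc
      obtain ⟨⟨b1, rfl⟩, b2⟩ := hc
      refine ⟨_, _, _, ⟨s.mul_lt _ (s.inv_lt _ f2) _ hi.1, hi.2.1, hi.2.2.trans ?_⟩, b2⟩
      rw [s.map_mul _ (s.inv_lt _ f2) _ hi.1, s.map_inv _ f2]
      exact ((f3 b1).symm.mul ((φ (D.fl x 3))⁻¹ * φ p)).congr (by group) rfl
    | _ + 2, [] => exact absurd hc (by simp)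
    | 2, (l, m) :: R =>
      change and2 _ _ = true at hc
      simp only [and2_true, nbeq] at hc
      obtain ⟨⟨b1, rfl⟩, b2⟩ := hc
      exact cross_spec h hi f1 f2 (f4 l b1) b2
    | t + 3, (l, m) :: R =>
      change and2 _ _ = true at hc
      simp only [and2_true, nbeq, lt_true] at hc
      obtain ⟨⟨⟨b0, b1⟩, rfl⟩, b2⟩ := hc
      refine cross_spec h hi f2 f1 ?_ b2
      have := (f4 (Nat.pred (D.fl x 4)) (Nat.succ_pred_eq_of_pos b0).symm).symm.mul (g l)
      refine this.congr rfl ?_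
      rw [← b1, h.iv]; group

theorem walk_spec (h : D.Hyp H φ g) {i : ℕ} (hu : D.Upto H φ g i) {x0 : G}
    {k : ℕ → ℕ → List (ℕ × ℕ) → Bool} : ∀ (ops : List ℕ) (j p : ℕ) (R : List (ℕ × ℕ)),
    D.Inv H φ g x0 j p R → D.walk i k ops j p R = true →
      ∃ j' p' R', D.Inv H φ g x0 j' p' R' ∧ k j' p' R' = true
  | [], j, p, R, hi, hc => ⟨j, p, R, hi, hc⟩
  | c :: ops, j, p, R, hi, hc => by
    obtain ⟨j', p', R', a1, a2⟩ := op_spec (ih := D.walk i k ops) h hu hi hc
    exact walk_spec h hu ops j' p' R' a1 a2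

theorem fin_spec (h : D.Hyp H φ g) {x sj sp j p : ℕ} {R : List (ℕ × ℕ)} (hs : sp < D.M.n)
    (hi : D.Inv H φ g (D.rep φ g sj * φ sp) j p R) (hc : D.fin x sj sp j p R = true) :
    D.Sem H φ g x := by
  have s := h.snd
  match R with
  | [] =>
    change and2 _ _ = true at hc
    simp only [and2_true, nbeq] at hc
    obtain ⟨⟨⟨a1, a2⟩, a3, a4⟩, a5⟩ := hc
    refine ⟨a2 ▸ s.pos, a5 ▸ s.mul_lt _ hi.1 _ (s.inv_lt _ hs), fun _ => ?_,
      fun l hl => by omega⟩
    rw [a3, a4, a5, s.map_mul _ hi.1 _ (s.inv_lt _ hs), s.map_inv _ hs]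
    exact (hi.2.2.mul (φ sp)⁻¹).congr (by simp [evR]) (mul_assoc _ _ _)
  | [(l, m)] =>
    change and2 _ _ = true at hc
    simp only [and2_true, nbeq] at hc
    obtain ⟨⟨⟨a1, a2⟩, a3, a4⟩, a5⟩ := hc
    have hm : m < D.M.n := hi.2.1 (l, m) (by simp)
    refine ⟨a2 ▸ hi.1, a5 ▸ s.mul_lt _ hs _ (s.inv_lt _ hm), fun h0 => by omega,
      fun l' hl => ?_⟩
    obtain rfl : l = l' := by omega
    rw [a2, a3, a4, a5, s.map_mul _ hs _ (s.inv_lt _ hm), s.map_inv _ hm]
    exact (hi.2.2.symm.mul (g l)).congr rfl (by simp only [evR]; group)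
  | _ :: _ :: _ => exact absurd hc (by simp [fin])

theorem chk1_spec (h : D.Hyp H φ g) {i : ℕ} (hu : D.Upto H φ g i) {c : List ℕ}
    (hc : D.chk1 i c = true) : D.Sem H φ g (D.ft i) := by
  have s := h.snd
  unfold chk1 at hc
  rw [lit_eq] at hc
  generalize D.ft i = x at *
  match c with
  | [] =>
    change and2 _ _ = true at hc
    simp only [and2_true, nbeq, lt_true] at hc
    obtain ⟨⟨⟨a1, a2⟩, a3⟩, ⟨a4, a5⟩, a6⟩ := hc
    refine ⟨a2, a3 ▸ s.pos, fun h0 => by omega, fun l hl => ?_⟩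
    have a7 : D.df (D.fl x 2) 2 = l := by omega
    rw [a3, s.zero, mul_one, rep.eq_1 _ _ _ (D.fl x 2), if_pos (a4 ▸ a1), a4, a5, a7]
    exact RC.refl _ _
  | [_] => exact absurd hc (by simp)
  | [_, _] => exact absurd hc (by simp)
  | r :: sj :: sp :: ops =>
    change and2 _ _ = true at hc
    rw [and2_true, lt_true] at hc
    have hR : Good D.M.n φ g (nth [] D.RL r) :=
      nth_forall (p := Good D.M.n φ g) ⟨by simp, rfl⟩ h.rl r
    obtain ⟨j', p', R', a1, a2⟩ := walk_spec (x0 := D.rep φ g sj * φ sp) h hu ops sj sp _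
      ⟨hc.1, hR.1, by rw [hR.2]; simpa using RC.refl _ _⟩ hc.2
    exact fin_spec h hc.1 a1 a2

theorem upto_zero : D.Upto H φ g 0 := fun _ h => absurd h (Nat.not_lt_zero _)

theorem Upto.next (h : D.Hyp H φ g) : ∀ (l : List (List ℕ)) {i : ℕ}, D.Upto H φ g i →
    D.chkL l i = true → D.Upto H φ g (i + l.length)
  | [], _, hu, _ => hu
  | c :: l, i, hu, hc => by
    change and2 (D.chk1 i c) (D.chkL l (i + 1)) = true at hc
    rw [and2_true] at hc
    have := Upto.next h l (lt_step hu (chk1_spec h hu hc.1)) hc.2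
    rwa [List.length_cons, ← Nat.add_assoc, Nat.add_right_comm]

theorem Upto.next' (h : D.Hyp H φ g) {l : List (List ℕ)} {i i' : ℕ} (hu : D.Upto H φ g i)
    (hc : and2 (D.chkL l i) (Nat.beq (Nat.add i l.length) i') = true) : D.Upto H φ g i' := by
  rw [and2_true, nbeq] at hc
  exact hc.2 ▸ hu.next h l hc.1

/-- A collapse: the letter `l` lies in `H`. -/
theorem Upto.collapse (h : D.Hyp H φ g) {i f l : ℕ} (hu : D.Upto H φ g i)
    (hc : and2 (and2 (lt f i) (Nat.beq (D.fl (D.ft f) 4) (Nat.succ l)))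
      (and2 (Nat.beq (D.fl (D.ft f) 0) 0) (Nat.beq (D.fl (D.ft f) 2) 0)) = true) : g l ∈ H := by
  simp only [and2_true, nbeq, lt_true] at hc
  obtain ⟨⟨a1, a2⟩, a3, a4⟩ := hc
  obtain ⟨f1, f2, -, f4⟩ := hu f a1
  have := f4 l a2
  rw [a3, a4, rep_zero, one_mul, one_mul] at this
  have h2 := H.mul_mem (H.mul_mem (H.inv_mem (h.mem _ f1)) this) (h.mem _ f2)
  simpa [mul_assoc] using h2

/-! ### The final count -/

variable (D)

/-- `T` is a transversal for the letter `l`, and `ct` finds the representative. -/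
noncomputable def chkTr (l : ℕ) (T : List ℕ) (ct : ℕ → ℕ) : Bool :=
  allF D.M.n fun p => lit (ct p) fun t => and2 (and2 (memL t T) (lt t D.M.n))
    (lt (D.al l (D.M.mul (D.M.inv t) p)) D.M.n)

/-- The facts `fs` describe the letter `l` at the names `(j, t)`, `t ∈ T`. -/
noncomputable def chkRow (i LV j l : ℕ) (T : List ℕ) : List ℕ → Bool :=
  List.rec (motive := fun _ => List ℕ → Bool) (fun _ => true) (fun t _ ih fs =>
    List.rec (motive := fun _ => Bool) false (fun f fs' _ => lit (D.ft f) fun x =>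
      and2 (and2 (and2 (lt f i) (tb LV (D.fl x 2))) (and2 (Nat.beq (D.fl x 4) (Nat.succ l))
        (and2 (Nat.beq (D.fl x 0) j) (Nat.beq (D.fl x 1) t)))) (ih fs')) fs) T

/-- List elements of the stabiliser of the name `(j, 0)`; the test is that there are `s`. -/
noncomputable def chkSt (i j s : ℕ) (l : List (ℕ × ℕ)) : ℕ → ℕ → Bool :=
  List.rec (motive := fun _ => ℕ → ℕ → Bool) (fun _ c => Nat.beq c s) (fun a _ ih m c =>
    lit (D.ft a.1) fun x => lit (D.M.mul (D.fl x 3) a.2) fun y =>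
      and2 (and2 (and2 (lt a.1 i) (Nat.beq (D.fl x 4) 0))
        (and2 (Nat.beq (D.fl x 0) j) (Nat.beq (D.fl x 2) j)))
        (and2 (and2 (tb m a.2) (Bool.rec true false (tb m y)))
          (seqN (sb m y) fun m' => lit (Nat.succ c) (ih m')))) l

/-- A live double coset: number, order of the stabiliser, rows of facts, stabiliser program. -/
structure Live where
  j : ℕ
  s : ℕ
  rows : List (List ℕ)
  st : List (ℕ × ℕ)

/-- The test of a live double coset other than `0`. -/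
noncomputable def chkLive (i LV : ℕ) (T : List (List ℕ)) (a : Live) : Bool :=
  and2 (allF D.nl fun l => D.chkRow i LV a.j l (nth [] T l) (nth [] a.rows l))
    (D.chkSt i a.j a.s a.st 1 1)

/-- The bit set of the live double cosets. -/
noncomputable def liveSet (L : List Live) : ℕ :=
  List.rec (motive := fun _ => ℕ) 1 (fun a _ ih => sb ih a.j) L

/-- The number of cosets. -/
noncomputable def total (L : List Live) : ℕ :=
  List.rec (motive := fun _ => ℕ) 1 (fun a _ ih => Nat.add (Nat.div D.M.n a.s) ih) L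

variable {D}

theorem tb_liveSet {k : ℕ} : ∀ {L : List Live}, tb (liveSet L) k = true → k = 0 ∨ ∃ a ∈ L, a.j = k
  | [], h => by
    rw [tb_eq] at h
    exact Or.inl (Nat.testBit_one_eq_true_iff_self_eq_zero.1 h)
  | a :: L, h => by
    rcases (tb_sb _ _ _).1 h with h | h
    · exact (tb_liveSet h).imp_right fun ⟨b, hb, e⟩ => ⟨b, by simp [hb], e⟩
    · exact Or.inr ⟨a, by simp, h⟩

theorem chkRow_spec {i LV j l : ℕ} (hu : D.Upto H φ g i) : ∀ (T fs : List ℕ),
    D.chkRow i LV j l T fs = true → ∀ t ∈ T, ∃ k, ∃ q < D.M.n, tb LV k = true ∧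
      RC H (D.rep φ g j * φ t * g l) (D.rep φ g k * φ q)
  | [], _, _, _, ht => absurd ht (by simp)
  | _ :: _, [], h, _, _ => absurd h (by simp [chkRow])
  | t0 :: T, f :: fs, h, t, ht => by
    change and2 _ (D.chkRow i LV j l T fs) = true at h
    simp only [and2_true, nbeq, lt_true] at h
    obtain ⟨⟨⟨a1, a2⟩, a3, a4, a5⟩, a6⟩ := h
    rcases List.mem_cons.1 ht with rfl | ht
    · obtain ⟨-, f2, -, f4⟩ := hu f a1
      exact ⟨_, _, f2, a2, a4 ▸ a5 ▸ f4 l a3⟩
    · exact chkRow_spec hu T fs a6 t ht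

theorem chkSt_spec (h : D.Hyp H φ g) {i j s : ℕ} (hu : D.Upto H φ g i) :
    ∀ (l : List (ℕ × ℕ)) (m : ℕ) (S : Finset ℕ), (∀ c, tb m c = true ↔ c ∈ S) →
      (∀ c ∈ S, c < D.M.n ∧ RC H (D.rep φ g j * φ c) (D.rep φ g j)) →
      D.chkSt i j s l m S.card = true → ∃ S' : Finset ℕ, S'.card = s ∧
        ∀ c ∈ S', c < D.M.n ∧ RC H (D.rep φ g j * φ c) (D.rep φ g j)
  | [], _, S, _, h2, h3 => ⟨S, nbeq.1 h3, h2⟩
  | a :: l, m, S, h1, h2, h3 => by
    change and2 _ (and2 _ (seqN _ fun m' => D.chkSt i j s l m' (S.card + 1))) = true at h3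
    simp only [and2_true, nbeq, lt_true, seqN_eq] at h3
    obtain ⟨⟨⟨a1, a2⟩, a3, a4⟩, ⟨a5, a6⟩, a7⟩ := h3
    obtain ⟨-, f2, f3, -⟩ := hu _ a1
    have f4 := f3 a2
    rw [a3, a4] at f4
    obtain ⟨b1, b2⟩ := h2 _ ((h1 _).1 a5)
    have hy : D.M.mul (D.fl (D.ft a.1) 3) a.2 ∉ S := fun hy => by
      rw [(h1 _).2 hy] at a6; exact absurd a6 (by simp)
    refine chkSt_spec h hu l _ (insert (D.M.mul (D.fl (D.ft a.1) 3) a.2) S) (fun c => ?_)
      (fun c hc => ?_) (by rwa [Finset.card_insert_of_notMem hy])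
    · rw [tb_sb, h1, Finset.mem_insert, or_comm, eq_comm]
    · rcases Finset.mem_insert.1 hc with rfl | hc
      · refine ⟨h.snd.mul_lt _ f2 _ b1, ?_⟩
        rw [h.snd.map_mul _ f2 _ b1, ← mul_assoc]
        exact (f4.symm.mul _).trans b2
      · exact h2 c hc

theorem rc_iff {H : Subgroup G} {x y : G} : RC H x y ↔ ((x⁻¹ : G) : G ⧸ H) = (y⁻¹ : G) := by
  rw [QuotientGroup.eq, inv_inv, RC]

/-- The cosets in a double coset. -/
def dbl (H : Subgroup G) (r : G) : Set (G ⧸ H) := MulAction.orbit H ((r⁻¹ : G) : G ⧸ H)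

theorem mem_dbl {H : Subgroup G} {r x y : G} (hy : y ∈ H) (h : RC H x (r * y)) :
    ((x⁻¹ : G) : G ⧸ H) ∈ dbl H r :=
  ⟨⟨y⁻¹, H.inv_mem hy⟩, by rw [rc_iff.1 h, mul_inv_rev]; rfl⟩

theorem ncard_dbl {M : GM} (s : M.Sound φ) (hi : M.Inj φ) {r : G} {S : Finset ℕ}
    (hS : ∀ c ∈ S, c < M.n ∧ RC s.sub (r * φ c) r) (h0 : 0 < S.card) :
    (dbl s.sub r).ncard ≤ M.n / S.card := by
  have := s.bd.1
  have h1 : S.card ≤ Nat.card (MulAction.stabilizer s.sub ((r⁻¹ : G) : G ⧸ s.sub)) := by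
    rw [← Nat.card_eq_finsetCard]
    refine Nat.card_le_card_of_injective (fun c : S => (⟨⟨(φ c)⁻¹, s.sub.inv_mem
      (s.mem (hS c c.2).1)⟩, ?_⟩ : MulAction.stabilizer s.sub ((r⁻¹ : G) : G ⧸ s.sub))) ?_
    · have := rc_iff.1 (hS c c.2).2
      rw [mul_inv_rev] at this
      exact this
    · intro a b e
      have e' : (φ a)⁻¹ = (φ b)⁻¹ := congrArg (fun x => (x.1.1 : G)) e
      exact Subtype.ext (hi _ (hS a a.2).1 _ (hS b b.2).1 (inv_injective e'))
  have h2 := MulAction.index_stabilizer s.sub ((r⁻¹ : G) : G ⧸ s.sub)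
  have h3 := (MulAction.stabilizer s.sub ((r⁻¹ : G) : G ⧸ s.sub)).index_mul_card
  rw [s.card_of_inj hi, h2] at h3
  rw [Nat.le_div_iff_mul_le h0, dbl]
  exact (Nat.mul_le_mul_left _ h1).trans h3.le

theorem bd_of_set {K H : Subgroup G} {Y : Set (G ⧸ H)} (hY : Y.Finite)
    (h : ∀ x ∈ K, (x : G ⧸ H) ∈ Y) {m : ℕ} (hH : Bd H m) : Bd K (Y.ncard * m) := by
  have := hH.1
  have := hY.to_subtype
  let f : K → H × Y := fun x => QuotientGroup.preimageMkEquivSubgroupProdSet H Y ⟨x, h x x.2⟩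
  have hf : Function.Injective f := fun a b e => by
    have := Subtype.ext_iff.1 ((QuotientGroup.preimageMkEquivSubgroupProdSet H Y).injective e)
    exact Subtype.ext this
  refine ⟨Finite.of_injective f hf, (Nat.card_le_card_of_injective f hf).trans ?_⟩
  rw [Nat.card_prod, Nat.card_coe_set_eq, mul_comm]
  exact Nat.mul_le_mul_left _ hH.2

/-- The bound on the order of the group generated by the codes and the letters. -/
theorem Upto.bd {s : D.M.Sound φ} (h : D.Hyp s.sub φ g) (hi : D.M.Inj φ) {i : ℕ}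
    (hu : D.Upto s.sub φ g i) {T : List (List ℕ)} {ct : ℕ → ℕ → ℕ}
    (hT : allF D.nl (fun l => D.chkTr l (nth [] T l) (ct l)) = true) {L : List Live} {LV : ℕ}
    {r0 : List (List ℕ)} (hLV : Nat.beq (liveSet L) LV = true)
    (h0 : allF D.nl (fun l => and2 (lt (D.iv l) D.nl) (D.chkRow i LV 0 l [0] (nth [] r0 l))) = true)
    (hL : allL L (D.chkLive i LV T) = true) {N : ℕ} (hN : Nat.beq (D.total L) N = true) :
    Bd (s.sub ⊔ Subgroup.closure (g '' Set.Iio D.nl)) (N * D.M.n) := by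
  rw [nbeq] at hLV hN
  simp only [allF_true, allL_true, and2_true, lt_true, chkLive, chkTr, lit_eq, memL_true]
    at hT h0 hL
  let X : Set G := {x | ∃ k, ∃ q < D.M.n, tb LV k = true ∧ RC s.sub x (D.rep φ g k * φ q)}
  have x0 : tb LV 0 = true := by
    rw [← hLV]; clear hLV hL hN
    induction L with
    | nil => rfl
    | cons a L ih => exact (tb_sb _ _ _).2 (Or.inl ih)
  have x1 : (1 : G) ∈ X := ⟨0, 0, s.pos, x0, by rw [rep_zero, s.zero, mul_one]; exact RC.refl _ _⟩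
  have x2 : ∀ x ∈ X, ∀ y ∈ s.sub, x * y ∈ X := by
    rintro x ⟨k, q, a1, a2, a3⟩ _ ⟨c, hc, rfl⟩
    exact ⟨k, _, s.mul_lt _ a1 _ hc, a2, by
      rw [s.map_mul _ a1 _ hc, ← mul_assoc]; exact a3.mul _⟩
  have x3 : ∀ x ∈ X, ∀ l < D.nl, x * g l ∈ X := by
    rintro x ⟨k, q, a1, a2, a3⟩ l hl
    rcases tb_liveSet (hLV ▸ a2) with rfl | ⟨a, ha, rfl⟩
    · obtain ⟨k', q', b1, b2, b3⟩ := chkRow_spec hu _ _ (h0 l hl).2 0 (by simp)
      refine ⟨k', q', b1, b2, ((a3.trans ?_).mul _).trans b3⟩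
      rw [rep_zero, s.zero, one_mul, one_mul]
      simpa [RC] using s.mem a1
    · obtain ⟨⟨c1, c2⟩, c3⟩ := hT l hl q a1
      obtain ⟨k', q', b1, b2, b3⟩ := chkRow_spec hu _ _ ((hL a ha).1 l hl) _ c1
      have c4 := h.al l _ (s.mul_lt _ (s.inv_lt _ c2) _ a1) c3
      rw [s.map_mul _ (s.inv_lt _ c2) _ a1, s.map_inv _ c2] at c4
      refine ⟨k', _, s.mul_lt _ b1 _ c3, b2, (a3.mul _).trans ?_⟩
      rw [s.map_mul _ b1 _ c3]
      refine (b3.mul _).congr ?_ (mul_assoc _ _ _)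
      rw [mul_assoc, ← c4]; group
  have x4 : ∀ y ∈ s.sub ⊔ Subgroup.closure (g '' Set.Iio D.nl), ∀ x ∈ X, x * y ∈ X := by
    intro y hy
    rw [← Subgroup.closure_eq s.sub, ← Subgroup.closure_union] at hy
    induction hy using Subgroup.closure_induction_right with
    | one => simp
    | mul_right y _ z hz ih =>
      intro x hx
      rw [← mul_assoc]
      rcases hz with hz | ⟨l, hl, rfl⟩
      · exact x2 _ (ih x hx) _ hz
      · exact x3 _ (ih x hx) _ hl
    | mul_inv_cancel y _ z hz ih =>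
      intro x hx
      rw [← mul_assoc]
      rcases hz with hz | ⟨l, hl, rfl⟩
      · exact x2 _ (ih x hx) _ (s.sub.inv_mem hz)
      · rw [← h.iv]; exact x3 _ (ih x hx) _ (h0 l hl).1
  have := s.bd.1
  have key : ∀ L' : List Live, (∀ a ∈ L', a ∈ L) → ∃ Y : Set (G ⧸ s.sub), Y.Finite ∧
      Y.ncard ≤ D.total L' ∧ ((1 : G) : G ⧸ s.sub) ∈ Y ∧ ∀ a ∈ L', dbl s.sub (D.rep φ g a.j) ⊆ Y := by
    intro L'
    induction L' with
    | nil => exact fun _ => ⟨{((1 : G) : G ⧸ s.sub)}, Set.finite_singleton _,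
        by simp [total], rfl, by simp⟩
    | cons a L' ih =>
      intro hL'
      obtain ⟨Y, y1, y2, y3, y4⟩ := ih fun b hb => hL' b (by simp [hb])
      obtain ⟨S, s1, s2⟩ := chkSt_spec h hu a.st 1 {0}
        (fun c => by rw [tb_eq, Nat.testBit_one_eq_true_iff_self_eq_zero, Finset.mem_singleton])
        (fun c hc => by
          rw [Finset.mem_singleton.1 hc, s.zero, mul_one]; exact ⟨s.pos, RC.refl _ _⟩)
        (hL a (hL' a (by simp))).2
      have hs : 0 < S.card := by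
        have : ∀ (l : List (ℕ × ℕ)) (m c : ℕ), 0 < c → D.chkSt i a.j a.s l m c = true → 0 < a.s := by
          intro l
          induction l with
          | nil => exact fun m c hc h1 => nbeq.1 h1 ▸ hc
          | cons b l ih2 =>
            intro m c _ h1
            change and2 _ (and2 _ (seqN _ fun m' => D.chkSt i a.j a.s l m' (c + 1))) = true at h1
            simp only [and2_true, seqN_eq] at h1
            exact ih2 _ _ (Nat.succ_pos c) h1.2.2
        exact s1 ▸ this _ _ _ Nat.one_pos (hL a (hL' a (by simp))).2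
      refine ⟨dbl s.sub (D.rep φ g a.j) ∪ Y, (Set.finite_range _).union y1,
        (Set.ncard_union_le _ _).trans (Nat.add_le_add (s1 ▸ ncard_dbl s hi s2 hs) y2),
        Or.inr y3, fun b hb => ?_⟩
      rcases List.mem_cons.1 hb with rfl | hb
      · exact Set.subset_union_left
      · exact (y4 b hb).trans Set.subset_union_right
  obtain ⟨Y, y1, y2, y3, y4⟩ := key L fun _ h => h
  refine (bd_of_set y1 (fun x hx => ?_) s.bd).mono (Nat.mul_le_mul_right _ (hN ▸ y2))
  obtain ⟨k, q, a1, a2, a3⟩ := x4 _ (Subgroup.inv_mem _ hx) 1 x1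
  rw [one_mul] at a3
  rcases tb_liveSet (hLV ▸ a2) with rfl | ⟨a, ha, rfl⟩
  · rw [rep_zero, one_mul] at a3
    have : x ∈ s.sub := by
      have := s.sub.mul_mem a3 (s.mem a1)
      simpa using this
    rwa [← QuotientGroup.eq.2 (show (1 : G)⁻¹ * x ∈ s.sub by simpa using this)]
  · have := y4 a ha (mem_dbl (s.mem a1) a3)
    rwa [inv_inv] at this

end DC

end H7.Cay
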