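import Mathlib
import Cfsg.Agent.H19.DCE5
import Cfsg.Agent.H14.RuAm

/-!
# Coset tables with word certificates, diagonal subgroups, codes of the model of `2^{3+8}·L₃(2)`
-/

set_option autoImplicit false

namespace H7.RE
open H29 H19 H14.Ru

section Cover
variable {J : Type*} [Group J]

open Pointwise in
theorem cover {a : ℕ → J} {H : Subgroup J} {L : List ℕ} {T : List (List ℕ)} (h0 : [] ∈ T)
    (h : ∀ c ∈ L, ∀ t ∈ T, ∃ t' ∈ T, ∃ d ∈ H, a c * ev a t = ev a t' * d) :
    ∀ g ∈ gen a L, ∃ t ∈ T, (g : J ⧸ H) = (ev a t : J) := by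
  classical
  let X : Set (J ⧸ H) := (fun t => ((ev a t : J) : J ⧸ H)) '' {t | t ∈ T}
  have hX : X.Finite := (List.finite_toSet T).image _
  have h1 : gen a L ≤ MulAction.stabilizer J X := by
    refine gen_le.2 fun c hc => ?_
    rw [MulAction.mem_stabilizer_set_iff_smul_set_subset hX]
    rintro _ ⟨_, ⟨t, ht, rfl⟩, rfl⟩
    obtain ⟨t', ht', d, hd, e⟩ := h c hc t ht
    refine ⟨t', ht', ?_⟩
    change _ = ((a c * ev a t : J) : J ⧸ H)
    rw [e, QuotientGroup.eq]
    simpa using hd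
  intro g hg
  have h2 : g • ((1 : J) : J ⧸ H) ∈ X := by
    have := (MulAction.mem_stabilizer_iff.1 (h1 hg)).symm
    rw [this]
    exact Set.smul_mem_smul_set ⟨[], h0, rfl⟩
  obtain ⟨t, ht, e⟩ := h2
  exact ⟨t, ht, by simpa using e.symm⟩

/-- A coset table: generators, representatives and rows `(c :: t, t', d)`. -/
abbrev Step : Type := List ℕ × List (List ℕ) × List (List ℕ × List ℕ × List ℕ)

/-- The shape test of a coset table over the letters `L0`. -/
noncomputable def chkStep (s : Step) (L0 : List ℕ) : Bool :=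
  and2 (and2 (memLL [] s.2.1) (allL s.2.2 fun e => and2 (memLL e.2.1 s.2.1) (allL e.2.2 fun c => memL c L0)))
    (eqLL (s.2.2.map Prod.fst) (s.1.flatMap fun c => s.2.1.map fun t => c :: t))

/-- The rows hold. -/
def Holds (a : ℕ → J) (s : Step) : Prop := ∀ e ∈ s.2.2, ev a e.1 = ev a (e.2.1 ++ e.2.2)

theorem cover_step {a : ℕ → J} {s : Step} {L0 : List ℕ} (hc : chkStep s L0 = true) (h : Holds a s) :
    ∀ g ∈ gen a s.1, ∃ t ∈ s.2.1, (g : J ⧸ gen a L0) = (ev a t : J) := by
  simp only [chkStep, and2_true, allL_true, memL_true] at hc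
  refine cover (memLL_true hc.1.1) fun c hc' t ht => ?_
  have : c :: t ∈ s.2.2.map Prod.fst := by
    rw [eqLL_true hc.2]
    exact List.mem_flatMap.2 ⟨c, hc', List.mem_map.2 ⟨t, ht, rfl⟩⟩
  obtain ⟨e, he, e1⟩ := List.mem_map.1 this
  refine ⟨e.2.1, memLL_true (hc.1.2 e he).1, ev a e.2.2, ev_mem_gen (hc.1.2 e he).2, ?_⟩
  rw [← ev_cons, ← e1, h e he, ev_append]

theorem bd_step {a : ℕ → J} {s : Step} {L0 : List ℕ} (hc : chkStep s L0 = true) (h : Holds a s)
    {m : ℕ} (hb : Bd (gen a L0) m) : Bd (gen a s.1) (s.2.1.length * m) := by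
  refine bd_of_cover (fun j => ((ev a (s.2.1.getD j []) : J) : J ⧸ gen a L0)) (fun g hg => ?_) hb
  obtain ⟨t, ht, e⟩ := cover_step hc h g hg
  obtain ⟨j, hj, rfl⟩ := List.getElem_of_mem ht
  exact ⟨j, hj, by rw [e, List.getD_eq_getElem _ _ hj]⟩

/-- The letters of the top table. -/
noncomputable def topL (S : List Step) : List ℕ :=
  List.rec (motive := fun _ => List ℕ) [] (fun s _ _ => s.1) S

/-- The shape test of a tower of tables. -/
noncomputable def chkTower (S : List Step) : Bool :=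
  List.rec (motive := fun _ => Bool) true (fun s S' ih => and2 (chkStep s (topL S')) ih) S

theorem bd_tower {a : ℕ → J} : ∀ {S : List Step}, chkTower S = true → (∀ s ∈ S, Holds a s) →
    Bd (gen a (topL S)) (S.map fun s => s.2.1.length).prod
  | [], _, _ => bd_nil a
  | s :: S, hc, h => by
    change and2 (chkStep s (topL S)) (chkTower S) = true at hc
    rw [and2_true] at hc
    exact bd_step hc.1 (h s (by simp)) (bd_tower hc.2 fun s' hs => h s' (by simp [hs]))

theorem Holds.prod {J' : Type*} [Group J'] {a : ℕ → J} {a' : ℕ → J'} {s : Step} (h : Holds a s)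
    (h' : Holds a' s) : Holds (fun c => (a c, a' c)) s := fun e he => Prod.ext
  ((map_ev (MonoidHom.fst J J') _ _).trans ((h e he).trans
    (map_ev (MonoidHom.fst J J') (fun c => (a c, a' c)) _).symm))
  ((map_ev (MonoidHom.snd J J') _ _).trans ((h' e he).trans
    (map_ev (MonoidHom.snd J J') (fun c => (a c, a' c)) _).symm))

/-- Test of the rows on codes. -/
noncomputable def chkRowsC (mul : ℕ → ℕ → ℕ) (one : ℕ) (lc : ℕ → ℕ) (s : Step) : Bool :=
  allL s.2.2 fun e => Nat.beq (evC mul one lc e.1) (evA mul lc e.2.2 (evC mul one lc e.2.1))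

theorem holds_of_codes (C : Codes J) {σ : ℕ → J} {lc : ℕ → ℕ} (hl : ∀ c, C.Rep (σ c) (lc c))
    {s : Step} (h : chkRowsC C.mul C.one lc s = true) : Holds σ s := fun e he => by
  rw [ev_append]
  exact C.eq (C.rep_evC hl _) (H29.beq_true.1 (allL_true.1 h e he) ▸ C.rep_evA hl _ (C.rep_evC hl _))

/-- Test of the rows on one plane. -/
noncomputable def chkRowsP (K k : ℕ) (nets : ℕ → Net) (s : Step) (j : ℕ) : Bool :=
  seqN (idK K k j) fun x => allL s.2.2 fun e => Bool.rec
    (Nat.beq (pullW nets e.1 x) (pullW nets e.2.2 (pullW nets e.2.1 x))) true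
    (eqL e.1 (e.2.1 ++ e.2.2))

theorem holds_of_planes {K k : ℕ} {nets : ℕ → Net} (hn : NetsOK K nets) (hK : K ≤ 2 ^ k) {s : Step}
    (h : ∀ j < k, chkRowsP K k nets s j = true) : Holds (sg nets) s := fun e he => by
  cases h1 : eqL e.1 (e.2.1 ++ e.2.2) with
  | true => rw [eqL_true h1]
  | false =>
    refine ev_eq_of_planeEq hn hK fun j hj => chkEq_sound hn hK ?_
    have := h j hj
    rw [chkRowsP, seqN_eq, allL_true] at this
    have := this e he
    rw [h1] at this
    refine H29.beq_true.2 ((H29.beq_true.1 this).trans (Nat.eq_of_testBit_eq fun i => ?_))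
    simp only [testBit_pullW hn, ev_append, Equiv.Perm.mul_apply]

/-- Test of equations on one plane. -/
noncomputable def chkEqsP (K k : ℕ) (nets : ℕ → Net) (E : List (List ℕ × List ℕ)) (j : ℕ) : Bool :=
  allL E fun p => chkEq K k nets p.1 p.2 j

theorem eqs_of_planes {K k : ℕ} {nets : ℕ → Net} (hn : NetsOK K nets) (hK : K ≤ 2 ^ k)
    {E : List (List ℕ × List ℕ)} (h : ∀ j < k, chkEqsP K k nets E j = true) :
    ∀ p ∈ E, ev (sg nets) p.1 = ev (sg nets) p.2 := fun p hp =>
  ev_eq_of_planeEq hn hK fun j hj => chkEq_sound hn hK (allL_true.1 (h j hj) p hp)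

theorem ne_of_pull {K : ℕ} {nets : ℕ → Net} (hn : NetsOK K nets) {u v : List ℕ} {x : ℕ}
    (h : Nat.beq (pullW nets u x) (pullW nets v x) = false) : ev (sg nets) u ≠ ev (sg nets) v := by
  intro e
  rw [H29.beq_true.2 (Nat.eq_of_testBit_eq fun i => by rw [testBit_pullW hn, testBit_pullW hn, e])] at h
  exact absurd h (by simp)

/-- The concatenation of some words of a list. -/
noncomputable def catW (gw : List (List ℕ)) (sw : List ℕ) : List ℕ :=
  List.rec (motive := fun _ => List ℕ) [] (fun i _ ih => nth [] gw i ++ ih) sw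

theorem nth_mem_genW (σ : ℕ → J) (gw : List (List ℕ)) (i : ℕ) : ev σ (nth [] gw i) ∈ genW σ gw :=
  nth_forall (p := fun w => ev σ w ∈ genW σ gw) (one_mem _)
    (fun w hw => Subgroup.subset_closure ⟨w, hw, rfl⟩) i

theorem catW_mem (σ : ℕ → J) (gw : List (List ℕ)) : ∀ sw : List ℕ, ev σ (catW gw sw) ∈ genW σ gw
  | [] => one_mem _
  | i :: sw => by
    rw [show catW gw (i :: sw) = nth [] gw i ++ catW gw sw from rfl, ev_append]
    exact mul_mem (nth_mem_genW σ gw i) (catW_mem σ gw sw)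

/-- Every representative lies in one of the listed double cosets. -/
noncomputable def chkCov (mul : ℕ → ℕ → ℕ) (one : ℕ) (lc : ℕ → ℕ) (dl : List ℕ) (T : List (List ℕ))
    (rows : List (List ℕ × List ℕ × List ℕ)) (a : DLive) : Bool :=
  all2 (fun r t => and2 (and2 (memLL r.2.1 a.pw) (allL r.2.2 fun c => memL c dl))
    (Nat.beq (evC mul one lc t)
      (evA mul lc r.2.2 (evA mul lc r.2.1 (evC mul one lc (catW a.gw r.1)))))) rows T

theorem cov_of_chk (C : Codes J) {σ : ℕ → J} {lc : ℕ → ℕ} (hl : ∀ c, C.Rep (σ c) (lc c))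
    {dl : List ℕ} {T : List (List ℕ)} (hT : ∀ g : J, ∃ t ∈ T, (g : J ⧸ gen σ dl) = (ev σ t : J))
    {rows : List (List ℕ × List ℕ × List ℕ)} {a : DLive}
    (h : chkCov C.mul C.one lc dl T rows a = true) (x : J) :
    ∃ s ∈ genW σ a.gw, ∃ w ∈ a.pw, ∃ d ∈ gen σ dl, x = s * ev σ w * d := by
  obtain ⟨t, ht, e⟩ := hT x
  obtain ⟨r, hr⟩ := all2_spec h t ht
  simp only [and2_true, allL_true, memL_true, H29.beq_true] at hr
  have e0 := C.rep_evA hl r.2.2 (C.rep_evA hl r.2.1 (C.rep_evC hl (catW a.gw r.1)))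
  rw [← hr.2] at e0
  have e1 := C.eq (C.rep_evC hl t) e0
  refine ⟨_, catW_mem σ a.gw r.1, r.2.1, memLL_true hr.1.1, ev σ r.2.2 * ((ev σ t)⁻¹ * x),
    mul_mem (ev_mem_gen hr.1.2) (QuotientGroup.eq.1 e.symm), ?_⟩
  rw [← mul_assoc, ← e1, mul_inv_cancel_left]

theorem le_card_grow [Finite J] (C : Codes J) {σ : ℕ → J} {lc : ℕ → ℕ} (hl : ∀ c, C.Rep (σ c) (lc c))
    {gw : List (List ℕ)} {L : List ℕ} {st : List (ℕ × ℕ)}
    (h : grow C.mul (fun k => evC C.mul C.one lc (nth [] gw k)) L (fun _ => true) st [C.one] = true) :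
    st.length + 1 ≤ Nat.card (genW σ gw) := by
  obtain ⟨O, h1, h2, -, h3, -⟩ := grow_spec (p := fun x => ∃ g ∈ genW σ gw, C.Rep g x)
    (fun x ⟨g, g1, g2⟩ c _ => ⟨_, mul_mem g1 (nth_mem_genW σ gw c), C.rep_mul g2 (C.rep_evC hl _)⟩)
    st _ (List.nodup_singleton _)
    (fun x hx => by rw [List.mem_singleton.1 hx]; exact ⟨1, one_mem _, C.rep_one⟩) h
  choose f f1 f2 using h2
  have := Nat.card_le_card_of_injective (fun x : {x // x ∈ O} => (⟨f x.1 x.2, f1 _ _⟩ : genW σ gw))
    fun x y e => Subtype.ext (C.code_eq (f2 x.1 x.2) (by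
      have e' : f x.1 x.2 = f y.1 y.2 := congrArg Subtype.val e
      rw [e']; exact f2 y.1 y.2))
  rw [Nat.card_congr (Equiv.subtypeEquivRight (q := fun x => x ∈ O.toFinset) fun x => by simp),
    Nat.card_eq_fintype_card, Fintype.card_coe, List.toFinset_card_of_nodup h1, h3] at this
  simpa [add_comm] using this

theorem diag {A B : Type*} [Group A] [Group B] [Finite A] (D : Subgroup (A × B)) [Finite D]
    (hs : ∀ a, ∃ b, (a, b) ∈ D) (hc : Nat.card D ≤ Nat.card A) :
    ∃ φ : A →* B, ∀ a b, (a, b) ∈ D ↔ b = φ a := by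
  let f : D →* A := (MonoidHom.fst A B).comp D.subtype
  have h1 : Function.Surjective f := fun a => let ⟨b, hb⟩ := hs a; ⟨⟨_, hb⟩, rfl⟩
  let e := MulEquiv.ofBijective f (h1.bijective_of_nat_card_le hc)
  refine ⟨((MonoidHom.snd A B).comp D.subtype).comp e.symm.toMonoidHom, fun a b => ⟨fun h => ?_, ?_⟩⟩
  · change b = ((e.symm (e ⟨_, h⟩) : D) : A × B).2
    rw [e.symm_apply_apply]
  · rintro rfl
    have : ((e.symm a : D) : A × B).1 = a := e.apply_symm_apply a
    change (a, ((e.symm a : D) : A × B).2) ∈ D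
    have h2 := (e.symm a).2
    rwa [← Prod.mk.eta (p := ((e.symm a : D) : A × B)), this] at h2

end Cover

section Model
variable {G : Type*} [Group G] {ψ : ℕ → G}

/-- The image of the model. -/
def KK (h : Mi false ψ) : Subgroup G where
  carrier := {g | ∃ c < NM, g = ψ c}
  one_mem' := ⟨0, by norm_num, h.zero.symm⟩
  mul_mem' := by
    rintro _ _ ⟨a, ha, rfl⟩ ⟨b, hb, rfl⟩
    exact ⟨_, mu_lt false ha hb, (h.mul _ ha _ hb).symm⟩
  inv_mem' := by
    rintro _ ⟨a, ha, rfl⟩
    exact ⟨_, Mo.iv_lt ha, (h.iv ha).symm⟩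

theorem bij (h : Mi false ψ) :
    Function.Bijective fun c : Fin NM => (⟨ψ c, c, c.2, rfl⟩ : KK h) :=
  ⟨fun a b e => Fin.ext (h.inj _ a.2 _ b.2 (congrArg Subtype.val e)),
    fun ⟨_, c, hc, e⟩ => ⟨⟨c, hc⟩, Subtype.ext e.symm⟩⟩

instance (h : Mi false ψ) : Finite (KK h) := Finite.of_surjective _ (bij h).2

theorem card_KK (h : Mi false ψ) : Nat.card (KK h) = NM := by
  rw [← Nat.card_eq_of_bijective _ (bij h), Nat.card_eq_fintype_card, Fintype.card_fin]

/-- The codes. -/
noncomputable def CC (h : Mi false ψ) : Codes (KK h) where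
  mul := mu false
  one := 0
  Rep g c := c < NM ∧ (g : G) = ψ c
  rep_mul h1 h2 := ⟨mu_lt false h1.1 h2.1, by rw [h.mul _ h1.1 _ h2.1, ← h1.2, ← h2.2]; rfl⟩
  rep_one := ⟨by norm_num, h.zero.symm⟩
  eq h1 h2 := Subtype.ext (h1.2.trans h2.2.symm)
  code_eq h1 h2 := h.inj _ h1.1 _ h2.1 (h1.2.symm.trans h2.2)
  chk c := Nat.ble (Nat.succ c) 344064
  cancel {g g' a c} h1 h2 h3 := ⟨H29.ble_true.1 h1, by
    rw [Subgroup.coe_mul, Subgroup.coe_inv, h3.2, h.mul _ (H29.ble_true.1 h1) _ h2.1, h2.2,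
      mul_inv_cancel_right]⟩

theorem nth_lt {l : List ℕ} (hl : (allL l fun c => Nat.ble (Nat.succ c) 344064) = true) (c : ℕ) :
    nth 0 l c < NM :=
  nth_forall (p := fun x => x < NM) (by norm_num) (fun x hx => H29.ble_true.1 (allL_true.1 hl x hx)) c

/-- Letters given by a list of codes. -/
noncomputable def lets (h : Mi false ψ) {l : List ℕ}
    (hl : (allL l fun c => Nat.ble (Nat.succ c) 344064) = true) (c : ℕ) : KK h :=
  ⟨ψ (nth 0 l c), _, nth_lt hl c, rfl⟩

theorem rep_lets (h : Mi false ψ) {l : List ℕ}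
    (hl : (allL l fun c => Nat.ble (Nat.succ c) 344064) = true) (c : ℕ) :
    (CC h).Rep (lets h hl c) (nth 0 l c) := ⟨nth_lt hl c, rfl⟩

/-- The codes of the polycyclic generators and of `f`, `σ`, `w`. -/
def cA : List ℕ := [1, 2, 4, 8, 16, 32, 64, 128, 256, 512, 1024, 2048, 14336, 43008]

theorem hA : (allL cA fun c => Nat.ble (Nat.succ c) 344064) = true := by decide +kernel

theorem chk_Q : (H7.Cay.allF 2047 fun q => lit (Nat.log2 (Nat.succ q)) fun i =>
    and2 (and2 (Nat.ble i 10) (Nat.ble (nth 0 cA i) (Nat.succ q)))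
      (Nat.beq (mu false (Nat.sub (Nat.succ q) (nth 0 cA i)) (nth 0 cA i)) (Nat.succ q))) = true := by
  decide +kernel

theorem chk_R : (H7.Cay.allF 167 fun k =>
    Nat.beq (hi (mu false (Nat.mul 2048 (Bool.rec (Bool.rec (Nat.sub k 20) (Nat.sub k 6) (Nat.ble k 19)) k
      (Nat.ble k 5))) (nth 0 cA (Bool.rec (Bool.rec (Bool.rec 11 13 (Nat.ble k 40)) 12 (Nat.ble k 19)) 11
      (Nat.ble k 5))))) (Nat.succ k)) = true := by
  decide +kernel

theorem gen_A (h : Mi false ψ) : gen (lets h hA) (List.range 14) = ⊤ := by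
  let H := (gen (lets h hA) (List.range 14)).map (KK h).subtype
  have h0 : ∀ i < 14, ψ (nth 0 cA i) ∈ H := fun i hi =>
    ⟨lets h hA i, mem_gen (List.mem_range.2 hi), rfl⟩
  have h1 : ∀ q < 2048, ψ q ∈ H := by
    intro q
    induction q using Nat.strong_induction_on with
    | _ q ih =>
      intro hq
      cases q with
      | zero => rw [h.zero]; exact one_mem _
      | succ q =>
        have := H7.Cay.allF_true.1 chk_Q q (by omega)
        simp only [lit_eq, and2_true, H29.ble_true, H29.beq_true] at this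
        obtain ⟨⟨a1, a2⟩, a3⟩ := this
        generalize Nat.log2 _ = i at a1 a2 a3
        have a4 : 0 < nth 0 cA i := by interval_cases i <;> decide
        change mu false (q + 1 - _) _ = q + 1 at a3
        rw [← a3, h.mul _ (by omega) _ (nth_lt hA i)]
        exact mul_mem (ih _ (by omega) (by omega)) (h0 i (by omega))
  have h2 : ∀ k < 168, ψ (2048 * k) ∈ H := by
    intro k
    induction k using Nat.strong_induction_on with
    | _ k ih =>
      intro hk
      cases k with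
      | zero => rw [mul_zero, h.zero]; exact one_mem _
      | succ k =>
        have := H29.beq_true.1 (H7.Cay.allF_true.1 chk_R k (by omega))
        obtain ⟨k', i, a1, a2, a3⟩ : ∃ k' i, k' ≤ k ∧ i < 14 ∧
            hi (mu false (2048 * k') (nth 0 cA i)) = k + 1 :=
          ⟨_, _, by cases Nat.ble k 5 <;> cases Nat.ble k 19 <;> simp,
            by cases Nat.ble k 5 <;> cases Nat.ble k 19 <;> cases Nat.ble k 40 <;> simp, this⟩
        have a4 := mul_mem (ih k' (by omega) (by omega)) (h0 i a2)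
        rw [← h.mul _ (by omega) _ (nth_lt hA i), h.split (mu_lt false (by omega) (nth_lt hA i)),
          a3] at a4
        exact (mul_mem_cancel_left (h1 _ (lo_lt _))).1 a4
  rw [eq_top_iff]
  rintro ⟨_, c, hc, rfl⟩ -
  have := mul_mem (h1 _ (lo_lt c)) (h2 _ (hi_lt hc))
  rw [← h.split hc] at this
  obtain ⟨y, hy, e⟩ := this
  rwa [← show y = ⟨ψ c, c, hc, rfl⟩ from Subtype.ext e]

end Model

end H7.RE
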