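import Mathlib
import Cfsg.Agent.H7.REa

/-! Data of the double coset enumeration of the Rudvalis amalgam. -/

set_option autoImplicit false
set_option maxRecDepth 100000
set_option Elab.async false
set_option linter.all false

namespace H7.RE
open H29 H19 H14.Ru

def LT : List ℕ := [88, 95, 333458, 331864, 32, 33, 256, 257, 14336, 28672, 43008, 43009, 2048, 12288, 44121, 98304]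
def ivl : List ℕ := [1, 0, 3, 2, 5, 4, 7, 6, 9, 8, 10, 11, 13, 12, 14, 15]
def dl : List ℕ := [0, 1, 2, 3, 4, 5, 6, 7, 8, 9, 10, 11]
def AL : List ℕ := [2, 3, 0, 1, 6, 7, 4, 5, 8, 9, 11, 10]
def L6 : List ℕ := [0, 2, 4, 8, 10, 12]
noncomputable def FT (i : ℕ) : DFact :=
 (Bool.rec (Bool.rec (Bool.rec (Bool.rec (Bool.rec (Bool.rec (Bool.rec ⟨true, 0, 0, 1, 0⟩ (Bool.rec ⟨false, 1, 0, 1, 88⟩ ⟨false, 1, 0, 1, 95⟩ (Nat.ble 2 i)) (Nat.ble 1 i))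
 (Bool.rec ⟨false, 1, 0, 1, 333458⟩ (Bool.rec ⟨false, 1, 0, 1, 331864⟩ ⟨false, 1, 0, 1, 32⟩ (Nat.ble 5 i)) (Nat.ble 4 i)) (Nat.ble 3 i))
 (Bool.rec (Bool.rec ⟨false, 1, 0, 1, 33⟩ (Bool.rec ⟨false, 1, 0, 1, 256⟩ ⟨false, 1, 0, 1, 257⟩ (Nat.ble 8 i)) (Nat.ble 7 i))
 (Bool.rec (Bool.rec ⟨false, 1, 0, 1, 14336⟩ ⟨false, 1, 0, 1, 28672⟩ (Nat.ble 10 i))
 (Bool.rec ⟨false, 1, 0, 1, 43008⟩ ⟨false, 1, 0, 1, 43009⟩ (Nat.ble 12 i)) (Nat.ble 11 i)) (Nat.ble 9 i)) (Nat.ble 6 i))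
 (Bool.rec (Bool.rec (Bool.rec ⟨false, 0, 0, 0, 88⟩ (Bool.rec ⟨false, 0, 0, 0, 333458⟩ ⟨false, 0, 0, 0, 32⟩ (Nat.ble 15 i)) (Nat.ble 14 i))
 (Bool.rec (Bool.rec ⟨false, 0, 0, 0, 14336⟩ ⟨false, 0, 0, 0, 43008⟩ (Nat.ble 17 i))
 (Bool.rec ⟨false, 0, 0, 0, 2048⟩ ⟨true, 1, 0, 0, 0⟩ (Nat.ble 19 i)) (Nat.ble 18 i)) (Nat.ble 16 i))
 (Bool.rec (Bool.rec ⟨true, 1, 72404, 1, 44121⟩ (Bool.rec ⟨true, 1, 2048, 2, 0⟩ ⟨false, 2, 0, 2, 1⟩ (Nat.ble 22 i)) (Nat.ble 21 i))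
 (Bool.rec (Bool.rec ⟨false, 2, 0, 2, 113142⟩ ⟨false, 2, 0, 2, 71680⟩ (Nat.ble 24 i))
 (Bool.rec ⟨false, 2, 0, 2, 1180⟩ ⟨false, 2, 0, 2, 113817⟩ (Nat.ble 26 i)) (Nat.ble 25 i)) (Nat.ble 23 i)) (Nat.ble 20 i)) (Nat.ble 13 i))
 (Bool.rec (Bool.rec (Bool.rec (Bool.rec ⟨false, 2, 0, 2, 5⟩ (Bool.rec ⟨true, 2, 0, 1, 2048⟩ ⟨true, 2, 72404, 2, 29654⟩ (Nat.ble 29 i)) (Nat.ble 28 i))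
 (Bool.rec ⟨false, 2, 0, 2, 599⟩ (Bool.rec ⟨false, 2, 0, 2, 333636⟩ ⟨true, 2, 59022, 2, 189125⟩ (Nat.ble 32 i)) (Nat.ble 31 i)) (Nat.ble 30 i))
 (Bool.rec (Bool.rec ⟨true, 2, 36864, 3, 0⟩ (Bool.rec ⟨false, 3, 0, 3, 1180⟩ ⟨false, 3, 0, 3, 1⟩ (Nat.ble 35 i)) (Nat.ble 34 i))
 (Bool.rec (Bool.rec ⟨false, 3, 0, 3, 499⟩ ⟨false, 3, 0, 3, 181609⟩ (Nat.ble 37 i))
 (Bool.rec ⟨false, 3, 0, 3, 113817⟩ ⟨false, 3, 0, 3, 180225⟩ (Nat.ble 39 i)) (Nat.ble 38 i)) (Nat.ble 36 i)) (Nat.ble 33 i))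
 (Bool.rec (Bool.rec (Bool.rec ⟨true, 3, 0, 2, 36864⟩ (Bool.rec ⟨true, 3, 59022, 3, 296874⟩ ⟨true, 3, 322177, 3, 148097⟩ (Nat.ble 42 i)) (Nat.ble 41 i))
 (Bool.rec (Bool.rec ⟨true, 3, 245184, 3, 148097⟩ ⟨true, 3, 148097, 3, 245184⟩ (Nat.ble 44 i))
 (Bool.rec ⟨false, 3, 0, 3, 276603⟩ ⟨false, 2, 0, 2, 114669⟩ (Nat.ble 46 i)) (Nat.ble 45 i)) (Nat.ble 43 i))
 (Bool.rec (Bool.rec ⟨true, 3, 112305, 2, 41418⟩ (Bool.rec ⟨true, 2, 41418, 3, 112305⟩ ⟨false, 3, 0, 3, 292870⟩ (Nat.ble 49 i)) (Nat.ble 48 i))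
 (Bool.rec (Bool.rec ⟨true, 2, 288856, 4, 0⟩ ⟨false, 4, 0, 4, 1741⟩ (Nat.ble 51 i))
 (Bool.rec ⟨false, 4, 0, 4, 1⟩ ⟨false, 4, 0, 4, 276948⟩ (Nat.ble 53 i)) (Nat.ble 52 i)) (Nat.ble 50 i)) (Nat.ble 47 i)) (Nat.ble 40 i)) (Nat.ble 27 i))
 (Bool.rec (Bool.rec (Bool.rec (Bool.rec (Bool.rec ⟨false, 4, 0, 4, 333744⟩ (Bool.rec ⟨false, 4, 0, 4, 181303⟩ ⟨false, 4, 0, 4, 228231⟩ (Nat.ble 56 i)) (Nat.ble 55 i))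
 (Bool.rec ⟨true, 4, 0, 2, 288856⟩ (Bool.rec ⟨true, 3, 72404, 4, 93834⟩ ⟨false, 4, 0, 4, 814⟩ (Nat.ble 59 i)) (Nat.ble 58 i)) (Nat.ble 57 i))
 (Bool.rec (Bool.rec ⟨true, 4, 93834, 3, 72404⟩ (Bool.rec ⟨true, 4, 72404, 4, 241226⟩ ⟨true, 2, 2048, 5, 0⟩ (Nat.ble 62 i)) (Nat.ble 61 i))
 (Bool.rec (Bool.rec ⟨false, 5, 0, 5, 1180⟩ ⟨false, 5, 0, 5, 594⟩ (Nat.ble 64 i))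
 (Bool.rec ⟨false, 5, 0, 5, 182078⟩ ⟨false, 5, 0, 5, 71969⟩ (Nat.ble 66 i)) (Nat.ble 65 i)) (Nat.ble 63 i)) (Nat.ble 60 i))
 (Bool.rec (Bool.rec (Bool.rec ⟨false, 5, 0, 5, 333493⟩ (Bool.rec ⟨true, 5, 0, 2, 2048⟩ ⟨true, 5, 72404, 5, 261996⟩ (Nat.ble 69 i)) (Nat.ble 68 i))
 (Bool.rec (Bool.rec ⟨true, 5, 59022, 5, 296875⟩ ⟨true, 3, 2048, 6, 0⟩ (Nat.ble 71 i))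
 (Bool.rec ⟨false, 6, 0, 6, 1740⟩ ⟨false, 6, 0, 6, 1180⟩ (Nat.ble 73 i)) (Nat.ble 72 i)) (Nat.ble 70 i))
 (Bool.rec (Bool.rec ⟨false, 6, 0, 6, 112848⟩ (Bool.rec ⟨false, 6, 0, 6, 43602⟩ ⟨true, 6, 0, 3, 2048⟩ (Nat.ble 76 i)) (Nat.ble 75 i))
 (Bool.rec (Bool.rec ⟨true, 6, 72404, 6, 260516⟩ ⟨true, 4, 2048, 7, 0⟩ (Nat.ble 78 i))
 (Bool.rec ⟨true, 7, 0, 4, 2048⟩ ⟨true, 4, 296965, 7, 148051⟩ (Nat.ble 80 i)) (Nat.ble 79 i)) (Nat.ble 77 i)) (Nat.ble 74 i)) (Nat.ble 67 i))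
 (Bool.rec (Bool.rec (Bool.rec (Bool.rec ⟨false, 7, 0, 7, 169466⟩ (Bool.rec ⟨true, 7, 59022, 7, 59307⟩ ⟨true, 7, 112530, 4, 272606⟩ (Nat.ble 83 i)) (Nat.ble 82 i))
 (Bool.rec ⟨false, 4, 0, 7, 81590⟩ (Bool.rec ⟨false, 7, 0, 4, 201465⟩ ⟨true, 4, 2080, 8, 0⟩ (Nat.ble 86 i)) (Nat.ble 85 i)) (Nat.ble 84 i))
 (Bool.rec (Bool.rec ⟨false, 8, 0, 8, 180726⟩ (Bool.rec ⟨false, 8, 0, 8, 1180⟩ ⟨false, 8, 0, 8, 72856⟩ (Nat.ble 89 i)) (Nat.ble 88 i))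
 (Bool.rec (Bool.rec ⟨false, 8, 0, 8, 277038⟩ ⟨false, 8, 0, 8, 113570⟩ (Nat.ble 91 i))
 (Bool.rec ⟨true, 8, 0, 4, 2080⟩ ⟨true, 4, 75254, 8, 261827⟩ (Nat.ble 93 i)) (Nat.ble 92 i)) (Nat.ble 90 i)) (Nat.ble 87 i))
 (Bool.rec (Bool.rec (Bool.rec ⟨false, 8, 0, 8, 141026⟩ (Bool.rec ⟨true, 8, 59022, 8, 228144⟩ ⟨true, 4, 18432, 9, 0⟩ (Nat.ble 96 i)) (Nat.ble 95 i))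
 (Bool.rec (Bool.rec ⟨false, 9, 0, 9, 1180⟩ ⟨false, 9, 0, 9, 73148⟩ (Nat.ble 98 i))
 (Bool.rec ⟨false, 9, 0, 9, 113284⟩ ⟨true, 9, 0, 4, 18432⟩ (Nat.ble 100 i)) (Nat.ble 99 i)) (Nat.ble 97 i))
 (Bool.rec (Bool.rec ⟨true, 9, 72404, 9, 206389⟩ (Bool.rec ⟨true, 9, 59022, 9, 295729⟩ ⟨true, 5, 36864, 10, 0⟩ (Nat.ble 103 i)) (Nat.ble 102 i))
 (Bool.rec (Bool.rec ⟨false, 10, 0, 10, 181609⟩ ⟨false, 10, 0, 10, 149626⟩ (Nat.ble 105 i))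
 (Bool.rec ⟨false, 10, 0, 10, 113138⟩ ⟨true, 10, 0, 5, 36864⟩ (Nat.ble 107 i)) (Nat.ble 106 i)) (Nat.ble 104 i)) (Nat.ble 101 i)) (Nat.ble 94 i)) (Nat.ble 81 i)) (Nat.ble 54 i))
 (Bool.rec (Bool.rec (Bool.rec (Bool.rec (Bool.rec (Bool.rec ⟨true, 10, 59022, 10, 296875⟩ (Bool.rec ⟨true, 10, 322177, 10, 149016⟩ ⟨true, 10, 322182, 10, 175557⟩ (Nat.ble 110 i)) (Nat.ble 109 i))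
 (Bool.rec ⟨false, 10, 0, 10, 65929⟩ (Bool.rec ⟨true, 5, 288856, 11, 0⟩ ⟨true, 11, 0, 5, 288856⟩ (Nat.ble 113 i)) (Nat.ble 112 i)) (Nat.ble 111 i))
 (Bool.rec (Bool.rec ⟨true, 9, 245394, 11, 177944⟩ (Bool.rec ⟨true, 11, 177944, 9, 245394⟩ ⟨true, 10, 72404, 11, 536⟩ (Nat.ble 116 i)) (Nat.ble 115 i))
 (Bool.rec (Bool.rec ⟨true, 11, 536, 10, 72404⟩ ⟨true, 11, 72404, 11, 206642⟩ (Nat.ble 118 i))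
 (Bool.rec ⟨true, 11, 298141, 11, 308709⟩ ⟨true, 4, 76965, 11, 61343⟩ (Nat.ble 120 i)) (Nat.ble 119 i)) (Nat.ble 117 i)) (Nat.ble 114 i))
 (Bool.rec (Bool.rec (Bool.rec ⟨false, 11, 0, 9, 137646⟩ (Bool.rec ⟨true, 9, 137646, 5, 288856⟩ ⟨true, 9, 138223, 10, 72404⟩ (Nat.ble 123 i)) (Nat.ble 122 i))
 (Bool.rec (Bool.rec ⟨true, 9, 259649, 11, 206642⟩ ⟨true, 9, 285781, 8, 285923⟩ (Nat.ble 125 i))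
 (Bool.rec ⟨true, 8, 285923, 9, 285781⟩ ⟨true, 5, 2048, 12, 0⟩ (Nat.ble 127 i)) (Nat.ble 126 i)) (Nat.ble 124 i))
 (Bool.rec (Bool.rec ⟨false, 12, 0, 12, 181609⟩ (Bool.rec ⟨true, 12, 0, 5, 2048⟩ ⟨true, 12, 72404, 12, 250970⟩ (Nat.ble 130 i)) (Nat.ble 129 i))
 (Bool.rec (Bool.rec ⟨true, 12, 250970, 12, 72404⟩ ⟨true, 12, 59022, 12, 296875⟩ (Nat.ble 132 i))
 (Bool.rec ⟨true, 6, 2048, 13, 0⟩ ⟨false, 13, 0, 13, 181609⟩ (Nat.ble 134 i)) (Nat.ble 133 i)) (Nat.ble 131 i)) (Nat.ble 128 i)) (Nat.ble 121 i))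
 (Bool.rec (Bool.rec (Bool.rec (Bool.rec ⟨false, 13, 0, 13, 276607⟩ (Bool.rec ⟨true, 13, 0, 6, 2048⟩ ⟨true, 13, 59022, 13, 296875⟩ (Nat.ble 137 i)) (Nat.ble 136 i))
 (Bool.rec ⟨true, 6, 18432, 14, 0⟩ (Bool.rec ⟨false, 14, 0, 14, 181609⟩ ⟨false, 14, 0, 14, 72179⟩ (Nat.ble 140 i)) (Nat.ble 139 i)) (Nat.ble 138 i))
 (Bool.rec (Bool.rec ⟨true, 14, 0, 6, 18432⟩ (Bool.rec ⟨true, 6, 264748, 14, 148558⟩ ⟨false, 14, 0, 14, 168922⟩ (Nat.ble 143 i)) (Nat.ble 142 i))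
 (Bool.rec (Bool.rec ⟨true, 14, 59022, 14, 16299⟩ ⟨true, 14, 244495, 14, 244495⟩ (Nat.ble 145 i))
 (Bool.rec ⟨true, 6, 219136, 6, 21088⟩ ⟨true, 8, 243807, 14, 9906⟩ (Nat.ble 147 i)) (Nat.ble 146 i)) (Nat.ble 144 i)) (Nat.ble 141 i))
 (Bool.rec (Bool.rec (Bool.rec ⟨true, 14, 9906, 8, 243807⟩ (Bool.rec ⟨true, 13, 72404, 6, 266743⟩ ⟨true, 6, 266743, 13, 72404⟩ (Nat.ble 150 i)) (Nat.ble 149 i))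
 (Bool.rec (Bool.rec ⟨false, 13, 0, 13, 190320⟩ ⟨true, 9, 143779, 14, 318615⟩ (Nat.ble 152 i))
 (Bool.rec ⟨true, 14, 318615, 9, 143779⟩ ⟨true, 6, 24576, 15, 0⟩ (Nat.ble 154 i)) (Nat.ble 153 i)) (Nat.ble 151 i))
 (Bool.rec (Bool.rec ⟨false, 15, 0, 15, 333744⟩ (Bool.rec ⟨false, 15, 0, 15, 228231⟩ ⟨true, 15, 0, 6, 24576⟩ (Nat.ble 157 i)) (Nat.ble 156 i))
 (Bool.rec (Bool.rec ⟨true, 14, 72404, 15, 306⟩ ⟨true, 15, 306, 14, 72404⟩ (Nat.ble 159 i))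
 (Bool.rec ⟨true, 15, 72404, 15, 206642⟩ ⟨true, 15, 298392, 15, 166012⟩ (Nat.ble 161 i)) (Nat.ble 160 i)) (Nat.ble 158 i)) (Nat.ble 155 i)) (Nat.ble 148 i)) (Nat.ble 135 i))
 (Bool.rec (Bool.rec (Bool.rec (Bool.rec (Bool.rec ⟨true, 9, 2048, 16, 0⟩ (Bool.rec ⟨true, 16, 0, 9, 2048⟩ ⟨true, 16, 59022, 16, 296875⟩ (Nat.ble 164 i)) (Nat.ble 163 i))
 (Bool.rec ⟨true, 16, 98304, 9, 280097⟩ (Bool.rec ⟨true, 9, 280097, 16, 98304⟩ ⟨false, 16, 0, 16, 98732⟩ (Nat.ble 167 i)) (Nat.ble 166 i)) (Nat.ble 165 i))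
 (Bool.rec (Bool.rec ⟨true, 16, 322165, 16, 17945⟩ (Bool.rec ⟨true, 15, 112292, 16, 266547⟩ ⟨true, 16, 266547, 15, 112292⟩ (Nat.ble 170 i)) (Nat.ble 169 i))
 (Bool.rec (Bool.rec ⟨false, 15, 0, 16, 116447⟩ ⟨false, 16, 0, 15, 85608⟩ (Nat.ble 172 i))
 (Bool.rec ⟨true, 15, 85608, 9, 2048⟩ ⟨true, 14, 116405, 13, 99866⟩ (Nat.ble 174 i)) (Nat.ble 173 i)) (Nat.ble 171 i)) (Nat.ble 168 i))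
 (Bool.rec (Bool.rec (Bool.rec ⟨true, 13, 99866, 14, 116405⟩ (Bool.rec ⟨true, 5, 291240, 12, 99512⟩ ⟨false, 12, 0, 12, 196232⟩ (Nat.ble 177 i)) (Nat.ble 176 i))
 (Bool.rec (Bool.rec ⟨true, 12, 284808, 15, 68887⟩ ⟨true, 15, 68887, 12, 284808⟩ (Nat.ble 179 i))
 (Bool.rec ⟨true, 12, 112530, 13, 110595⟩ ⟨true, 13, 110595, 12, 112530⟩ (Nat.ble 181 i)) (Nat.ble 180 i)) (Nat.ble 178 i))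
 (Bool.rec (Bool.rec ⟨true, 12, 121299, 14, 167181⟩ (Bool.rec ⟨true, 14, 167181, 12, 121299⟩ ⟨true, 12, 244268, 10, 266034⟩ (Nat.ble 184 i)) (Nat.ble 183 i))
 (Bool.rec (Bool.rec ⟨true, 10, 266034, 12, 244268⟩ ⟨true, 15, 342903, 10, 88690⟩ (Nat.ble 186 i))
 (Bool.rec ⟨true, 10, 88690, 15, 342903⟩ ⟨true, 9, 2080, 17, 0⟩ (Nat.ble 188 i)) (Nat.ble 187 i)) (Nat.ble 185 i)) (Nat.ble 182 i)) (Nat.ble 175 i))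
 (Bool.rec (Bool.rec (Bool.rec (Bool.rec ⟨true, 17, 0, 9, 2080⟩ (Bool.rec ⟨true, 9, 246183, 17, 9698⟩ ⟨false, 17, 0, 17, 123861⟩ (Nat.ble 191 i)) (Nat.ble 190 i))
 (Bool.rec (Bool.rec ⟨true, 12, 297427, 17, 176165⟩ ⟨true, 17, 176165, 12, 297427⟩ (Nat.ble 193 i))
 (Bool.rec ⟨true, 13, 112277, 17, 99033⟩ ⟨true, 17, 99033, 13, 112277⟩ (Nat.ble 195 i)) (Nat.ble 194 i)) (Nat.ble 192 i))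
 (Bool.rec (Bool.rec ⟨true, 14, 76874, 17, 312231⟩ (Bool.rec ⟨true, 17, 312231, 14, 76874⟩ ⟨true, 15, 245144, 17, 144600⟩ (Nat.ble 198 i)) (Nat.ble 197 i))
 (Bool.rec (Bool.rec ⟨true, 17, 144600, 15, 245144⟩ ⟨true, 15, 265877, 17, 189471⟩ (Nat.ble 200 i))
 (Bool.rec ⟨true, 17, 189471, 15, 265877⟩ ⟨true, 17, 59022, 17, 296875⟩ (Nat.ble 202 i)) (Nat.ble 201 i)) (Nat.ble 199 i)) (Nat.ble 196 i))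
 (Bool.rec (Bool.rec (Bool.rec ⟨true, 17, 75915, 17, 329224⟩ (Bool.rec ⟨true, 17, 100042, 17, 219623⟩ ⟨true, 17, 264280, 18, 0⟩ (Nat.ble 205 i)) (Nat.ble 204 i))
 (Bool.rec (Bool.rec ⟨false, 18, 0, 18, 323794⟩ ⟨true, 18, 0, 17, 264280⟩ (Nat.ble 207 i))
 (Bool.rec ⟨true, 17, 76874, 18, 196033⟩ ⟨false, 18, 0, 18, 229376⟩ (Nat.ble 209 i)) (Nat.ble 208 i)) (Nat.ble 206 i))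
 (Bool.rec (Bool.rec ⟨true, 4, 2048, 4, 201465⟩ (Bool.rec ⟨true, 5, 288856, 9, 137646⟩ ⟨true, 9, 245394, 9, 119105⟩ (Nat.ble 212 i)) (Nat.ble 211 i))
 (Bool.rec (Bool.rec ⟨true, 9, 259649, 9, 147950⟩ ⟨true, 9, 2048, 15, 85608⟩ (Nat.ble 214 i))
 (Bool.rec ⟨true, 10, 72404, 9, 138223⟩ ⟨true, 15, 112292, 15, 198546⟩ (Nat.ble 216 i)) (Nat.ble 215 i)) (Nat.ble 213 i)) (Nat.ble 210 i)) (Nat.ble 203 i)) (Nat.ble 189 i)) (Nat.ble 162 i)) (Nat.ble 108 i))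
def BR : List (List (List ℕ)) := [List.replicate 3 [14], List.replicate 7 [15]]
def TO : List (ℕ × ℕ × ℕ) := [(0, 0, 0), (1, 0, 0)]
noncomputable def D : DD := ⟨mu false, 0, fun c => Nat.ble (Nat.succ c) 344064, nth 0 LT, nth 0 AL, dl,
  tpls (ivOf ivl) [] BR TO, [(0, []), (0, []), (1, [12]), (2, [9, 12]), (2, [3, 13]), (2, [12]), (3, [12]), (4, [12]), (4, [4, 12]), (4, [8, 12]), (5, [9, 12]), (5, [3, 13]), (5, [12]), (6, [12]), (6, [8, 12]), (6, [8, 13]), (9, [12]), (9, [4, 12]), (17, [3, 15])], FT⟩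
def PF : List DPf := [⟨0, 0, 0, [], [], []⟩,
 ⟨2, 0, 0, [2], [⟨0, 0, []⟩, ⟨1, 0, []⟩], [⟨1, 0, [2]⟩]⟩,
 ⟨2, 0, 0, [3], [⟨0, 0, []⟩, ⟨1, 0, []⟩], [⟨1, 0, [3]⟩]⟩,
 ⟨2, 0, 0, [0], [⟨0, 0, []⟩, ⟨1, 0, []⟩], [⟨1, 0, [0]⟩]⟩,
 ⟨2, 0, 0, [1], [⟨0, 0, []⟩, ⟨1, 0, []⟩], [⟨1, 0, [1]⟩]⟩,
 ⟨2, 0, 0, [6], [⟨0, 0, []⟩, ⟨1, 0, []⟩], [⟨1, 0, [6]⟩]⟩,
 ⟨2, 0, 0, [7], [⟨0, 0, []⟩, ⟨1, 0, []⟩], [⟨1, 0, [7]⟩]⟩,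
 ⟨2, 0, 0, [4], [⟨0, 0, []⟩, ⟨1, 0, []⟩], [⟨1, 0, [4]⟩]⟩,
 ⟨2, 0, 0, [5], [⟨0, 0, []⟩, ⟨1, 0, []⟩], [⟨1, 0, [5]⟩]⟩,
 ⟨2, 0, 0, [8], [⟨0, 0, []⟩, ⟨1, 0, []⟩], [⟨1, 0, [8]⟩]⟩,
 ⟨2, 0, 0, [9], [⟨0, 0, []⟩, ⟨1, 0, []⟩], [⟨1, 0, [9]⟩]⟩,
 ⟨2, 0, 0, [11], [⟨0, 0, []⟩, ⟨1, 0, []⟩], [⟨1, 0, [11]⟩]⟩,
 ⟨2, 0, 0, [10], [⟨0, 0, []⟩, ⟨1, 0, []⟩], [⟨1, 0, [10]⟩]⟩,
 ⟨1, 0, 0, [], [], [⟨0, 0, [0]⟩]⟩,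
 ⟨1, 0, 0, [], [], [⟨0, 0, [2]⟩]⟩,
 ⟨1, 0, 0, [], [], [⟨0, 0, [4]⟩]⟩,
 ⟨1, 0, 0, [], [], [⟨0, 0, [8]⟩]⟩,
 ⟨1, 0, 0, [], [], [⟨0, 0, [10]⟩]⟩,
 ⟨1, 0, 0, [], [], [⟨0, 0, [12]⟩]⟩,
 ⟨4, 0, 1, [], [⟨1, 0, []⟩], []⟩,
 ⟨5, 1, 20, [9, 14], [], [⟨1, 19, [9]⟩, ⟨0, 0, []⟩, ⟨1, 0, []⟩]⟩,
 ⟨0, 0, 0, [], [], []⟩,
 ⟨2, 1, 22, [], [⟨1, 21, []⟩], [⟨1, 1, []⟩, ⟨1, 1, []⟩, ⟨1, 21, [4, 4]⟩]⟩,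
 ⟨2, 1, 22, [], [⟨1, 21, []⟩], [⟨1, 3, []⟩, ⟨1, 1, []⟩, ⟨1, 21, [2, 4, 2, 6, 9, 1, 10]⟩]⟩,
 ⟨2, 1, 22, [], [⟨1, 21, []⟩], [⟨1, 4, []⟩, ⟨1, 1, []⟩, ⟨1, 21, [9, 11]⟩]⟩,
 ⟨2, 1, 22, [], [⟨1, 21, []⟩], [⟨1, 5, []⟩, ⟨1, 5, []⟩, ⟨1, 21, [0, 4, 1, 5]⟩]⟩,
 ⟨2, 1, 22, [], [⟨1, 21, []⟩], [⟨1, 11, []⟩, ⟨1, 9, []⟩, ⟨1, 21, [9, 1, 3, 10]⟩]⟩,
 ⟨2, 1, 22, [], [⟨1, 21, []⟩], [⟨1, 7, []⟩, ⟨1, 5, []⟩, ⟨1, 1, []⟩, ⟨1, 21, [2, 4, 2, 5]⟩]⟩,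
 ⟨4, 1, 22, [], [⟨1, 21, []⟩], []⟩,
 ⟨5, 2, 29, [9, 14], [], [⟨1, 28, [9]⟩, ⟨1, 5, []⟩, ⟨1, 21, [2, 4, 3, 9, 10]⟩]⟩,
 ⟨2, 2, 30, [], [⟨1, 29, []⟩], [⟨1, 27, []⟩, ⟨1, 29, [0, 4, 1, 4]⟩]⟩,
 ⟨2, 2, 30, [], [⟨1, 29, []⟩], [⟨1, 26, []⟩, ⟨1, 24, []⟩, ⟨1, 29, [0, 6, 9, 0, 3, 8]⟩]⟩,
 ⟨5, 2, 29, [8, 14], [], [⟨1, 28, [8]⟩, ⟨1, 1, []⟩, ⟨1, 21, [0, 2, 2, 4, 8, 10]⟩]⟩,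
 ⟨0, 0, 0, [], [], []⟩,
 ⟨2, 2, 34, [], [⟨1, 33, []⟩], [⟨1, 22, []⟩, ⟨1, 33, [0, 4, 1, 5]⟩]⟩,
 ⟨2, 2, 34, [], [⟨1, 33, []⟩], [⟨1, 27, []⟩, ⟨1, 33, [4, 4]⟩]⟩,
 ⟨2, 2, 34, [], [⟨1, 33, []⟩], [⟨1, 26, []⟩, ⟨1, 33, [4, 6, 10, 2, 10]⟩]⟩,
 ⟨2, 2, 34, [], [⟨1, 33, []⟩], [⟨1, 25, []⟩, ⟨1, 33, [2, 4, 2, 6, 9, 0, 8]⟩]⟩,
 ⟨2, 2, 34, [], [⟨1, 33, []⟩], [⟨1, 24, []⟩, ⟨1, 33, [9, 1, 3, 10]⟩]⟩,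
 ⟨2, 2, 34, [], [⟨1, 33, []⟩], [⟨1, 23, []⟩, ⟨1, 33, [10, 0, 2, 11]⟩]⟩,
 ⟨4, 2, 34, [], [⟨1, 33, []⟩], []⟩,
 ⟨5, 3, 41, [8, 14], [], [⟨1, 40, [8]⟩, ⟨1, 30, []⟩, ⟨1, 33, [11, 1, 9]⟩]⟩,
 ⟨6, 3, 41, [2, 8, 3, 15], [], [⟨1, 40, [2, 8, 3]⟩, ⟨1, 28, [0, 0, 4, 8, 3, 11]⟩, ⟨1, 19, [6, 0, 9, 11, 2]⟩, ⟨0, 0, []⟩, ⟨1, 0, []⟩, ⟨1, 4, []⟩, ⟨1, 10, []⟩, ⟨1, 5, []⟩, ⟨1, 21, [9, 0, 0, 3, 9]⟩, ⟨1, 31, []⟩, ⟨1, 33, [0, 3, 8, 2, 11, 1]⟩]⟩,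
 ⟨6, 3, 41, [0, 0, 3, 6, 8, 15], [], [⟨1, 40, [0, 0, 3, 6, 8]⟩, ⟨1, 28, [0, 4, 8, 0, 2, 10]⟩, ⟨1, 19, [2, 9, 0, 2]⟩, ⟨0, 0, []⟩, ⟨1, 0, []⟩, ⟨1, 4, []⟩, ⟨1, 10, []⟩, ⟨1, 5, []⟩, ⟨1, 21, [9, 0, 0, 3, 9]⟩, ⟨1, 31, []⟩, ⟨1, 33, [0, 3, 8, 2, 11, 1]⟩]⟩,
 ⟨4, 3, 44, [], [⟨1, 43, []⟩], []⟩,
 ⟨2, 3, 45, [], [⟨1, 44, []⟩], [⟨1, 42, [1, 3, 10, 1, 3]⟩]⟩,
 ⟨2, 3, 41, [], [⟨1, 40, []⟩], [⟨1, 45, []⟩, ⟨1, 40, [0, 8, 1, 5, 3, 9]⟩]⟩,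
 ⟨6, 3, 41, [1, 2, 2, 4, 8, 15], [], [⟨1, 40, [1, 2, 2, 4, 8]⟩, ⟨1, 31, []⟩, ⟨1, 33, [0, 4, 1, 8, 3, 11]⟩, ⟨1, 42, [0, 2, 4, 10, 2, 4, 1]⟩, ⟨1, 41, [3, 6, 1, 11, 3]⟩, ⟨1, 45, []⟩, ⟨1, 42, [1, 8, 2, 9, 1]⟩, ⟨1, 40, [8, 1, 6, 10]⟩]⟩,
 ⟨4, 3, 48, [], [⟨1, 47, []⟩], []⟩,
 ⟨2, 2, 49, [], [⟨1, 48, []⟩], [⟨1, 31, []⟩, ⟨1, 33, [0, 5, 3, 8, 0]⟩]⟩,
 ⟨0, 0, 0, [], [], []⟩,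
 ⟨2, 2, 51, [], [⟨1, 50, []⟩], [⟨1, 22, []⟩, ⟨1, 50, [0, 0]⟩]⟩,
 ⟨2, 2, 51, [], [⟨1, 50, []⟩], [⟨1, 27, []⟩, ⟨1, 50, [4, 4]⟩]⟩,
 ⟨2, 2, 51, [], [⟨1, 50, []⟩], [⟨1, 26, []⟩, ⟨1, 50, [2, 4, 8, 1, 9]⟩]⟩,
 ⟨2, 2, 51, [], [⟨1, 50, []⟩], [⟨1, 25, []⟩, ⟨1, 50, [1, 4, 6]⟩]⟩,
 ⟨2, 2, 51, [], [⟨1, 50, []⟩], [⟨1, 23, []⟩, ⟨1, 50, [3, 6, 9, 0, 8]⟩]⟩,
 ⟨2, 2, 51, [], [⟨1, 50, []⟩], [⟨1, 24, []⟩, ⟨1, 30, []⟩, ⟨1, 50, [10, 1, 7, 9]⟩]⟩,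
 ⟨4, 2, 51, [], [⟨1, 50, []⟩], []⟩,
 ⟨5, 3, 41, [9, 14], [], [⟨1, 40, [9]⟩, ⟨1, 24, []⟩, ⟨1, 50, [2, 7, 8, 1, 3]⟩]⟩,
 ⟨2, 3, 59, [], [⟨1, 58, []⟩], [⟨1, 45, []⟩, ⟨1, 58, [0, 2, 4, 1, 7]⟩]⟩,
 ⟨4, 3, 59, [], [⟨1, 58, []⟩], []⟩,
 ⟨5, 4, 58, [9, 14], [], [⟨1, 57, [9]⟩, ⟨1, 24, []⟩, ⟨1, 50, [2, 2, 4, 0, 7, 9]⟩]⟩,
 ⟨0, 0, 0, [], [], []⟩,
 ⟨2, 2, 63, [], [⟨1, 62, []⟩], [⟨1, 22, []⟩, ⟨1, 62, [0, 4, 1, 5]⟩]⟩,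
 ⟨2, 2, 63, [], [⟨1, 62, []⟩], [⟨1, 27, []⟩, ⟨1, 62, [0, 4, 0, 4]⟩]⟩,
 ⟨2, 2, 63, [], [⟨1, 62, []⟩], [⟨1, 25, []⟩, ⟨1, 30, []⟩, ⟨1, 62, [2, 4, 2, 9, 1, 7, 8]⟩]⟩,
 ⟨2, 2, 63, [], [⟨1, 62, []⟩], [⟨1, 31, []⟩, ⟨1, 62, [4, 6, 9, 11]⟩]⟩,
 ⟨2, 2, 63, [], [⟨1, 62, []⟩], [⟨1, 26, []⟩, ⟨1, 46, []⟩, ⟨1, 62, [2, 2, 6, 0]⟩]⟩,
 ⟨4, 2, 63, [], [⟨1, 62, []⟩], []⟩,
 ⟨5, 5, 69, [9, 14], [], [⟨1, 68, [9]⟩, ⟨1, 26, []⟩, ⟨1, 23, []⟩, ⟨1, 62, [9, 1, 10, 0]⟩]⟩,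
 ⟨5, 5, 69, [8, 14], [], [⟨1, 68, [8]⟩, ⟨1, 25, []⟩, ⟨1, 62, [10, 1, 9]⟩]⟩,
 ⟨0, 0, 0, [], [], []⟩,
 ⟨2, 3, 72, [], [⟨1, 71, []⟩], [⟨1, 34, []⟩, ⟨1, 39, []⟩, ⟨1, 37, []⟩, ⟨1, 36, []⟩, ⟨1, 71, [0, 0, 4, 4]⟩]⟩,
 ⟨2, 3, 72, [], [⟨1, 71, []⟩], [⟨1, 35, []⟩, ⟨1, 71, [0, 4, 1, 5]⟩]⟩,
 ⟨2, 3, 72, [], [⟨1, 71, []⟩], [⟨1, 37, []⟩, ⟨1, 45, []⟩, ⟨1, 71, [9, 1, 2, 2, 11]⟩]⟩,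
 ⟨2, 3, 72, [], [⟨1, 71, []⟩], [⟨1, 39, []⟩, ⟨1, 49, []⟩, ⟨1, 71, [0, 0, 11, 0, 0]⟩]⟩,
 ⟨4, 3, 72, [], [⟨1, 71, []⟩], []⟩,
 ⟨5, 6, 77, [9, 14], [], [⟨1, 76, [9]⟩, ⟨1, 39, []⟩, ⟨1, 37, []⟩, ⟨1, 71, [9, 0, 10, 1]⟩]⟩,
 ⟨0, 0, 0, [], [], []⟩,
 ⟨4, 4, 79, [], [⟨1, 78, []⟩], []⟩,
 ⟨6, 4, 58, [9, 0, 3, 15], [], [⟨1, 57, [9, 0, 3]⟩, ⟨1, 28, [0, 8, 0, 3]⟩, ⟨1, 9, []⟩, ⟨1, 20, [0, 9, 10, 2, 5]⟩, ⟨1, 4, []⟩, ⟨1, 9, []⟩, ⟨1, 21, [9, 0, 4, 2, 9]⟩, ⟨1, 26, []⟩, ⟨1, 31, []⟩, ⟨1, 50, [2, 9, 3, 11, 1]⟩, ⟨1, 78, [8, 0, 0, 11]⟩]⟩,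
 ⟨2, 4, 81, [], [⟨1, 80, []⟩], [⟨1, 78, [1, 3, 8, 0, 3]⟩]⟩,
 ⟨5, 7, 80, [8, 14], [], [⟨1, 79, [8]⟩, ⟨1, 55, []⟩, ⟨1, 53, []⟩, ⟨1, 78, [4, 6, 8]⟩]⟩,
 ⟨6, 7, 80, [0, 2, 2, 6, 8, 15], [], [⟨1, 79, [0, 2, 2, 6, 8]⟩, ⟨1, 53, []⟩, ⟨1, 78, [0, 8, 2, 4, 0, 10]⟩, ⟨1, 81, []⟩, ⟨1, 79, [0, 10, 2, 9, 1]⟩, ⟨1, 61, [2, 4, 6, 10, 0, 10]⟩, ⟨1, 78, [0, 0, 2, 2, 4, 6, 8, 11]⟩, ⟨1, 81, []⟩, ⟨1, 79, [2, 7, 8, 0, 2]⟩]⟩,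
 ⟨2, 7, 84, [], [⟨1, 83, []⟩], [⟨1, 81, []⟩, ⟨1, 82, [2, 2, 10]⟩]⟩,
 ⟨1, 4, 0, [], [⟨1, 84, []⟩], []⟩,
 ⟨0, 0, 0, [], [], []⟩,
 ⟨2, 4, 87, [], [⟨1, 86, []⟩], [⟨1, 51, []⟩, ⟨1, 86, [2, 4, 2, 6, 10, 1, 10]⟩]⟩,
 ⟨2, 4, 87, [], [⟨1, 86, []⟩], [⟨1, 52, []⟩, ⟨1, 86, [0, 4, 1, 5]⟩]⟩,
 ⟨2, 4, 87, [], [⟨1, 86, []⟩], [⟨1, 55, []⟩, ⟨1, 53, []⟩, ⟨1, 86, [9, 0, 0, 2, 2, 11]⟩]⟩,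
 ⟨2, 4, 87, [], [⟨1, 86, []⟩], [⟨1, 55, []⟩, ⟨1, 56, []⟩, ⟨1, 86, [0, 9, 0, 2, 7, 8]⟩]⟩,
 ⟨2, 4, 87, [], [⟨1, 86, []⟩], [⟨1, 54, []⟩, ⟨1, 59, []⟩, ⟨1, 86, [2, 4, 2, 9, 0, 6, 10]⟩]⟩,
 ⟨4, 4, 87, [], [⟨1, 86, []⟩], []⟩,
 ⟨5, 4, 79, [9, 14], [], [⟨1, 78, [9]⟩, ⟨1, 85, []⟩, ⟨1, 55, []⟩, ⟨1, 54, []⟩, ⟨1, 86, [0, 4, 9, 10, 2, 4]⟩]⟩,
 ⟨2, 4, 94, [], [⟨1, 93, []⟩], [⟨1, 86, [0, 2, 4, 0, 2, 9, 11]⟩]⟩,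
 ⟨5, 8, 93, [8, 14], [], [⟨1, 92, [8]⟩, ⟨1, 54, []⟩, ⟨1, 86, [9, 0, 2, 2, 9]⟩]⟩,
 ⟨0, 0, 0, [], [], []⟩,
 ⟨2, 4, 97, [], [⟨1, 96, []⟩], [⟨1, 52, []⟩, ⟨1, 96, [0, 4, 1, 5]⟩]⟩,
 ⟨2, 4, 97, [], [⟨1, 96, []⟩], [⟨1, 51, []⟩, ⟨1, 55, []⟩, ⟨1, 54, []⟩, ⟨1, 96, [0, 4, 1, 6, 9, 10]⟩]⟩,
 ⟨2, 4, 97, [], [⟨1, 96, []⟩], [⟨1, 53, []⟩, ⟨1, 96, [0, 9, 2, 2, 11, 1]⟩]⟩,
 ⟨4, 4, 97, [], [⟨1, 96, []⟩], []⟩,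
 ⟨5, 9, 101, [9, 14], [], [⟨1, 100, [9]⟩, ⟨1, 51, []⟩, ⟨1, 59, []⟩, ⟨1, 96, [2, 4, 2, 9, 10, 0, 4]⟩]⟩,
 ⟨5, 9, 101, [8, 14], [], [⟨1, 100, [8]⟩, ⟨1, 51, []⟩, ⟨1, 96, [11, 0, 9]⟩]⟩,
 ⟨0, 0, 0, [], [], []⟩,
 ⟨2, 5, 104, [], [⟨1, 103, []⟩], [⟨1, 63, []⟩, ⟨1, 103, [2, 4, 2, 6, 9, 0, 8]⟩]⟩,
 ⟨2, 5, 104, [], [⟨1, 103, []⟩], [⟨1, 64, []⟩, ⟨1, 66, []⟩, ⟨1, 103, [6, 9, 3, 11, 1]⟩]⟩,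
 ⟨2, 5, 104, [], [⟨1, 103, []⟩], [⟨1, 64, []⟩, ⟨1, 65, []⟩, ⟨1, 103, [4, 6, 9, 1, 11]⟩]⟩,
 ⟨4, 5, 104, [], [⟨1, 103, []⟩], []⟩,
 ⟨5, 10, 108, [8, 14], [], [⟨1, 107, [8]⟩, ⟨1, 64, []⟩, ⟨1, 103, [10, 1, 9]⟩]⟩,
 ⟨6, 10, 108, [2, 8, 3, 15], [], [⟨1, 107, [2, 8, 3]⟩, ⟨1, 68, [0, 0, 4, 8, 3, 11]⟩, ⟨1, 28, [6, 0, 9, 11, 2]⟩, ⟨1, 3, []⟩, ⟨1, 9, []⟩, ⟨1, 5, []⟩, ⟨1, 21, [0, 0, 6, 9, 3]⟩, ⟨1, 26, []⟩, ⟨1, 24, []⟩, ⟨1, 62, [2, 9, 0, 0, 9, 2]⟩, ⟨1, 67, []⟩, ⟨1, 103, [0, 0, 11, 3, 9]⟩]⟩,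
 ⟨6, 10, 108, [0, 0, 2, 8, 3, 15], [], [⟨1, 107, [0, 0, 2, 8, 3]⟩, ⟨1, 70, [0, 8, 1, 3, 9, 2]⟩, ⟨1, 103, [2, 6, 1, 8, 3]⟩, ⟨1, 105, []⟩, ⟨1, 109, [1, 2, 11, 0, 2]⟩, ⟨1, 108, [0, 0, 2, 4, 10, 2, 5]⟩, ⟨1, 109, [0, 8, 0, 5, 2, 9]⟩]⟩,
 ⟨2, 10, 111, [], [⟨1, 110, []⟩], [⟨1, 109, [0, 4, 1, 5]⟩]⟩,
 ⟨0, 0, 0, [], [], []⟩,
 ⟨4, 5, 113, [], [⟨1, 112, []⟩], []⟩,
 ⟨6, 9, 101, [2, 8, 15], [], [⟨1, 100, [2, 8]⟩, ⟨1, 60, [4, 1, 4, 8, 2]⟩, ⟨1, 45, []⟩, ⟨1, 49, []⟩, ⟨1, 40, [0, 2, 2, 4, 1, 8]⟩, ⟨1, 26, []⟩, ⟨1, 29, [4, 3, 8, 0, 6, 11]⟩, ⟨1, 26, []⟩, ⟨1, 25, []⟩, ⟨1, 24, []⟩, ⟨1, 23, []⟩, ⟨1, 62, [1, 10, 3, 9]⟩, ⟨1, 112, [0, 4, 9, 10, 3]⟩]⟩,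
 ⟨4, 9, 115, [], [⟨1, 114, []⟩], []⟩,
 ⟨5, 10, 108, [9, 14], [], [⟨1, 107, [9]⟩, ⟨1, 64, []⟩, ⟨1, 112, [0, 0, 2, 11, 3]⟩]⟩,
 ⟨4, 10, 117, [], [⟨1, 116, []⟩], []⟩,
 ⟨5, 11, 114, [9, 14], [], [⟨1, 113, [9]⟩, ⟨1, 64, []⟩, ⟨1, 112, [2, 2, 9, 10, 0, 5]⟩]⟩,
 ⟨6, 11, 114, [9, 1, 2, 15], [], [⟨1, 113, [9, 1, 2]⟩, ⟨1, 70, [10, 3, 6, 1]⟩, ⟨1, 112, [0, 0, 2, 9, 3, 7]⟩, ⟨1, 115, [0, 2, 4, 0, 6, 10, 2]⟩, ⟨1, 102, [0, 10, 0, 3, 5, 1]⟩, ⟨1, 114, [7, 1, 8, 2, 9]⟩]⟩,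
 ⟨6, 4, 61, [3, 6, 8, 15], [], [⟨1, 60, [3, 6, 8]⟩, ⟨1, 49, []⟩, ⟨1, 58, [2, 4, 3, 8, 0, 11]⟩, ⟨1, 96, [2, 4, 1, 8, 3, 4]⟩, ⟨1, 114, [1, 2, 5, 2]⟩, ⟨1, 119, [0, 0, 9, 0, 3, 8]⟩, ⟨1, 118, [10, 0, 3, 4, 1]⟩]⟩,
 ⟨2, 4, 121, [], [⟨1, 120, []⟩], [⟨1, 96, [2, 6, 2, 11, 1, 9]⟩]⟩,
 ⟨3, 11, 114, [], [⟨1, 121, []⟩], [⟨1, 113, []⟩]⟩,
 ⟨3, 11, 118, [], [⟨1, 121, []⟩], [⟨1, 117, []⟩]⟩,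
 ⟨3, 11, 119, [], [⟨1, 121, []⟩], [⟨1, 118, []⟩]⟩,
 ⟨6, 9, 103, [0, 0, 10, 2, 15], [], [⟨1, 102, [0, 0, 10, 2]⟩, ⟨1, 122, [4, 6, 9, 1, 10, 2]⟩, ⟨1, 68, [0, 2, 4, 7, 8, 0]⟩, ⟨1, 26, []⟩, ⟨1, 29, [0, 2, 2, 5, 9]⟩, ⟨1, 31, []⟩, ⟨1, 50, [0, 4, 0, 9, 3, 4]⟩, ⟨1, 55, []⟩, ⟨1, 86, [2, 8, 0, 6, 3]⟩]⟩,
 ⟨4, 9, 126, [], [⟨1, 125, []⟩], []⟩,
 ⟨0, 0, 0, [], [], []⟩,
 ⟨2, 5, 128, [], [⟨1, 127, []⟩], [⟨1, 63, []⟩, ⟨1, 64, []⟩, ⟨1, 127, [2, 4, 2, 6, 9, 0, 8]⟩]⟩,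
 ⟨4, 5, 128, [], [⟨1, 127, []⟩], []⟩,
 ⟨5, 12, 130, [9, 14], [], [⟨1, 129, [9]⟩, ⟨1, 67, []⟩, ⟨1, 127, [4, 7, 8, 1, 9]⟩]⟩,
 ⟨4, 12, 131, [], [⟨1, 130, []⟩], []⟩,
 ⟨5, 12, 130, [8, 14], [], [⟨1, 129, [8]⟩, ⟨1, 63, []⟩, ⟨1, 127, [10, 1, 9]⟩]⟩,
 ⟨0, 0, 0, [], [], []⟩,
 ⟨2, 6, 134, [], [⟨1, 133, []⟩], [⟨1, 72, []⟩, ⟨1, 133, [2, 4, 2, 6, 9, 0, 8]⟩]⟩,
 ⟨2, 6, 134, [], [⟨1, 133, []⟩], [⟨1, 73, []⟩, ⟨1, 74, []⟩, ⟨1, 75, []⟩, ⟨1, 74, []⟩, ⟨1, 133, [0, 9, 2, 6, 0, 8]⟩]⟩,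
 ⟨4, 6, 134, [], [⟨1, 133, []⟩], []⟩,
 ⟨5, 13, 137, [8, 14], [], [⟨1, 136, [8]⟩, ⟨1, 73, []⟩, ⟨1, 133, [10, 1, 9]⟩]⟩,
 ⟨0, 0, 0, [], [], []⟩,
 ⟨2, 6, 139, [], [⟨1, 138, []⟩], [⟨1, 73, []⟩, ⟨1, 72, []⟩, ⟨1, 138, [2, 4, 2, 6, 9, 0, 8]⟩]⟩,
 ⟨2, 6, 139, [], [⟨1, 138, []⟩], [⟨1, 75, []⟩, ⟨1, 138, [4, 6, 9, 2, 10]⟩]⟩,
 ⟨4, 6, 139, [], [⟨1, 138, []⟩], []⟩,
 ⟨6, 6, 77, [3, 4, 15], [], [⟨1, 76, [3, 4]⟩, ⟨1, 39, []⟩, ⟨1, 45, []⟩, ⟨1, 49, []⟩, ⟨1, 58, [0, 9, 1, 3, 4, 11]⟩, ⟨1, 55, []⟩, ⟨1, 78, [1, 2, 8, 3, 11]⟩, ⟨1, 85, []⟩, ⟨1, 56, []⟩, ⟨1, 60, [0, 0, 4, 2, 9, 1]⟩, ⟨1, 34, []⟩, ⟨1, 39, []⟩, ⟨1, 38, []⟩, ⟨1, 71, [0, 3, 6, 1, 8, 3]⟩, ⟨1, 72, []⟩, ⟨1, 75, []⟩, ⟨1, 74, []⟩, ⟨1, 138, [10, 0, 0, 3, 9]⟩]⟩,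
 ⟨2, 6, 143, [], [⟨1, 142, []⟩], [⟨1, 138, [4, 6, 9, 1, 2, 9]⟩]⟩,
 ⟨5, 14, 142, [8, 14], [], [⟨1, 141, [8]⟩, ⟨1, 73, []⟩, ⟨1, 138, [2, 4, 2, 6, 8, 11]⟩]⟩,
 ⟨6, 14, 142, [2, 6, 8, 15], [], [⟨1, 141, [2, 6, 8]⟩, ⟨1, 74, []⟩, ⟨1, 77, [0, 2, 6, 11, 0, 2]⟩, ⟨1, 74, []⟩, ⟨1, 138, [4, 10, 3, 5, 1, 9]⟩, ⟨1, 143, []⟩, ⟨1, 141, [4, 10, 0, 4, 3, 9]⟩, ⟨1, 74, []⟩, ⟨1, 77, [2, 2, 5]⟩, ⟨1, 74, []⟩, ⟨1, 138, [0, 4, 8]⟩]⟩,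
 ⟨6, 6, 139, [1, 3, 8, 15], [], [⟨1, 138, [1, 3, 8]⟩, ⟨1, 145, [0, 2, 4, 0, 2, 7]⟩, ⟨1, 144, [1, 6, 2, 11, 0]⟩, ⟨1, 143, []⟩, ⟨1, 144, [1, 8, 2, 9, 0]⟩, ⟨1, 143, []⟩, ⟨1, 144, [0, 2, 2, 4, 6, 10, 1]⟩, ⟨1, 143, []⟩, ⟨1, 141, [0, 10, 1, 6, 3, 9]⟩]⟩,
 ⟨6, 8, 93, [0, 0, 3, 8, 15], [], [⟨1, 92, [0, 0, 3, 8]⟩, ⟨1, 60, [8, 0, 2, 8, 2]⟩, ⟨1, 34, []⟩, ⟨1, 38, []⟩, ⟨1, 37, []⟩, ⟨1, 71, [0, 4, 6, 11, 3, 9]⟩, ⟨1, 72, []⟩, ⟨1, 75, []⟩, ⟨1, 74, []⟩, ⟨1, 146, [0, 3, 8, 1, 2, 9]⟩, ⟨1, 74, []⟩, ⟨1, 77, [0, 2, 10, 1, 2, 2]⟩, ⟨1, 73, []⟩, ⟨1, 74, []⟩, ⟨1, 138, [0, 10, 1, 4, 2, 9]⟩]⟩,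
 ⟨4, 8, 148, [], [⟨1, 147, []⟩], []⟩,
 ⟨5, 13, 137, [9, 14], [], [⟨1, 136, [9]⟩, ⟨1, 73, []⟩, ⟨1, 74, []⟩, ⟨1, 146, [3, 4, 10, 0, 9]⟩]⟩,
 ⟨4, 13, 150, [], [⟨1, 149, []⟩], []⟩,
 ⟨2, 6, 151, [], [⟨1, 150, []⟩], [⟨1, 73, []⟩, ⟨1, 74, []⟩, ⟨1, 133, [0, 10, 0, 0, 2, 7]⟩]⟩,
 ⟨5, 9, 126, [9, 14], [], [⟨1, 125, [9]⟩, ⟨1, 87, []⟩, ⟨1, 147, [0, 9, 10, 1, 2, 2]⟩]⟩,
 ⟨4, 9, 153, [], [⟨1, 152, []⟩], []⟩,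
 ⟨0, 0, 0, [], [], []⟩,
 ⟨2, 6, 155, [], [⟨1, 154, []⟩], [⟨1, 72, []⟩, ⟨1, 154, [1, 4, 6]⟩]⟩,
 ⟨2, 6, 155, [], [⟨1, 154, []⟩], [⟨1, 74, []⟩, ⟨1, 75, []⟩, ⟨1, 74, []⟩, ⟨1, 154, [10, 1, 7, 9]⟩]⟩,
 ⟨4, 6, 155, [], [⟨1, 154, []⟩], []⟩,
 ⟨5, 14, 142, [9, 14], [], [⟨1, 141, [9]⟩, ⟨1, 74, []⟩, ⟨1, 154, [0, 4, 1, 6, 11, 3]⟩]⟩,
 ⟨4, 14, 159, [], [⟨1, 158, []⟩], []⟩,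
 ⟨5, 15, 158, [9, 14], [], [⟨1, 157, [9]⟩, ⟨1, 73, []⟩, ⟨1, 154, [2, 2, 9, 10, 0, 5]⟩]⟩,
 ⟨6, 15, 158, [6, 9, 0, 2, 15], [], [⟨1, 157, [6, 9, 0, 2]⟩, ⟨1, 74, []⟩, ⟨1, 77, [0, 2, 4, 0, 9, 3, 7]⟩, ⟨1, 75, []⟩, ⟨1, 74, []⟩, ⟨1, 146, [0, 3, 4]⟩, ⟨1, 77, [1, 2, 4, 9, 11]⟩, ⟨1, 72, []⟩, ⟨1, 75, []⟩, ⟨1, 74, []⟩, ⟨1, 146, [0, 0, 10, 0, 0, 2]⟩, ⟨1, 74, []⟩, ⟨1, 154, [2, 6, 9, 11]⟩]⟩,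
 ⟨0, 0, 0, [], [], []⟩,
 ⟨4, 9, 163, [], [⟨1, 162, []⟩], []⟩,
 ⟨5, 16, 164, [8, 14], [], [⟨1, 163, [8]⟩, ⟨1, 97, []⟩, ⟨1, 162, [10, 1, 9]⟩]⟩,
 ⟨6, 16, 164, [15], [], [⟨1, 163, []⟩, ⟨1, 152, [1, 9, 2, 2, 9, 0]⟩, ⟨1, 143, []⟩, ⟨1, 141, [8, 0, 0, 2, 10]⟩, ⟨1, 77, [4, 6, 9, 1, 2]⟩, ⟨1, 72, []⟩, ⟨1, 75, []⟩, ⟨1, 74, []⟩, ⟨1, 138, [0, 9, 0, 2, 9]⟩, ⟨1, 139, []⟩, ⟨1, 153, [0, 0, 4, 6, 8, 2, 10]⟩]⟩,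
 ⟨4, 16, 166, [], [⟨1, 165, []⟩], []⟩,
 ⟨2, 9, 167, [], [⟨1, 166, []⟩], [⟨1, 97, []⟩, ⟨1, 162, [4, 7, 8, 2, 9]⟩]⟩,
 ⟨6, 16, 164, [9, 0, 2, 4, 9, 15], [], [⟨1, 163, [9, 0, 2, 4, 9]⟩, ⟨1, 99, []⟩, ⟨1, 101, [0, 9, 1, 2, 2, 7]⟩, ⟨1, 122, [1, 4, 9, 2, 6, 11]⟩, ⟨1, 64, []⟩, ⟨1, 67, []⟩, ⟨1, 103, [0, 4, 3, 8]⟩, ⟨1, 105, []⟩, ⟨1, 111, []⟩, ⟨1, 116, [4, 2, 8, 0, 6]⟩, ⟨1, 121, []⟩, ⟨1, 97, []⟩, ⟨1, 98, []⟩, ⟨1, 162, [1, 9, 2, 2, 11, 0]⟩]⟩,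
 ⟨6, 15, 160, [1, 2, 2, 6, 8, 15], [], [⟨1, 159, [1, 2, 2, 6, 8]⟩, ⟨1, 148, [2, 2, 4, 8, 0, 9]⟩, ⟨1, 94, []⟩, ⟨1, 92, [6, 3, 8, 0, 9, 3]⟩, ⟨1, 51, []⟩, ⟨1, 54, []⟩, ⟨1, 56, []⟩, ⟨1, 59, []⟩, ⟨1, 96, [0, 2, 2, 5, 9, 1]⟩, ⟨1, 162, [11, 2, 9]⟩, ⟨1, 167, []⟩, ⟨1, 168, [2, 4, 6, 9, 0, 2]⟩]⟩,
 ⟨4, 15, 170, [], [⟨1, 169, []⟩], []⟩,
 ⟨2, 16, 171, [], [⟨1, 170, []⟩], [⟨1, 167, []⟩, ⟨1, 164, [0, 6, 0, 9, 2]⟩]⟩,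
 ⟨1, 15, 0, [], [⟨1, 171, []⟩], []⟩,
 ⟨3, 16, 164, [], [⟨1, 172, []⟩], [⟨1, 163, []⟩]⟩,
 ⟨6, 14, 149, [9, 0, 0, 15], [], [⟨1, 148, [9, 0, 0]⟩, ⟨1, 87, []⟩, ⟨1, 88, []⟩, ⟨1, 89, []⟩, ⟨1, 94, []⟩, ⟨1, 126, [1, 4, 8, 3, 11]⟩, ⟨1, 97, []⟩, ⟨1, 99, []⟩, ⟨1, 162, [0, 0, 11, 0]⟩, ⟨1, 172, []⟩, ⟨1, 157, [4, 9, 2, 6, 1, 9]⟩, ⟨1, 146, [3, 4, 1, 8, 2, 10]⟩, ⟨1, 72, []⟩, ⟨1, 75, []⟩, ⟨1, 133, [0, 0, 2, 8, 3, 9]⟩]⟩,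
 ⟨4, 14, 175, [], [⟨1, 174, []⟩], []⟩,
 ⟨6, 5, 113, [0, 0, 2, 2, 8, 15], [], [⟨1, 112, [0, 0, 2, 2, 8]⟩, ⟨1, 121, []⟩, ⟨1, 162, [0, 2, 2, 9, 0, 4]⟩, ⟨1, 172, []⟩, ⟨1, 155, []⟩, ⟨1, 161, [9, 1, 10, 2, 7]⟩, ⟨1, 155, []⟩, ⟨1, 156, []⟩, ⟨1, 173, [0, 0, 9, 10, 3, 5]⟩, ⟨1, 122, [0, 2, 8, 1, 3]⟩, ⟨1, 65, []⟩, ⟨1, 127, [0, 2, 6, 1, 2]⟩]⟩,
 ⟨2, 5, 177, [], [⟨1, 176, []⟩], [⟨1, 65, []⟩, ⟨1, 127, [0, 2, 2, 4, 10, 0]⟩]⟩,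
 ⟨6, 12, 130, [8, 3, 15], [], [⟨1, 129, [8, 3]⟩, ⟨1, 66, []⟩, ⟨1, 69, [6, 1, 9, 2, 11]⟩, ⟨1, 64, []⟩, ⟨1, 103, [0, 2, 2, 8, 0, 6]⟩, ⟨1, 111, []⟩, ⟨1, 116, [4, 8, 3, 6, 1, 11]⟩, ⟨1, 121, []⟩, ⟨1, 97, []⟩, ⟨1, 98, []⟩, ⟨1, 162, [0, 4, 2, 9, 11]⟩, ⟨1, 172, []⟩, ⟨1, 155, []⟩, ⟨1, 156, []⟩, ⟨1, 169, [6, 3, 8, 1, 10]⟩, ⟨1, 172, []⟩]⟩,
 ⟨4, 12, 179, [], [⟨1, 178, []⟩], []⟩,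
 ⟨6, 12, 130, [0, 2, 2, 6, 8, 15], [], [⟨1, 129, [0, 2, 2, 6, 8]⟩, ⟨1, 65, []⟩, ⟨1, 67, []⟩, ⟨1, 127, [3, 10, 2, 9, 1]⟩, ⟨1, 177, []⟩, ⟨1, 178, [1, 9, 0, 9, 2]⟩, ⟨1, 157, [2, 4, 3, 9, 1, 10]⟩, ⟨1, 77, [10, 0, 2, 2, 4]⟩, ⟨1, 73, []⟩, ⟨1, 133, [8, 2, 2]⟩]⟩,
 ⟨4, 12, 181, [], [⟨1, 180, []⟩], []⟩,
 ⟨6, 12, 130, [6, 9, 0, 15], [], [⟨1, 129, [6, 9, 0]⟩, ⟨1, 63, []⟩, ⟨1, 66, []⟩, ⟨1, 67, []⟩, ⟨1, 127, [2, 4, 9, 0, 7, 8]⟩, ⟨1, 128, []⟩, ⟨1, 177, []⟩, ⟨1, 131, [2, 7, 2]⟩, ⟨1, 128, []⟩, ⟨1, 177, []⟩, ⟨1, 180, [2, 9, 0, 9]⟩, ⟨1, 134, []⟩, ⟨1, 151, []⟩, ⟨1, 175, [0, 4, 0, 3, 6, 8]⟩, ⟨1, 144, [0, 0, 8, 2, 6, 10]⟩]⟩,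
 ⟨4, 12, 183, [], [⟨1, 182, []⟩], []⟩,
 ⟨6, 12, 130, [3, 4, 8, 15], [], [⟨1, 129, [3, 4, 8]⟩, ⟨1, 69, [0, 4, 1, 9, 2, 8]⟩, ⟨1, 65, []⟩, ⟨1, 67, []⟩, ⟨1, 127, [1, 2, 8, 0, 3]⟩, ⟨1, 177, []⟩, ⟨1, 128, []⟩, ⟨1, 182, [0, 0, 4, 3, 9, 11]⟩, ⟨1, 139, []⟩, ⟨1, 153, [9, 2, 4, 0, 10]⟩, ⟨1, 123, [4, 9, 10, 1, 4]⟩]⟩,
 ⟨4, 12, 185, [], [⟨1, 184, []⟩], []⟩,
 ⟨6, 15, 158, [4, 0, 2, 6, 9, 15], [], [⟨1, 157, [4, 0, 2, 6, 9]⟩, ⟨1, 73, []⟩, ⟨1, 133, [4, 8, 1, 6, 3]⟩, ⟨1, 151, []⟩, ⟨1, 151, []⟩, ⟨1, 175, [0, 2, 4, 2, 11, 1]⟩, ⟨1, 145, [1, 4, 3, 8, 1]⟩, ⟨1, 183, [0, 9, 2, 10, 0, 2]⟩, ⟨1, 184, [2, 4, 8, 3, 7, 0]⟩]⟩,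
 ⟨4, 15, 187, [], [⟨1, 186, []⟩], []⟩,
 ⟨0, 0, 0, [], [], []⟩,
 ⟨4, 9, 189, [], [⟨1, 188, []⟩], []⟩,
 ⟨6, 9, 163, [2, 4, 8, 15], [], [⟨1, 162, [2, 4, 8]⟩, ⟨1, 172, []⟩, ⟨1, 186, [3, 4, 0, 9, 10, 2]⟩, ⟨1, 111, []⟩, ⟨1, 116, [0, 0, 9, 10, 2, 7]⟩, ⟨1, 121, []⟩, ⟨1, 114, [1, 6, 2, 10]⟩, ⟨1, 121, []⟩, ⟨1, 101, [0, 0, 4, 2, 6, 8, 11]⟩, ⟨1, 97, []⟩, ⟨1, 99, []⟩, ⟨1, 188, [0, 4, 6, 11, 1, 3, 9]⟩]⟩,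
 ⟨2, 9, 191, [], [⟨1, 190, []⟩], [⟨1, 97, []⟩, ⟨1, 99, []⟩, ⟨1, 98, []⟩, ⟨1, 188, [0, 7, 3, 8, 0]⟩]⟩,
 ⟨6, 12, 130, [6, 9, 3, 15], [], [⟨1, 129, [6, 9, 3]⟩, ⟨1, 64, []⟩, ⟨1, 67, []⟩, ⟨1, 112, [0, 3, 11, 2, 2]⟩, ⟨1, 121, []⟩, ⟨1, 97, []⟩, ⟨1, 99, []⟩, ⟨1, 98, []⟩, ⟨1, 162, [0, 2, 2, 5, 9, 0]⟩, ⟨1, 172, []⟩, ⟨1, 156, []⟩, ⟨1, 186, [0, 2, 2, 4, 8]⟩, ⟨1, 116, [2, 4, 2, 8, 0, 9]⟩, ⟨1, 121, []⟩, ⟨1, 99, []⟩, ⟨1, 188, [3, 6, 1, 9, 10]⟩]⟩,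
 ⟨4, 12, 193, [], [⟨1, 192, []⟩], []⟩,
 ⟨6, 13, 137, [1, 2, 2, 8, 15], [], [⟨1, 136, [1, 2, 2, 8]⟩, ⟨1, 74, []⟩, ⟨1, 138, [2, 4, 6, 11, 1, 9]⟩, ⟨1, 139, []⟩, ⟨1, 143, []⟩, ⟨1, 158, [0, 4, 6, 10, 3, 9]⟩, ⟨1, 155, []⟩, ⟨1, 173, [2, 6, 8, 0, 9]⟩, ⟨1, 114, [9, 1, 11, 2, 2]⟩, ⟨1, 121, []⟩, ⟨1, 99, []⟩, ⟨1, 188, [8, 0, 0, 3, 9]⟩]⟩,
 ⟨4, 13, 195, [], [⟨1, 194, []⟩], []⟩,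
 ⟨6, 14, 142, [10, 2, 15], [], [⟨1, 141, [10, 2]⟩, ⟨1, 74, []⟩, ⟨1, 146, [2, 4, 2, 10, 0, 9]⟩, ⟨1, 73, []⟩, ⟨1, 74, []⟩, ⟨1, 146, [4, 9, 3, 7, 1]⟩, ⟨1, 154, [0, 8, 1, 8, 3, 9]⟩, ⟨1, 173, [10, 0, 5, 3]⟩, ⟨1, 99, []⟩, ⟨1, 188, [4, 2, 7, 8, 0, 9]⟩]⟩,
 ⟨4, 14, 197, [], [⟨1, 196, []⟩], []⟩,
 ⟨6, 15, 158, [0, 3, 6, 8, 15], [], [⟨1, 157, [0, 3, 6, 8]⟩, ⟨1, 75, []⟩, ⟨1, 74, []⟩, ⟨1, 138, [1, 6, 11, 2]⟩, ⟨1, 139, []⟩, ⟨1, 140, []⟩, ⟨1, 183, [0, 3, 6, 1, 10, 3]⟩, ⟨1, 132, [2, 4, 9, 10, 1, 4]⟩, ⟨1, 177, []⟩, ⟨1, 132, [0, 2, 5, 1, 2, 8]⟩, ⟨1, 128, []⟩, ⟨1, 177, []⟩, ⟨1, 128, []⟩, ⟨1, 192, [2, 4, 3, 10, 1, 5, 9]⟩]⟩,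
 ⟨4, 15, 199, [], [⟨1, 198, []⟩], []⟩,
 ⟨6, 15, 158, [0, 0, 2, 15], [], [⟨1, 157, [0, 0, 2]⟩, ⟨1, 72, []⟩, ⟨1, 75, []⟩, ⟨1, 74, []⟩, ⟨1, 146, [0, 4, 8, 2, 6, 1]⟩, ⟨1, 73, []⟩, ⟨1, 133, [0, 3, 4, 1, 4]⟩, ⟨1, 134, []⟩, ⟨1, 151, []⟩, ⟨1, 181, [4, 6, 10, 1, 10]⟩, ⟨1, 128, []⟩, ⟨1, 178, [6, 1, 9, 2, 8]⟩, ⟨1, 156, []⟩, ⟨1, 198, [0, 2, 4, 0, 2, 9]⟩]⟩,
 ⟨4, 15, 201, [], [⟨1, 200, []⟩], []⟩,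
 ⟨5, 17, 190, [8, 14], [], [⟨1, 189, [8]⟩, ⟨1, 97, []⟩, ⟨1, 188, [10, 1, 9]⟩]⟩,
 ⟨6, 17, 190, [0, 10, 3, 15], [], [⟨1, 189, [0, 10, 3]⟩, ⟨1, 97, []⟩, ⟨1, 99, []⟩, ⟨1, 162, [4, 1, 3, 4, 10]⟩, ⟨1, 172, []⟩, ⟨1, 160, [0, 3, 4, 0, 8, 3]⟩, ⟨1, 155, []⟩, ⟨1, 156, []⟩, ⟨1, 198, [5, 8, 1, 2, 9]⟩, ⟨1, 191, []⟩, ⟨1, 195, [3, 6, 0, 11, 3]⟩, ⟨1, 134, []⟩, ⟨1, 135, []⟩, ⟨1, 194, [0, 3, 10, 0, 0]⟩]⟩,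
 ⟨6, 17, 190, [0, 0, 2, 2, 15], [], [⟨1, 189, [0, 0, 2, 2]⟩, ⟨1, 152, [0, 4, 6, 8]⟩, ⟨1, 141, [8, 0, 6, 3, 11]⟩, ⟨1, 73, []⟩, ⟨1, 74, []⟩, ⟨1, 133, [4, 0, 2, 8, 11]⟩, ⟨1, 135, []⟩, ⟨1, 194, [2, 10, 3, 7, 0]⟩, ⟨1, 203, [0, 9, 0, 2, 6, 8]⟩]⟩,
 ⟨0, 0, 0, [], [], []⟩,
 ⟨2, 17, 206, [], [⟨1, 205, []⟩], [⟨1, 191, []⟩, ⟨1, 205, [2, 2, 9, 1]⟩]⟩,
 ⟨4, 17, 206, [], [⟨1, 205, []⟩], []⟩,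
 ⟨6, 17, 190, [10, 2, 15], [], [⟨1, 189, [10, 2]⟩, ⟨1, 98, []⟩, ⟨1, 152, [4, 1, 6, 11, 2]⟩, ⟨1, 143, []⟩, ⟨1, 196, [4, 9, 1, 3, 11]⟩, ⟨1, 191, []⟩, ⟨1, 197, [6, 0, 8, 2, 11, 0]⟩, ⟨1, 140, []⟩, ⟨1, 143, []⟩, ⟨1, 196, [0, 4, 3, 7]⟩, ⟨1, 205, [0, 10, 1, 2, 6]⟩]⟩,
 ⟨2, 17, 209, [], [⟨1, 208, []⟩], [⟨1, 205, [1, 2, 10, 2, 5]⟩]⟩,
 ⟨3, 4, 79, [], [], [⟨1, 78, []⟩, ⟨1, 85, []⟩]⟩,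
 ⟨3, 5, 113, [], [], [⟨1, 112, []⟩, ⟨1, 121, []⟩]⟩,
 ⟨3, 9, 115, [], [], [⟨1, 114, []⟩, ⟨1, 121, []⟩]⟩,
 ⟨3, 9, 125, [], [], [⟨1, 124, []⟩, ⟨1, 121, []⟩]⟩,
 ⟨3, 9, 163, [], [], [⟨1, 162, []⟩, ⟨1, 172, []⟩]⟩,
 ⟨3, 10, 117, [], [], [⟨1, 116, []⟩, ⟨1, 121, []⟩]⟩,
 ⟨3, 15, 170, [], [], [⟨1, 169, []⟩, ⟨1, 172, []⟩]⟩]
theorem chk : and2 (D.chkL PF 0) (Nat.beq (Nat.add 0 PF.length) 217) = true := by decide +kernel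
def l0 : DLive := ⟨0, [13, 14, 15, 16, 17, 18], [[0], [2], [4], [8], [10], [12]], [0], [[]]⟩
def l1 : DLive := ⟨1, [1, 3, 5, 7, 9, 11, 12], [[0], [2], [4], [6], [8], [10], [11]], [19, 20, 21], [[], [9, 14], [12]]⟩
def LR : List DLive := [⟨2, [22, 27, 26, 25, 24, 23, 30, 31, 46], [[4, 4], [0, 4, 1, 4], [9, 0, 2, 11], [2, 4, 2, 4], [9, 10], [0, 4, 1, 6, 9, 3, 11], [0, 2, 4, 0, 2, 5], [3, 9, 0, 6, 8], [4, 9, 3, 6, 0, 10]], [33, 28, 29, 32, 50, 62], [[9, 12], [], [9, 14], [8, 14], [3, 13], [12]]⟩,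
 ⟨3, [34, 39, 38, 37, 36, 35, 45, 49], [[2, 4, 2, 4], [10, 1, 3, 11], [9, 0, 2, 11], [13, 1, 2, 8, 10, 12], [4, 6, 9, 0, 8], [4, 4], [0, 8, 1, 5, 3, 9], [13, 10, 0, 3, 9, 11]], [40, 41, 58, 71], [[], [8, 14], [9, 14], [12]]⟩,
 ⟨4, [51, 52, 55, 54, 53, 56, 59], [[2, 2], [4, 4], [1, 4, 9, 2, 8], [3, 4, 7], [14, 3, 14, 2], [10, 3, 4, 9], [1, 2, 4, 3, 6]], [57, 60, 61, 210, 86, 96], [[], [8, 3, 5, 1, 14, 0], [9, 14], [12], [4, 12], [8, 12]]⟩,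
 ⟨5, [63, 64, 66, 65, 67], [[2, 4, 2, 4], [2, 4, 3, 5], [4, 6, 9, 11], [14, 7, 3, 14, 0], [0, 0, 4, 2]], [68, 69, 70, 103, 211, 127], [[], [9, 14], [8, 14], [9, 12], [3, 13], [12]]⟩,
 ⟨6, [73, 72, 74, 75], [[2, 4, 2, 4], [2, 2, 4, 4], [9, 0, 0, 3, 10], [2, 2, 10, 2, 2]], [76, 77, 133, 138, 146, 154], [[], [9, 14], [12], [8, 12], [15, 1, 3], [8, 13]]⟩,
 ⟨8, [87, 88, 89, 90, 91, 94], [[0, 4, 1, 6, 10, 3, 10], [2, 4, 2, 4], [13, 2, 4, 7, 12], [0, 8, 1, 4, 2, 9], [0, 4, 1, 9, 3, 6, 10], [9, 14, 0, 8, 0, 2, 6]], [92, 95, 126, 147], [[], [8, 14], [15, 3, 11, 0, 13, 11], [1, 10, 12, 8]]⟩,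
 ⟨9, [97, 99, 98], [[2, 4, 2, 4], [0, 9, 0, 2, 11, 1], [2, 4, 2, 6, 9, 11]], [100, 101, 102, 212, 122, 123, 213, 125, 152, 214, 188], [[], [9, 14], [8, 14], [2, 8, 15], [14, 6, 2, 10, 0, 13, 7], [10, 1, 2, 6, 14, 13], [14, 13, 8, 0, 9, 13], [0, 15, 2, 11, 13, 11], [9, 12, 1, 10, 1, 2], [12], [4, 12]]⟩,
 ⟨10, [104, 106, 105, 111], [[13, 1, 2, 8, 10, 12], [4, 6, 9, 3, 11], [4, 9, 1, 10, 3], [6, 1, 9, 3, 12]], [107, 108, 215, 185, 187], [[], [8, 14], [9, 14], [4, 15, 4, 3, 15, 3], [12, 6, 11, 0, 12, 0]]⟩,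
 ⟨12, [128, 177], [[13, 1, 2, 8, 10, 12], [4, 13, 6, 0, 2, 13, 3]], [129, 132, 130, 131, 178, 180, 182, 184, 192], [[], [8, 14], [9, 14], [14, 8, 0, 3, 9], [8, 3, 15], [0, 2, 2, 6, 8, 15], [6, 9, 0, 15], [3, 4, 8, 15], [6, 9, 3, 15]]⟩,
 ⟨13, [134, 135, 151], [[13, 1, 2, 8, 10, 12], [0, 4, 8, 0, 3, 9], [9, 14, 0, 8, 2, 14, 4]], [136, 137, 175, 181, 194], [[], [8, 14], [4, 13, 14, 12], [8, 0, 0, 15], [1, 2, 2, 8, 15]]⟩,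
 ⟨14, [139, 140, 143], [[13, 1, 2, 8, 10, 12], [4, 6, 9, 0, 10], [13, 0, 10, 2, 6]], [141, 144, 145, 148, 153, 158, 174, 183, 196], [[], [8, 14], [2, 6, 8, 15], [4, 2, 8, 10, 15, 10], [1, 9, 2, 2, 12, 3], [9, 14], [2, 15, 1, 7, 8, 14, 4], [13, 0, 4, 3, 10, 12, 0], [10, 2, 15]]⟩,
 ⟨15, [155, 156], [[3, 4, 7], [10, 3, 4, 9]], [157, 159, 160, 161, 216, 173, 179, 186, 198, 200], [[], [2, 6, 10, 14, 2], [9, 14], [6, 9, 0, 2, 15], [0, 13, 9, 1, 4, 2, 11], [13, 2, 2, 9, 0, 14], [6, 2, 10, 1, 13, 8], [13, 9, 11, 0, 13, 7], [0, 3, 6, 8, 15], [2, 15, 0, 0]]⟩,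
 ⟨17, [191], [[9, 14, 5, 13, 10]], [189, 193, 195, 197, 199, 201, 202, 203, 204, 205], [[], [15, 1, 2, 13, 1], [15, 2, 5, 1, 3], [5, 15, 14], [9, 0, 12, 0, 6, 10, 2], [9, 14, 8, 0, 2, 11], [8, 14], [0, 10, 3, 15], [0, 0, 2, 2, 15], [3, 15]]⟩,
 ⟨18, [206, 209], [[0, 0, 9, 3], [9, 10, 12, 8]], [207], [[]]⟩]
def LV : List DLive := l0 :: l1 :: LR
theorem live : allL LV (D.chkLive 217 (LV.map DLive.j)) = true := by decide +kernel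
def T28 : List (List ℕ) := [[], [12], [0, 12], [4, 12], [8, 12], [10, 12], [4, 0, 12], [8, 0, 12], [10, 0, 12], [12, 0, 12], [8, 4, 12], [10, 4, 12], [2, 8, 12], [12, 8, 12], [2, 10, 12], [4, 10, 12], [12, 10, 12], [2, 8, 0, 12], [2, 10, 0, 12], [12, 10, 0, 12], [2, 12, 0, 12], [2, 10, 4, 12], [12, 10, 4, 12], [0, 2, 10, 12], [12, 2, 10, 12], [12, 4, 10, 12], [12, 2, 10, 0, 12], [12, 0, 2, 10, 12]]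
def S28 : Step := (L6, T28, [([0], [], [0]),
 ([0, 12], [0, 12], []),
 ([0, 0, 12], [12], [4, 4]),
 ([0, 4, 12], [4, 0, 12], [0, 0, 4, 4]),
 ([0, 8, 12], [8, 4, 12], [10, 0, 10]),
 ([0, 10, 12], [10, 4, 12], [9, 1, 8]),
 ([0, 4, 0, 12], [4, 12], [0, 0]),
 ([0, 8, 0, 12], [12, 0, 12], [5, 8, 1]),
 ([0, 10, 0, 12], [4, 10, 12], [2, 9, 0, 8, 2]),
 ([0, 12, 0, 12], [8, 0, 12], [5, 1, 9]),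
 ([0, 8, 4, 12], [8, 12], [0, 8, 1, 9]),
 ([0, 10, 4, 12], [10, 12], [1, 8, 0, 9]),
 ([0, 2, 8, 12], [2, 12, 0, 12], [0, 8, 0, 0, 2, 2]),
 ([0, 12, 8, 12], [2, 8, 0, 12], [4, 0, 8, 2, 10, 0]),
 ([0, 2, 10, 12], [0, 2, 10, 12], []),
 ([0, 4, 10, 12], [10, 0, 12], [9, 1, 2, 2, 8]),
 ([0, 12, 10, 12], [12, 10, 12], [6, 0]),
 ([0, 2, 8, 0, 12], [12, 8, 12], [6, 11, 3, 9]),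
 ([0, 2, 10, 0, 12], [2, 10, 4, 12], [0, 2, 2, 5]),
 ([0, 12, 10, 0, 12], [12, 10, 0, 12], [0, 7]),
 ([0, 2, 12, 0, 12], [2, 8, 12], [2, 2, 9, 0]),
 ([0, 2, 10, 4, 12], [2, 10, 0, 12], [0, 2, 2, 5]),
 ([0, 12, 10, 4, 12], [12, 10, 4, 12], [0, 6]),
 ([0, 0, 2, 10, 12], [2, 10, 12], [0, 4, 0, 4]),
 ([0, 12, 2, 10, 12], [12, 2, 10, 12], [0, 8, 0, 2, 2, 9]),
 ([0, 12, 4, 10, 12], [12, 4, 10, 12], [6, 0]),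
 ([0, 12, 2, 10, 0, 12], [12, 2, 10, 0, 12], [0, 3, 8, 0, 9, 3]),
 ([0, 12, 0, 2, 10, 12], [12, 0, 2, 10, 12], [1, 2, 8, 1, 9, 2]),
 ([2], [], [2]),
 ([2, 12], [0, 12], [2, 4, 2, 6, 9, 1, 11]),
 ([2, 0, 12], [12], [9, 10]),
 ([2, 4, 12], [4, 12], [2, 2, 9, 10, 0, 6]),
 ([2, 8, 12], [2, 8, 12], []),
 ([2, 10, 12], [2, 10, 12], []),
 ([2, 4, 0, 12], [4, 0, 12], [0, 2, 6, 2, 9, 11]),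
 ([2, 8, 0, 12], [2, 8, 0, 12], []),
 ([2, 10, 0, 12], [2, 10, 0, 12], []),
 ([2, 12, 0, 12], [2, 12, 0, 12], []),
 ([2, 8, 4, 12], [12, 8, 12], [1, 3, 8, 2, 10]),
 ([2, 10, 4, 12], [2, 10, 4, 12], []),
 ([2, 2, 8, 12], [8, 0, 12], [2, 2, 5, 8, 1, 9]),
 ([2, 12, 8, 12], [12, 0, 12], [0, 0, 9, 2, 11, 0]),
 ([2, 2, 10, 12], [10, 0, 12], [2, 2, 5, 8, 1, 9]),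
 ([2, 4, 10, 12], [0, 2, 10, 12], [0, 2, 5, 3]),
 ([2, 12, 10, 12], [12, 10, 12], [1, 4, 9, 3, 11]),
 ([2, 2, 8, 0, 12], [8, 12], [2, 2, 8, 0, 5, 9]),
 ([2, 2, 10, 0, 12], [10, 12], [2, 2, 8, 0, 5, 9]),
 ([2, 12, 10, 0, 12], [12, 10, 0, 12], [4, 0, 9, 3, 10]),
 ([2, 2, 12, 0, 12], [8, 4, 12], [2, 2, 9, 0, 0]),
 ([2, 2, 10, 4, 12], [4, 10, 12], [4, 2, 8, 1, 9, 2]),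
 ([2, 12, 10, 4, 12], [12, 4, 10, 12], [0, 4, 9, 3, 11]),
 ([2, 0, 2, 10, 12], [10, 4, 12], [8, 1, 9, 0]),
 ([2, 12, 2, 10, 12], [12, 2, 10, 12], [0, 4, 9, 1, 3, 8]),
 ([2, 12, 4, 10, 12], [12, 10, 4, 12], [1, 4, 9, 3, 11]),
 ([2, 12, 2, 10, 0, 12], [12, 2, 10, 0, 12], [6, 1, 10, 2, 10]),
 ([2, 12, 0, 2, 10, 12], [12, 0, 2, 10, 12], [4, 9, 2, 6, 1, 8]),
 ([4], [], [4]),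
 ([4, 12], [4, 12], []),
 ([4, 0, 12], [4, 0, 12], []),
 ([4, 4, 12], [12], [0, 4, 1, 5]),
 ([4, 8, 12], [8, 4, 12], []),
 ([4, 10, 12], [4, 10, 12], []),
 ([4, 4, 0, 12], [0, 12], [0, 4, 1, 5]),
 ([4, 8, 0, 12], [12, 0, 12], [0, 8, 1, 4]),
 ([4, 10, 0, 12], [10, 4, 12], [2, 4, 2, 4]),
 ([4, 12, 0, 12], [8, 0, 12], [0, 5, 9, 1]),
 ([4, 8, 4, 12], [8, 12], [0, 4, 1, 5]),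
 ([4, 10, 4, 12], [10, 0, 12], [0, 2, 4, 0, 3, 5]),
 ([4, 2, 8, 12], [12, 8, 12], [4, 10, 1, 2, 5, 9]),
 ([4, 12, 8, 12], [2, 8, 12], [4, 8, 3, 6, 0, 10]),
 ([4, 2, 10, 12], [2, 10, 4, 12], [0, 2, 2, 6]),
 ([4, 4, 10, 12], [10, 12], [0, 4, 1, 5]),
 ([4, 12, 10, 12], [12, 10, 4, 12], [8, 0, 2, 2, 9]),
 ([4, 2, 8, 0, 12], [2, 12, 0, 12], [2, 2, 6, 8, 1]),
 ([4, 2, 10, 0, 12], [0, 2, 10, 12], [0, 0, 4, 7]),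
 ([4, 12, 10, 0, 12], [12, 4, 10, 12], [1, 2, 2, 9, 0, 8]),
 ([4, 2, 12, 0, 12], [2, 8, 0, 12], [2, 6, 0, 2, 9]),
 ([4, 2, 10, 4, 12], [2, 10, 12], [0, 2, 2, 6]),
 ([4, 12, 10, 4, 12], [12, 10, 12], [2, 8, 1, 9, 2]),
 ([4, 0, 2, 10, 12], [2, 10, 0, 12], [0, 4, 0, 6]),
 ([4, 12, 2, 10, 12], [12, 2, 10, 12], [2, 6, 3]),
 ([4, 12, 4, 10, 12], [12, 10, 0, 12], [8, 1, 9, 2, 2]),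
 ([4, 12, 2, 10, 0, 12], [12, 2, 10, 0, 12], [0, 2, 7, 0, 2]),
 ([4, 12, 0, 2, 10, 12], [12, 0, 2, 10, 12], [0, 2, 7, 1, 2]),
 ([8], [], [8]),
 ([8, 12], [8, 12], []),
 ([8, 0, 12], [8, 0, 12], []),
 ([8, 4, 12], [8, 4, 12], []),
 ([8, 8, 12], [10, 12], [9, 1, 3, 10]),
 ([8, 10, 12], [12], [9, 1, 3, 10]),
 ([8, 4, 0, 12], [12, 0, 12], [0, 8, 1, 4]),
 ([8, 8, 0, 12], [10, 0, 12], [9, 0, 3, 11]),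
 ([8, 10, 0, 12], [0, 12], [9, 0, 3, 11]),
 ([8, 12, 0, 12], [10, 4, 12], [0, 6, 11, 1, 2]),
 ([8, 8, 4, 12], [4, 10, 12], [9, 1, 3, 10]),
 ([8, 10, 4, 12], [4, 0, 12], [9, 0, 2, 10]),
 ([8, 2, 8, 12], [2, 10, 12], [2, 5, 1, 8, 3, 9]),
 ([8, 12, 8, 12], [2, 10, 4, 12], [8, 0, 10, 3]),
 ([8, 2, 10, 12], [12, 10, 4, 12], [6, 8, 0, 3, 9]),
 ([8, 4, 10, 12], [4, 12], [9, 1, 3, 10]),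
 ([8, 12, 10, 12], [12, 8, 12], [8, 1, 3, 10]),
 ([8, 2, 8, 0, 12], [2, 10, 0, 12], [0, 9, 2, 6, 0, 8]),
 ([8, 2, 10, 0, 12], [12, 4, 10, 12], [0, 4, 8, 0, 3, 6, 9]),
 ([8, 12, 10, 0, 12], [2, 12, 0, 12], [0, 4, 8, 0, 2, 7]),
 ([8, 2, 12, 0, 12], [0, 2, 10, 12], [4, 9, 1, 2, 7]),
 ([8, 2, 10, 4, 12], [12, 10, 12], [8, 2, 9, 1]),
 ([8, 12, 10, 4, 12], [2, 8, 12], [2, 4, 9, 0, 7, 8]),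
 ([8, 0, 2, 10, 12], [12, 10, 0, 12], [0, 3, 10, 3, 10]),
 ([8, 12, 2, 10, 12], [12, 0, 2, 10, 12], [0, 2, 9, 1, 2]),
 ([8, 12, 4, 10, 12], [2, 8, 0, 12], [0, 2, 5]),
 ([8, 12, 2, 10, 0, 12], [12, 2, 10, 12], [2, 4, 9, 0, 2, 7]),
 ([8, 12, 0, 2, 10, 12], [12, 2, 10, 0, 12], [0, 2, 4, 1, 9, 3, 7]),
 ([10], [], [10]),
 ([10, 12], [10, 12], []),
 ([10, 0, 12], [10, 0, 12], []),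
 ([10, 4, 12], [10, 4, 12], []),
 ([10, 8, 12], [8, 12], [9, 1, 3, 10]),
 ([10, 10, 12], [12], []),
 ([10, 4, 0, 12], [4, 10, 12], [0, 2, 4, 0, 3, 5]),
 ([10, 8, 0, 12], [8, 0, 12], [9, 0, 3, 11]),
 ([10, 10, 0, 12], [0, 12], []),
 ([10, 12, 0, 12], [8, 4, 12], [0, 6, 11, 1, 2]),
 ([10, 8, 4, 12], [12, 0, 12], [0, 2, 10, 0, 6]),
 ([10, 10, 4, 12], [4, 12], []),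
 ([10, 2, 8, 12], [2, 8, 12], [0, 9, 3, 4, 8]),
 ([10, 12, 8, 12], [12, 8, 12], [8, 1, 3, 9]),
 ([10, 2, 10, 12], [12, 10, 4, 12], [4, 2, 6, 10, 0, 10]),
 ([10, 4, 10, 12], [4, 0, 12], [0, 2, 4, 0, 3, 5]),
 ([10, 12, 10, 12], [2, 10, 4, 12], [1, 10, 1, 10, 3]),
 ([10, 2, 8, 0, 12], [2, 8, 0, 12], [0, 9, 2, 7, 1, 8]),
 ([10, 2, 10, 0, 12], [12, 4, 10, 12], [0, 5, 2]),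
 ([10, 12, 10, 0, 12], [0, 2, 10, 12], [4, 1, 3, 7]),
 ([10, 2, 12, 0, 12], [2, 12, 0, 12], [0, 0, 2, 4, 7]),
 ([10, 2, 10, 4, 12], [12, 10, 12], [1, 3, 9, 0, 8]),
 ([10, 12, 10, 4, 12], [2, 10, 12], [2, 4, 9, 1, 7, 8]),
 ([10, 0, 2, 10, 12], [12, 10, 0, 12], [4, 0, 2, 6]),
 ([10, 12, 2, 10, 12], [12, 0, 2, 10, 12], [2, 4, 1, 10, 2, 5]),
 ([10, 12, 4, 10, 12], [2, 10, 0, 12], [3, 4, 1]),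
 ([10, 12, 2, 10, 0, 12], [12, 2, 10, 0, 12], [0, 2, 4, 1, 6, 11, 2]),
 ([10, 12, 0, 2, 10, 12], [12, 2, 10, 12], [2, 4, 10, 0, 5, 2]),
 ([12], [12], []),
 ([12, 12], [8, 12], [9]),
 ([12, 0, 12], [12, 0, 12], []),
 ([12, 4, 12], [8, 0, 12], [1, 9, 0, 0]),
 ([12, 8, 12], [12, 8, 12], []),
 ([12, 10, 12], [12, 10, 12], []),
 ([12, 4, 0, 12], [8, 4, 12], [9, 0, 5]),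
 ([12, 8, 0, 12], [2, 8, 0, 12], [0, 4, 8, 1, 3, 10]),
 ([12, 10, 0, 12], [12, 10, 0, 12], []),
 ([12, 12, 0, 12], [2, 12, 0, 12], [0, 4, 6, 10, 1, 2]),
 ([12, 8, 4, 12], [2, 8, 12], [4, 8, 1, 2, 11]),
 ([12, 10, 4, 12], [12, 10, 4, 12], []),
 ([12, 2, 8, 12], [10, 0, 12], [0, 2, 4, 0, 9, 2]),
 ([12, 12, 8, 12], [10, 12], [10, 1, 3]),
 ([12, 2, 10, 12], [12, 2, 10, 12], []),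
 ([12, 4, 10, 12], [12, 4, 10, 12], []),
 ([12, 12, 10, 12], [2, 10, 4, 12], [9, 0, 0, 3]),
 ([12, 2, 8, 0, 12], [10, 4, 12], [2, 4, 6, 9, 2]),
 ([12, 2, 10, 0, 12], [12, 2, 10, 0, 12], []),
 ([12, 12, 10, 0, 12], [2, 10, 0, 12], [4, 9, 1, 2, 6]),
 ([12, 2, 12, 0, 12], [4, 10, 12], [4, 1, 8, 2, 6]),
 ([12, 2, 10, 4, 12], [], [9, 2, 10, 1, 9]),
 ([12, 12, 10, 4, 12], [0, 2, 10, 12], [9, 1, 6, 3]),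
 ([12, 0, 2, 10, 12], [12, 0, 2, 10, 12], []),
 ([12, 12, 2, 10, 12], [0, 12], [0, 0, 11, 2]),
 ([12, 12, 4, 10, 12], [2, 10, 12], [4, 0, 9, 2, 5]),
 ([12, 12, 2, 10, 0, 12], [4, 0, 12], [1, 6, 11, 3]),
 ([12, 12, 0, 2, 10, 12], [4, 12], [11, 0, 0, 2])])
theorem cS28 : chkStep S28 dl = true := by decide +kernel
theorem rS28 : chkRowsC (mu false) 0 (nth 0 LT) S28 = true := by decide +kernel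
def RW : List (List (List ℕ × List ℕ × List ℕ)) := [[([], [], []), ([5], [], []), ([0, 5], [], []), ([2, 5], [], []), ([3, 5], [], []), ([4, 5], [], []), ([2, 0, 5], [], []), ([3, 0, 5], [], []), ([4, 0, 5], [], []), ([5, 0, 5], [], []), ([3, 2, 5], [], []), ([4, 2, 5], [], []), ([1, 3, 5], [], []), ([5, 3, 5], [], []), ([1, 4, 5], [], []), ([2, 4, 5], [], []), ([5, 4, 5], [], []), ([1, 3, 0, 5], [], []), ([1, 4, 0, 5], [], []), ([5, 4, 0, 5], [], []), ([1, 5, 0, 5], [], []), ([1, 4, 2, 5], [], []), ([5, 4, 2, 5], [], []), ([0, 1, 4, 5], [], []), ([5, 1, 4, 5], [], []), ([5, 2, 4, 5], [], []), ([5, 1, 4, 0, 5], [], []), ([5, 0, 1, 4, 5], [], [])],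
 [([], [], []), ([], [12], []), ([0], [12], []), ([2], [12], []), ([4], [12], []), ([5], [12], []), ([2, 0], [12], []), ([4, 0], [12], []), ([5, 0], [12], []), ([0, 4, 0], [12], [0, 4, 9]), ([2, 4], [12], []), ([3, 5], [12], []), ([1, 4], [12], []), ([1, 0, 4], [12], [8, 1, 3, 10]), ([1, 5], [12], []), ([2, 5], [12], []), ([5, 1, 0, 5], [12], [1, 3]), ([1, 4, 0], [12], []), ([1, 5, 0], [12], []), ([0, 5, 0, 1, 5], [12], [4, 2]), ([1, 0, 4, 0], [12], [0, 4, 9]), ([1, 3, 5], [12], []), ([4, 1, 5], [12], [8, 0, 3, 7, 9]), ([0, 1, 5], [12], []), ([5], [9, 14], [9, 0, 10, 2, 7]), ([5, 1, 5, 0], [12], [3, 4, 1]), ([4], [9, 14], [0, 4, 0, 2]), ([], [9, 14], [9, 3, 6])],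
 [([], [], []), ([], [12], []), ([3], [12], [2, 2, 4, 8, 1, 9]), ([2, 5], [12], [1, 2, 4, 3]), ([4], [12], [9, 1, 3, 10]), ([4], [9, 12], []), ([4, 7, 2], [12], [2, 4, 2, 6, 9, 1, 10]), ([3, 4], [12], [0, 9, 3, 4, 10]), ([6], [9, 12], [0, 9, 3, 4, 11]), ([2, 4, 5], [12], [4, 10, 3, 5, 1]), ([7, 2], [12], [4, 6, 9, 3, 8]), ([], [3, 13], [9, 2, 10, 1, 9]), ([3, 5], [12], [0, 0, 10, 0, 2, 11]), ([2, 3], [12], [0, 3, 11, 0, 0, 9]), ([7], [3, 13], [0, 0, 10, 3, 4]), ([4], [3, 13], [0, 8, 0, 2]), ([8, 4], [12], [0, 7, 0, 2]), ([5], [12], [0, 9, 0, 2, 6, 8]), ([7, 4], [3, 13], [8, 3, 5]), ([2, 4], [12], [1, 4, 3, 7]), ([2], [12], [4, 9, 0, 2, 6]), ([7], [9, 12], [0, 9, 1, 3, 6, 10]), ([3, 4, 5], [12], [7, 0, 3]),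 ([6, 7], [9, 12], [4, 9, 2, 11, 0]), ([], [8, 14], [0, 8, 0, 0, 2, 6]), ([4, 5], [12], [1, 4, 3]), ([4], [9, 14], [6, 10, 2]), ([], [9, 14], [9, 3, 6])],
 [([], [], []), ([], [12], []), ([0], [12], [2, 2, 4, 8, 1, 9]), ([0, 4], [12], [1, 2, 4, 3]), ([7], [12], [2, 4, 1, 4, 8]), ([6, 7], [8, 14], [2, 6, 3, 11, 1, 9]), ([4], [12], [10, 0, 2, 2, 10]), ([1, 2], [12], [1, 9, 3, 4, 11]), ([6, 7], [], [9, 0, 2, 2, 8]), ([7, 0], [12], [1, 4, 3, 6]), ([2, 6], [12], [9, 1, 2, 8]), ([6, 1, 7], [9, 14], [8, 1, 9]), ([2, 4], [12], [0, 0, 10, 0, 2, 11]), ([1, 7], [12], [9, 0, 3]), ([1, 7], [9, 14], [2, 2, 6, 9, 1, 11]), ([6, 7], [9, 14], [2, 2, 9, 1, 6, 10]), ([1], [12], [2, 4, 0, 4]), ([0, 2, 4], [12], [0, 9, 0, 2, 6,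 8]), ([7], [9, 14], [0, 2, 10, 0, 10, 2]), ([0, 1], [12], [0, 4, 3, 6]), ([2], [12], [4, 9, 0, 2, 6]), ([7], [], [1, 9, 10, 0]), ([3], [12], [7, 0, 3]), ([7], [8, 14], [0, 9, 0]), ([], [8, 14], [0, 8, 0, 0, 2, 6]), ([1, 4], [12], [0, 5, 3]), ([2], [9, 14], [2, 8, 0, 9, 2, 11]), ([], [9, 14], [9, 3, 6])],
 [([], [], []), ([], [12], []), ([6], [12], [0, 2, 2, 7]), ([], [4, 12], []), ([], [8, 12], []), ([5, 6], [8, 12], [9, 0, 2, 2, 11]), ([3], [4, 12], [0, 2, 2, 6, 9, 10]), ([0], [8, 12], [2, 2, 8, 0, 5, 9]), ([0, 5, 6], [8, 12], [2, 2, 9, 10, 1, 4]), ([6], [8, 12], [0, 9, 0, 6]), ([0, 6], [8, 12], [2, 2, 7, 8, 1, 9]), ([5], [8, 12], [2, 2, 9, 10, 0, 6]), ([3], [8, 12], [4, 2, 8, 1, 9, 2]), ([6, 2], [8, 12],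 [3, 8, 0]), ([3, 5, 6], [8, 12], [2, 6, 2, 9, 11, 1]), ([0, 5], [8, 12], [4, 6, 9, 0, 11]), ([2], [12], [4, 2]), ([2], [8, 12], [2, 4, 2, 6, 9, 11]), ([0, 3, 5, 6], [8, 12], [9, 0, 10]), ([4], [12], [0, 9, 10, 1, 3, 4]), ([3, 6], [8, 12], [2, 4, 3, 6, 9]), ([3, 5], [8, 12], [4, 6, 9, 1, 10]), ([2], [4, 12], [1, 3, 7]), ([5, 2], [8, 12], [0, 4, 0, 4]), ([], [8, 3, 5, 1, 14, 0], [0, 0, 6, 2, 8, 1]), ([5], [4, 12], [8, 0, 11, 3, 9, 1]), ([5], [8, 3, 5, 1, 14, 0], [0, 10, 2, 5, 0]), ([], [9, 14], [9, 3, 6])],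
 [([], [], []), ([], [12], []), ([1], [12], [2, 6, 0, 3]), ([0, 4], [12], [2, 2, 4, 9, 10, 1]), ([0, 2], [12], [0, 9, 2, 4, 11]), ([], [9, 12], [9, 1, 3, 10]), ([4], [12], [2, 4, 2, 6, 9, 1, 10]), ([2], [12], [9, 0, 2, 10]), ([2], [9, 12], [2, 4, 2, 4]), ([2, 4], [12], [0, 7, 9, 0, 2]), ([0, 2, 4], [12], [2, 4, 1, 8, 3, 9]), ([], [3, 13], [9, 2, 10, 1, 9]), ([0, 2, 3], [12], [0, 9, 0, 3, 7, 8]), ([0, 4, 2], [12], [0, 6, 1, 8, 2]), ([4], [3, 13], [4, 1, 11, 2]), ([1], [3, 13], [1, 4, 11, 2]), ([3, 4], [12], [8, 3, 11, 1, 9]), ([2, 3], [12], [0, 0, 10, 1, 3, 11]), ([1, 4], [3, 13], [1, 11, 1, 2]), ([0, 3, 4], [12], [4, 0, 6, 9, 10, 3]), ([4, 2], [12], [1, 4, 11, 3]), ([4], [9, 12], [1, 9, 2, 4, 11]), ([1, 3],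 [12], [7, 0, 3]), ([1, 4], [9, 12], [2, 6, 0, 9, 11, 2]), ([], [8, 14], [0, 8, 0, 0, 2, 6]), ([3], [12], [0, 6, 2, 10, 0, 10]), ([2], [9, 14], [4, 11, 2]), ([], [9, 14], [9, 3, 6])],
 [([], [], []), ([], [12], []), ([0], [12], [2, 2, 4, 8, 1, 9]), ([2], [15, 1, 3], [0, 3, 8, 1, 8]), ([], [8, 12], []), ([0, 1, 3], [12], []), ([0, 2], [15, 1, 3], [1, 4, 2, 9, 0]), ([0], [8, 12], [2, 6, 0, 3]), ([3], [12], [2, 6, 0, 3]), ([2], [8, 13], [4, 0, 9, 3, 8]), ([1, 2], [8, 13], [3, 5, 1, 8, 2]), ([1, 3, 2], [15, 1, 3], [4, 1, 3, 7, 9]), ([0, 2], [12], [2, 4, 0, 8, 3, 9]), ([], [15, 1, 3], [1, 3, 10, 1, 3]), ([3, 2], [8, 12], [0, 0, 4, 6, 9, 2, 10]), ([3, 2], [15, 1, 3], [0, 7, 0, 2, 9]), ([], [8, 13], [1, 3, 10]), ([2],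 [12], [0, 0, 4, 6, 10, 2, 10]), ([1, 3, 2], [8, 12], [1, 9, 3, 4, 10]), ([0], [8, 13], [4, 0, 3, 6, 11]), ([0], [15, 1, 3], [4, 9, 1, 3, 7, 9]), ([1, 3], [8, 13], [0, 2, 4, 10, 0, 4, 2]), ([2, 1], [8, 12], [2, 9, 0, 11]), ([3], [8, 13], [2, 4, 6, 11, 0, 3]), ([3], [9, 14], [9, 1, 4, 10, 3]), ([2], [8, 12], [9, 3, 11, 0, 0, 2]), ([2], [9, 14], [2, 4, 0, 2, 4, 10]), ([], [9, 14], [9, 3, 6])],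
 [([], [], []), ([4, 5], [1, 10, 12, 8], [8, 1, 7, 2, 8]), ([1, 4, 5], [1, 10, 12, 8], [2, 4, 9, 3, 6, 0]), ([1, 4, 5], [15, 3, 11, 0, 13, 11], [4, 8, 1, 2, 11]), ([1, 5, 3], [1, 10, 12, 8], [2, 6, 2, 8, 10]), ([4], [15, 3, 11, 0, 13, 11], [2, 4, 0, 11, 2, 9]), ([4, 5], [15, 3, 11, 0, 13, 11], [4, 0, 8, 2, 6, 11]), ([0, 5], [1, 10, 12, 8], [2, 11, 0, 9, 2]), ([], [15, 3, 11, 0, 13, 11], [0, 4, 1, 6, 8, 11]), ([5, 3], [15, 3, 11, 0, 13, 11], [0, 8]), ([1, 5, 3], [15, 3, 11, 0, 13, 11], [2, 2, 4, 9, 1, 6]), ([], [1, 10, 12, 8], [0, 4, 4, 9, 1]), ([5], [1, 10, 12, 8], [0, 9, 1, 2, 4, 2]), ([1, 5], [15, 3, 11, 0, 13, 11], [0, 0, 8, 2, 9, 3]), ([3, 2], [1, 10, 12, 8], [4, 8, 1, 6, 2, 8]), ([2], [1, 10, 12, 8],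 [4, 8, 1, 6, 2, 10]), ([2, 5], [15, 3, 11, 0, 13, 11], [3, 8, 2, 11]), ([1, 5], [1, 10, 12, 8], [0, 2, 4, 2, 6, 9]), ([3], [1, 10, 12, 8], [0, 4, 1, 6, 8, 11]), ([2, 3, 5], [15, 3, 11, 0, 13, 11], [3, 8, 1, 8]), ([5], [15, 3, 11, 0, 13, 11], [2, 4, 3, 6, 9, 0, 10]), ([3, 4], [15, 3, 11, 0, 13, 11], [3, 9, 3]), ([1, 2, 5], [1, 10, 12, 8], [4, 3, 9, 0, 6]), ([3], [15, 3, 11, 0, 13, 11], [9, 0, 0]), ([], [8, 14], [0, 8, 0, 0, 2, 6]), ([2, 5], [1, 10, 12, 8], [0, 3, 8, 1, 8]), ([2, 5], [], [0, 9, 1, 2, 11]), ([5], [], [0, 0, 3, 8, 1, 2])],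
 [([], [], []), ([], [12], []), ([0], [12], [2, 2, 4, 8, 1, 9]), ([], [4, 12], []), ([2], [12], [3, 4, 1, 9, 10, 2]), ([], [9, 12, 1, 10, 1, 2], [1, 9, 2, 2, 9, 0]), ([0], [4, 12], [2, 2, 4, 8, 1, 9]), ([0, 2], [12], [9, 1, 2, 11]), ([2], [9, 12, 1, 10, 1, 2], [3, 4, 10, 1, 4]), ([2], [4, 12], [0, 4, 1, 10, 2, 5]), ([0, 2], [4, 12], [9, 0, 3, 11]), ([], [0, 15, 2, 11, 13, 11], [6, 11, 0, 9]), ([0, 1], [12], [0, 9, 1, 3, 6, 8]), ([0, 1], [4, 12], [4, 1, 3, 6, 8, 10]), ([], [14, 13, 8, 0, 9, 13], [0, 4, 10, 0, 3, 9]), ([], [2, 8, 15], [2, 2, 4, 9, 1]), ([1, 2], [4, 12], [3, 9, 1, 7, 8]), ([1], [12], [0, 0, 9, 0, 3, 8]), ([], [14, 6, 2, 10, 0, 13, 7], [1, 2, 6, 8, 3]), ([0, 1, 2], [4, 12], [4, 3, 9, 1, 8]), ([1],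 [4, 12], [4, 9, 1, 2, 4]), ([1], [10, 1, 2, 6, 14, 13], [2, 4, 10, 0, 2]), ([1, 2], [12], [4, 3, 8, 0, 9]), ([], [10, 1, 2, 6, 14, 13], [9, 2, 9, 0, 0]), ([], [8, 14], [0, 8, 0, 0, 2, 6]), ([0, 1, 2], [12], [0, 6, 2, 10, 0, 10]), ([1], [9, 14], [0, 11]), ([], [9, 14], [9, 3, 6])],
 [([], [], []), ([3, 1], [12, 6, 11, 0, 12, 0], [4, 1, 2, 8]), ([0], [12, 6, 11, 0, 12, 0], [1, 10, 0, 10, 2]), ([3], [4, 15, 4, 3, 15, 3], [2, 6, 3, 10, 1]), ([1], [12, 6, 11, 0, 12, 0], [9, 0, 10, 2, 7]), ([3], [8, 14], [0, 8, 3, 4, 0, 10]), ([3, 3], [12, 6, 11, 0, 12, 0], [4, 1, 2, 9]), ([3], [12, 6, 11, 0, 12, 0], [0, 0, 11, 0, 2, 2]), ([3], [], [9, 0, 0, 2, 8]), ([3, 1, 3], [12, 6, 11, 0, 12, 0], [2, 6, 0, 9, 10, 2]), ([], [4,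 15, 4, 3, 15, 3], [1, 8, 3, 8]), ([3, 2], [9, 14], [3, 4, 1, 5]), ([0, 1], [12, 6, 11, 0, 12, 0], [0, 4, 8, 0, 2, 9]), ([3, 2], [12, 6, 11, 0, 12, 0], [0, 0, 2, 2, 4]), ([2, 3], [9, 14], [2, 2, 6, 9, 1, 11]), ([3], [9, 14], [0, 9, 3, 11]), ([1], [4, 15, 4, 3, 15, 3], [0, 0, 3, 8, 11]), ([2], [12, 6, 11, 0, 12, 0], [0, 3, 9, 1, 2, 10]), ([3, 3], [9, 14], [0, 8, 0, 3, 7, 9]), ([3, 1, 2], [12, 6, 11, 0, 12, 0], [0, 2, 6, 1, 3, 8, 11]), ([0], [4, 15, 4, 3, 15, 3], [9, 1, 4, 10, 3, 5]), ([2, 3], [], [0, 8, 1, 9]), ([2, 1], [12, 6, 11, 0, 12, 0], [9, 0, 2, 11, 1]), ([2, 3], [8, 14], [8, 0, 10]), ([], [8, 14], [0, 8, 0, 0, 2, 6]), ([], [12, 6, 11, 0, 12, 0], [1, 2, 4, 2, 4]), ([2], [9, 14], [1, 3, 10, 2, 2]), ([],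 [9, 14], [9, 3, 6])],
 [([], [], []), ([1], [0, 2, 2, 6, 8, 15], [2, 4, 8, 0, 9]), ([], [6, 9, 3, 15], [9, 10, 0, 0, 3, 10]), ([0, 1, 0], [6, 9, 3, 15], [4, 9, 3, 11]), ([0, 1], [14, 8, 0, 3, 9], [0, 0, 4, 8, 2, 11]), ([], [3, 4, 8, 15], [2, 6, 0, 2, 9]), ([0], [6, 9, 0, 15], [1, 2, 9, 2, 7]), ([0, 1], [], [1, 2, 4, 3, 7, 9]), ([1], [8, 3, 15], [4, 0, 3, 5]), ([0, 1], [8, 14], [0, 2, 4, 0, 2, 6, 10]), ([0, 1], [9, 14], [4, 1, 6, 11]), ([0], [8, 3, 15], [2, 7, 0, 2, 9]), ([1], [14, 8, 0, 3, 9], [2, 9, 3, 5]), ([1], [8, 14], [0, 0, 8, 1, 3, 11]), ([1], [6, 9, 3, 15], [3, 8, 0, 2, 2]), ([], [8, 3, 15], [8, 0, 2, 2, 11]), ([1, 0], [6, 9, 3, 15], [0, 0, 4, 2, 6, 9, 11]), ([1], [], [2, 10, 1, 9, 3]), ([0, 1], [6,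 9, 3, 15], [0, 3, 4, 11]), ([], [6, 9, 0, 15], [0, 0, 4, 2, 9]), ([1], [9, 14], [0, 0, 2, 4, 3, 4]), ([], [0, 2, 2, 6, 8, 15], [0, 2, 4, 3, 7, 9, 0]), ([0, 1], [0, 2, 2, 6, 8, 15], [2, 4, 2, 9, 1, 6, 8]), ([1, 0], [6, 9, 0, 15], [5, 3, 8]), ([], [8, 14], [0, 8, 0, 0, 2, 6]), ([0], [6, 9, 3, 15], [0, 4, 3, 4, 9, 1]), ([], [14, 8, 0, 3, 9], [0, 9, 0, 3, 5, 8]), ([], [9, 14], [9, 3, 6])],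
 [([], [], []), ([0, 2], [8, 0, 0, 15], [0, 2, 10, 3, 9]), ([2, 2], [4, 13, 14, 12], [0, 2, 4, 1, 7, 9, 3]), ([1, 2], [1, 2, 2, 8, 15], [0, 0, 2, 4, 9, 2]), ([0], [4, 13, 14, 12], [0, 8, 2, 6, 11]), ([2], [4, 13, 14, 12], [2, 4, 3, 9, 0, 4]), ([0, 2], [1, 2, 2, 8, 15], [2, 11, 1, 3, 9]), ([2, 2], [8, 0, 0, 15], [0, 0, 8, 3, 6, 11]), ([1], [8, 0, 0, 15], [8, 0, 2, 2, 11]), ([1, 2, 2], [1, 2, 2, 8, 15], [8, 0, 5, 3]), ([2, 2], [1, 2, 2, 8, 15], [8, 3, 6, 1, 11]), ([1], [1, 2, 2, 8, 15], [2, 2, 4, 0, 8, 10]), ([], [4, 13, 14, 12], [1, 2, 9, 2, 6]), ([2, 0, 2], [1, 2, 2, 8, 15], [1, 7, 2]), ([], [1, 2, 2, 8, 15], [0, 0, 4, 4, 9]), ([0, 1], [1, 2, 2, 8, 15], [0, 0, 8, 2, 2, 8]), ([2, 0], [1, 2, 2, 8, 15], [2, 9]),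 ([0, 2, 2], [8, 0, 0, 15], [8, 3, 5, 0, 8]), ([0], [1, 2, 2, 8, 15], [1, 2, 2, 4, 8, 10]), ([2], [1, 2, 2, 8, 15], [0, 4, 1, 10, 2, 5, 9]), ([0, 2, 2], [1, 2, 2, 8, 15], [0, 0, 5, 8, 3]), ([], [8, 0, 0, 15], [0, 9, 1]), ([2], [8, 0, 0, 15], [0, 0, 4, 11, 3, 9]), ([2, 0], [4, 13, 14, 12], [0, 0, 2, 2, 4, 9]), ([], [8, 14], [0, 8, 0, 0, 2, 6]), ([1, 2, 2], [4, 13, 14, 12], [2, 8, 1, 3, 10]), ([2], [], [0, 4, 0, 3, 9, 11]), ([2, 2], [], [2, 4, 3, 10, 0, 4, 9])],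
 [([], [], []), ([1], [10, 2, 15], [2, 9, 1, 2, 5]), ([0], [13, 0, 4, 3, 10, 12, 0], [0, 7, 1, 9]), ([1], [2, 15, 1, 7, 8, 14, 4], [1, 2, 7, 2]), ([2], [10, 2, 15], [0, 2, 7, 0]), ([], [4, 2, 8, 10, 15, 10], [0, 8, 0, 3, 6, 10]), ([1, 2], [10, 2, 15], [0, 0, 9, 10, 3, 5]), ([], [2, 15, 1, 7, 8, 14, 4], [0, 9, 2, 6, 11]), ([], [2, 6, 8, 15], [2, 2, 6, 1, 9]), ([0, 1], [13, 0, 4, 3, 10, 12, 0], [9, 1, 10, 3]), ([], [10, 2, 15], [4, 2, 10, 1, 9, 2]), ([], [1, 9, 2, 2, 12, 3], [4, 6, 9, 1, 10, 3]), ([0, 2], [10, 2, 15], [0, 6, 0, 3, 9, 10]), ([1], [13, 0, 4, 3, 10, 12, 0], [0, 4, 10, 1, 5, 2]), ([2], [9, 14], [4, 9, 10, 0, 4]), ([1], [1, 9, 2, 2, 12, 3], [4, 3, 6]), ([0, 1], [2, 15, 1, 7, 8, 14, 4], [3, 4, 1,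 7]), ([0], [2, 15, 1, 7, 8, 14, 4], [0, 9, 1, 3, 5, 8]), ([0, 2], [9, 14], [2, 2, 9, 1, 4, 8]), ([0, 1, 2], [10, 2, 15], [0, 2, 4, 3, 9, 11]), ([0], [10, 2, 15], [7, 0, 8]), ([2], [], [0, 2, 6, 2]), ([0, 1], [10, 2, 15], [2, 4, 6, 9]), ([2], [8, 14], [2, 4, 0, 3, 8, 10]), ([], [8, 14], [0, 8, 0, 0, 2, 6]), ([], [13, 0, 4, 3, 10, 12, 0], [0, 9, 0, 6, 2]), ([1], [9, 14], [10, 1, 7, 2]), ([], [9, 14], [9, 3, 6])],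
 [([], [], []), ([1], [6, 2, 10, 1, 13, 8], [0, 2, 7, 1]), ([1], [13, 9, 11, 0, 13, 7], [2, 4, 2, 10, 0, 9]), ([], [6, 9, 0, 2, 15], [2, 9, 3, 5, 0]), ([0, 1], [0, 3, 6, 8, 15], [0, 2, 4, 2, 8, 11]), ([1], [2, 15, 0, 0], [0, 8, 3, 6, 1, 11]), ([0], [6, 9, 0, 2, 15], [0, 4, 1, 6, 8, 2, 11]), ([1], [13, 2, 2, 9, 0, 14], [4, 6, 10, 2, 9]), ([0], [0, 13, 9, 1, 4, 2, 11], [0, 2, 6, 0, 2, 9]), ([], [2, 15, 0, 0], [0, 4, 1, 8, 2, 5]), ([1], [0, 13, 9, 1, 4, 2, 11], [2, 6, 3, 8, 11]), ([], [0, 3, 6, 8, 15], [0, 2, 4, 3, 9, 0, 7]), ([1], [0, 3, 6, 8, 15], [4, 6, 8, 1, 11]), ([0, 1], [0, 13, 9, 1, 4, 2, 11], [1, 9, 0, 3, 8]), ([0, 1], [2, 15, 0, 0], [0, 0, 8, 3, 10]), ([0], [13, 2, 2, 9, 0, 14], [1, 9, 2, 6]), ([],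 [6, 2, 10, 1, 13, 8], [2, 8, 3, 9]), ([0, 1], [13, 2, 2, 9, 0, 14], [10, 0, 3, 6, 9]), ([], [0, 13, 9, 1, 4, 2, 11], [2, 4, 0, 2, 7, 9]), ([], [13, 9, 11, 0, 13, 7], [0, 10, 0, 2, 4, 9]), ([0], [2, 15, 0, 0], [5, 1, 8, 3]), ([0], [0, 3, 6, 8, 15], [2, 7, 3, 9, 1]), ([0, 1], [6, 9, 0, 2, 15], [1, 4, 9, 3]), ([], [13, 2, 2, 9, 0, 14], [7, 9, 0, 3]), ([1], [2, 6, 10, 14, 2], [0, 2, 4, 1, 2, 6, 8]), ([1], [6, 9, 0, 2, 15], [0, 4, 2, 8, 0, 11]), ([], [2, 6, 10, 14, 2], [4, 11, 1, 3]), ([], [9, 14], [9, 3, 6])],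
 [([], [], []), ([0, 0], [15, 1, 2, 13, 1], [0, 2, 2, 4, 6, 10, 0]), ([0], [0, 0, 2, 2, 15], [0, 2, 5, 0, 3, 8]), ([0], [5, 15, 14], [2, 6, 2, 9, 1, 10]), ([0], [0, 10, 3, 15], [4, 0, 10, 2]), ([0, 0], [9, 14, 8, 0, 2, 11], [10, 0, 2, 4, 9]), ([0], [15, 2, 5, 1, 3], [2, 2, 7, 1, 8]), ([], [0, 10, 3, 15], [8, 11]), ([], [9, 0, 12, 0, 6, 10, 2], [4, 8, 1]), ([0, 0], [0, 10, 3, 15], [0, 6, 2, 11]), ([], [3, 15], [9, 10, 2, 10]), ([0, 0], [8, 14], [2, 2, 4, 4, 9]), ([0], [15, 1, 2, 13, 1], [9, 3, 10, 0, 0]), ([], [15, 2, 5, 1, 3], [0, 10, 0, 6, 2]), ([0, 0], [9, 0, 12, 0, 6, 10, 2], [2, 10, 0, 2]), ([0, 0], [], [9, 10, 0, 5]), ([0, 0], [0, 0, 2, 2, 15], [2, 9, 1, 5, 8]), ([], [5, 15, 14], [3, 6, 1, 11, 2, 9]),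 ([0], [9, 14, 8, 0, 2, 11], [0, 2, 6, 0, 9, 2]), ([0, 0], [5, 15, 14], [1, 10, 2, 6]), ([], [0, 0, 2, 2, 15], [0, 4, 1, 8, 2, 5]), ([0], [8, 14], [10, 0, 3, 5, 9]), ([], [15, 1, 2, 13, 1], [0, 10, 1, 9, 2]), ([0], [], [2, 10, 0, 3, 11]), ([], [8, 14], [0, 8, 0, 0, 2, 6]), ([0, 0], [15, 2, 5, 1, 3], [0, 7, 1, 3]), ([0], [9, 0, 12, 0, 6, 10, 2], [4, 2, 4]), ([], [9, 14, 8, 0, 2, 11], [3, 4, 9, 0, 10])],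
 [([], [], []), ([1, 0, 1, 1, 0, 1], [], [7, 0, 2, 9]), ([1, 1, 0, 1], [], [9, 2, 5, 8]), ([0, 1, 1], [], [1, 3, 8, 1, 8]), ([1], [], [8, 1, 3, 10]), ([0, 1, 1, 0, 1], [], [0, 0, 2, 2, 7]), ([0, 1, 0, 0, 1, 0, 1, 1], [], [0, 4, 6, 8]), ([0, 0, 1, 0, 1, 1], [], [0, 3, 6, 0, 10, 2]), ([1, 1, 0, 1, 1], [], [6, 1]), ([1, 1, 0, 1, 1, 0, 1, 1], [], [0, 2, 6, 10, 1, 3]), ([0, 1, 0, 0, 1], [], [9, 10, 0, 0, 2, 5]), ([1, 0, 0, 1, 0, 0, 1], [], [9, 2, 5, 0]), ([0, 1, 1, 0, 1, 1], [], [0, 9, 0, 7, 3, 8]), ([1, 1], [], [10]), ([0, 0, 1], [], [9, 0, 0]), ([1, 0, 1], [], [0, 2, 4, 0, 8]), ([1, 1, 0, 1, 1, 0, 1], [], [6, 0, 2, 11]), ([0, 0, 1, 1, 0, 1], [], [9, 2, 4, 8]), ([0, 1, 0, 1, 1], [], [1, 2, 6, 8, 2]), ([0, 0, 1,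 0, 0, 1], [], [1, 2, 4, 2, 9, 11]), ([1, 0, 0, 1, 0, 1, 1], [], [6, 8, 1, 9]), ([0, 1, 1, 0, 1, 1, 0, 1], [], [3, 8, 0, 0, 3]), ([1, 0, 1, 1], [], [4, 3, 10, 1, 5]), ([1, 0, 0, 1], [], [3, 4, 6, 8, 1, 9]), ([1, 0, 1, 1, 0, 1, 1], [], [0, 11, 1, 9]), ([0, 1], [], [2, 8, 3, 11]), ([0, 1, 0, 1, 1, 0, 1, 1], [], [3, 4, 9, 1, 11]), ([1, 0, 0, 1, 1, 0, 1], [], [2, 4, 2, 6, 8, 1, 10])]]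
theorem cRW : all2 (chkCov (mu false) 0 (nth 0 LT) dl T28) RW LV = true := by decide +kernel
def ST : List (List (ℕ × ℕ)) := [[(0, 0), (0, 4), (0, 0), (0, 1), (0, 0), (0, 4), (0, 0), (0, 2), (0, 0), (0, 4), (0, 0), (0, 1), (0, 0), (0, 4), (0, 0), (0, 3), (0, 0), (0, 4), (0, 0), (0, 1), (0, 0), (0, 4), (0, 0), (0, 2), (0, 0), (0, 4), (0, 0), (0, 1), (0, 0), (0, 4), (0, 0), (0, 7), (0, 0), (0, 4), (0, 0), (0, 1), (0, 0), (0, 4), (0, 0), (0, 2), (0, 0), (0, 4), (0, 0), (0, 1), (0, 0), (0, 4), (0, 0), (0, 3), (0, 0), (0, 4), (0, 0), (0, 1), (0, 0), (0, 4), (0, 0), (0, 2), (0, 0), (0, 4), (0, 0), (0, 1), (0, 0), (0, 4), (0, 0), (0, 6), (0, 0), (0, 4), (0, 0), (0, 1), (0, 0), (0, 4), (0, 0), (0, 2), (0, 0), (0,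 4), (0, 0), (0, 1), (0, 0), (0, 4), (0, 0), (0, 3), (0, 0), (0, 4), (0, 0), (0, 1), (0, 0), (0, 4), (0, 0), (0, 2), (0, 0), (0, 4), (0, 0), (0, 1), (0, 0), (0, 4), (0, 0), (0, 7), (0, 0), (0, 4), (0, 0), (0, 1), (0, 0), (0, 4), (0, 0), (0, 2), (0, 0), (0, 4), (0, 0), (0, 1), (0, 0), (0, 4), (0, 0), (0, 3), (0, 0), (0, 4), (0, 0), (0, 1), (0, 0), (0, 4), (0, 0), (0, 2), (0, 0), (0, 4), (0, 0), (0, 1), (0, 0), (0, 4), (0, 0), (0, 8), (0, 0), (0, 4), (0, 0), (0, 1), (0, 0), (0, 4), (0, 0), (0, 2), (0, 0), (0, 4), (0, 0), (0, 1), (0, 0), (0, 4), (0, 0), (0, 3), (0, 0), (0, 4), (0, 0), (0, 1), (0, 0), (0, 4), (0, 0), (0, 2), (0, 0), (0, 4), (0, 0), (0, 1), (0, 0), (0, 4), (0, 0), (0, 7), (0, 0), (0, 4), (0, 0),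 (0, 1), (0, 0), (0, 4), (0, 0), (0, 2), (0, 0), (0, 4), (0, 0), (0, 1), (0, 0), (0, 4), (0, 0), (0, 3), (0, 0), (0, 4), (0, 0), (0, 1), (0, 0), (0, 4), (0, 0), (0, 2), (0, 0), (0, 4), (0, 0), (0, 1), (0, 0), (0, 4), (0, 0), (0, 6), (0, 0), (0, 4), (0, 0), (0, 1), (0, 0), (0, 4), (0, 0), (0, 2), (0, 0), (0, 4), (0, 0), (0, 1), (0, 0), (0, 4), (0, 0), (0, 3), (0, 0), (0, 4), (0, 0), (0, 1), (0, 0), (0, 4), (0, 0), (0, 2), (0, 0), (0, 4), (0, 0), (0, 1), (0, 0), (0, 4), (0, 0), (0, 7), (0, 0), (0, 4), (0, 0), (0, 1), (0, 0), (0, 4), (0, 0), (0, 2), (0, 0), (0, 4), (0, 0), (0, 1), (0, 0), (0, 4), (0, 0), (0, 3), (0, 0), (0, 4), (0, 0), (0, 1), (0, 0), (0, 4), (0, 0), (0, 2), (0, 0), (0, 4), (0, 0), (0, 1), (0,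 0), (0, 4), (0, 0), (0, 5), (0, 0), (0, 4), (0, 0), (0, 1), (0, 0), (0, 4), (0, 0), (0, 2), (0, 0), (0, 4), (0, 0), (0, 1), (0, 0), (0, 4), (0, 0), (0, 3), (0, 0), (0, 4), (0, 0), (0, 1), (0, 0), (0, 4), (0, 0), (0, 2), (0, 0), (0, 4), (0, 0), (0, 1), (0, 0), (0, 4), (0, 0), (0, 6), (0, 0), (0, 4), (0, 0), (0, 1), (0, 0), (0, 4), (0, 0), (0, 2), (0, 0), (0, 4), (0, 0), (0, 1), (0, 0), (0, 4), (0, 0), (0, 3), (0, 0), (0, 4), (0, 0), (0, 1), (0, 0), (0, 4), (0, 0), (0, 2), (0, 0), (0, 4), (0, 0), (0, 1), (0, 0), (0, 4), (0, 0), (0, 8), (0, 0), (0, 4), (0, 0), (0, 1), (0, 0), (0, 4), (0, 0), (0, 2), (0, 0), (0, 4), (0, 0), (0, 1), (0, 0), (0, 4), (0, 0), (0, 3), (0, 0), (0, 4), (0, 0), (0, 1), (0, 0), (0, 4),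 (0, 0), (0, 2), (0, 0), (0, 4), (0, 0), (0, 1), (0, 0), (0, 4), (0, 0), (0, 6), (0, 0), (0, 4), (0, 0), (0, 1), (0, 0), (0, 4), (0, 0), (0, 2), (0, 0), (0, 4), (0, 0), (0, 1), (0, 0), (0, 4), (0, 0), (0, 3), (0, 0), (0, 4), (0, 0), (0, 1), (0, 0), (0, 4), (0, 0), (0, 2), (0, 0), (0, 4), (0, 0), (0, 1), (0, 0), (0, 4), (0, 0), (2, 7), (0, 0), (0, 4), (0, 0), (0, 1), (0, 0), (0, 4), (0, 0), (0, 2), (0, 0), (0, 4), (0, 0), (0, 1), (0, 0), (0, 4), (0, 0), (0, 3), (0, 0), (0, 4), (0, 0), (0, 1), (0, 0), (0, 4), (0, 0), (0, 2), (0, 0), (0, 4), (0, 0), (0, 1), (0, 0), (0, 4), (0, 0), (0, 6), (0, 0), (0, 4), (0, 0), (0, 1), (0, 0), (0, 4), (0, 0), (0, 2), (0, 0), (0, 4), (0, 0), (0, 1), (0, 0), (0, 4), (0, 0), (0,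 3), (0, 0), (0, 4), (0, 0), (0, 1), (0, 0), (0, 4), (0, 0), (0, 2), (0, 0), (0, 4), (0, 0), (0, 1), (0, 0), (0, 4), (0, 0), (130, 7), (0, 0), (0, 4), (0, 0), (0, 1), (0, 0), (0, 4), (0, 0), (0, 2), (0, 0), (0, 4), (0, 0), (0, 1), (0, 0), (0, 4), (0, 0), (0, 3), (0, 0), (0, 4), (0, 0), (0, 1), (0, 0), (0, 4), (0, 0), (0, 2), (0, 0), (0, 4), (0, 0), (0, 1), (0, 0), (0, 4), (0, 0), (0, 6), (0, 0), (0, 4), (0, 0), (0, 1), (0, 0), (0, 4), (0, 0), (0, 2), (0, 0), (0, 4), (0, 0), (0, 1), (0, 0), (0, 4), (0, 0), (0, 3), (0, 0), (0, 4), (0, 0), (0, 1), (0, 0), (0, 4), (0, 0), (0, 2), (0, 0), (0, 4), (0, 0), (0, 1), (0, 0), (0, 4), (0, 0)],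
 [(0, 5), (0, 0), (0, 5), (0, 1), (0, 5), (0, 0), (0, 5), (0, 2), (0, 5), (0, 0), (0, 5), (0, 1), (0, 5), (0, 0), (0, 5), (0, 4), (0, 5), (0, 0), (0, 5), (0, 1), (0, 5), (0, 0), (0, 5), (0, 2), (0, 5), (0, 0), (0, 5), (0, 1), (0, 5), (0, 0), (0, 5), (0, 3), (0, 5), (0, 0), (0, 5), (0, 1), (0, 5), (0, 0), (0, 5), (0, 2), (0, 5), (0, 0), (0, 5), (0, 1), (0, 5), (0, 0), (0, 5), (0, 4), (0, 5), (0, 0), (0, 5), (0, 1), (0, 5), (0, 0), (0, 5), (0, 2), (0, 5), (0, 0), (0, 5), (0, 1), (0, 5), (0, 0), (0, 5), (0, 6), (0, 5), (0, 0), (0, 5), (0, 1), (0, 5), (0, 0), (0, 5), (0, 2), (0, 5), (0, 0), (0, 5), (0, 1), (0, 5), (0, 0), (0, 5), (0, 4), (0, 5), (0, 0), (0, 5), (0, 1), (0, 5), (0, 0), (0, 5), (0, 2), (0, 5), (0,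 0), (0, 5), (0, 1), (0, 5), (0, 0), (0, 5), (0, 3), (0, 5), (0, 0), (0, 5), (0, 1), (0, 5), (0, 0), (0, 5), (0, 2), (0, 5), (0, 0), (0, 5), (0, 1), (0, 5), (0, 0), (0, 5), (0, 4), (0, 5), (0, 0), (0, 5), (0, 1), (0, 5), (0, 0), (0, 5), (0, 2), (0, 5), (0, 0), (0, 5), (0, 1), (0, 5), (0, 0), (0, 5), (0, 7), (0, 5), (0, 0), (0, 5), (0, 1), (0, 5), (0, 0), (0, 5), (0, 2), (0, 5), (0, 0), (0, 5), (0, 1), (0, 5), (0, 0), (0, 5), (0, 4), (0, 5), (0, 0), (0, 5), (0, 1), (0, 5), (0, 0), (0, 5), (0, 2), (0, 5), (0, 0), (0, 5), (0, 1), (0, 5), (0, 0), (0, 5), (0, 3), (0, 5), (0, 0), (0, 5), (0, 1), (0, 5), (0, 0), (0, 5), (0, 2), (0, 5), (0, 0), (0, 5), (0, 1), (0, 5), (0, 0), (0, 5), (0, 4), (0, 5), (0, 0), (0, 5),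 (0, 1), (0, 5), (0, 0), (0, 5), (0, 2), (0, 5), (0, 0), (0, 5), (0, 1), (0, 5), (0, 0), (0, 5), (0, 6), (0, 5), (0, 0), (0, 5), (0, 1), (0, 5), (0, 0), (0, 5), (0, 2), (0, 5), (0, 0), (0, 5), (0, 1), (0, 5), (0, 0), (0, 5), (0, 4), (0, 5), (0, 0), (0, 5), (0, 1), (0, 5), (0, 0), (0, 5), (0, 2), (0, 5), (0, 0), (0, 5), (0, 1), (0, 5), (0, 0), (0, 5), (0, 3), (0, 5), (0, 0), (0, 5), (0, 1), (0, 5), (0, 0), (0, 5), (0, 2), (0, 5), (0, 0), (0, 5), (0, 1), (0, 5), (0, 0), (0, 5), (0, 4), (0, 5), (0, 0), (0, 5), (0, 1), (0, 5), (0, 0), (0, 5), (0, 2), (0, 5), (0, 0), (0, 5), (0, 1), (0, 5), (0, 0), (0, 5), (0, 7), (0, 5), (0, 0), (0, 5), (0, 1), (0, 5), (0, 0), (0, 5), (0, 2), (0, 5), (0, 0), (0, 5), (0, 1), (0,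 5), (0, 0), (0, 5), (0, 4), (0, 5), (0, 0), (0, 5), (0, 1), (0, 5), (0, 0), (0, 5), (0, 2), (0, 5), (0, 0), (0, 5), (0, 1), (0, 5), (0, 0), (0, 5), (0, 3), (0, 5), (0, 0), (0, 5), (0, 1), (0, 5), (0, 0), (0, 5), (0, 2), (0, 5), (0, 0), (0, 5), (0, 1), (0, 5), (0, 0), (0, 5), (0, 4), (0, 5), (0, 0), (0, 5), (0, 1), (0, 5), (0, 0), (0, 5), (0, 2), (0, 5), (0, 0), (0, 5), (0, 1), (0, 5), (0, 0), (0, 5), (0, 6), (0, 5), (0, 0), (0, 5), (0, 1), (0, 5), (0, 0), (0, 5), (0, 2), (0, 5), (0, 0), (0, 5), (0, 1), (0, 5), (0, 0), (0, 5), (0, 4), (0, 5), (0, 0), (0, 5), (0, 1), (0, 5), (0, 0), (0, 5), (0, 2), (0, 5), (0, 0), (0, 5), (0, 1), (0, 5), (0, 0), (0, 5), (0, 3), (0, 5), (0, 0), (0, 5), (0, 1), (0, 5), (0, 0),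 (0, 5), (0, 2), (0, 5), (0, 0), (0, 5), (0, 1), (0, 5), (0, 0), (0, 5), (0, 4), (0, 5), (0, 0), (0, 5), (0, 1), (0, 5), (0, 0), (0, 5), (0, 2), (0, 5), (0, 0), (0, 5), (0, 1), (0, 5), (0, 0), (0, 5)],
 [(0, 0), (0, 1), (0, 0), (0, 3), (0, 0), (0, 1), (0, 0), (0, 4), (0, 0), (0, 1), (0, 0), (0, 3), (0, 0), (0, 1), (0, 0), (0, 5), (0, 0), (0, 1), (0, 0), (0, 3), (0, 0), (0, 1), (0, 0), (0, 4), (0, 0), (0, 1), (0, 0), (0, 3), (0, 0), (0, 1), (0, 0), (0, 2), (0, 0), (0, 1), (0, 0), (0, 3), (0, 0), (0, 1), (0, 0), (0, 4), (0, 0), (0, 1), (0, 0), (0, 3), (0, 0), (0, 1), (0, 0), (0, 5), (0, 0), (0, 1), (0, 0), (0, 3), (0, 0), (0, 1), (0, 0), (0, 4), (0, 0), (0, 1), (0, 0), (0, 3), (0, 0), (0, 1), (0, 0), (0, 6),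 (0, 0), (0, 1), (0, 0), (0, 3), (0, 0), (0, 1), (0, 0), (0, 4), (0, 0), (0, 1), (0, 0), (0, 3), (0, 0), (0, 1), (0, 0), (0, 5), (0, 0), (0, 1), (0, 0), (0, 3), (0, 0), (0, 1), (0, 0), (0, 4), (0, 0), (0, 1), (0, 0), (0, 3), (0, 0), (0, 1), (0, 0), (0, 2), (0, 0), (0, 1), (0, 0), (0, 3), (0, 0), (0, 1), (0, 0), (0, 4), (0, 0), (0, 1), (0, 0), (0, 3), (0, 0), (0, 1), (0, 0), (0, 5), (0, 0), (0, 1), (0, 0), (0, 3), (0, 0), (0, 1), (0, 0), (0, 4), (0, 0), (0, 1), (0, 0), (0, 3), (0, 0), (0, 1), (0, 0)],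
 [(0, 0), (0, 1), (0, 0), (0, 2), (0, 0), (0, 1), (0, 0), (0, 4), (0, 0), (0, 1), (0, 0), (0, 2), (0, 0), (0, 1), (0, 0), (0, 4), (0, 0), (0, 1), (0, 0), (0, 2), (0, 0), (0, 1), (0, 0), (0, 4), (0, 0), (0, 1), (0, 0), (0, 2), (0, 0), (0, 1), (0, 0)],
 [(0, 0), (0, 1), (0, 0), (0, 2), (0, 0), (0, 1), (0, 0), (0, 3), (0, 0), (0, 1), (0, 0), (0, 2), (0, 0), (0, 1), (0, 0), (0, 3), (0, 0), (0, 1), (0, 0), (0, 2), (0, 0), (0, 1), (0, 0)],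
 [(0, 1), (0, 2), (0, 1), (0, 3), (0, 1), (0, 2), (0, 1), (0, 3), (0, 1), (0, 2), (0, 1), (0, 3), (0, 1), (0, 2), (0, 1), (0, 4), (0, 1), (0, 2), (0, 1), (0, 3), (0, 1), (0, 2), (0, 1), (0, 3), (0, 1), (0, 2), (0, 1), (0, 3), (0, 1), (0, 2), (0, 1), (0, 5), (0, 1), (0, 2), (0, 1), (0, 3), (0, 1), (0, 2), (0, 1), (0, 3), (0, 1), (0, 2), (0, 1), (0, 3), (0, 1), (0, 2), (0, 1), (0, 4), (0, 1), (0, 2), (0, 1), (0, 3), (0, 1), (0, 2), (0, 1), (0, 3), (0, 1), (0, 2), (0, 1), (0, 3), (0, 1), (0, 2), (0, 1), (0, 5), (0, 1), (0, 2), (0, 1), (0, 3), (0, 1), (0, 2), (0, 1), (0, 3), (0, 1), (0, 2), (0, 1), (0, 3), (0, 1), (0, 2), (0, 1), (0, 4), (0, 1), (0, 2), (0, 1), (0, 3), (0, 1), (0, 2), (0, 1), (0, 3), (0, 1), (0,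 2), (0, 1), (0, 3), (0, 1), (0, 2), (0, 1)],
 [(0, 0), (0, 1), (0, 0), (0, 2), (0, 0), (0, 1), (0, 0)],
 [(0, 1), (0, 2), (0, 1), (0, 3), (0, 1), (0, 2), (0, 1), (0, 0), (0, 1), (1, 2), (0, 1), (0, 3), (0, 1), (0, 2), (0, 1), (0, 0), (0, 1), (1, 2), (0, 1), (0, 3), (0, 1), (0, 2), (0, 1)],
 [(0, 0), (0, 1), (0, 0), (0, 1), (0, 0)],
 [(0, 0), (0, 1), (0, 0), (0, 2), (0, 0), (0, 1), (0, 0), (0, 2), (0, 0), (0, 1), (0, 0)],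
 [(0, 1), (0, 2), (0, 1), (0, 2), (0, 1), (0, 2), (0, 1)],
 [(0, 0), (0, 1), (0, 0)],
 [(0, 0), (0, 0)],
 [(0, 0), (0, 0), (0, 1), (0, 0), (0, 0), (0, 1), (0, 0), (0, 0), (0, 1), (0, 0), (0, 0), (0, 1), (0, 0), (0, 0), (0, 1), (0, 0), (0, 0), (0, 1), (0, 0), (0, 0), (0, 1), (0, 0), (0, 0), (0, 1), (0, 0), (0, 0), (0, 1), (0, 0), (0, 0), (0, 1), (0, 0), (0, 0), (0, 1), (0, 0), (0, 0), (0, 1), (0, 0), (0, 0), (0, 1), (0, 0), (0, 0), (1, 1), (0, 0), (0, 0), (2, 1), (0, 0), (0, 0), (0, 1), (0, 0), (0, 0), (0, 1), (0, 0), (0, 0), (0, 1), (0, 0), (0, 0), (0, 1), (0, 0), (0, 0), (0, 1), (0, 0), (0, 0), (0, 1), (0, 0), (0, 0), (0, 1), (0, 0), (0, 0), (0, 1), (0, 0), (0, 0), (0, 1), (0, 0), (0, 0), (0, 1), (0, 0),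 (0, 0), (0, 1), (0, 0), (0, 0), (0, 1), (0, 0), (0, 0)]]
def NF : List ℕ := [1, 28, 672, 896, 2688, 10752, 14336, 0, 3584, 43008, 14336, 0, 57344, 28672, 43008, 86016, 0, 114688, 4096]
theorem cST : all2 (fun st a => and2 (grow (mu false) (fun k => evC (mu false) 0 (nth 0 LT) (nth [] a.gw k))
    [0, 1, 2, 3, 4, 5, 6, 7, 8] (fun _ => true) st [0])
    (Nat.ble 344064 (Nat.mul (nth 0 NF a.j) (Nat.succ st.length)))) ST LR = true := by decide +kernel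
def WA : List (List ℕ) := [[4, 4], [0, 4, 0, 4], [0, 2, 4, 0, 4, 2], [0, 4, 10, 12, 10, 12, 0, 10, 12], [0, 8, 12, 4, 0, 8, 12, 8, 12], [4], [12, 4, 8, 12, 8, 12, 8], [8, 12, 4, 8, 12, 8, 12], [10, 4, 10], [2, 0, 4, 10, 12, 2, 10, 12], [10, 12, 10, 12, 4, 10, 12], [12], [8], [10]]
theorem cWA : allN 14 (fun c => and2 (allL (nth [] WA c) fun y => memL y L6)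
    (Nat.beq (evC (mu false) 0 (nth 0 LT) (nth [] WA c)) (nth 0 cA c))) = true := by decide +kernel
theorem hT : (allL LT fun c => Nat.ble (Nat.succ c) 344064) = true := by decide +kernel
theorem cIv : allN 16 (fun c => Nat.beq (mu false (nth 0 LT (ivOf ivl c)) (nth 0 LT c)) 0) = true := by
  decide +kernel
theorem sumNF : ∑ i : Fin LV.length, nth 0 NF (LV.get i).j = 424125 := by decide +kernel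

end H7.RE
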