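import Mathlib
import Cfsg.Agent.H7.REb

/-! The Rudvalis amalgam generates a group of order at most `145926144000`. -/

set_option autoImplicit false
set_option maxRecDepth 100000

namespace H7.RE
open H29 H19 H14.Ru

variable {G : Type*} [Group G] {ψ : ℕ → G} {r : G}

theorem ivOK_T (h : Mi false ψ) : IvOK (lets h hT) (ivOf ivl) := fun c => by
  by_cases hc : c < 16
  · have := H29.beq_true.1 (allN_true.1 cIv c hc)
    have e := (CC h).rep_mul (rep_lets h hT (ivOf ivl c)) (rep_lets h hT c)
    change (CC h).Rep _ (mu false _ _) at e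
    rw [this] at e
    exact eq_inv_of_mul_eq_one_left ((CC h).eq e (CC h).rep_one)
  · have e1 : ivOf ivl c = c := nth_default _ (show 16 ≤ c by omega)
    have e2 : lets h hT c = 1 := Subtype.ext (by
      change ψ (nth 0 LT c) = 1
      rw [nth_default _ (show 16 ≤ c by omega), h.zero])
    rw [e1, e2, inv_one]

theorem gen_T (h : Mi false ψ) : gen (lets h hT) L6 = ⊤ := by
  rw [eq_top_iff, ← gen_A h, gen_le]
  intro c hc
  have := allN_true.1 cWA c (List.mem_range.1 hc)
  simp only [and2_true, allL_true, memL_true, H29.beq_true] at this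
  have e := (CC h).rep_evC (rep_lets h hT) (nth [] WA c)
  change (CC h).Rep _ (evC (mu false) 0 _ _) at e
  rw [this.2] at e
  rw [(CC h).eq (rep_lets h hA c) e]
  exact ev_mem_gen this.1

theorem evR_rep {J : Type*} [Group J] (g : ℕ → J) (z : J) (c : ℕ) :
    ∀ n, evR g z (List.replicate n [c]) = (z * g c) ^ n
  | 0 => by simp [evR]
  | n + 1 => by rw [List.replicate_succ, evR, evR_rep g z c n, pow_succ']; simp

theorem KK_le (h : Mi false ψ) (r : G) : KK h ≤ Gr ψ r := by
  rintro _ ⟨c, hc, rfl⟩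
  exact ψ_mem_Gr ψ r hc

theorem bound (h : Am ψ r) : Bd (Gr ψ r) 145926144000 := by
  let φ : KK h.mi →* Gr ψ r := Subgroup.inclusion (KK_le h.mi r)
  let z : Gr ψ r := ⟨r, r_mem_Gr ψ r⟩
  have hiv := ivOK_T h.mi
  have giv : IvOK (fun c => φ (lets h.mi hT c)) (ivOf ivl) := fun c => by simp only [hiv c, map_inv]
  have hz : z * z = 1 := Subtype.ext h.rr
  have k1 : ∀ {x y : G}, r * x * r⁻¹ = y → x * r = r * y ∧ y * r = r * x := by
    rintro x _ rfl
    rw [inv_eq_of_mul_eq_one_right h.rr]
    exact ⟨by rw [← mul_assoc, ← mul_assoc, h.rr, one_mul], by rw [mul_assoc, h.rr, mul_one]⟩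
  let P : ℕ → ℕ → Prop := fun c c' => φ (lets h.mi hT c) * z = z * φ (lets h.mi hT c')
  have k2 : ∀ {c c'}, P c c' → P (ivOf ivl c) (ivOf ivl c') := fun {c c'} e => by
    change φ _ * z = z * φ _
    rw [hiv, hiv, map_inv, map_inv, inv_mul_eq_iff_eq_mul, ← mul_assoc, e, mul_inv_cancel_right]
  have p0 : P 0 2 := Subtype.ext (k1 h.r1).1
  have p2 : P 2 0 := Subtype.ext (k1 h.r1).2
  have p4 : P 4 6 := Subtype.ext (k1 h.r2).1
  have p6 : P 6 4 := Subtype.ext (k1 h.r2).2
  have p8 : P 8 8 := Subtype.ext (k1 h.r3).1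
  have p10 : P 10 11 := Subtype.ext (k1 h.r4).1
  have p11 : P 11 10 := Subtype.ext (k1 h.r4).2
  have hyp : D.Hyp (CC h.mi) (lets h.mi hT) φ z := by
    refine ⟨rfl, rfl, rfl, rep_lets h.mi hT, ?_, good_tpls giv hz ?_ TO⟩
    · simp only [show D.dl = [0, 1, 2, 3, 4, 5, 6, 7, 8, 9, 10, 11] from rfl, List.forall_mem_cons]
      exact ⟨p0, k2 p0, p2, k2 p2, p4, k2 p4, p6, k2 p6, p8, k2 p8, p10, p11,
        fun _ h => absurd h List.not_mem_nil⟩
    · simp only [BR, List.forall_mem_cons, evR_rep]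
      exact ⟨Subtype.ext h.s3, Subtype.ext h.s7, fun _ h => absurd h List.not_mem_nil⟩
  have htop : φ.range ⊔ Subgroup.closure {z} = ⊤ := by
    rw [eq_top_iff]
    rintro ⟨x, hx⟩ -
    induction hx using Subgroup.closure_induction with
    | one => exact one_mem _
    | mul x y _ _ hx hy => exact mul_mem hx hy
    | inv x _ hx => exact inv_mem hx
    | mem x hx =>
      rcases hx with rfl | ⟨c, hc, rfl⟩
      · exact Subgroup.mem_sup_right (Subgroup.subset_closure rfl)
      · exact Subgroup.mem_sup_left ⟨⟨_, c, hc, rfl⟩, rfl⟩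
  have hS := holds_of_codes (CC h.mi) (rep_lets h.mi hT) rS28
  have hcov := cover_step cS28 hS
  have dcs := DD.dcs (L := LV) hyp (DD.upto_zero.next' hyp chk) live (by decide)
    (hz ▸ one_mem _) htop (n := fun i => nth 0 NF (LV.get i).j) (fun a ha => by
      obtain ⟨rows, hr⟩ := all2_spec cRW a ha
      exact cov_of_chk (CC h.mi) (rep_lets h.mi hT)
        (fun g => hcov g (by rw [show S28.1 = L6 from rfl, gen_T]; trivial)) hr) (fun i => by
      have : ∀ a ∈ LV, Nat.card (KK h.mi) ≤ nth 0 NF a.j * Nat.card (genW (lets h.mi hT) a.gw) := by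
        refine List.forall_mem_cons.2 ⟨?_, List.forall_mem_cons.2 ⟨?_, fun a ha => ?_⟩⟩
        · have : genW (lets h.mi hT) l0.gw = ⊤ :=
            top_unique (gen_T h.mi ▸ gen_le_genW hiv (by decide +kernel))
          rw [this, Subgroup.card_top]
          exact (one_mul _).ge
        · have := (bd_step cS28 hS ⟨inferInstance, le_rfl⟩).2
          rw [show S28.1 = L6 from rfl, gen_T, Subgroup.card_top] at this
          exact this.trans (Nat.mul_le_mul_left _ (Subgroup.card_le_of_le
            (gen_le_genW (ws := l1.gw) hiv (by decide +kernel))))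
        · obtain ⟨st, hs⟩ := all2_spec cST a ha
          rw [and2_true, H29.ble_true] at hs
          rw [card_KK]
          exact hs.2.trans (Nat.mul_le_mul_left _ (le_card_grow (CC h.mi) (rep_lets h.mi hT) hs.1))
      exact this _ (List.get_mem _ _))
  refine ⟨dcs.finite, dcs.card_le.trans ?_⟩
  rw [sumNF, card_KK]

end H7.RE
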