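import Mathlib
import Cfsg.Agent.H7.REc
import Cfsg.Agent.H7.REd
import Cfsg.Agent.H10.RuMain

/-! The Rudvalis amalgam generates the Rudvalis group. -/

set_option autoImplicit false
set_option maxRecDepth 100000

namespace H7.RE
open H29 H19 H14.Ru Cfsg.Spor

variable {G : Type*} [Group G] {ψ : ℕ → G} {r : G}

theorem exists_hom (h : Mi false ψ) :
    ∃ φ : KK h →* Equiv.Perm ℕ, ∀ c < 14, φ (lets h hA c) = sg nets c := by
  have hb := bd_tower (a := fun c => (lets h hA c, sg nets c)) cSM fun s hs =>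
    (holds_of_codes (CC h) (rep_lets h hA) (allL_true.1 rSM s hs)).prod (pSM s hs)
  rw [show topL SM = List.range 14 from rfl,
    show (SM.map fun s => s.2.1.length).prod = 344064 by decide +kernel] at hb
  have := hb.1
  obtain ⟨φ, hφ⟩ := diag (gen (fun c => (lets h hA c, sg nets c)) (List.range 14)) (fun a => by
    have : a ∈ (gen (fun c => (lets h hA c, sg nets c)) (List.range 14)).map (MonoidHom.fst _ _) := by
      rw [map_gen]
      exact (gen_A h).ge trivial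
    obtain ⟨⟨_, b⟩, hb, rfl⟩ := this
    exact ⟨b, hb⟩) (by rw [card_KK]; exact hb.2)
  exact ⟨φ, fun c hc => ((hφ _ _).1 (mem_gen (e := fun c => (lets h hA c, sg nets c))
    (List.mem_range.2 hc))).symm⟩

/-- The diagonal model. -/
noncomputable def dg (h : Mi false ψ) (φ : KK h →* Equiv.Perm ℕ) (c : ℕ) : G × Equiv.Perm ℕ :=
  (ψ c, if hc : c < NM then φ ⟨ψ c, c, hc, rfl⟩ else 1)

theorem mi_dg (h : Mi false ψ) (φ : KK h →* Equiv.Perm ℕ) : Mi false (dg h φ) where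
  mul a ha b hb := Prod.ext (h.mul a ha b hb) (by
    simp only [dg, Prod.snd_mul, dif_pos ha, dif_pos hb, dif_pos (mu_lt false ha hb), ← map_mul]
    exact congrArg φ (Subtype.ext (h.mul a ha b hb)))
  inj a ha b hb e := h.inj a ha b hb (congrArg Prod.fst e)

theorem dg_snd (h : Mi false ψ) {φ : KK h →* Equiv.Perm ℕ}
    (hφ : ∀ c < 14, φ (lets h hA c) = sg nets c) (W : List ℕ) (x : ℕ)
    (hc : and2 (allL W fun c => Nat.ble (Nat.succ c) 14)
      (Nat.beq (evC (mu false) 0 (nth 0 cA) W) x) = true) : (dg h φ x).2 = ev (sg nets) W := by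
  simp only [and2_true, allL_true, H29.ble_true, H29.beq_true] at hc
  have e := (CC h).rep_evC (rep_lets h hA) W
  change (CC h).Rep _ (evC (mu false) 0 _ _) at e
  rw [hc.2] at e
  rw [dg, dif_pos e.1, ← ev_congr fun c hc' => hφ c (hc.1 c hc'), ← map_ev]
  exact congrArg φ (Subtype.ext e.2.symm)

theorem am_dg (h : Am ψ r) {φ : KK h.mi →* Equiv.Perm ℕ}
    (hφ : ∀ c < 14, φ (lets h.mi hA c) = sg nets c) : Am (dg h.mi φ) (r, sg nets 14) := by
  have q := pEA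
  simp only [EA, List.forall_mem_cons] at q
  obtain ⟨q0, q1, q2, q3, q4, q5, q6, -⟩ := q
  have k : ∀ (U V : List ℕ) (x y : ℕ), ev (sg nets) (14 :: U) = ev (sg nets) (V ++ [14]) →
      (dg h.mi φ x).2 = ev (sg nets) U → (dg h.mi φ y).2 = ev (sg nets) V →
      sg nets 14 * (dg h.mi φ x).2 * (sg nets 14)⁻¹ = (dg h.mi φ y).2 := fun U V x y e e1 e2 => by
    rw [e1, e2, ← ev_cons, e]; simp
  have k' : ∀ (U : List ℕ) (x n : ℕ), ev (sg nets) (powW n (14 :: U)) = ev (sg nets) [] →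
      (dg h.mi φ x).2 = ev (sg nets) U → (sg nets 14 * (dg h.mi φ x).2) ^ n = 1 := fun U x n e e1 => by
    rwa [e1, ← ev_cons, ← ev_powW]
  exact ⟨mi_dg _ _, Prod.ext h.rr (by simpa using q0),
    Prod.ext h.r1 (k _ [1, 4, 7, 9, 10, 11, 12, 12, 13, 11, 11, 11, 11, 11, 11] _ _ q1
      (dg_snd _ hφ _ _ (by decide +kernel)) (dg_snd _ hφ _ _ (by decide +kernel))),
    Prod.ext h.r2 (k _ [8] _ _ q2
      (dg_snd _ hφ _ _ (by decide +kernel)) (dg_snd _ hφ _ _ (by decide +kernel))),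
    Prod.ext h.r3 (k _ [12] _ _ q3
      (dg_snd _ hφ _ _ (by decide +kernel)) (dg_snd _ hφ _ _ (by decide +kernel))),
    Prod.ext h.r4 (k _ [0, 13] _ _ q4
      (dg_snd _ hφ _ _ (by decide +kernel)) (dg_snd _ hφ _ _ (by decide +kernel))),
    Prod.ext h.s3 (k' [0, 3, 4, 6, 10, 13] _ 3 q5 (dg_snd _ hφ _ _ (by decide +kernel))),
    Prod.ext h.s7 (k' [11, 11, 11, 11, 11, 11, 13, 11] _ 7 q6 (dg_snd _ hφ _ _ (by decide +kernel)))⟩

theorem top_of_mem {M : Subgroup Ru} (h0 : H10.Ru.e0 0 ∈ M) (h1 : H10.Ru.e0 1 ∈ M)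
    (h2 : H10.Ru.e0 2 ∈ M) (h4 : H10.Ru.e0 4 ∈ M) (h6 : H10.Ru.e0 6 ∈ M) : M = ⊤ := by
  rw [eq_top_iff, ← H10.Ru.card_top.2, gen_le]
  intro c hc
  refine H10.Ru.ext_mem H10.RuR.hext (S := List.range 17) (fun c _ h => ?_) (by decide +kernel) c
    (by simp at hc ⊢; omega)
  interval_cases c
  · exact h0
  · exact h1
  · exact h2
  · exact (H10.Ru.hiv0 2 : H10.Ru.e0 3 = _) ▸ M.inv_mem h2
  · exact h4
  · exact (H10.Ru.hiv0 4 : H10.Ru.e0 5 = _) ▸ M.inv_mem h4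
  · exact h6

theorem iso (h : Am ψ r) : IsoRu (Gr ψ r) ∧
    ∃ g ∈ Gr ψ r, g * ψ 8 * g⁻¹ = ψ 8 ∧ ∃ b < 8, ∀ b' < 8, g * ψ b * g⁻¹ ≠ ψ b' := by
  obtain ⟨φ, hφ⟩ := exists_hom h.mi
  have hb := bound (am_dg h hφ)
  have q := pEA
  simp only [EA, List.forall_mem_cons] at q
  obtain ⟨-, -, -, -, -, -, -, q0, q1, q2, q4, q6, q7, -⟩ := q
  have hs := dg_snd h.mi hφ
  obtain ⟨τ, hτ⟩ : ∃ τ : ℕ → Equiv.Perm ℕ, dg h.mi φ = fun c => (ψ c, τ c) := ⟨_, rfl⟩
  rw [hτ] at hb hs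
  set ψ' : ℕ → G × Equiv.Perm ℕ := fun c => (ψ c, τ c) with hψ'
  set Δ := Gr ψ' (r, sg nets 14) with hΔ
  have hw : ∀ W : List ℕ, (allL W fun c => Nat.ble (Nat.succ c) 15) = true →
      ∃ g, (g, ev (sg nets) W) ∈ Δ := by
    intro W hW
    simp only [allL_true, H29.ble_true] at hW
    have : ev (sg nets) W ∈ Δ.map (MonoidHom.snd _ _) := ev_mem fun c hc => by
      rcases Nat.lt_succ_iff_lt_or_eq.1 (hW c hc) with a | rfl
      · refine ⟨_, ψ_mem_Gr _ _ (nth_lt hA c), (hs [c] _ ?_).trans (by simp)⟩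
        rw [and2_true, allL_true, H29.beq_true]
        exact ⟨fun y hy => by rw [List.mem_singleton.1 hy]; exact H29.ble_true.2 a, rfl⟩
      · exact ⟨_, r_mem_Gr _ _, rfl⟩
    obtain ⟨⟨g, _⟩, hg, rfl⟩ := this
    exact ⟨g, hg⟩
  let ι : Ru × G →* G × Equiv.Perm ℕ := (MonoidHom.snd _ _).prod (H10.Ru.ρ.comp (MonoidHom.fst _ _))
  let j : Δ.comap ι → Δ := fun x => ⟨ι x, x.2⟩
  have hj : Function.Injective j := fun x y e => Subtype.ext (Prod.ext
    (H10.Ru.ρ_inj (congrArg (fun p : Δ => p.1.2) e)) (congrArg (fun p : Δ => p.1.1) e))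
  have := hb.1
  have : Finite (Δ.comap ι) := Finite.of_injective j hj
  have : Finite Ru := Nat.finite_of_card_ne_zero (by rw [H10.Ru.card_Ru]; norm_num)
  have k : ∀ (c : ℕ) (W : List ℕ), H10.Ru.ρ (H10.Ru.e0 c) = ev (sg nets) W →
      (allL W fun c => Nat.ble (Nat.succ c) 15) = true →
      H10.Ru.e0 c ∈ (Δ.comap ι).map (MonoidHom.fst _ _) := fun c W e hW => by
    obtain ⟨g, hg⟩ := hw W hW
    exact ⟨(H10.Ru.e0 c, g), by rw [← e] at hg; exact hg, rfl⟩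
  have htop : (Δ.comap ι).map (MonoidHom.fst _ _) = ⊤ := top_of_mem
    (k 0 _ ((H10.Ru.ρ_e0 0).trans ((mul_one _).symm.trans q0)) (by decide +kernel))
    (k 1 _ ((H10.Ru.ρ_e0 1).trans ((mul_one _).symm.trans q1)) (by decide +kernel))
    (k 2 _ ((H10.Ru.ρ_e0 2).trans ((mul_one _).symm.trans q2)) (by decide +kernel))
    (k 4 _ ((H10.Ru.ρ_e0 4).trans ((mul_one _).symm.trans q4)) (by decide +kernel))
    (k 6 _ ((H10.Ru.ρ_e0 6).trans ((mul_one _).symm.trans q6)) (by decide +kernel))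
  obtain ⟨θ, hθ⟩ := diag (Δ.comap ι) (fun a => by
      obtain ⟨⟨_, b⟩, hb, rfl⟩ := htop.ge (Subgroup.mem_top a)
      exact ⟨b, hb⟩)
    ((Nat.card_le_card_of_injective j hj).trans (by rw [H10.Ru.card_Ru]; exact hb.2))
  have hθ1 : ∀ x, (θ x, H10.Ru.ρ x) ∈ Δ := fun x => (hθ x _).2 rfl
  have hθ2 : ∀ p ∈ Δ, ∃ x, p = (θ x, H10.Ru.ρ x) := by
    have := (show Function.Injective fun x => (⟨_, hθ1 x⟩ : Δ) from fun x y e =>
      H10.Ru.ρ_inj (congrArg (fun p : Δ => p.1.2) e)).bijective_of_nat_card_le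
      (by rw [H10.Ru.card_Ru]; exact hb.2)
    intro p hp
    obtain ⟨x, hx⟩ := this.2 ⟨p, hp⟩
    exact ⟨x, (congrArg Subtype.val hx).symm⟩
  have hinj : Function.Injective θ := by
    have := H10.Ru.simple_Ru
    rcases θ.normal_ker.eq_bot_or_eq_top with e | e
    · exact (MonoidHom.ker_eq_bot_iff θ).1 e
    · obtain ⟨x, hx⟩ := hθ2 _ (ψ_mem_Gr ψ' _ (c := 1) (by norm_num))
      have a : ψ 1 = θ x := congrArg Prod.fst hx
      rw [show θ x = 1 from e.ge (Subgroup.mem_top x)] at a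
      exact absurd (h.mi.eq_zero (by norm_num) a) (by norm_num)
  have hmap : Δ.map (MonoidHom.fst _ _) = Gr ψ r := by
    rw [hΔ, H14.Ru.Gr, H14.Ru.Gr, MonoidHom.map_closure, Set.image_insert_eq, Set.image_image]
    rfl
  have hrange : Gr ψ r = θ.range := by
    rw [← hmap]
    refine le_antisymm ?_ ?_
    · rintro _ ⟨p, hp, rfl⟩
      obtain ⟨x, rfl⟩ := hθ2 p hp
      exact ⟨x, rfl⟩
    · rintro _ ⟨x, rfl⟩
      exact ⟨_, hθ1 x, rfl⟩
  have key : ∀ p ∈ Δ, ∀ p' ∈ Δ, p.1 = p'.1 ↔ p.2 = p'.2 := by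
    intro p hp p' hp'
    obtain ⟨x, rfl⟩ := hθ2 p hp
    obtain ⟨y, rfl⟩ := hθ2 p' hp'
    exact hinj.eq_iff.trans H10.Ru.ρ_inj.eq_iff.symm
  refine ⟨⟨(MulEquiv.subgroupCongr hrange).trans (MonoidHom.ofInjective hinj).symm⟩, ?_⟩
  obtain ⟨g, hg⟩ := hw gW (by decide +kernel)
  refine ⟨g, hmap ▸ ⟨_, hg, rfl⟩, ?_, 1, by norm_num, fun b hb e => ?_⟩
  · have m := ψ_mem_Gr ψ' (r, sg nets 14) (c := 8) (by norm_num)
    have := (key _ (mul_mem hg m) _ (mul_mem m hg)).2 (by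
      rw [Prod.snd_mul, Prod.snd_mul, hs [3] 8 (by decide +kernel), ← ev_append, ← ev_append]
      exact q7)
    rw [mul_inv_eq_iff_eq_mul]
    exact this
  · have := (key _ (mul_mem hg (ψ_mem_Gr ψ' _ (c := 1) (by norm_num))) _
      (mul_mem (ψ_mem_Gr ψ' _ (c := b) (by omega)) hg)).1 (mul_inv_eq_iff_eq_mul.1 e)
    rw [Prod.snd_mul, Prod.snd_mul, hs [0] 1 (by decide +kernel),
      hs (nth [] zW b) b (by interval_cases b <;> decide +kernel), ← ev_append, ← ev_append] at this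
    refine ne_of_pull hn (x := 1) ?_ this
    have := allN_true.1 cNe b hb
    revert this
    cases Nat.beq _ _ <;> simp

end H7.RE
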