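import Mathlib
import Cfsg.Agent.H2.QFC
import Cfsg.Agent.H2.QB3
import Cfsg.Agent.H2.QCL
import Cfsg.Agent.H2.QSch
import Cfsg.Agent.H2.QElim

/-! Common tools for the cases `K = 1` and (HII) of the quasi-dihedral analysis. -/

set_option autoImplicit false
set_option linter.unusedSectionVars false

namespace H7.QH

open H24 H26 Cfsg Subgroup H2.QD
open H13.Dih hiding MC

universe u

variable {G : Type u} [Group G] [Finite G] {c : QC G} {M : Mod c} {L₁ X : Subgroup G} {g d v : G}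

theorem nsol (h : MC M) : ¬ Sol (⊤ : Subgroup G) := fun e => by
  have := h.simple
  have h1 := e.der1_lt top_ne_bot
  have h2 : ⁅(⊤ : Subgroup G), ⊤⁆ = ⊥ := (Normal.eq_bot_or_eq_top inferInstance).resolve_right h1.ne
  have h3 := comm_of_cent (comm_eq_bot.1 h2) (mem_top c.i) (mem_top c.s)
  exact c.four.ts_ne_s (by rw [← c.i_s, h3, mul_inv_cancel_right])

theorem rt (h : c.Rot g) : (c.cj g).t = c.s := (c.cj_t g).trans h.1
theorem rs (h : c.Rot g) : (c.cj g).s = c.t * c.s := h.2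
theorem rU (h : c.Rot g) : (c.cj g).U = UU c.s := congrArg UU (rt h)
theorem rH (h : c.Rot g) : (c.cj g).H = C{c.s} := by rw [QC.H, rt h]

theorem R_le_CT (c : QC G) : c.R ≤ c.CT := pcore_le _ _
theorem R_le_H (c : QC G) : c.R ≤ c.H := (R_le_CT c).trans c.CT_le_H
theorem odd_R (c : QC G) : Odd ♯c.R := odd_pcore _

theorem covU (h : M.Comp L₁) : M.L ≤ img M.κ C[c.U] := h.img_eq.ge.trans (img_mono _ h.cent)

theorem CT_D (h : M.Comp L₁) : c.CT ≤ N[L₁ ⊓ c.R] :=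
  norm_inf (c.CT_le_H.trans h.nml.norm) (pcore_nml _ _).norm

/-- no element of `D` lies in `O(C(v))` -/
theorem notU (h : MC M) (hL : M.Comp L₁) (hd : d ∈ L₁ ⊓ c.R) (hv : v ∈ c.T) (v1 : v ≠ 1)
    (hU : d ∈ UU v) : d = 1 := by
  have h1 := (h.cj c.ρ).UU_inf_of (covU (hL.cj c.ρ))
  rw [rU c.rot_ρ, rs c.rot_ρ] at h1
  have h2 := conj_mem_cj c.i hU
  rw [UU_cj, Mod.Comp.D_inv M h.q5 hL d hd, inv_mem_iff] at h2
  rcases c.four.mem_V.1 hv with e | e | e | e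
  · exact absurd e v1
  · rw [e] at hU; exact mem_bot.1 (hL.inf.le ⟨hd.1, hU⟩)
  · rw [e, c.i_s] at h2; exact mem_bot.1 (h1.le ⟨e ▸ hU, h2⟩)
  · rw [e, c.i_ts] at h2; exact mem_bot.1 (h1.le ⟨h2, e ▸ hU⟩)

/-- `κ_s` is injective on `U` -/
theorem ker_inf (h : MC M) (hL : M.Comp L₁) (hX : X ≤ c.U) : pre (M.cj c.ρ).κ ⊥ ⊓ X = ⊥ :=
  eq_bot_iff.2 fun x hx => (h.UU_inf_of (covU hL)).le ⟨hX hx.2, rU c.rot_ρ ▸ (M.cj c.ρ).mem_U
    (mem_pre_bot.1 hx.1).1 (mem_pre_bot.1 hx.1).2 (odd_orderOf c.odd_U (hX hx.2))⟩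

theorem R_le' (c : QC G) : c.R ≤ (c.cj c.ρ).H := (c.cj_R' c.rot_ρ.mem_NT).ge.trans (R_le_H _)

theorem img_R' (hX : X ≤ c.R) : img (M.cj c.ρ).κ X ≤ (M.cj c.ρ).Rh :=
  (img_mono _ (hX.trans (c.cj_R' c.rot_ρ.mem_NT).ge)).trans (M.cj c.ρ).img_R.le

theorem cyc_of (h : MC M) (hL : M.Comp L₁) (hX : X ≤ c.U ⊓ c.R)
    (hD : img (M.cj c.ρ).κ X ≤ (M.cj c.ρ).Dh) : Cyc X ∧ ♯X ∣ M.N.m := by
  have h1 := (hX.trans inf_le_right).trans (R_le' c)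
  have h2 := ker_inf h hL (hX.trans inf_le_left)
  have h3 : img (M.cj c.ρ).κ X ≤ (M.cj c.ρ).Th := hD.trans le_sup_left
  refine ⟨cyc_of_img h1 h2 ((M.cj c.ρ).Th_cyc.of_le h3), ?_⟩
  rw [← card_img_of_inf _ h1 h2]
  exact (card_dvd h3).trans (M.cj c.ρ).card_Th.dvd

theorem R_eq (h : MC M) (hL : M.Comp L₁) (h0 : M.L0 = ⊤) : c.R = L₁ ⊓ c.R ⊔ c.U ⊓ c.R := by
  rw [← (Mod.Comp.R_inf M h.q5 hL).1, h0, pre_top, inf_eq_left.2 (R_le_H c)]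

end H7.QH
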