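import Mathlib
import Cfsg.Agent.H6.XW2

/-!
# Extraspecial subgroups of order 32: definitions
-/

set_option autoImplicit false

namespace H7.X32

open Subgroup H24 H6.XS

variable {G : Type*} [Group G]

/-- width two, `z` is not weakly closed in `Q z` -/
structure Fu (D : Set G) (Q : G → Subgroup G) (z : G) : Prop where
  sit : Sit D Q 2
  hz : z ∈ D
  fus : ∃ v ∈ D, v ∈ Q z ∧ v ≠ z

/-- `P = ⟨i, j⟩ ∘ ⟨k, l⟩ = Q₈ ∘ Q₈` -/
structure QL (P : Subgroup G) (z i j k l : G) : Prop where
  z1 : z ≠ 1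
  zz : z * z = 1
  ii : i * i = z
  jj : j * j = z
  ij : i * j * (i * j) = z
  kk : k * k = z
  ll : l * l = z
  kl : k * l * (k * l) = z
  ik : i * k = k * i
  il : i * l = l * i
  jk : j * k = k * j
  jl : j * l = l * j
  gen : P = closure {i, j, k, l}

/-- `g` maps `i, j, k, l` to `i', j', k', l'` -/
structure Ac (g i j k l i' j' k' l' : G) : Prop where
  hi : g * i * g⁻¹ = i'
  hj : g * j * g⁻¹ = j'
  hk : g * k * g⁻¹ = k'
  hl : g * l * g⁻¹ = l'

/-- `SL₂(3) ∘ SL₂(3)` and an element `t` that inverts `a` and `b` -/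
structure LB (P : Subgroup G) (z i j k l a b t : G) : Prop extends QL P z i j k l where
  aa : Ac a i j k l j (i * j) k l
  ab : Ac b i j k l i j l (k * l)
  at' : Ac t i j k l j⁻¹ i⁻¹ l⁻¹ k⁻¹
  a3 : a * a * a = 1
  b3 : b * b * b = 1
  cab : a * b = b * a
  ta : t * a * t⁻¹ = a⁻¹
  tb : t * b * t⁻¹ = b⁻¹

/-- `C(z)` of order 576, as in `G₂(3)` -/
structure LG (P : Subgroup G) (z i j k l a b t : G) : Prop extends LB P z i j k l a b t where
  tt : t * t = 1
  cent : C{z} = closure {i, j, k, l, a, b, t}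

/-- `C(z)` of order 1152, as in `U₄(3)` -/
structure LU (P : Subgroup G) (z i j k l a b t s : G) : Prop extends LB P z i j k l a b t where
  tt : t * t = z
  as : Ac s i j k l k l i j
  ss : s * s = 1
  sa : s * a * s⁻¹ = b
  st : s * t * s⁻¹ = t⁻¹
  cent : C{z} = closure {i, j, k, l, a, b, t, s}

/-- `C(z)` of order 192, as in `A₈` and `A₉` (`d` acts as `a b⁻¹`) -/
structure LA (P : Subgroup G) (z i j k l d s : G) : Prop extends QL P z i j k l where
  ad : Ac d i j k l j (i * j) (k * l) k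
  as : Ac s i j k l k l i j
  d3 : d * d * d = 1
  ss : s * s = 1
  sd : s * d * s⁻¹ = d⁻¹
  cent : C{z} = closure {i, j, k, l, d, s}

/-- `C(z) = P ⟨d, t⟩` of order 192 with `d` of order three inverted by `t` -/
structure LM (P : Subgroup G) (z i j k l d t : G) : Prop extends QL P z i j k l where
  at' : Ac t i j k l j⁻¹ i⁻¹ l⁻¹ k⁻¹
  tt : t * t = 1
  d3 : d * d * d = 1
  td : t * d * t⁻¹ = d⁻¹
  cent : C{z} = closure {i, j, k, l, d, t}

/-- as in `M₁₂` (`d` acts as `a b`) -/
structure LM1 (P : Subgroup G) (z i j k l d t : G) : Prop extends LM P z i j k l d t where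
  ad : Ac d i j k l j (i * j) l (k * l)

/-- as in `G₂(2)` (`d` acts as `a`) -/
structure LM2 (P : Subgroup G) (z i j k l d t : G) : Prop extends LM P z i j k l d t where
  ad : Ac d i j k l j (i * j) k l

/-- plus type -/
def Plus (P : Subgroup G) (z : G) : Prop := ∃ i j k l, QL P z i j k l

end H7.X32
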