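import Mathlib
import Cfsg.Agent.H7.X32D
import Cfsg.Agent.H15.XA5

set_option autoImplicit false

namespace H7.X32

open Subgroup H24 H6.XS

universe u

variable {G : Type u} [Group G] [Finite G] {D : Set G} {Q : G → Subgroup G}
  {z i j k l a b t s d : G}

theorem Fu.alt [IsSimpleGroup G] (h : Fu D Q z) (L : LA (Q z) z i j k l d s) :
    Nonempty (G ≃* alternatingGroup (Fin 8)) ∨ Nonempty (G ≃* alternatingGroup (Fin 9)) := by
  exact H15.XA.alt h L

end H7.X32
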