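import Mathlib
import Cfsg.Agent.H7.X32D
import Cfsg.Agent.H7.XG0

set_option autoImplicit false
set_option maxRecDepth 100000
set_option linter.all false

namespace H7.X32

open H29 H7.Cay Subgroup H24

/-- The model. -/
abbrev KG : Type := KK XG0.M

namespace KG

theorem n_eq : XG0.M.n = 576 := rfl
theorem card : Nat.card KG = 576 := KK.card
def i : KG := ⟨1, by decide⟩
def j : KG := ⟨2, by decide⟩
def k : KG := ⟨4, by decide⟩
def l : KG := ⟨8, by decide⟩
def a : KG := ⟨32, by decide⟩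
def b : KG := ⟨96, by decide⟩
def t : KG := ⟨160, by decide⟩
def z : KG := ⟨16, by decide⟩
theorem mono : Mono z [i, j, k, l] := by unfold Mono; decide +kernel
theorem memQ : ∀ x : KG, x.val < 32 → ∃ a ∈ [1, i], ∃ b ∈ [1, j], ∃ c ∈ [1, k], ∃ d ∈ [1, l], ∃ e ∈ [1, i * i],
    x = a * b * c * d * e := by decide +kernel
theorem mulQ : ∀ x : KG, x.val < 32 → (x * i).val < 32 ∧ (x * j).val < 32 ∧ (x * k).val < 32 ∧ (x * l).val < 32 := by
  decide +kernel

end KG

variable {G : Type*} [Group G] {P : Subgroup G} {z i j k l a b t : G}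

namespace LG

variable (L : LG P z i j k l a b t)
include L

theorem iv : IvOK (pe [i, j, k, l, a, b, t]) (ivOf XG0.ivl) := ivOK_pe _ rfl (by decide)

theorem rels : ∀ r ∈ XG0.R, ev (pe [i, j, k, l, a, b, t]) r = 1 := by
  have hq : i * i * i * i = 1 := by rw [mul_assoc (i * i), L.ii, L.zz]
  have e : ∀ {x y : G}, x = y → x * y⁻¹ = 1 := mul_inv_eq_one.2
  simp only [XG0.R, List.forall_mem_cons, List.not_mem_nil, false_imp_iff, implies_true, and_true]
  refine ⟨?_, ?_, ?_, ?_, ?_, ?_, ?_, ?_, ?_, ?_, ?_, ?_, ?_, ?_, ?_, ?_, ?_, ?_, ?_, ?_, ?_, ?_, ?_, ?_, ?_, ?_, ?_, ?_⟩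
  · change i * (i * (i * (i * 1))) = 1
    exact Eq.trans (by group) (e hq)
  · change j * (j * (i⁻¹ * (i⁻¹ * 1))) = 1
    exact Eq.trans (by group) (e (L.jj.trans L.ii.symm))
  · change i * (j * (i * (j * (i⁻¹ * (i⁻¹ * 1))))) = 1
    exact Eq.trans (by group) (e (L.ij.trans L.ii.symm))
  · change k * (k * (i⁻¹ * (i⁻¹ * 1))) = 1
    exact Eq.trans (by group) (e (L.kk.trans L.ii.symm))
  · change l * (l * (i⁻¹ * (i⁻¹ * 1))) = 1
    exact Eq.trans (by group) (e (L.ll.trans L.ii.symm))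
  · change k * (l * (k * (l * (i⁻¹ * (i⁻¹ * 1))))) = 1
    exact Eq.trans (by group) (e (L.kl.trans L.ii.symm))
  · change i * (k * (i⁻¹ * (k⁻¹ * 1))) = 1
    exact Eq.trans (by group) (e L.ik)
  · change i * (l * (i⁻¹ * (l⁻¹ * 1))) = 1
    exact Eq.trans (by group) (e L.il)
  · change j * (k * (j⁻¹ * (k⁻¹ * 1))) = 1
    exact Eq.trans (by group) (e L.jk)
  · change j * (l * (j⁻¹ * (l⁻¹ * 1))) = 1
    exact Eq.trans (by group) (e L.jl)
  · change a * (i * (a⁻¹ * (j⁻¹ * 1))) = 1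
    exact Eq.trans (by group) (e L.aa.hi)
  · change a * (j * (a⁻¹ * (j⁻¹ * (i⁻¹ * 1)))) = 1
    exact Eq.trans (by group) (e L.aa.hj)
  · change a * (k * (a⁻¹ * (k⁻¹ * 1))) = 1
    exact Eq.trans (by group) (e L.aa.hk)
  · change a * (l * (a⁻¹ * (l⁻¹ * 1))) = 1
    exact Eq.trans (by group) (e L.aa.hl)
  · change b * (i * (b⁻¹ * (i⁻¹ * 1))) = 1
    exact Eq.trans (by group) (e L.ab.hi)
  · change b * (j * (b⁻¹ * (j⁻¹ * 1))) = 1
    exact Eq.trans (by group) (e L.ab.hj)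
  · change b * (k * (b⁻¹ * (l⁻¹ * 1))) = 1
    exact Eq.trans (by group) (e L.ab.hk)
  · change b * (l * (b⁻¹ * (l⁻¹ * (k⁻¹ * 1)))) = 1
    exact Eq.trans (by group) (e L.ab.hl)
  · change t * (i * (t⁻¹ * (j * 1))) = 1
    exact Eq.trans (by group) (e L.at'.hi)
  · change t * (j * (t⁻¹ * (i * 1))) = 1
    exact Eq.trans (by group) (e L.at'.hj)
  · change t * (k * (t⁻¹ * (l * 1))) = 1
    exact Eq.trans (by group) (e L.at'.hk)
  · change t * (l * (t⁻¹ * (k * 1))) = 1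
    exact Eq.trans (by group) (e L.at'.hl)
  · change a * (a * (a * 1)) = 1
    exact Eq.trans (by group) (e L.a3)
  · change b * (b * (b * 1)) = 1
    exact Eq.trans (by group) (e L.b3)
  · change a * (b * (a⁻¹ * (b⁻¹ * 1))) = 1
    exact Eq.trans (by group) (e L.cab)
  · change t * (a * (t⁻¹ * (a * 1))) = 1
    exact Eq.trans (by group) (e L.ta)
  · change t * (b * (t⁻¹ * (b * 1))) = 1
    exact Eq.trans (by group) (e L.tb)
  · change t * (t * 1) = 1
    exact Eq.trans (by group) (e L.tt)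

theorem sound : XG0.M.Sound (XG0.C.val (pe [i, j, k, l, a, b, t])) := XG0.sound L.iv L.rels

/-- The embedding of the model. -/
noncomputable def ι : KG →* G := KK.hom L.sound

theorem ι_w (x : KG) (w : List ℕ) (h : Nat.beq (XG0.C.run w 0) x.val = true) :
    L.ι x = ev (pe [i, j, k, l, a, b, t]) w := (XG0.ok L.iv L.rels).word x.lt (nbeq.1 h)
@[simp] theorem ι_i : L.ι KG.i = i := (L.ι_w _ [0] (by decide +kernel)).trans (mul_one _)
@[simp] theorem ι_j : L.ι KG.j = j := (L.ι_w _ [2] (by decide +kernel)).trans (mul_one _)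
@[simp] theorem ι_k : L.ι KG.k = k := (L.ι_w _ [4] (by decide +kernel)).trans (mul_one _)
@[simp] theorem ι_l : L.ι KG.l = l := (L.ι_w _ [6] (by decide +kernel)).trans (mul_one _)
@[simp] theorem ι_a : L.ι KG.a = a := (L.ι_w _ [8] (by decide +kernel)).trans (mul_one _)
@[simp] theorem ι_b : L.ι KG.b = b := (L.ι_w _ [10] (by decide +kernel)).trans (mul_one _)
@[simp] theorem ι_t : L.ι KG.t = t := (L.ι_w _ [12] (by decide +kernel)).trans (mul_one _)
@[simp] theorem ι_z : L.ι KG.z = z :=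
  (L.ι_w _ [0, 0] (by decide +kernel)).trans (by rw [← L.ii]; exact congrArg (i * ·) (mul_one i))
theorem ι_inj : Function.Injective L.ι := KG.mono.inj _ (by rw [L.ι_z]; exact L.z1)

theorem ι_range : L.ι.range = C{z} := by
  refine Eq.trans ?_ L.cent.symm
  refine le_antisymm ?_ ((closure_le _).2 ?_)
  · rintro _ ⟨x, rfl⟩
    exact Tab.val_mem _ (pe_mem fun x hx => subset_closure (by simpa using hx)) _
  · simp only [Set.insert_subset_iff, Set.singleton_subset_iff, SetLike.mem_coe]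
    exact ⟨⟨_, L.ι_i⟩, ⟨_, L.ι_j⟩, ⟨_, L.ι_k⟩, ⟨_, L.ι_l⟩, ⟨_, L.ι_a⟩, ⟨_, L.ι_b⟩, ⟨_, L.ι_t⟩⟩

theorem ι_mem (x : KG) : L.ι x ∈ C{z} := L.ι_range ▸ ⟨x, rfl⟩

theorem exists_code {g : G} (h : g ∈ C{z}) : ∃ x, L.ι x = g := by rwa [← L.ι_range] at h

theorem card : Nat.card C{z} = 576 := by
  rw [← L.ι_range, ← Nat.card_congr (L.ι.ofInjective L.ι_inj).toEquiv, KG.card]

theorem mem_P {g : G} : g ∈ P ↔ ∃ x : KG, x.val < 32 ∧ L.ι x = g := by
  have := KK.card (M := XG0.M)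
  refine (SetLike.ext_iff.1 L.gen g).trans ?_
  constructor
  · intro h
    refine fin_closure_induction (p := fun g => ∃ x : KG, x.val < 32 ∧ L.ι x = g) (fun x hx => ?_)
      ⟨1, by decide, map_one _⟩ ?_ h
    · have : x ∈ L.ι.range := by
        rcases hx with rfl | rfl | rfl | rfl
        exacts [⟨_, L.ι_i⟩, ⟨_, L.ι_j⟩, ⟨_, L.ι_k⟩, ⟨_, L.ι_l⟩]
      obtain ⟨y, rfl⟩ := this
      exact L.ι.isOfFinOrder (isOfFinOrder_of_finite y)
    · rintro _ y ⟨x, h1, rfl⟩ hy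
      obtain ⟨a1, a2, a3, a4⟩ := KG.mulQ x h1
      rcases hy with rfl | rfl | rfl | rfl
      exacts [⟨_, a1, by simp⟩, ⟨_, a2, by simp⟩, ⟨_, a3, by simp⟩, ⟨_, a4, by simp⟩]
  · rintro ⟨x, h1, rfl⟩
    obtain ⟨a, ha, b, hb, c, hc, d, hd, e, he, rfl⟩ := KG.memQ x h1
    have m : ∀ {x}, x ∈ ({i, j, k, l} : Set G) → x ∈ closure ({i, j, k, l} : Set G) :=
      fun h => subset_closure h
    simp only [List.mem_cons, List.not_mem_nil, or_false] at ha hb hc hd he
    simp only [map_mul]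
    refine mul_mem (mul_mem (mul_mem (mul_mem ?_ ?_) ?_) ?_) ?_
    · rcases ha with rfl | rfl <;> simp [m]
    · rcases hb with rfl | rfl <;> simp [m]
    · rcases hc with rfl | rfl <;> simp [m]
    · rcases hd with rfl | rfl <;> simp [m]
    · rcases he with rfl | rfl <;> simp [m, mul_mem]

theorem ι_mem_P {x : KG} : L.ι x ∈ P ↔ x.val < 32 :=
  L.mem_P.trans ⟨fun ⟨y, h1, h2⟩ => L.ι_inj h2 ▸ h1, fun h => ⟨x, h, rfl⟩⟩

end LG

end H7.X32
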