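import Mathlib
import Cfsg.Agent.H7.X32D
import Cfsg.Agent.H3.GF

set_option autoImplicit false

namespace H7.X32

open Subgroup H24 H6.XS

universe u

variable {G : Type u} [Group G] [Finite G] {D : Set G} {Q : G → Subgroup G}
  {z i j k l a b t s d : G}

theorem Fu.g2 [IsSimpleGroup G] (h : Fu D Q z) (L : LG (Q z) z i j k l a b t) :
    Nonempty (G ≃* Cfsg.Lie.chevG2.group (ZMod 3)) := by
  have e : L.ι (H3.G2.o 16) = z := L.ι_z
  have c : H3.G2.Cx L.ι := ⟨L.ι_inj, fun g hg => L.exists_code (mem_centralizer_singleton_iff.2 (e ▸ hg))⟩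
  obtain ⟨v, v1, v2, v3⟩ := h.fus
  obtain ⟨x, x1, rfl⟩ := L.mem_P.1 v2
  obtain ⟨g, hg⟩ := h.sit.trans z h.hz _ v1
  obtain ⟨p, hp⟩ := (by decide +kernel : ∀ x : KG, x.val < 32 → x * x = 1 → x ≠ 1 → x ≠ H3.G2.o 16 →
    ∃ p, p * x * p⁻¹ = H3.G2.o 15) x x1 (L.ι_inj (by rw [map_mul, ← hg, conj_mul, L.zz, map_one]; group))
    (fun k => L.z1 (conj_eq_one_iff.1 (by rw [hg, k, map_one]))) fun k => v3 (k ▸ e)
  have m : L.ι (H3.G2.o 15) ∈ D := by
    rw [← hp, map_mul, map_mul, map_inv]; exact h.sit.conj _ v1 _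
  obtain ⟨y, -, y1, y2⟩ := h.sit.swap h.hz m (L.ι_mem_P.2 (by decide +kernel))
    fun k => absurd (L.ι_inj (k.trans e.symm)) (by decide +kernel)
  obtain ⟨ι, y', A⟩ := c.exists_am (y := y) (by rw [e]; exact y1) (by rw [e]; exact y2)
  exact A.iso

end H7.X32
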