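import Mathlib
import Cfsg.Agent.H7.X32D
import Cfsg.Agent.H7.XKM1
import Cfsg.Agent.H7.XKM2
import Cfsg.Agent.H25.XFa
import Cfsg.Agent.S1741

set_option autoImplicit false
set_option maxRecDepth 100000

open Subgroup H24 H6.XS H7.X32

namespace H25.XF

open H25.Tw

/-- the map from the Sylow subgroup of the Mathieu group -/
def th {K : Type*} [Group K] (i j k l t : K) (s : S0) : K :=
  (i * k * t) ^ (s.n % 4) * (i * t * k) ^ (s.n / 4 % 4) * ((i * k) ^ (s.n / 16 % 2) * (i * j * l) ^ (s.n / 32))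

theorem th1 : (∀ a b, th KM1.i KM1.j KM1.k KM1.l KM1.t (a * b) =
    th KM1.i KM1.j KM1.k KM1.l KM1.t a * th KM1.i KM1.j KM1.k KM1.l KM1.t b) ∧
    (∀ a, th KM1.i KM1.j KM1.k KM1.l KM1.t a = 1 → a = 1) ∧
    ∀ x : KM1, x * (KM1.i * KM1.l) = KM1.i * KM1.l * x → x.val < 32 := by decide +kernel

theorem th2 : (∀ a b, th KM2.i KM2.j KM2.k KM2.l KM2.t (a * b) =
    th KM2.i KM2.j KM2.k KM2.l KM2.t a * th KM2.i KM2.j KM2.k KM2.l KM2.t b) ∧
    (∀ a, th KM2.i KM2.j KM2.k KM2.l KM2.t a = 1 → a = 1) ∧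
    ∀ x : KM2, x * (KM2.i * KM2.l) = KM2.i * KM2.l * x → x.val < 32 := by decide +kernel

variable {G : Type*} [Group G] [Finite G] {D : Set G} {Q : G → Subgroup G} {z u : G}

theorem m12 [IsSimpleGroup G] (h : Sit D Q 2) (hz : z ∈ D) (hc : Nat.card C{z} = 192) (φ : S0 →* G)
    (hφ : Function.Injective φ) (u2 : u * u = 1) (u1 : u ≠ 1) (uz : u ≠ z) (hu : u ∈ Q z)
    (hC : ∀ y ∈ C{z}, y ∈ C{u} → y ∈ Q z) : Cfsg.Spor.IsoM12 G := by
  have := Fact.mk Nat.prime_two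
  have c1 : Nat.card φ.range = 64 := by
    rw [← Nat.card_congr (MonoidHom.ofInjective hφ).toEquiv, card_S0]
  have c2 : ¬ 2 ∣ φ.range.index := by
    have e1 := φ.range.card_mul_index
    have e2 := C{z}.card_mul_index
    have e3 := Nat.odd_iff.1 (h.odd_index hz)
    rw [c1] at e1
    rw [hc] at e2
    omega
  obtain ⟨P⟩ : Nonempty (Sylow 2 Cfsg.Spor.M12) := inferInstance
  obtain ⟨e⟩ := exists_equiv P
  refine Cfsg.Agent.S1741.result ((IsPGroup.of_card (n := 6) c1).toSylow c2) P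
    ⟨(MonoidHom.ofInjective hφ).symm.trans e⟩ ⟨z, u, h.ord hz, H6.orderOf_eq_two_of u2 u1, fun k => ?_⟩
  obtain ⟨g, rfl⟩ := isConj_iff.1 k
  obtain ⟨y, y1, y2, y3⟩ := factF h hz (h.conj z hz g) hu uz
  exact y3 (hC y y1 (h.le (h.conj z hz g) y2))

end H25.XF

namespace H7.X32

open H25.XF

universe u

variable {G : Type u} [Group G] [Finite G] {D : Set G} {Q : G → Subgroup G}
  {z i j k l a b t s d : G}

theorem Fu.m12 [IsSimpleGroup G] (h : Fu D Q z)
    (L : LM1 (Q z) z i j k l d t ∨ LM2 (Q z) z i j k l d t) : Cfsg.Spor.IsoM12 G := by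
  rcases L with L | L
  · refine H25.XF.m12 (u := L.ι (KM1.i * KM1.l)) h.sit h.hz L.card (L.ι.comp (MonoidHom.mk' _ th1.1))
      (L.ι_inj.comp ((injective_iff_map_eq_one _).2 th1.2.1)) ?_ ?_ ?_ (L.ι_mem_P.2 (by decide +kernel))
      fun y y1 y2 => ?_
    · rw [← map_mul, ← map_one L.ι]; exact congrArg _ (by decide +kernel)
    · rw [← map_one L.ι]; exact L.ι_inj.ne (by decide +kernel)
    · exact fun e => absurd (L.ι_inj (e.trans L.ι_z.symm)) (by decide +kernel)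
    · obtain ⟨x, rfl⟩ := L.exists_code y1
      exact L.ι_mem_P.2 (th1.2.2 x (L.ι_inj (by simpa only [map_mul] using mem_C1.1 y2)))
  · refine H25.XF.m12 (u := L.ι (KM2.i * KM2.l)) h.sit h.hz L.card (L.ι.comp (MonoidHom.mk' _ th2.1))
      (L.ι_inj.comp ((injective_iff_map_eq_one _).2 th2.2.1)) ?_ ?_ ?_ (L.ι_mem_P.2 (by decide +kernel))
      fun y y1 y2 => ?_
    · rw [← map_mul, ← map_one L.ι]; exact congrArg _ (by decide +kernel)
    · rw [← map_one L.ι]; exact L.ι_inj.ne (by decide +kernel)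
    · exact fun e => absurd (L.ι_inj (e.trans L.ι_z.symm)) (by decide +kernel)
    · obtain ⟨x, rfl⟩ := L.exists_code y1
      exact L.ι_mem_P.2 (th2.2.2 x (L.ι_inj (by simpa only [map_mul] using mem_C1.1 y2)))

end H7.X32
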