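import Mathlib
import Cfsg.Agent.H7.XB0
import Cfsg.Agent.H7.XKQ
import Cfsg.Agent.H3.Transfer

/-!
# The action of `C(z)` on `Q₈ ∘ Q₈`
-/

set_option autoImplicit false
set_option maxRecDepth 100000
set_option linter.all false

namespace H7.X32

open H29 H7.Cay Subgroup H24

/-- The group `O₄⁺(2)`. -/
abbrev KB : Type := KK XB0.M

theorem KQ.hom_ext {X : Type*} [Group X] {f g : KQ →* X} (h1 : f KQ.i = g KQ.i)
    (h2 : f KQ.j = g KQ.j) (h3 : f KQ.k = g KQ.k) (h4 : f KQ.l = g KQ.l) (x : KQ) : f x = g x := by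
  obtain ⟨a, ha, b, hb, c, hc, d, hd, e, he, rfl⟩ := KQ.memQ x x.lt
  simp only [List.mem_cons, List.not_mem_nil, or_false] at ha hb hc hd he
  simp only [map_mul]
  congr 1; congr 1; congr 1; congr 1
  · rcases ha with rfl | rfl <;> simp [h1]
  · rcases hb with rfl | rfl <;> simp [h2]
  · rcases hc with rfl | rfl <;> simp [h3]
  · rcases hd with rfl | rfl <;> simp [h4]
  · rcases he with rfl | rfl <;> simp [h1]

namespace KB

def a : KB := ⟨1, by decide⟩
def b : KB := ⟨3, by decide⟩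
def u : KB := ⟨5, by decide⟩
def s : KB := ⟨6, by decide⟩
def t : KB := ⟨55, by decide⟩

theorem card : Nat.card KB = 72 := KK.card

/-- The action on `Q`. -/
noncomputable def act (h : KB) (q : KQ) : KQ :=
  KK.of (lit h.val fun x => lit q.val fun y => pk XB0.AT 5 (Nat.add (Nat.mul 32 x) y))

theorem act_mul : ∀ (h : KB) (p q : KQ), act h (p * q) = act h p * act h q := by decide +kernel

/-- The action as a homomorphism. -/
noncomputable def actH (h : KB) : KQ →* KQ := MonoidHom.mk' (act h) (act_mul h)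

theorem act_inv (h : KB) (p : KQ) : act h p⁻¹ = (act h p)⁻¹ := map_inv (actH h) p
theorem act_one' (h : KB) : act h 1 = 1 := map_one (actH h)
theorem one_act : ∀ p : KQ, act 1 p = p := by decide +kernel
theorem act_z : ∀ h : KB, act h KQ.z = KQ.z := by decide +kernel

theorem mul_act (h h' : KB) (p : KQ) : act (h * h') p = act h (act h' p) := by
  have key : ∀ h h' : KB, ∀ p ∈ [KQ.i, KQ.j, KQ.k, KQ.l], act (h * h') p = act h (act h' p) := by
    decide +kernel
  exact KQ.hom_ext (f := actH (h * h')) (g := (actH h).comp (actH h')) (key _ _ _ (by simp))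
    (key _ _ _ (by simp)) (key _ _ _ (by simp)) (key _ _ _ (by simp)) p

/-- The automorphisms of `Q`. -/
noncomputable def aut (q : KQ) (h : KB) (x : KQ) : KQ := q * act h x * q⁻¹

theorem aut_mul (q : KQ) (h : KB) (x y : KQ) : aut q h (x * y) = aut q h x * aut q h y := by
  simp [aut, act_mul]

/-- The automorphisms as homomorphisms. -/
noncomputable def autH (q : KQ) (h : KB) : KQ →* KQ := MonoidHom.mk' (aut q h) (aut_mul q h)

@[simp] theorem autH_apply (q : KQ) (h : KB) (x : KQ) : autH q h x = aut q h x := rfl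

theorem aut_aut (q q' : KQ) (h h' : KB) (x : KQ) :
    aut q h (aut q' h' x) = aut (q * act h q') (h * h') x := by
  simp [aut, act_mul, act_inv, mul_act, mul_assoc]

theorem aut_one (x : KQ) : aut 1 1 x = x := by simp [aut, one_act]

theorem aut_right (q : KQ) (h : KB) (x : KQ) : aut q h (aut (act h⁻¹ q⁻¹) h⁻¹ x) = x := by
  rw [aut_aut, ← mul_act, mul_inv_cancel, one_act, mul_inv_cancel, aut_one]

theorem aut_left (q : KQ) (h : KB) (x : KQ) : aut (act h⁻¹ q⁻¹) h⁻¹ (aut q h x) = x := by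
  rw [aut_aut, ← act_mul, inv_mul_cancel, act_one', inv_mul_cancel, aut_one]

theorem aut_z : ∀ (q : KQ) (h : KB), aut q h KQ.z = KQ.z := by decide +kernel

theorem triv : ∀ (q : KQ) (h : KB), aut q h KQ.i = KQ.i → aut q h KQ.j = KQ.j →
    aut q h KQ.k = KQ.k → aut q h KQ.l = KQ.l → h = 1 ∧ (q = 1 ∨ q = KQ.z) := by decide +kernel

theorem exists_aut (f : KQ →* KQ) (hz : f KQ.z = KQ.z) : ∃ q h, ∀ x, f x = aut q h x := by
  have k1 : ∀ x : KQ, x * x = KQ.z → ∀ y : KQ, y * y = KQ.z → x * y * (x * y) = KQ.z →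
      ∃ h ∈ [0, 1, 2, 5, 9, 13, 6, 16, 18, 20, 34, 36], ∃ q ∈ [0, 1, 2, 3, 4, 8, 12],
        aut (KK.of q) (KK.of h) KQ.i = x ∧ aut (KK.of q) (KK.of h) KQ.j = y := by decide +kernel
  have k2 : ∀ x : KQ, x * x = KQ.z → KQ.i * x = x * KQ.i → KQ.j * x = x * KQ.j →
      ∀ y : KQ, y * y = KQ.z → KQ.i * y = y * KQ.i → KQ.j * y = y * KQ.j → x * y * (x * y) = KQ.z →
      ∃ h ∈ [0, 3, 4, 38, 52, 54], ∃ q ∈ [0, 4, 8, 12],
        aut (KK.of q) (KK.of h) KQ.k = x ∧ aut (KK.of q) (KK.of h) KQ.l = y ∧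
        aut (KK.of q) (KK.of h) KQ.i = KQ.i ∧ aut (KK.of q) (KK.of h) KQ.j = KQ.j := by
    decide +kernel
  have sq : ∀ (f : KQ →* KQ), f KQ.z = KQ.z → ∀ x, x * x = KQ.z → f x * f x = KQ.z :=
    fun f hz x h => by rw [← map_mul, h, hz]
  obtain ⟨h, -, q, -, a1, a2⟩ := k1 _ (sq f hz KQ.i (by decide +kernel)) _
    (sq f hz KQ.j (by decide +kernel)) (by rw [← map_mul]; exact sq f hz _ (by decide +kernel))
  generalize (KK.of q : KQ) = q at a1 a2
  generalize (KK.of h : KB) = h at a1 a2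
  let g : KQ →* KQ := (autH (act h⁻¹ q⁻¹) h⁻¹).comp f
  have g0 : ∀ x, aut q h (g x) = f x := fun x => aut_right q h _
  have gz : g KQ.z = KQ.z := by change aut _ _ (f _) = _; rw [hz, aut_z]
  have gi : g KQ.i = KQ.i := by change aut _ _ (f _) = _; rw [← a1, aut_left]
  have gj : g KQ.j = KQ.j := by change aut _ _ (f _) = _; rw [← a2, aut_left]
  have c : ∀ x y, g x = x → x * y = y * x → x * g y = g y * x := fun x y e1 e2 => by
    rw [← e1, ← map_mul, ← map_mul, e2]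
  obtain ⟨h', -, q', -, b1, b2, b3, b4⟩ := k2 _ (sq g gz KQ.k (by decide +kernel))
    (c _ _ gi (by decide +kernel)) (c _ _ gj (by decide +kernel)) _
    (sq g gz KQ.l (by decide +kernel)) (c _ _ gi (by decide +kernel)) (c _ _ gj (by decide +kernel))
    (by rw [← map_mul]; exact sq g gz _ (by decide +kernel))
  refine ⟨q * act h (KK.of q'), h * KK.of h', fun x => ?_⟩
  rw [← aut_aut, ← g0]
  exact congrArg _ (KQ.hom_ext (f := g) (g := autH _ _) (gi.trans b3.symm) (gj.trans b4.symm)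
    b1.symm b2.symm x)

end KB

open KB

variable {G : Type*} [Group G] {P : Subgroup G} {z i j k l : G}

namespace QL

variable (L : QL P z i j k l)

theorem mem_P' {g : G} : g ∈ P ↔ ∃ x, L.ι x = g :=
  L.mem_P.trans ⟨fun ⟨x, _, h⟩ => ⟨x, h⟩, fun ⟨x, h⟩ => ⟨x, x.lt, h⟩⟩

theorem ι_mem (x : KQ) : L.ι x ∈ P := L.mem_P'.2 ⟨x, rfl⟩

/-- `g` acts as `aut q h`. -/
def Iv (g : G) (q : KQ) (h : KB) : Prop := ∀ x, g * L.ι x * g⁻¹ = L.ι (aut q h x)

variable {L} {g g' : G} {q q' : KQ} {h h' : KB}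

theorem Iv.mul (a : L.Iv g q h) (b : L.Iv g' q' h') : L.Iv (g * g') (q * act h q') (h * h') :=
  fun x => by rw [← aut_aut, ← a, ← b]; group

theorem Iv.inv (a : L.Iv g q h) : L.Iv g⁻¹ (act h⁻¹ q⁻¹) h⁻¹ := fun x => by
  conv_lhs => rw [← aut_right q h x, ← a]
  group

theorem iv_ι (q : KQ) : L.Iv (L.ι q) q 1 := fun x => by simp [aut, one_act]

theorem iv_one : L.Iv 1 1 1 := by simpa using iv_ι (L := L) 1

theorem Iv.congr (a : L.Iv g q h) (e1 : g = g') (e2 : q = q') (e3 : h = h') : L.Iv g' q' h' :=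
  e1 ▸ e2 ▸ e3 ▸ a

theorem Iv.uniq (a : L.Iv g q h) (b : L.Iv g q' h') : h = h' ∧ (q = q' ∨ q = q' * KQ.z) := by
  have c := b.inv.mul a
  rw [inv_mul_cancel] at c
  have d : ∀ x, aut _ _ x = x := fun x => L.ι_inj ((c x).symm.trans (by simp))
  obtain ⟨e1, e2⟩ := triv _ _ (d _) (d _) (d _) (d _)
  obtain rfl : h' = h := inv_mul_eq_one.1 e1
  refine ⟨rfl, ?_⟩
  rw [← act_mul] at e2
  have e3 : q'⁻¹ * q = 1 ∨ q'⁻¹ * q = KQ.z := by
    refine e2.imp (fun e => ?_) fun e => ?_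
    · have := congrArg (act h') e
      rwa [← mul_act, mul_inv_cancel, one_act, act_one'] at this
    · have := congrArg (act h') e
      rwa [← mul_act, mul_inv_cancel, one_act, act_z] at this
  exact e3.imp (fun e => (inv_mul_eq_one.1 e).symm) fun e => inv_mul_eq_iff_eq_mul.1 e

theorem Iv.of_gens (h1 : g * i * g⁻¹ = L.ι (aut q h KQ.i)) (h2 : g * j * g⁻¹ = L.ι (aut q h KQ.j))
    (h3 : g * k * g⁻¹ = L.ι (aut q h KQ.k)) (h4 : g * l * g⁻¹ = L.ι (aut q h KQ.l)) :
    L.Iv g q h :=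
  KQ.hom_ext (f := (MulAut.conj g).toMonoidHom.comp L.ι) (g := L.ι.comp (autH q h))
    (by simpa using h1) (by simpa using h2) (by simpa using h3) (by simpa using h4)

theorem Iv.cent (a : L.Iv g q h) : g ∈ C{z} := by
  have := a KQ.z
  rwa [aut_z, L.ι_z, ← mem_C1_iff_conj] at this

theorem Iv.ac (a : L.Iv g q h) : Ac g i j k l (L.ι (aut q h KQ.i)) (L.ι (aut q h KQ.j))
    (L.ι (aut q h KQ.k)) (L.ι (aut q h KQ.l)) :=
  ⟨by simpa using a KQ.i, by simpa using a KQ.j, by simpa using a KQ.k, by simpa using a KQ.l⟩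

variable (L)

theorem exists_iv (hg : g ∈ C{z}) (hN : g ∈ N[P]) : ∃ q h, L.Iv g q h := by
  have : ∀ x, ∃ y, L.ι y = g * L.ι x * g⁻¹ := fun x => L.mem_P'.1 ((mem_N.1 hN _).1 (L.ι_mem x))
  choose f hf using this
  let F : KQ →* KQ := MonoidHom.mk' f fun x y => L.ι_inj (by simp [hf])
  obtain ⟨q, h, e⟩ := exists_aut F (L.ι_inj (by
    change L.ι (f _) = _
    rw [hf, L.ι_z, mem_C1_iff_conj.1 hg]))
  exact ⟨q, h, fun x => by rw [← e, ← hf]; rfl⟩

open Classical in
/-- The image in `O₄⁺(2)`. -/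
noncomputable def rh (g : G) : KB := if h : ∃ h q, L.Iv g q h then h.choose else 1

variable {L}

theorem Iv.rh (a : L.Iv g q h) : L.rh g = h := by
  have e : ∃ h q, L.Iv g q h := ⟨h, q, a⟩
  rw [QL.rh, dif_pos e]
  exact (e.choose_spec.choose_spec.uniq a).1

/-- New letters. -/
theorem rebase (L : QL P z i j k l) (q : KQ) (h : KB) : QL P z (L.ι (aut q h KQ.i)) (L.ι (aut q h KQ.j))
    (L.ι (aut q h KQ.k)) (L.ι (aut q h KQ.l)) := by
  have e : ∀ x y, L.ι (aut q h x) * L.ι (aut q h y) = L.ι (aut q h (x * y)) := fun x y => by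
    rw [aut_mul, map_mul]
  have s : ∀ x, x * x = KQ.z → L.ι (aut q h x) * L.ι (aut q h x) = z := fun x hx => by
    rw [e, hx, aut_z, L.ι_z]
  have c : ∀ x y, x * y = y * x →
      L.ι (aut q h x) * L.ι (aut q h y) = L.ι (aut q h y) * L.ι (aut q h x) := fun x y hx => by
    rw [e, hx, e]
  refine ⟨L.z1, L.zz, s _ (by decide +kernel), s _ (by decide +kernel),
    by rw [e]; exact s _ (by decide +kernel), s _ (by decide +kernel), s _ (by decide +kernel),
    by rw [e]; exact s _ (by decide +kernel), c _ _ (by decide +kernel), c _ _ (by decide +kernel),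
    c _ _ (by decide +kernel), c _ _ (by decide +kernel), le_antisymm (fun g hg => ?_) ?_⟩
  · obtain ⟨x, rfl⟩ := L.mem_P'.1 hg
    rw [← aut_right q h x]
    generalize aut (act h⁻¹ q⁻¹) h⁻¹ x = x
    obtain ⟨a, ha, b, hb, c, hc, d, hd, e, he, rfl⟩ := KQ.memQ x x.lt
    simp only [List.mem_cons, List.not_mem_nil, or_false] at ha hb hc hd he
    have o : L.ι (aut q h 1) = 1 := by rw [show aut q h 1 = 1 from map_one (autH q h), map_one]
    have m : ∀ {S : Set G} {x}, x ∈ S → x ∈ closure S := fun h => Subgroup.subset_closure h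
    simp only [aut_mul, map_mul]
    refine mul_mem (mul_mem (mul_mem (mul_mem ?_ ?_) ?_) ?_) ?_
    · rcases ha with rfl | rfl <;> simp [o, m]
    · rcases hb with rfl | rfl <;> simp [o, m]
    · rcases hc with rfl | rfl <;> simp [o, m]
    · rcases hd with rfl | rfl <;> simp [o, m]
    · rcases he with rfl | rfl <;> simp [o, m, aut_mul, mul_mem]
  · simp [Set.insert_subset_iff, L.ι_mem]

theorem rebase_ι (L : QL P z i j k l) (q : KQ) (h : KB) (x : KQ) :
    (L.rebase q h).ι x = L.ι (aut q h x) :=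
  KQ.hom_ext (f := (L.rebase q h).ι) (g := L.ι.comp (autH q h)) (QL.ι_i _) (QL.ι_j _) (QL.ι_k _)
    (QL.ι_l _) x

theorem Iv.rebase (a : L.Iv g q h) (q' : KQ) (h' : KB) :
    (L.rebase q' h').Iv g (act h'⁻¹ (q'⁻¹ * q * act h q')) (h'⁻¹ * h * h') := fun x => by
  rw [rebase_ι, rebase_ι, a, aut_aut, aut_aut, ← mul_act, mul_inv_cancel, one_act]
  simp only [← mul_assoc, mul_inv_cancel, one_mul]

end QL

/-- Thompson's transfer lemma. -/
theorem thom [Finite G] (hG : ∀ K : Subgroup G, K.index ≠ 2) {M : Subgroup G} (hM : Odd M.index)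
    {p : G → Prop} (hp : ∀ x ∈ M, ∀ y ∈ M, p (x * y) ↔ (p x ↔ p y)) {u : G} (hu : u ∈ M)
    (h2 : u * u = 1) (h3 : ¬ p u) : ∃ g : G, g * u * g⁻¹ ∈ M ∧ p (g * u * g⁻¹) := by
  have p1 : p 1 := by simpa using hp 1 (one_mem _) 1 (one_mem _)
  let K : Subgroup G :=
    { carrier := {x | x ∈ M ∧ p x}
      one_mem' := ⟨one_mem _, p1⟩
      mul_mem' := fun {x y} a b => ⟨mul_mem a.1 b.1, (hp x a.1 y b.1).2 (iff_of_true a.2 b.2)⟩
      inv_mem' := fun {x} a => ⟨inv_mem a.1,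
        ((hp x a.1 _ (inv_mem a.1)).1 (by simpa using p1)).1 a.2⟩ }
  have hi : K.relIndex M = 2 := index_eq_two_iff.2 ⟨⟨u, hu⟩, fun b => by
    have := hp b b.2 u hu
    have e1 : b * ⟨u, hu⟩ ∈ K.subgroupOf M ↔ p (b * u) :=
      ⟨fun h => h.2, fun h => ⟨mul_mem b.2 hu, h⟩⟩
    have e2 : b ∈ K.subgroupOf M ↔ p b := ⟨fun h => h.2, fun h => ⟨b.2, h⟩⟩
    rw [e1, e2, this]
    unfold Xor
    tauto⟩
  rcases H3.thompson_transfer M K hM hi u h2 hu fun h => h3 h.2 with ⟨N, -, h, -⟩ | h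
  · exact absurd h (hG N)
  · exact h

end H7.X32
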