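import Mathlib
import Cfsg.Agent.H7.X32D

/-!
# Extraspecial subgroups of order 32: more letters
-/

set_option autoImplicit false

namespace H7.X32

open Subgroup H24 H6.XS

variable {G : Type*} [Group G]

/-- `SL₂(3) ∘ SL₂(3)` in `C(z)` -/
structure LD (P : Subgroup G) (z i j k l a b : G) : Prop extends QL P z i j k l where
  aa : Ac a i j k l j (i * j) k l
  ab : Ac b i j k l i j l (k * l)
  a3 : a * a * a = 1
  b3 : b * b * b = 1
  cab : a * b = b * a

/-- an impossible centraliser of order 576 -/
structure LE (P : Subgroup G) (z i j k l a b s : G) : Prop extends LD P z i j k l a b where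
  as : Ac s i j k l k l i j
  ss : s * s = 1
  sa : s * a * s⁻¹ = b
  cent : C{z} = closure {i, j, k, l, a, b, s}

end H7.X32
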