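import Mathlib
import Cfsg.Agent.H7.XP1
import Cfsg.Agent.H7.XPD

/-!
# The image of `C(z)` in `O₄⁺(2)`
-/

set_option autoImplicit false
set_option maxRecDepth 100000
set_option linter.all false

namespace H7.X32

open H29 H7.Cay Subgroup H24 H6.XS KB

variable {G : Type*} [Group G] {D : Set G} {Q : G → Subgroup G} {z i j k l : G}

namespace QL

section
variable {P : Subgroup G} {L : QL P z i j k l} {g g' : G} {q q' : KQ} {x y : KB}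

theorem aut1 (x : KB) (p : KQ) : aut 1 x p = act x p := by simp [aut]

theorem Iv.swap (a : L.Iv g 1 x) (p : KQ) : g * L.ι p = L.ι (act x p) * g := by
  rw [← aut1, ← a]; group

theorem Iv.mul1 (a : L.Iv g 1 x) (b : L.Iv g' 1 y) : L.Iv (g * g') 1 (x * y) :=
  (a.mul b).congr rfl (by rw [act_one', mul_one]) rfl

theorem Iv.inv1 (a : L.Iv g 1 x) : L.Iv g⁻¹ 1 x⁻¹ :=
  a.inv.congr rfl (by rw [inv_one, act_one']) rfl

theorem Iv.lmul (a : L.Iv g q x) (p : KQ) : L.Iv (L.ι p * g) (p * q) x :=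
  ((iv_ι p).mul a).congr rfl (by rw [one_act]) (one_mul _)

theorem Iv.strip (a : L.Iv g q x) : L.Iv ((L.ι q)⁻¹ * g) 1 x :=
  (a.lmul q⁻¹).congr (by simp) (by simp) rfl

variable (L) in
/-- The image of `C(z)`. -/
def HH (x : KB) : Prop := ∃ g, L.Iv g 1 x

theorem Iv.hh (a : L.Iv g q x) : L.HH x := ⟨_, a.strip⟩
theorem HH.mul (a : L.HH x) (b : L.HH y) : L.HH (x * y) :=
  let ⟨_, a⟩ := a; let ⟨_, b⟩ := b; ⟨_, a.mul1 b⟩
theorem HH.inv (a : L.HH x) : L.HH x⁻¹ := let ⟨_, a⟩ := a; ⟨_, a.inv1⟩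
theorem hh_one : L.HH 1 := ⟨_, iv_one⟩

variable (L) in
/-- The image of a subgroup. -/
def KS (S : Subgroup G) : Subgroup KB where
  carrier := {x | ∃ g ∈ S, L.Iv g 1 x}
  one_mem' := ⟨1, one_mem _, iv_one⟩
  mul_mem' := fun ⟨_, a, b⟩ ⟨_, c, d⟩ => ⟨_, mul_mem a c, b.mul1 d⟩
  inv_mem' := fun ⟨_, a, b⟩ => ⟨_, inv_mem a, b.inv1⟩

theorem z_comm (L : QL P z i j k l) (p : KQ) : L.ι p * z = z * L.ι p := by
  simpa using congrArg L.ι ((by decide +kernel : ∀ p : KQ, p * KQ.z = KQ.z * p) p)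

theorem Iv.ac1 (a : L.Iv g 1 x) {p1 p2 p3 p4 : KQ} {i' j' k' l' : G}
    (h : act x KQ.i = p1 ∧ act x KQ.j = p2 ∧ act x KQ.k = p3 ∧ act x KQ.l = p4)
    (h1 : L.ι p1 = i') (h2 : L.ι p2 = j') (h3 : L.ι p3 = k') (h4 : L.ι p4 = l') :
    Ac g i j k l i' j' k' l' := by
  have := a.ac
  simp only [aut1, h.1, h.2.1, h.2.2.1, h.2.2.2, h1, h2, h3, h4] at this
  exact this

theorem iv_of_ac {p1 p2 p3 p4 : KQ} {i' j' k' l' : G} (a : Ac g i j k l i' j' k' l')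
    (h : act x KQ.i = p1 ∧ act x KQ.j = p2 ∧ act x KQ.k = p3 ∧ act x KQ.l = p4)
    (h1 : L.ι p1 = i') (h2 : L.ι p2 = j') (h3 : L.ι p3 = k') (h4 : L.ι p4 = l') :
    L.Iv g 1 x :=
  Iv.of_gens (by rw [aut1, h.1, h1, a.hi]) (by rw [aut1, h.2.1, h2, a.hj])
    (by rw [aut1, h.2.2.1, h3, a.hk]) (by rw [aut1, h.2.2.2, h4, a.hl])

end

variable [Finite G] {L : QL (Q z) z i j k l} (h : Sit D Q 2) (hz : z ∈ D)
  {g g' : G} {q q' : KQ} {x y : KB}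
include h hz

variable (L) in
theorem ivr (hg : g ∈ C{z}) : ∃ q, L.Iv g q (L.rh g) := by
  obtain ⟨q, x, a⟩ := L.exists_iv hg (h.norm hz hg)
  exact ⟨q, a.rh ▸ a⟩

theorem rh_mul (hg : g ∈ C{z}) (hg' : g' ∈ C{z}) : L.rh (g * g') = L.rh g * L.rh g' := by
  obtain ⟨_, a⟩ := L.ivr h hz hg
  obtain ⟨_, b⟩ := L.ivr h hz hg'
  exact (a.mul b).rh

theorem rh_inv (hg : g ∈ C{z}) : L.rh g⁻¹ = (L.rh g)⁻¹ := by
  obtain ⟨_, a⟩ := L.ivr h hz hg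
  exact a.inv.rh

theorem hh_rh (hg : g ∈ C{z}) : L.HH (L.rh g) := let ⟨_, a⟩ := L.ivr h hz hg; a.hh

theorem Iv.one_or (a : L.Iv g 1 1) : g = 1 ∨ g = z := by
  refine h.eq_or hz (mem_C.2 fun y hy => ?_)
  obtain ⟨p, rfl⟩ := L.mem_P'.1 hy
  have := a.swap p
  rw [one_act] at this
  exact this.symm

theorem Iv.eq_or (a : L.Iv g q x) (b : L.Iv g' q x) : g' = g ∨ g' = z * g := by
  have c := (b.mul a.inv).congr rfl (q' := 1) (h' := 1)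
    (by rw [← mul_act, mul_inv_cancel, one_act, mul_inv_cancel]) (mul_inv_cancel _)
  exact (c.one_or h hz).imp mul_inv_eq_one.1 mul_inv_eq_iff_eq_mul.1

theorem Iv.dec (a : L.Iv g 1 x) (b : L.Iv g' q x) : ∃ p, g' = L.ι p * g ∧ L.Iv g' p x := by
  rcases (a.lmul q).eq_or h hz (b.congr rfl (mul_one _).symm rfl) with e | e
  · exact ⟨q, e, b⟩
  · refine ⟨KQ.z * q, by rw [e]; simp [mul_assoc], ?_⟩
    have := a.lmul (KQ.z * q)
    rw [mul_one] at this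
    exact this.congr (by rw [e]; simp [mul_assoc]) rfl rfl

theorem mem_Q (hg : g ∈ C{z}) : g ∈ Q z ↔ L.rh g = 1 := by
  constructor
  · intro hq
    obtain ⟨p, rfl⟩ := L.mem_P'.1 hq
    exact (iv_ι p).rh
  · intro e
    obtain ⟨q, a⟩ := L.ivr h hz hg
    obtain ⟨p, e, -⟩ := iv_one.dec h hz (e ▸ a)
    rw [e, mul_one]; exact L.ι_mem p

theorem Iv.mem_Q (a : L.Iv g q x) : g ∈ Q z ↔ x = 1 := by rw [QL.mem_Q (L := L) h hz a.cent, a.rh]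

theorem Iv.uniq3 (a : L.Iv g q x) (b : L.Iv g' q x) (h1 : g * g * g = 1) (h2 : g' * g' * g' = 1) :
    g' = g := by
  refine (a.eq_or h hz b).resolve_right fun e => L.z1 ?_
  have c : g * z = z * g := mem_C1.1 a.cent
  rw [e] at h2
  have c' : Commute z g := c.symm
  have := c'.mul_pow 3
  simp only [pow_succ, pow_zero, one_mul, h1, h2, L.zz, mul_one] at this
  exact this.symm

theorem HH.lift3 (a : L.HH x) (h3 : x * x * x = 1) : ∃ g, L.Iv g 1 x ∧ g * g * g = 1 := by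
  obtain ⟨g, a⟩ := a
  have b := ((a.mul1 a).mul1 a).congr rfl rfl h3
  rcases b.one_or h hz with e | e
  · exact ⟨g, a, e⟩
  · refine ⟨g * g * g * g, (b.mul1 a).congr rfl rfl (one_mul _), ?_⟩
    calc _ = g * g * g * (g * g * g) * (g * g * g * (g * g * g)) := by group
      _ = 1 := by rw [e, L.zz, one_mul]

theorem Iv.sq_one (a : L.Iv g 1 x) (h2 : x * x = 1) (h3 : ∀ p, p * act x p ≠ KQ.z)
    (b : L.Iv g' q x) (h4 : g' * g' = 1) : g * g = 1 := by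
  obtain ⟨p, rfl, -⟩ := a.dec h hz b
  refine (((a.mul1 a).congr rfl rfl h2).one_or h hz).resolve_right fun e => h3 p (L.ι_inj ?_)
  rw [mul_assoc, ← mul_assoc g, a.swap, mul_assoc, e, ← mul_assoc, ← map_mul] at h4
  rw [L.ι_z, eq_inv_of_mul_eq_one_left h4, inv_eq_of_mul_eq_one_left L.zz]

theorem cent_eq {S : Set G} (h1 : ∀ s ∈ S, s ∈ C{z}) (h2 : {i, j, k, l} ⊆ S)
    (h3 : ∀ x, L.HH x → x ∈ L.KS (closure S)) : C{z} = closure S := by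
  refine le_antisymm (fun g hg => ?_) ((closure_le _).2 h1)
  obtain ⟨q, a⟩ := L.ivr h hz hg
  obtain ⟨g', b, c⟩ := h3 _ a.hh
  obtain ⟨p, rfl, -⟩ := c.dec h hz a
  exact mul_mem (closure_mono h2 (L.gen ▸ L.ι_mem p)) b

theorem Q4 (hg : g ∈ Q z) : g ^ 4 = 1 := by
  rw [show g ^ 4 = g * g * (g * g) by simp [pow_succ, mul_assoc]]
  rcases h.sq_or hz hg with e | e <;> rw [e]
  exacts [one_mul _, h.sq hz]

theorem o2' (a : L.HH x) (h2 : x * x = 1) (h3 : ∀ y, L.HH y → y * x = x * y) : x = 1 := by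
  let N : Subgroup G :=
    { carrier := {g | g ∈ C{z} ∧ (L.rh g = 1 ∨ L.rh g = x)}
      one_mem' := ⟨one_mem _, .inl iv_one.rh⟩
      mul_mem' := fun {g g'} a b => ⟨mul_mem a.1 b.1, by
        rw [rh_mul h hz a.1 b.1]
        rcases a.2 with e | e <;> rcases b.2 with f | f <;> simp [e, f, h2]⟩
      inv_mem' := fun {g} a => ⟨inv_mem a.1, by
        rw [rh_inv h hz a.1]
        rcases a.2 with e | e <;> simp [e, inv_eq_of_mul_eq_one_left h2]⟩ }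
  obtain ⟨g, a⟩ := a
  refine (a.mem_Q h hz).1 (h.o2 z hz N (fun _ hg => hg.1) (fun c hc => mem_N_of_finite
    fun n hn => ⟨mul_mem (mul_mem hc hn.1) (inv_mem hc), ?_⟩) (fun n => ⟨3, Subtype.ext ?_⟩)
    ⟨a.cent, .inr a.rh⟩)
  · rw [rh_mul h hz (mul_mem hc hn.1) (inv_mem hc), rh_mul h hz hc hn.1, rh_inv h hz hc]
    rcases hn.2 with e | e <;> simp [e, h3 _ (hh_rh h hz hc)]
  · have : (n : G) * n ∈ Q z := (mem_Q h hz (mul_mem n.2.1 n.2.1)).2 (by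
      rw [rh_mul (L := L) h hz n.2.1 n.2.1]
      rcases n.2.2 with e | e <;> simp [e, h2])
    have := Q4 h hz this
    rw [← sq, ← pow_mul] at this
    exact this

theorem three (a : L.HH x) (h1 : x ≠ 1) : ∃ d, L.HH d ∧ d ≠ 1 ∧ d * d * d = 1 := by
  by_contra hn
  push Not at hn
  have key : ∀ y : KB, y * y * (y * y) * (y * y * (y * y)) * (y * y * (y * y)) = 1 := by
    decide +kernel
  obtain ⟨g, a⟩ := a
  refine h1 ((a.mem_Q h hz).1 (h.o2 z hz C{z} le_rfl le_normalizer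
    (fun n => ⟨4, Subtype.ext ?_⟩) a.cent))
  have b := hh_rh (L := L) h hz n.2
  have m := mul_mem n.2 n.2
  have : (n : G) * n * (n * n) ∈ Q z := (mem_Q h hz (mul_mem m m)).2 (by
    rw [rh_mul (L := L) h hz m m, rh_mul h hz n.2 n.2]
    by_contra e
    exact hn _ ((b.mul b).mul (b.mul b)) e (key _))
  have := Q4 h hz this
  rw [← sq, ← sq, ← pow_mul, ← pow_mul] at this
  exact this

theorem dich (a : L.HH x) (h1 : x ≠ 1) : (L.HH KB.a ∧ L.HH KB.b) ∨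
    ∃ d ∈ [KB.a, KB.b, KB.a * KB.b, KB.a * KB.b⁻¹], L.HH d ∧
      ∀ y, L.HH y → y ∈ [1, d, d⁻¹] ∨ y * d * y⁻¹ = d⁻¹ ∧ ∀ w, L.HH w →
        w ∈ [1, d, d⁻¹] ∨ w * y⁻¹ ∈ [1, d, d⁻¹] := by
  obtain ⟨d0, a0, b0, c0⟩ := three h hz a h1
  have k0 : ∀ d : KB, d ≠ 1 → d * d * d = 1 → ∃ e ∈ [KB.a, KB.b, KB.a * KB.b, KB.a * KB.b⁻¹],
      e = d ∨ e = d⁻¹ := by decide +kernel
  obtain ⟨d, hd, e0⟩ := k0 d0 b0 c0
  have a1 : L.HH d := by rcases e0 with rfl | rfl; exacts [a0, a0.inv]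
  by_cases hab : L.HH KB.a ∧ L.HH KB.b
  · exact .inl hab
  refine .inr ⟨d, hd, a1, ?_⟩
  have k1 : ∀ d ∈ [KB.a, KB.b, KB.a * KB.b, KB.a * KB.b⁻¹], ∀ e : KB, e * e * e = 1 →
      e ∈ [1, d, d⁻¹] ∨ (∃ m ∈ [1, d, d⁻¹], ∃ n ∈ [1, e, e⁻¹], KB.a = m * n) ∧
        ∃ m ∈ [1, d, d⁻¹], ∃ n ∈ [1, e, e⁻¹], KB.b = m * n := by decide +kernel
  have m3 : ∀ {e m : KB}, L.HH e → m ∈ [1, e, e⁻¹] → L.HH m := fun he hm => by
    simp only [List.mem_cons, List.not_mem_nil, or_false] at hm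
    rcases hm with rfl | rfl | rfl
    exacts [hh_one, he, he.inv]
  have f1 : ∀ e, L.HH e → e * e * e = 1 → e ∈ [1, d, d⁻¹] := fun e he h3 =>
    (k1 d hd e h3).resolve_right fun ⟨⟨m, a, n, b, c⟩, m', a', n', b', c'⟩ =>
      hab ⟨c ▸ (m3 a1 a).mul (m3 he b), c' ▸ (m3 a1 a').mul (m3 he b')⟩
  have k2 : ∀ d ∈ [KB.a, KB.b, KB.a * KB.b, KB.a * KB.b⁻¹], ∀ y : KB,
      y * d * y⁻¹ * (y * d * y⁻¹) * (y * d * y⁻¹) = 1 ∧
      (y * d * y⁻¹ ∈ [1, d, d⁻¹] → y * d = d * y ∨ y * d * y⁻¹ = d⁻¹) := by decide +kernel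
  have f2 : ∀ y, L.HH y → y * d = d * y ∨ y * d * y⁻¹ = d⁻¹ := fun y hy =>
    (k2 d hd y).2 (f1 _ ((hy.mul a1).mul hy.inv) (k2 d hd y).1)
  have k3 : ∀ d ∈ [KB.a, KB.b, KB.a * KB.b, KB.a * KB.b⁻¹], ∀ x : KB, x * d = d * x →
      x * x * x * (x * x * x) = 1 ∧ ∀ y : KB, y * d = d * y ∨ y * d * y⁻¹ = d⁻¹ →
        (fun c => c * c * c = 1 ∧ (c ∈ [1, d, d⁻¹] → y * (x * x * x) = x * x * x * y))
          (y * (x * x * x) * y⁻¹ * (x * x * x)⁻¹) := by decide +kernel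
  have f3 : ∀ x, L.HH x → x * d = d * x → x ∈ [1, d, d⁻¹] := fun x hx e => by
    have b := (hx.mul hx).mul hx
    exact f1 x hx (o2' h hz b (k3 d hd x e).1 fun y hy =>
      let c := (k3 d hd x e).2 y (f2 y hy)
      c.2 (f1 _ (((hy.mul b).mul hy.inv).mul b.inv) c.1))
  intro y hy
  refine (f2 y hy).imp (f3 y hy) fun e => ⟨e, fun w hw => (f2 w hw).imp (f3 w hw) fun e' =>
    f3 _ (hw.mul hy.inv) ?_⟩
  have e1 : y⁻¹ * d * y = d⁻¹ := by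
    have := congrArg (fun c => y⁻¹ * c⁻¹ * y) e
    simpa [mul_assoc] using this.symm
  calc w * y⁻¹ * d = w * (y⁻¹ * d * y) * w⁻¹ * (w * y⁻¹) := by group
    _ = (w * d * w⁻¹)⁻¹ * (w * y⁻¹) := by rw [e1]; group
    _ = _ := by rw [e', inv_inv]

end QL

end H7.X32
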