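import Mathlib
import Cfsg.Agent.H7.XP2

/-!
# The fused involution
-/

set_option autoImplicit false
set_option maxRecDepth 100000
set_option linter.all false

namespace H7.X32

open H29 H7.Cay Subgroup H24 H6.XS KB

namespace KQ
/-- `i j k l` -/
def v : KQ := ⟨15, by decide⟩
/-- `i l` -/
def e1 : KQ := ⟨9, by decide⟩
/-- `i k` -/
def e2 : KQ := ⟨5, by decide⟩
end KQ

variable {G : Type*} [Group G] {D : Set G} {Q : G → Subgroup G} {z v i j k l : G}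

theorem cjQ {w : ℕ} (h : Sit D Q w) {d e g y : G} (hd : d ∈ D) (he : g * d * g⁻¹ = e) :
    g * y * g⁻¹ ∈ Q e ↔ y ∈ Q d := by
  rw [← he, h.eqv d hd, mem_cj]; simp [mul_assoc]

theorem cjC {d e g y : G} (he : g * d * g⁻¹ = e) : g * y * g⁻¹ ∈ C{e} ↔ y ∈ C{d} := by
  rw [← he, mem_C1, mem_C1]
  simp only [mul_assoc, inv_mul_cancel_left, mul_right_inj]
  simp only [← mul_assoc, mul_left_inj]

/-- `v = i j k l` is fused to `z` -/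
structure Cx (D : Set G) (Q : G → Subgroup G) (z v i j k l : G) : Prop where
  sit : Sit D Q 2
  hz : z ∈ D
  hv : v ∈ D
  L : QL (Q z) z i j k l
  ev : L.ι KQ.v = v

variable [Finite G]

theorem Fu.cx (h : Fu D Q z) (hp : Plus (Q z) z) : ∃ v i j k l, Cx D Q z v i j k l ∧
    ((∀ L : QL (Q z) z i j k l, L.ι KQ.e1 ∈ Q v) ∨
      ∀ L : QL (Q z) z i j k l, L.ι KQ.e1 ∉ Q v ∧ L.ι KQ.e2 ∉ Q v) := by
  obtain ⟨i, j, k, l, L⟩ := hp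
  obtain ⟨v, hv, h1, h2⟩ := h.fus
  obtain ⟨p, rfl⟩ := L.mem_P'.1 h1
  have key : ∀ p : KQ, p * p = 1 → p ≠ 1 → p ≠ KQ.z →
      ∃ w ∈ [0, 1, 2, 3, 4, 7, 8, 11, 12], ∃ q ∈ [0, 1, 2], aut (KK.of q) (KK.of w) KQ.v = p := by
    decide +kernel
  obtain ⟨w, -, q, -, e⟩ := key p (L.ι_inj (by simpa using h.sit.sq hv))
    (fun e => h.sit.ne_one hv (by simp [e])) fun e => h2 (by simp [e])
  have L1 := L.rebase (KK.of q) (KK.of w)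
  have e1 : L1.ι KQ.v = L.ι p := by rw [L.rebase_ι, e]
  generalize L.ι p = v at *
  by_cases c1 : L1.ι KQ.e1 ∈ Q v
  · exact ⟨v, _, _, _, _, ⟨h.sit, h.hz, hv, L1, e1⟩, .inl fun _ => c1⟩
  by_cases c2 : L1.ι KQ.e2 ∈ Q v
  · refine ⟨v, _, _, _, _, ⟨h.sit, h.hz, hv, L1.rebase KQ.i u, ?_⟩, .inl fun _ => ?_⟩
    · rw [L1.rebase_ι, (by decide +kernel : aut KQ.i u KQ.v = KQ.v), e1]
    · have := h.sit.symm h.hz hv h1
      rw [L1.rebase_ι, (by decide +kernel : aut KQ.i u KQ.e1 = KQ.v * KQ.e2), map_mul, e1]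
      exact mul_mem (h.sit.mem hv) c2
  · exact ⟨v, _, _, _, _, ⟨h.sit, h.hz, hv, L1, e1⟩, .inr fun _ => ⟨c1, c2⟩⟩

namespace Cx

variable (c : Cx D Q z v i j k l) {p q : KQ} {w : KB} {g x y : G}
include c

theorem vz : v ≠ z := fun e =>
  (by decide : KQ.v ≠ KQ.z) (c.L.ι_inj (by rw [c.ev, c.L.ι_z, e]))
theorem vQ : v ∈ Q z := c.ev ▸ c.L.ι_mem _
theorem zQ : z ∈ Q v := c.sit.symm c.hz c.hv c.vQ
theorem zv : z * v ∈ D := (c.sit.mul_mem_D c.hz c.vQ (c.sit.ne_one c.hv) c.vz).2 c.hv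
theorem zv_comm : z * v = v * z := (mem_C1.1 (c.sit.le c.hz c.vQ)).symm

theorem cv : c.L.ι p ∈ C{v} ↔ p * KQ.v = KQ.v * p := by
  rw [mem_C1, ← c.L.ι_inj.eq_iff, map_mul, map_mul, c.ev]

theorem f1 (hp : c.L.ι p ∈ Q v) : p * p = 1 ∧ p * KQ.v = KQ.v * p := by
  refine ⟨c.L.ι_inj ?_, c.cv.1 (c.sit.le c.hv hp)⟩
  rw [map_mul, map_one]
  rcases c.sit.sq_or c.hv hp with e | e
  · exact e
  · rcases c.sit.sq_or c.hz (c.L.ι_mem p) with f | f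
    exacts [f, absurd (e.symm.trans f) c.vz]

theorem fix (a : c.L.Iv g q w) : g ∈ C{v} ↔ aut q w KQ.v = KQ.v := by
  rw [mem_C1_iff_conj, ← c.L.ι_inj.eq_iff, ← a, c.ev]

theorem exists_y : ∃ y ∈ Q (z * v), y * z * y⁻¹ = v ∧ y * v * y⁻¹ = z := by
  have h1 : z * v ∈ Q z := mul_mem (c.sit.mem c.hz) c.vQ
  obtain ⟨y, hy, e⟩ := c.sit.exists_swap c.zv (c.sit.symm c.hz c.zv h1) (c.sit.ne_one c.hz)
    fun e => c.sit.ne_one c.hv (by simpa using e)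
  have e1 : y * z * y⁻¹ = v := by
    rw [e, c.zv_comm, mul_assoc, c.sit.sq c.hz, mul_one]
  refine ⟨y, hy, e1, ?_⟩
  have := mem_C1_iff_conj.1 (c.sit.le c.zv hy)
  have e2 : v * (y * v * y⁻¹) = v * z := by rw [← c.zv_comm, ← this, ← e1]; group
  exact mul_left_cancel e2

section eight

variable (h8 : c.L.ι KQ.e1 ∈ Q v)
include h8

theorem stab8 (a : c.L.HH w) (hw : act w KQ.v = KQ.v ∨ act w KQ.v = KQ.z * KQ.v) :
    w ∈ [1, s, t, s * t] := by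
  have key : ∀ w : KB, (act w KQ.v = KQ.v ∨ act w KQ.v = KQ.z * KQ.v) → ∃ p ∈ [1, KQ.i],
      aut p w KQ.v = KQ.v ∧ (aut p w KQ.e1 * KQ.e1 * (aut p w KQ.e1 * KQ.e1) = 1 →
        w ∈ [1, s, t, s * t]) := by decide +kernel
  obtain ⟨p, -, e, f⟩ := key w hw
  obtain ⟨g, a⟩ := a
  have b := (a.lmul p).congr rfl (mul_one _) rfl
  refine f (c.f1 ?_).1
  rw [map_mul, ← b]
  exact mul_mem ((cjQ c.sit c.hv (mem_C1_iff_conj.1 ((c.fix b).2 e))).2 h8) h8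

theorem ex8 : ∃ x q, x * x = 1 ∧ x ∈ Q v ∧ (c.L.Iv x q s ∨ c.L.Iv x q t) := by
  obtain ⟨g, -, g1, g2⟩ := c.exists_y
  have x1 : g * c.L.ι KQ.e2 * g⁻¹ ∈ Q v := (cjQ c.sit c.hz g1).2 (c.L.ι_mem _)
  have x2 : g * c.L.ι KQ.e2 * g⁻¹ ∈ C{z} := (cjC g2).2 (c.cv.2 (by decide +kernel))
  obtain ⟨q, a⟩ := c.L.ivr c.sit c.hz x2
  have key : ∀ (q : KQ) (w : KB), aut q w KQ.v = KQ.v → aut q w KQ.e1 = KQ.v * KQ.e1 →
      w = s ∨ w = t := by decide +kernel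
  refine ⟨_, q, ?_, x1, (key q _ ((c.fix a).1 (c.sit.le c.hv x1)) (c.L.ι_inj ?_)).imp
    (a.congr rfl rfl) (a.congr rfl rfl)⟩
  · rw [conj_mul, ← map_mul, (by decide +kernel : KQ.e2 * KQ.e2 = 1)]; simp
  rw [← a, map_mul, c.ev]
  refine (c.sit.cj_or c.hv x1 h8).resolve_left fun e => ?_
  have e1 : g * (g⁻¹ * c.L.ι KQ.e1 * g) * g⁻¹ = c.L.ι KQ.e1 := by group
  obtain ⟨p, hp⟩ := c.L.mem_P'.1 ((cjQ c.sit c.hz g1).1 (e1.symm ▸ h8))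
  have m : c.L.ι p ∈ Q v := hp ▸ (cjQ c.sit c.hv g2).1 (e1.symm ▸ c.L.ι_mem _)
  have k2 : ∀ p : KQ, p * p = 1 → p * KQ.v = KQ.v * p → p * KQ.e1 * (p * KQ.e1) = 1 →
      KQ.e2 * p * KQ.e2⁻¹ = p → p = 1 ∨ p = KQ.z ∨ p = KQ.v ∨ p = KQ.z * KQ.v := by decide +kernel
  rw [← hp] at e1
  have n : ∀ p, p ≠ KQ.e1 → c.L.ι p ≠ c.L.ι KQ.e1 := fun p h e => h (c.L.ι_inj e)
  rcases k2 p (c.f1 m).1 (c.f1 m).2 (c.f1 (by rw [map_mul]; exact mul_mem m h8)).1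
    (c.L.ι_inj (by
      rw [map_mul, map_mul, map_inv, hp]
      calc _ = g⁻¹ * (g * c.L.ι KQ.e2 * g⁻¹ * c.L.ι KQ.e1 * (g * c.L.ι KQ.e2 * g⁻¹)⁻¹) * g := by group
        _ = _ := by rw [e])) with rfl | rfl | rfl | rfl
  · exact n 1 (by decide) (by simpa using e1)
  · exact n KQ.v (by decide) (by rw [← e1, c.L.ι_z, g1, c.ev])
  · exact n KQ.z (by decide) (by rw [← e1, c.L.ι_z, c.ev, g2])
  · exact n (KQ.v * KQ.z) (by decide +kernel) (by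
      rw [← e1, map_mul, map_mul, c.L.ι_z, c.ev, ← conj_mul, g1, g2])

end eight

section four

theorem claimA (hy : y ∈ Q (z * v)) (y1 : y * z * y⁻¹ = v) (y2 : y * v * y⁻¹ = z) (hx : x ∈ Q v)
    (a : c.L.Iv x q w) : y * c.L.ι (KQ.i * aut q w KQ.i⁻¹) * y⁻¹ * x⁻¹ ∈ Q z ⊓ Q v ∧
      y * x * y⁻¹ * (c.L.ι (KQ.i * aut q w KQ.i⁻¹))⁻¹ ∈ Q z ⊓ Q v := by
  have m := c.L.ι_mem (KQ.i * aut q w KQ.i⁻¹)
  have e0 : c.L.ι (KQ.i * aut q w KQ.i⁻¹) * x = i * x * i⁻¹ := by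
    rw [map_mul, ← a]; simp [mul_assoc]
  generalize c.L.ι (KQ.i * aut q w KQ.i⁻¹) = r at *
  have iv : i * v * i⁻¹ = z * v := by
    simpa [c.ev] using congrArg c.L.ι (by decide +kernel : KQ.i * KQ.v * KQ.i⁻¹ = KQ.z * KQ.v)
  have x' : r * x ∈ Q (z * v) := e0 ▸ (cjQ c.sit c.hv iv).2 hx
  have zv : z * v ∈ Q z := mul_mem (c.sit.mem c.hz) c.vQ
  obtain ⟨n, hn, e1⟩ : ∃ n ∈ Q z, y * (r * x) * y⁻¹ = n * (r * x) := by
    rcases c.sit.cj_or c.zv hy x' with e | e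
    exacts [⟨1, one_mem _, by simpa using e⟩, ⟨_, zv, e⟩]
  have Y : y * x * y⁻¹ ∈ Q z := (cjQ c.sit c.hv y2).2 hx
  have A : y * r * y⁻¹ * x⁻¹ ∈ Q z ⊓ Q v := by
    refine mem_inf.2 ⟨?_, mul_mem ((cjQ c.sit c.hz y1).2 m) (inv_mem hx)⟩
    rw [show y * r * y⁻¹ * x⁻¹ = y * (r * x) * y⁻¹ * x⁻¹ * (x * (y * x * y⁻¹)⁻¹ * x⁻¹) by group, e1,
      show n * (r * x) * x⁻¹ = n * r by group]
    exact mul_mem (mul_mem hn m) ((cjQ c.sit c.hz (mem_C1_iff_conj.1 a.cent)).2 (inv_mem Y))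
  refine ⟨A, ?_⟩
  rw [show y * x * y⁻¹ * r⁻¹ = y * (y * r * y⁻¹ * x⁻¹)⁻¹ * y⁻¹ * (y * y * r * (y * y)⁻¹ * r⁻¹) by group]
  refine mul_mem (s := Q z ⊓ Q v) ⟨(cjQ c.sit c.hv y2).2 (inv_mem A.2),
    (cjQ c.sit c.hz y1).2 (inv_mem A.1)⟩ ?_
  rcases c.sit.sq_or c.zv hy with e | e <;> rw [e]
  · simp
  · rcases c.sit.cj_or c.hz zv m with f | f <;> rw [f]
    · simp
    · simpa using ⟨c.sit.mem c.hz, c.zQ⟩

variable (h4 : c.L.ι KQ.e1 ∉ Q v ∧ c.L.ι KQ.e2 ∉ Q v)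
include h4

theorem e4 (hp : c.L.ι p ∈ Q v) : p ∈ [1, KQ.z, KQ.v, KQ.z * KQ.v] := by
  have key : ∀ p : KQ, p * p = 1 → p * KQ.v = KQ.v * p → p ∈ [1, KQ.z, KQ.v, KQ.z * KQ.v] ∨
      ∃ m ∈ [1, KQ.z], ∃ n ∈ [1, KQ.v], KQ.e1 = m * n * p ∨ KQ.e2 = m * n * p := by decide +kernel
  refine (key p (c.f1 hp).1 (c.f1 hp).2).resolve_right fun ⟨m, hm, n, hn, e⟩ => ?_
  have : c.L.ι (m * n * p) ∈ Q v := by
    simp only [List.mem_cons, List.not_mem_nil, or_false] at hm hn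
    rw [map_mul, map_mul]
    refine mul_mem (mul_mem ?_ ?_) hp
    · rcases hm with rfl | rfl <;> simp [c.zQ]
    · rcases hn with rfl | rfl <;> simp [c.ev, c.sit.mem c.hv]
  rcases e with e | e
  exacts [h4.1 (e ▸ this), h4.2 (e ▸ this)]

theorem cen4 (hm : g ∈ Q z ⊓ Q v) : g * g = 1 ∧ ∀ x ∈ C{z}, x ∈ C{v} → Commute g x := by
  obtain ⟨p, rfl⟩ := c.L.mem_P'.1 hm.1
  refine ⟨by rw [← map_mul, (c.f1 hm.2).1, map_one], fun x h1 h2 => ?_⟩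
  have a : Commute z x := (mem_C1.1 h1).symm
  have b : Commute v x := (mem_C1.1 h2).symm
  have := c.e4 h4 hm.2
  simp only [List.mem_cons, List.not_mem_nil, or_false] at this
  rcases this with rfl | rfl | rfl | rfl <;> simp [c.ev, a, b]

theorem tv4 (hx : x ∈ Q v) (h2 : x * x = 1) (a : c.L.Iv x q w) : w ∈ [1, s, s * t] := by
  have key : ∀ (q : KQ) (w : KB), aut q w KQ.v = KQ.v →
      aut q w KQ.e1 * KQ.e1⁻¹ ∈ [1, KQ.z, KQ.v, KQ.z * KQ.v] →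
      KQ.i * aut q w KQ.i⁻¹ * (KQ.i * aut q w KQ.i⁻¹) = 1 → w ∈ [1, s, s * t] := by decide +kernel
  obtain ⟨y, hy, y1, y2⟩ := c.exists_y
  refine key q w ((c.fix a).1 (c.sit.le c.hv hx)) (c.e4 h4 ?_) (c.L.ι_inj ?_)
  · rw [map_mul, map_inv, ← a, mul_assoc, mul_assoc, ← mul_assoc (c.L.ι KQ.e1)]
    exact mul_mem hx ((cjQ c.sit c.hv (mem_C1_iff_conj.1 (c.cv.2 (by decide +kernel)))).2
      (inv_mem hx))
  · obtain ⟨b1, b2⟩ := c.cen4 h4 (c.claimA hy y1 y2 hx a).1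
    have b3 := (b2 x a.cent (c.sit.le c.hv hx)).mul_pow 2
    rw [map_mul, map_one]
    generalize c.L.ι (KQ.i * aut q w KQ.i⁻¹) = r at *
    simp only [sq, b1, h2, inv_mul_cancel_right, conj_mul, mul_one] at b3
    simpa [mul_assoc] using congrArg (fun t => y⁻¹ * t * y) b3

theorem ex4 : ∃ x1 q1 x2 q2, c.L.Iv x1 q1 s ∧ c.L.Iv x2 q2 (s * t) ∧ x1 * x1 = 1 ∧ x2 * x2 = 1 ∧
    x1 ∈ Q v ∧ x2 ∈ Q v ∧ x1 * x2 = v * (x2 * x1) := by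
  obtain ⟨g, -, g1, g2⟩ := c.exists_y
  have f : ∀ p, p * p = 1 → p * KQ.v = KQ.v * p → c.L.ι p ∉ Q v → ∃ q w, (w = s ∨ w = s * t) ∧
      c.L.Iv (g * c.L.ι p * g⁻¹) q w ∧ g * c.L.ι p * g⁻¹ * (g * c.L.ι p * g⁻¹) = 1 ∧
      g * c.L.ι p * g⁻¹ ∈ Q v := fun p h1 h2 h3 => by
    have x1 : g * c.L.ι p * g⁻¹ ∈ Q v := (cjQ c.sit c.hz g1).2 (c.L.ι_mem _)
    obtain ⟨q, a⟩ := c.L.ivr c.sit c.hz ((cjC g2).2 (c.cv.2 h2))
    have x2 : g * c.L.ι p * g⁻¹ * (g * c.L.ι p * g⁻¹) = 1 := by rw [conj_mul, ← map_mul, h1]; simp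
    have := c.tv4 h4 x1 x2 a
    simp only [List.mem_cons, List.not_mem_nil, or_false] at this
    exact ⟨q, _, this.resolve_left fun e => h3 ((cjQ c.sit c.hv g2).1
      ((a.mem_Q c.sit c.hz).2 e)), a, x2, x1⟩
  obtain ⟨q1, w1, a1, b1, c1, d1⟩ := f KQ.e1 (by decide +kernel) (by decide +kernel) h4.1
  obtain ⟨q2, w2, a2, b2, c2, d2⟩ := f KQ.e2 (by decide +kernel) (by decide +kernel) h4.2
  have n : w1 * w2 ≠ 1 := fun e => by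
    have := ((b1.mul b2).mem_Q c.sit c.hz).2 e
    rw [conj_mul, cjQ c.sit c.hv g2, ← map_mul] at this
    exact absurd (c.f1 this).1 (by decide +kernel)
  have e : ∀ p q, p * q = KQ.z * (q * p) → g * c.L.ι p * g⁻¹ * (g * c.L.ι q * g⁻¹) =
      v * (g * c.L.ι q * g⁻¹ * (g * c.L.ι p * g⁻¹)) := fun p q e => by
    rw [conj_mul, conj_mul, ← map_mul, ← map_mul, e, map_mul, c.L.ι_z, ← conj_mul, g1]
  rcases a1 with rfl | rfl <;> rcases a2 with rfl | rfl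
  · exact absurd (by decide +kernel) n
  · exact ⟨_, _, _, _, b1, b2, c1, c2, d1, d2, e _ _ (by decide +kernel)⟩
  · exact ⟨_, _, _, _, b2, b1, c2, c1, d2, d1, e _ _ (by decide +kernel)⟩
  · exact absurd (by decide +kernel) n

theorem eps4 : ∃ σ ν, c.L.Iv σ 1 s ∧ c.L.Iv ν 1 (s * t) ∧ σ * σ = 1 ∧ ν * ν = 1 ∧
    σ * ν * σ⁻¹ = z * ν := by
  obtain ⟨x1, q1, x2, q2, a1, a2, b1, b2, c1, c2, d⟩ := c.ex4 h4
  obtain ⟨σ, s1⟩ := a1.hh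
  obtain ⟨ν, s2⟩ := a2.hh
  have t1 := s1.sq_one c.sit c.hz (by decide +kernel) (by decide +kernel) a1 b1
  have t2 := s2.sq_one c.sit c.hz (by decide +kernel) (by decide +kernel) a2 b2
  refine ⟨σ, ν, s1, s2, t1, t2, (s2.eq_or c.sit c.hz (((s1.mul1 s2).mul1 s1.inv1).congr rfl rfl
    (by decide +kernel))).resolve_left fun e => ?_⟩
  obtain ⟨p1, e1, a1⟩ := s1.dec c.sit c.hz a1
  obtain ⟨p2, e2, a2⟩ := s2.dec c.sit c.hz a2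
  have key : ∀ p1 : KQ, p1 * act s p1 = 1 → aut p1 s KQ.v = KQ.v → ∀ p2 : KQ,
      p2 * act (s * t) p2 = 1 → aut p2 (s * t) KQ.v = KQ.v →
      p1 * act s p2 = KQ.v * (p2 * act (s * t) p1) →
      (fun c1 c2 => c1 * aut p2 (s * t) c1⁻¹ = KQ.v ∧ aut p1 s c2 * c2⁻¹ = KQ.v ∧
        c2 * KQ.v = KQ.v * c2) (KQ.i * aut p1 s KQ.i⁻¹) (KQ.i * aut p2 (s * t) KQ.i⁻¹) := by
    decide +kernel
  have pr : ∀ {g g' : G} {w : KB} (p q), c.L.Iv g 1 w →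
      c.L.ι p * g * (c.L.ι q * g') = c.L.ι (p * act w q) * (g * g') := fun p q a => by
    rw [mul_assoc, ← mul_assoc _ (c.L.ι q), a.swap, map_mul]; simp only [mul_assoc]
  obtain ⟨k1, k2, k3⟩ := key p1 (c.L.ι_inj (by rw [e1, pr _ _ s1, t1] at b1; simpa using b1))
    ((c.fix a1).1 (c.sit.le c.hv c1)) p2
    (c.L.ι_inj (by rw [e2, pr _ _ s2, t2] at b2; simpa using b2))
    ((c.fix a2).1 (c.sit.le c.hv c2)) (c.L.ι_inj (by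
      rw [e1, e2, pr _ _ s1, pr _ _ s2, mul_inv_eq_iff_eq_mul.1 e, ← mul_assoc v] at d
      rw [map_mul _ KQ.v, c.ev]
      exact mul_right_cancel d))
  obtain ⟨y, hy, y1, y2⟩ := c.exists_y
  have A := (c.cen4 h4 (c.claimA hy y1 y2 c1 a1).1).2
  have B := (c.cen4 h4 (c.claimA hy y1 y2 c2 a2).2).2
  have k1 := congrArg c.L.ι k1
  have k2 := congrArg c.L.ι k2
  have k3 := c.cv.2 k3
  have k4 := c.sit.le c.hz (c.L.ι_mem (KQ.i * aut p2 (s * t) KQ.i⁻¹))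
  rw [map_mul, ← a2, map_inv, c.ev] at k1
  rw [map_mul, ← a1, map_inv, c.ev] at k2
  generalize c.L.ι (KQ.i * aut p1 s KQ.i⁻¹) = r1 at *
  generalize c.L.ι (KQ.i * aut p2 (s * t) KQ.i⁻¹) = r2 at *
  have X := c.sit.le c.hv c1
  have Y : y * x2 * y⁻¹ ∈ C{z} ∧ y * x2 * y⁻¹ ∈ C{v} :=
    ⟨(cjC y2).2 (c.sit.le c.hv c2), (cjC y1).2 a2.cent⟩
  refine c.vz ?_
  obtain ⟨m, hm⟩ : ∃ m, m = y * r1 * y⁻¹ * x1⁻¹ := ⟨_, rfl⟩
  obtain ⟨n, hn⟩ : ∃ n, n = y * x2 * y⁻¹ * r2⁻¹ := ⟨_, rfl⟩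
  rw [← hm] at A
  rw [← hn] at B
  have f1 : y * r1 * y⁻¹ = m * x1 := by rw [hm]; group
  have f2 : y * x2 * y⁻¹ = n * r2 := by rw [hn]; group
  have A1 := (A _ (mul_mem (mul_mem a1.cent Y.1) (inv_mem a1.cent))
    (mul_mem (mul_mem X Y.2) (inv_mem X))).eq
  have B1 := (B _ a1.cent X).eq
  have B2 := (B _ (mul_mem (mul_mem (mul_mem a1.cent k4) (inv_mem a1.cent)) (inv_mem k4))
    (mul_mem (mul_mem (mul_mem X k3) (inv_mem X)) (inv_mem k3))).eq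
  calc v = x1 * r2 * x1⁻¹ * r2⁻¹ := k2.symm
    _ = n * (x1 * r2 * x1⁻¹ * r2⁻¹) * n⁻¹ := by rw [B2]; group
    _ = (n * x1) * r2 * x1⁻¹ * (n * r2)⁻¹ := by group
    _ = x1 * (y * x2 * y⁻¹) * x1⁻¹ * (y * x2 * y⁻¹)⁻¹ := by rw [B1, f2]; group
    _ = m * (x1 * (y * x2 * y⁻¹) * x1⁻¹) * m⁻¹ * (y * x2 * y⁻¹)⁻¹ := by rw [A1]; group
    _ = (m * x1) * (y * x2 * y⁻¹) * (m * x1)⁻¹ * (y * x2 * y⁻¹)⁻¹ := by group
    _ = y * (r1 * (x2 * r1⁻¹ * x2⁻¹)) * y⁻¹ := by rw [← f1]; group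
    _ = z := by rw [k1, y2]

end four

end Cx

end H7.X32
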