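import Mathlib
import Cfsg.Agent.H7.XP3
import Cfsg.Agent.H7.JW
import Cfsg.Agent.H3.XL0
import Cfsg.Agent.H6.XN
import Cfsg.Agent.H25.XFa

/-!
# Extraspecial subgroups of order 32: minus type
-/

set_option autoImplicit false
set_option maxRecDepth 100000
set_option linter.all false
set_option synthInstance.maxSize 8000

namespace H7.X32

open Subgroup H24 H6.XS H15 H3.XL H20.XA Module Equiv

universe u

namespace Mi

def q1 (β γ : ZMod 2) (v : V4) : ZMod 2 :=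
  (v.1 + v.2.2.1 + v.2.2.2) * (v.2.1 + v.2.2.1 + v.2.2.2) + β * v.2.2.1 + γ * v.2.2.2 +
    v.2.2.1 * v.2.2.2

def b1 (β γ : ZMod 2) (u v : V4) : ZMod 2 := q1 β γ (u + v) + q1 β γ u + q1 β γ v

theorem pol1 {q : QuadraticForm (ZMod 2) V4} {β γ : ZMod 2} (hq : ∀ v, q v = q1 β γ v) (u v : V4) :
    pol q u v = b1 β γ u v := by
  have := quad_add q u v
  rw [hq, hq, hq] at this
  rw [b1, this]
  generalize pol q u v = s; generalize q1 β γ u = a; generalize q1 β γ v = b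
  revert s a b; decide

variable {G : Type u} [Group G] {z : G} {P : Subgroup G}

theorem exists_co {V : Type*} [AddCommGroup V] [Module (ZMod 2) V] [Finite V] (F : Fr z P V)
    (h4 : finrank (ZMod 2) V = 4) {x : G} (h0 : F.π x ≠ 0) (hq : F.q (F.π x) = 0) :
    ∃ (β γ : ZMod 2) (F' : Fr z P V4), (∀ v, F'.q v = q1 β γ v) ∧ F'.π x = (1, 0, 0, 0) := by
  generalize he : F.π x = e at h0 hq
  obtain ⟨y, hy⟩ := F.nondeg.exists_B_eq_one h0
  replace hy : pol F.q e y = 1 := hy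
  obtain ⟨f, f1, f2⟩ : ∃ f, pol F.q e f = 1 ∧ F.q f = 0 :=
    ⟨y + F.q y • e, by simp only [map_add, map_smul, hy, pp, smul_eq_mul, mul_zero, add_zero], by
      rw [quad_add, qs, hq, map_smul, pol_comm, hy]; simp [zz]⟩
  have f3 : pol F.q f e = 1 := by rw [pol_comm, f1]
  let p : V → V := fun u => u + (pol F.q f u • e + pol F.q e u • f)
  have p1 : ∀ u, pol F.q e (p u) = 0 ∧ pol F.q f (p u) = 0 := fun u => dec f1 u
  obtain ⟨b, b0, b1, b2⟩ : ∃ b, b ≠ 0 ∧ pol F.q e b = 0 ∧ pol F.q f b = 0 := by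
    by_contra hn
    push Not at hn
    have : Submodule.span (ZMod 2) (Set.range ![e, f]) = ⊤ := eq_top_iff.2 fun u _ => by
      have : p u = 0 := by_contra fun h => hn _ h (p1 u).1 (p1 u).2
      rw [aez.1 this]
      exact add_mem (Submodule.smul_mem _ _ (Submodule.subset_span ⟨0, rfl⟩))
        (Submodule.smul_mem _ _ (Submodule.subset_span ⟨1, rfl⟩))
    have h2 := finrank_range_le_card (R := ZMod 2) ![e, f]
    rw [Set.finrank, this, finrank_top, h4] at h2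
    simp at h2
  obtain ⟨y, hy⟩ := F.nondeg.exists_B_eq_one b0
  replace hy : pol F.q b y = 1 := hy
  have b3 : pol F.q b e = 0 := by rw [pol_comm, b1]
  have b4 : pol F.q b f = 0 := by rw [pol_comm, b2]
  obtain ⟨c, c1, c2, c3⟩ : ∃ c, pol F.q e c = 0 ∧ pol F.q f c = 0 ∧ pol F.q b c = 1 :=
    ⟨p y, (p1 y).1, (p1 y).2, by
      simp only [p, map_add, map_smul, hy, b3, b4, smul_eq_mul, mul_zero, add_zero]⟩
  have c4 : pol F.q c e = 0 := by rw [pol_comm, c1]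
  have c5 : pol F.q c f = 0 := by rw [pol_comm, c2]
  have c6 : pol F.q c b = 1 := by rw [pol_comm, c3]
  let L : V4 →ₗ[ZMod 2] V :=
    { toFun := fun v => (v.1 + v.2.2.1 + v.2.2.2) • e + (v.2.1 + v.2.2.1 + v.2.2.2) • f +
        v.2.2.1 • b + v.2.2.2 • c
      map_add' := fun u v => by simp only [Prod.fst_add, Prod.snd_add]; module
      map_smul' := fun a v => by
        simp only [Prod.smul_fst, Prod.smul_snd, smul_eq_mul, RingHom.id_apply]; module }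
  have L0 : ∀ v, L v = (v.1 + v.2.2.1 + v.2.2.2) • e + (v.2.1 + v.2.2.1 + v.2.2.2) • f +
    v.2.2.1 • b + v.2.2.2 • c := fun _ => rfl
  have inj : Function.Injective L := (injective_iff_map_eq_zero L).2 fun v h => by
    have a1 := congrArg (pol F.q e) h
    have a2 := congrArg (pol F.q f) h
    have a3 := congrArg (pol F.q b) h
    have a4 := congrArg (pol F.q c) h
    simp only [L0, map_add, map_smul, pp, f1, f3, b1, b2, b3, b4, c1, c2, c3, c4, c5, c6,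
      smul_eq_mul, map_zero] at a1 a2 a3 a4
    revert a1 a2 a3 a4; clear h; revert v; decide
  let E := LinearEquiv.ofInjectiveOfFinrankEq L inj (by simp [h4])
  have E0 : ∀ v, E v = L v := fun _ => rfl
  refine ⟨F.q b, F.q c, trF F E.symm (F.q.comp L) (fun x => by
    rw [QuadraticMap.comp_apply, ← E0, E.apply_symm_apply]) fun x y => by
      simp [pol, QuadraticMap.polar, ← E0], fun v => ?_, ?_⟩
  · change F.q (L v) = _
    simp only [L0, quad_add, qs, map_add, map_smul, LinearMap.add_apply, LinearMap.smul_apply, pp,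
      f1, f3, b1, b2, b3, b4, c1, c2, c3, c4, c5, c6, smul_eq_mul, hq, f2, q1]
    ring
  · change E.symm (F.π x) = _
    rw [LinearEquiv.symm_apply_eq, E0, L0, he]; simp

variable [Finite G] {D : Set G} {Q : G → Subgroup G}

theorem plus_of (h : Sit D Q 2) (hz : z ∈ D) (F : Fr z (Q z) V4) {β γ : ZMod 2}
    (hq : ∀ v, F.q v = q1 β γ v) (hn : ¬ (β = 1 ∧ γ = 1)) : Plus (Q z) z := by
  have key : ∀ β γ : ZMod 2, ¬ (β = 1 ∧ γ = 1) → ∃ t ∈ ([((0, 0, 0, 1), (0, 0, 1, 0), (0, 1, 1, 1),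
      (1, 0, 1, 1)), ((0, 0, 1, 0), (1, 1, 0, 1), (0, 1, 0, 1), (1, 0, 0, 1)), ((0, 0, 0, 1),
      (1, 1, 1, 0), (0, 1, 1, 0), (1, 0, 1, 0))] : List (V4 × V4 × V4 × V4)),
      (q1 β γ t.1 = 1 ∧ q1 β γ t.2.1 = 1 ∧ q1 β γ (t.1 + t.2.1) = 1 ∧ q1 β γ t.2.2.1 = 1 ∧
      q1 β γ t.2.2.2 = 1 ∧ q1 β γ (t.2.2.1 + t.2.2.2) = 1) ∧ (b1 β γ t.1 t.2.2.1 = 0 ∧
      b1 β γ t.1 t.2.2.2 = 0 ∧ b1 β γ t.2.1 t.2.2.1 = 0 ∧ b1 β γ t.2.1 t.2.2.2 = 0) ∧
      ∀ w : V4, ∃ s, w = ap t.1 t.2.1 t.2.2.1 t.2.2.2 s := by decide +kernel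
  obtain ⟨⟨v1, v2, v3, v4⟩, -, ⟨a1, a2, a3, a4, a5, a6⟩, ⟨c1, c2, c3, c4⟩, d⟩ := key β γ hn
  obtain ⟨i, hi, rfl⟩ := F.π_surj v1
  obtain ⟨j, hj, rfl⟩ := F.π_surj v2
  obtain ⟨k, hk, rfl⟩ := F.π_surj v3
  obtain ⟨l, hl, rfl⟩ := F.π_surj v4
  have s : ∀ x ∈ Q z, q1 β γ (F.π x) = 1 → x * x = z := fun x hx e =>
    (F.q_one h hz hx).1 (by rw [hq, e])
  have c : ∀ x ∈ Q z, ∀ y ∈ Q z, b1 β γ (F.π x) (F.π y) = 0 → x * y = y * x := fun x hx y hy e =>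
    (F.pol_π x hx y hy).1 (by rw [pol1 hq, e])
  refine ⟨i, j, k, l, h.ne_one hz, h.sq hz, s i hi a1, s j hj a2,
    s _ (mul_mem hi hj) (by rw [F.π_mul i hi j hj]; exact a3), s k hk a4, s l hl a5,
    s _ (mul_mem hk hl) (by rw [F.π_mul k hk l hl]; exact a6), c i hi k hk c1, c i hi l hl c2,
    c j hj k hk c3, c j hj l hl c4, le_antisymm (fun x hx => ?_)
      ((closure_le _).2 (by simp [Set.insert_subset_iff, *]))⟩
  have m : ∀ {x}, x ∈ ({i, j, k, l} : Set G) → x ∈ closure ({i, j, k, l} : Set G) :=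
    fun h => Subgroup.subset_closure h
  obtain ⟨s', e⟩ := d (F.π x)
  have : F.π x ∈ F.im (closure {i, j, k, l}) := by
    rw [e, H3.XL.ap]
    exact add_mem (add_mem (add_mem (Submodule.smul_mem _ _ ⟨i, m (by simp), hi, rfl⟩)
      (Submodule.smul_mem _ _ ⟨j, m (by simp), hj, rfl⟩))
      (Submodule.smul_mem _ _ ⟨k, m (by simp), hk, rfl⟩))
      (Submodule.smul_mem _ _ ⟨l, m (by simp), hl, rfl⟩)
  obtain ⟨y, h1, h2, h3⟩ := this
  rcases (F.π_eq h hz hx h2).1 h3.symm with rfl | rfl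
  · exact h1
  · rw [← s i hi a1]; exact mul_mem (mul_mem (m (by simp)) (m (by simp))) h1

/-- The singular vectors. -/
def sv : Fin 5 → V4 := ![(1, 0, 0, 0), (0, 1, 0, 0), (0, 0, 1, 0), (0, 0, 0, 1), (1, 1, 1, 1)]

/-- The number of a singular vector. -/
def ix (v : V4) : Fin 5 :=
  if v = sv 0 then 0 else if v = sv 1 then 1 else if v = sv 2 then 2 else if v = sv 3 then 3 else 4

/-- The linear map of a permutation. -/
def pa (p : Perm (Fin 5)) (v : V4) : V4 := ap (sv (p 0)) (sv (p 1)) (sv (p 2)) (sv (p 3)) v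

section
variable {q : QuadraticForm (ZMod 2) V4} (hq : ∀ v, q v = q1 1 1 v)
include hq

theorem sv_ix (g : (ofQuad q).Isom) (n : Fin 5) : sv (ix (g.1 (sv n))) = g.1 (sv n) := by
  refine (by decide : ∀ v : V4, v ≠ 0 → q1 1 1 v = 0 → sv (ix v) = v) _ (fun e => ?_) ?_
  · exact (by decide : ∀ n, sv n ≠ 0) n (g.1.map_eq_zero_iff.1 e)
  · rw [← hq, mq, hq]; revert n; decide

theorem ix_sv : ∀ n, ix (sv n) = n := by decide

/-- The action on the singular vectors. -/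
def σ : (ofQuad q).Isom →* Perm (Fin 5) := MonoidHom.mk' (fun g =>
  ⟨fun n => ix (g.1 (sv n)), fun n => ix (g⁻¹.1 (sv n)), fun n => by
    simp only [sv_ix hq]; rw [← Form.Isom.mul_apply, inv_mul_cancel, Form.Isom.one_apply, ix_sv hq],
    fun n => by
    simp only [sv_ix hq]; rw [← Form.Isom.mul_apply, mul_inv_cancel, Form.Isom.one_apply, ix_sv hq]⟩)
  fun g k => Equiv.ext fun n => by
    change ix ((g * k).1 (sv n)) = ix (g.1 (sv (ix (k.1 (sv n)))))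
    rw [sv_ix hq, Form.Isom.mul_apply]

theorem σ_pa (g : (ofQuad q).Isom) (v : V4) : g.1 v = pa (σ hq g) v := by
  have : ∀ n, sv (σ hq g n) = g.1 (sv n) := sv_ix hq g
  rw [pa, this, this, this, this, H3.XL.ap, ← map_smul, ← map_smul, ← map_smul, ← map_smul, ← map_add,
    ← map_add, ← map_add]
  congr 1
  revert v; decide +kernel

theorem σ_inj : Function.Injective (σ hq) := fun g k e => Form.Isom.ext fun v => by
  rw [σ_pa hq, σ_pa hq, e]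

theorem σ_refl : σ hq (refl q (1, 1, 0, 0)) = swap 0 1 := Equiv.ext fun n => by
  change ix ((refl q (1, 1, 0, 0)).1 (sv n)) = _
  rw [H15.refl_apply, hq, pol1 hq, show q1 1 1 (1, 1, 0, 0) = 1 by decide, inv_one]
  revert n; decide

end

/-- The four-group of a point. -/
def Vl (m : Fin 5) : List (Perm (Fin 5)) :=
  [1, swap 1 2 * swap 3 4, swap 1 3 * swap 2 4, swap 1 4 * swap 2 3].map
    fun p => swap 0 m * p * swap 0 m

theorem alt_le {R : Subgroup (Perm (Fin 5))} (h0 : ∀ p ∈ Vl 0, p ∈ R) {g : Perm (Fin 5)} (hg : g ∈ R)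
    (h1 : g 0 ≠ 0) : alternatingGroup (Fin 5) ≤ R := by
  have k1 : ∀ g : Perm (Fin 5), ∀ y ∈ Vl (g 0), ∃ x ∈ Vl 0, y = g * x * g⁻¹ := by decide +kernel
  have h2 : ∀ y ∈ Vl (g 0), y ∈ R := fun y hy =>
    let ⟨x, hx, e⟩ := k1 g y hy; e ▸ mul_mem (mul_mem hg (h0 x hx)) (inv_mem hg)
  have k2 : ∀ m : Fin 5, m ≠ 0 → ∀ c ∈ [6, 7, 8, 9], ∃ a ∈ Vl 0, ∃ b ∈ Vl m, ∃ d ∈ Vl 0, ∃ e ∈ Vl m,
      JP.s5 c = a * b * d * e ∨ JP.s5 c = (a * b * d * e)⁻¹ := by decide +kernel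
  rw [← JP.s5_gen]
  refine H29.gen_le.2 fun c hc => ?_
  obtain ⟨a, ha, b, hb, d, hd, e, he, f⟩ := k2 _ h1 c hc
  have := mul_mem (mul_mem (mul_mem (h0 a ha) (h2 b hb)) (h0 d hd)) (h2 e he)
  rcases f with f | f <;> rw [f]
  exacts [this, inv_mem this]

theorem main (h : Fu D Q z) (hm : ¬ Plus (Q z) z) : ∃ (F : Fr z (Q z) V4)
    (hq : ∀ v, F.q v = q1 1 1 v), alternatingGroup (Fin 5) ≤ ((σ hq).comp F.ρ).range := by
  obtain ⟨v, hv, v1, v2⟩ := h.fus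
  obtain ⟨h, hz, -⟩ := h
  obtain ⟨V, _, _, _, hV, ⟨F0⟩⟩ := h.exists_fr hz
  obtain ⟨β, γ, F, hq, e0⟩ := exists_co F0 hV (x := v)
    (fun e => ((F0.π_eq_zero v v1).1 e).elim (h.ne_one hv) v2) ((F0.q_π v v1).2 (h.sq hv))
  obtain ⟨rfl, rfl⟩ : β = 1 ∧ γ = 1 := by_contra fun e => hm (plus_of h hz F hq e)
  refine ⟨F, hq, ?_⟩
  set τ := (σ hq).comp F.ρ
  have τ0 : ∀ (g : C{z}), ∀ x ∈ Q z, pa (τ g) (F.π x) = F.π (g * x * (g : G)⁻¹) := fun g x hx => by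
    rw [← F.ρ_π g x hx, σ_pa hq]; rfl
  have ker : ∀ g : C{z}, τ g = 1 ↔ (g : G) ∈ Q z := fun g =>
    (map_eq_one_iff _ (σ_inj hq)).trans (F.ker g)
  have ea := H25.XF.eaE h hz hv v2
  have cv : ∀ x ∈ Q z, b1 1 1 (F.π x) (1, 0, 0, 0) = 0 ↔ x ∈ C{v} := fun x hx => by
    rw [mem_C1, ← F.pol_π x hx v v1, pol1 hq, e0]
  have E : ∀ x ∈ Q z, x ∈ Q v → F.π x = 0 ∨ F.π x = (1, 0, 0, 0) := fun x h1 h2 =>
    (by decide : ∀ u : V4, q1 1 1 u = 0 → b1 1 1 u (1, 0, 0, 0) = 0 → u = 0 ∨ u = (1, 0, 0, 0)) _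
      (by rw [← hq, F.q_π x h1]; exact ea x ⟨h1, h2⟩) ((cv x h1).2 (h.le hv h2))
  have Y : ∀ y : C{z}, (y : G) ∈ Q v → τ y ∈ Vl 0 := fun y hy => by
    have key : ∀ p : Perm (Fin 5), pa p (1, 0, 0, 0) = (1, 0, 0, 0) → (∀ u : V4,
        b1 1 1 u (1, 0, 0, 0) = 0 → pa p u + u = 0 ∨ pa p u + u = (1, 0, 0, 0)) → p ∈ Vl 0 := by
      decide +kernel
    refine key _ (by rw [← e0, τ0 y v v1, mem_C1_iff_conj.1 (h.le hv hy)]) fun u hu => ?_
    obtain ⟨x, hx, rfl⟩ := F.π_surj u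
    have m := (cjQ h hz (mem_C1_iff_conj.1 y.2)).2 hx
    rw [τ0 y x hx, ← F.π_inv hx, ← F.π_mul _ m _ (inv_mem hx)]
    refine E _ (mul_mem m (inv_mem hx)) ?_
    rw [mul_assoc, mul_assoc, ← mul_assoc x]
    exact mul_mem hy ((cjQ h hv (mem_C1_iff_conj.1 ((cv x hx).1 hu))).2 (inv_mem hy))
  obtain ⟨g, -, g1, g2⟩ := h.swap hz hv v1 v2
  have X : ∀ x ∈ Q z, q1 1 1 (F.π x) = 1 → b1 1 1 (F.π x) (1, 0, 0, 0) = 0 →
      ∃ hx : g * x * g⁻¹ ∈ C{z}, τ ⟨_, hx⟩ ∈ Vl 0 ∧ τ ⟨_, hx⟩ ≠ 1 := fun x hx a1 a2 =>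
    ⟨(cjC g2).2 ((cv x hx).1 a2), Y _ ((cjQ h hz g1).2 hx), fun e => by
      rcases E x hx ((cjQ h hv g2).1 ((ker _).1 e)) with e | e <;> rw [e] at a1 <;>
        exact absurd a1 (by decide)⟩
  obtain ⟨x1, a1, b1'⟩ := F.π_surj (0, 1, 1, 0)
  obtain ⟨x2, a2, b2⟩ := F.π_surj (0, 1, 0, 1)
  obtain ⟨c1, d1, e1⟩ := X x1 a1 (by rw [b1']; decide) (by rw [b1']; decide)
  obtain ⟨c2, d2, e2⟩ := X x2 a2 (by rw [b2]; decide) (by rw [b2]; decide)
  obtain ⟨c3, -, e3⟩ := X _ (mul_mem a1 a2) (by rw [F.π_mul _ a1 _ a2, b1', b2]; decide)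
    (by rw [F.π_mul _ a1 _ a2, b1', b2]; decide)
  have h0 : ∀ p ∈ Vl 0, p ∈ τ.range := fun p hp => by
    have key : ∀ a ∈ Vl 0, ∀ b ∈ Vl 0, a ≠ 1 → b ≠ 1 → a * b ≠ 1 → ∀ p ∈ Vl 0,
        p = 1 ∨ p = a ∨ p = b ∨ p = a * b := by decide +kernel
    rcases key _ d1 _ d2 e1 e2 (by
      rw [← map_mul]; convert e3 using 3; exact conj_mul) p hp with rfl | rfl | rfl | rfl
    exacts [one_mem _, ⟨_, rfl⟩, ⟨_, rfl⟩, mul_mem ⟨_, rfl⟩ ⟨_, rfl⟩]
  by_contra hn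
  have fx : ∀ g : C{z}, τ g 0 = 0 := fun g => by_contra fun e => hn (alt_le h0 ⟨g, rfl⟩ e)
  have k1 : ∀ a ∈ Vl 0, a * a = 1 ∧ a⁻¹ ∈ Vl 0 ∧ (∀ b ∈ Vl 0, a * b ∈ Vl 0) ∧
      ∀ p : Perm (Fin 5), p 0 = 0 → p * a * p⁻¹ ∈ Vl 0 := by decide +kernel
  let K : Subgroup C{z} :=
    { carrier := {g | τ g ∈ Vl 0}
      one_mem' := show τ 1 ∈ Vl 0 by rw [map_one]; decide +kernel
      mul_mem' := fun {a b} ha hb => by simpa using (k1 _ ha).2.2.1 _ hb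
      inv_mem' := fun {a} ha => by simpa using (k1 _ ha).2.1 }
  have : K.Normal := ⟨fun a ha p => by
    change τ (p * a * p⁻¹) ∈ Vl 0
    simpa using (k1 _ ha).2.2.2 _ (fx p)⟩
  refine e1 ((ker _).2 (h.o2 z hz (K.map C{z}.subtype) (map_subtype_le _) (nml_map_subtype K).norm
    ?_ ⟨⟨_, c1⟩, d1, rfl⟩))
  rintro ⟨_, a, ha, rfl⟩
  have := QL.Q4 h hz ((ker (a * a)).1 (by rw [map_mul, (k1 _ ha).1]))
  exact ⟨3, Subtype.ext (show (a : G) ^ 2 ^ 3 = 1 by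
    rw [← this, Subgroup.coe_mul, ← sq, ← pow_mul]; rfl)⟩

end Mi

variable {G : Type u} [Group G] [Finite G] {D : Set G} {Q : G → Subgroup G}
  {z i j k l a b t s d : G}

open Mi

theorem Fu.minus_le (h : Fu D Q z) (hm : ¬ Plus (Q z) z) {A : Subgroup G} (h1 : z ∈ A)
    (h2 : A ≤ Q z) (h3 : C{z} ≤ N[A]) : A = zpowers z ∨ A = Q z := by
  obtain ⟨F, hq, H⟩ := Mi.main h hm
  refine or_iff_not_imp_left.2 fun hn => ?_
  obtain ⟨x, x1, x2⟩ : ∃ x ∈ A, x ∉ zpowers z := by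
    by_contra e
    push Not at e
    exact hn (le_antisymm e (zpowers_le_of_mem h1))
  have W : ∀ p : Perm (Fin 5), Perm.sign p = 1 → ∀ u ∈ F.im A, pa p u ∈ F.im A := by
    rintro p hp _ ⟨y, a1, a2, rfl⟩
    obtain ⟨g, rfl⟩ := H hp
    refine ⟨_, (mem_N.1 (h3 g.2) y).1 a1, (mem_N.1 (h.sit.norm h.hz g.2) y).1 a2, ?_⟩
    rw [← F.ρ_π g y a2, σ_pa hq]; rfl
  have key : ∀ u : V4, u ≠ 0 → ∃ p : Perm (Fin 5), Perm.sign p = 1 ∧ ∃ r : Perm (Fin 5),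
      Perm.sign r = 1 ∧ (pa p u = sv 0 ∨ pa p u + pa r u = sv 0) := by decide +kernel
  have k2 : ∀ n : Fin 5, ∃ p : Perm (Fin 5), Perm.sign p = 1 ∧ pa p (sv 0) = sv n := by
    decide +kernel
  have m : F.π x ∈ F.im A := ⟨x, x1, h2 x1, rfl⟩
  obtain ⟨p, hp, r, hr, e⟩ := key (F.π x) fun e =>
    x2 ((h.sit.mem_zp h.hz).2 ((F.π_eq_zero x (h2 x1)).1 e))
  have m0 : sv 0 ∈ F.im A := by
    rcases e with e | e <;> rw [← e]
    exacts [W p hp _ m, add_mem (W p hp _ m) (W r hr _ m)]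
  have m1 : ∀ n, sv n ∈ F.im A := fun n => let ⟨p, hp, e⟩ := k2 n; e ▸ W p hp _ m0
  refine le_antisymm h2 fun y hy => ?_
  have : F.π y ∈ F.im A := by
    rw [(by decide : ∀ u : V4, u = ap (sv 0) (sv 1) (sv 2) (sv 3) u) (F.π y), H3.XL.ap]
    exact add_mem (add_mem (add_mem (Submodule.smul_mem _ _ (m1 _)) (Submodule.smul_mem _ _ (m1 _)))
      (Submodule.smul_mem _ _ (m1 _))) (Submodule.smul_mem _ _ (m1 _))
  obtain ⟨w, a1, a2, a3⟩ := this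
  rcases (F.π_eq h.sit h.hz hy a2).1 a3.symm with rfl | rfl
  exacts [a1, mul_mem h1 a1]

theorem Fu.minus [IsSimpleGroup G] (h : Fu D Q z) (hm : ¬ Plus (Q z) z) :
    Cfsg.Spor.IsoJ2 G ∨ Cfsg.Spor.IsoJ3 G := by
  obtain ⟨F, hq, H⟩ := Mi.main h hm
  have sg : ∀ g, Perm.sign (σ hq (refl F.q (1, 1, 0, 0)) * g) = -Perm.sign g := fun g => by
    rw [σ_refl hq]; simp
  have hK : ((alternatingGroup (Fin 5)).comap (σ hq)).index = 2 :=
    index_eq_two_iff'.2 ⟨refl F.q (1, 1, 0, 0), fun b => by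
      simp only [mem_comap, map_mul, Perm.mem_alternatingGroup, sg]
      rcases Int.units_eq_one_or (Perm.sign (σ hq b)) with e | e <;> simp [e]⟩
  have R : ((σ hq).comp F.ρ).range = alternatingGroup (Fin 5) := le_antisymm (by
    rintro _ ⟨g, rfl⟩
    by_contra e
    have e1 := (Int.units_eq_one_or _).resolve_left (mt Perm.mem_alternatingGroup.2 e)
    obtain ⟨g', e2⟩ := H (x := σ hq (refl F.q (1, 1, 0, 0)) * ((σ hq).comp F.ρ) g)
      (by rw [Perm.mem_alternatingGroup, sg, e1]; simp)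
    have := h.sit.no_refl' (h.sit.index_ne_two h.hz) h.hz F hK (n := (1, 1, 0, 0))
      (by rw [hq]; decide) ⟨g' * g⁻¹, σ_inj hq (by
        rw [map_mul, map_mul, map_inv, map_inv]
        exact mul_inv_eq_iff_eq_mul.2 e2)⟩
    rw [mem_comap, σ_refl hq] at this
    exact absurd (Perm.mem_alternatingGroup.1 this) (by decide)) H
  have ker : ((σ hq).comp F.ρ).ker = (Q z).subgroupOf C{z} := Subgroup.ext fun g =>
    (map_eq_one_iff _ (σ_inj hq)).trans (F.ker g)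
  have φ := subgroupOfEquivOfLe (h.sit.le h.hz)
  have lx := h.sit.lx z h.hz
  refine (JP.main_simple (h.sit.ord h.hz) (Q := ((σ hq).comp F.ρ).ker) ?_ ?_
    ((QuotientGroup.quotientKerEquivRange _).trans (MulEquiv.subgroupCongr R))).imp
    (fun h => J2.isoJ2 h.1.some) fun h => J3.isoJ3 h.1.some
  · rw [ker]
    have zz : z ∈ C{z} := mem_C1.2 rfl
    have m : ∀ x : C{z}, (x : G) ∈ zpowers z → x ∈ zpowers (⟨z, zz⟩ : C{z}) :=
      fun x ⟨n, e⟩ => ⟨n, Subtype.ext (by simpa using e)⟩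
    refine H3.XS.isExtraspecial (z := ⟨z, zz⟩) ⟨by rw [← lx.xs.ord, ← orderOf_coe], lx.xs.mem,
      fun x hx => Subtype.ext (lx.xs.central x hx).eq, fun x hx y hy => m _ (lx.xs.comm x hx y hy),
      fun x hx => m _ (lx.xs.pow x hx), fun x hx e => m _ (lx.xs.center_le x hx fun y hy =>
        congrArg Subtype.val (e ⟨y, h.sit.le h.hz hy⟩ hy))⟩ fun e => lx.ne (le_antisymm
          (zpowers_le_of_mem lx.xs.mem) fun y hy => ?_)
    obtain ⟨n, e⟩ : (⟨y, h.sit.le h.hz hy⟩ : C{z}) ∈ zpowers ⟨z, zz⟩ := by rw [e]; exact hy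
    exact ⟨n, by simpa using congrArg Subtype.val e⟩
  · rw [ker, Nat.card_congr φ.toEquiv, h.sit.card z h.hz]; rfl

end H7.X32
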