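import Mathlib
import Cfsg.Agent.H7.X32D
import Cfsg.Agent.H7.XKM1
import Cfsg.Agent.H7.XKM2
import Cfsg.Agent.H7.XKA
import Cfsg.Agent.H25.XFa
import Cfsg.Agent.H25.XFb
import Cfsg.Agent.S0485

set_option autoImplicit false
set_option maxRecDepth 100000
set_option synthInstance.maxSize 4000

open Subgroup H24 H6.XS H7.X32

namespace H25.XF

theorem exists_cj {K : Type*} [Group K] [Finite K] [IsSimpleGroup K] (hK : ¬ IsMulCommutative K) {z : K}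
    (hz : orderOf z = 2) : ∃ g, Commute z (g * z * g⁻¹) ∧ g * z * g⁻¹ ≠ z := by
  by_contra hn
  push Not at hn
  have hO : Cfsg.pPrimeCore 2 K = ⊥ := (Normal.eq_bot_or_eq_top inferInstance).resolve_right fun e => by
    have h1 := H17.odd_card_pPrimeCore (G := K)
    rw [e, card_top] at h1
    exact h1.not_two_dvd_nat (hz ▸ orderOf_dvd_natCard z)
  have hc : z ∈ center K := mem_center_iff.2 fun g => (H17.zstar_central hO ⟨hz, hn⟩ g).symm.eq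
  rcases (inferInstance : (center K).Normal).eq_bot_or_eq_top with k | k
  · rw [k, mem_bot] at hc
    rw [hc, orderOf_one] at hz
    exact absurd hz (by decide)
  · exact hK ⟨⟨fun a b => mem_center_iff.1 (k ▸ mem_top b) a⟩⟩

/-- the elements of `L` are commutators with `y`, up to `z` -/
def Cm {K : Type*} [Group K] (z y : K) (L : List K) : Prop :=
  ∀ q ∈ L, ∃ p, p * y * p⁻¹ * y⁻¹ = q ∨ z * (p * y * p⁻¹ * y⁻¹) = q

theorem cm_mem {K : Type*} [Group K] {M : Subgroup K} (hn : M.Normal) {y : K} (hy : y ∈ M) (p : K) :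
    p * y * p⁻¹ * y⁻¹ ∈ M := mul_mem (hn.conj_mem y hy p) (inv_mem hy)

theorem Cm.mem {K : Type*} [Group K] {z y : K} {L : List K} (h : Cm z y L) {M : Subgroup K} (hn : M.Normal)
    (hz : z ∈ M) (hy : y ∈ M) : ∀ q ∈ L, q ∈ M := fun q hq => by
  obtain ⟨p, rfl | rfl⟩ := h q hq
  exacts [cm_mem hn hy p, mul_mem hz (cm_mem hn hy p)]

theorem fA : (∀ x : KA, x.val < 32 ∨ Cm KA.z x [KA.i, KA.j, KA.k, KA.l] ∨
    Cm KA.z (KA.d * x * KA.d⁻¹ * x⁻¹) [KA.i, KA.j, KA.k, KA.l]) := by unfold Cm; decide +kernel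

theorem fM1 : (∀ x : KM1, x.val < 32 ∨ Cm KM1.z x [KM1.i, KM1.j, KM1.k, KM1.l] ∨
    Cm KM1.z (KM1.d * x * KM1.d⁻¹ * x⁻¹) [KM1.i, KM1.j, KM1.k, KM1.l]) := by unfold Cm; decide +kernel

section
open KM2

theorem g1 : ∀ y : KM2, y.val < 32 ∨ y * y * (y * y) ≠ 1 ∨ 96 ≤ y.val := by decide +kernel
theorem g2 : ∀ q : KM2, q.val < 32 → ∀ x : KM2, 96 ≤ (x * q).val → 96 ≤ x.val := by decide +kernel
theorem g3 : ∀ x : KM2, 96 ≤ x.val → Cm z x [k * l] ∧ Cm z (d * x * d⁻¹ * x⁻¹) [i, j] ∧ ¬ h0 x ∧ ¬ h0 (x * k) ∧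
    ∃ a ∈ [1, i], ∃ b ∈ [1, j], ∃ c ∈ [1, k * l], ∃ e ∈ [1, z], d * (a * b * c * e * (d * x * d⁻¹ * x⁻¹)) = 1 := by
  unfold Cm; decide +kernel
theorem g4 : ∀ x, h0 x → ∃ a ∈ [1, i], ∃ b ∈ [1, j], ∃ c ∈ [1, k * l], ∃ e ∈ [1, z], ∃ f ∈ [1, d, d * d],
    x = a * b * c * e * f := by decide +kernel
theorem g5 : ∀ x, (h0 x ∨ h0 (x * k) ∨ h0 (x * t) ∨ h0 (x * (t * k))) ∧ (m2 x ↔ h0 x ∨ h0 (x * (t * k))) ∧
    (h0 x ∨ h0 (x * t) → x * x * (x * x) = 1 → x * x = 1 ∨ x * x = z) ∧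
    (x.val < 32 → h0 x ∧ x * (k * l) = k * l * x ∨ h0 (x * k)) := by decide +kernel
theorem g6 : k * l * (k * l) = z := by decide +kernel

theorem h0_mem {M : Subgroup KM2} (hi : i ∈ M) (hj : j ∈ M) (hc : k * l ∈ M) (hz : z ∈ M) (hd : d ∈ M)
    {x : KM2} (hx : h0 x) : x ∈ M := by
  obtain ⟨a, ha, b, hb, c, hc', e, he, f, hf, rfl⟩ := g4 x hx
  simp only [List.mem_cons, List.not_mem_nil, or_false] at ha hb hc' he hf
  refine mul_mem (mul_mem (mul_mem (mul_mem ?_ ?_) ?_) ?_) ?_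
  · rcases ha with rfl | rfl
    exacts [one_mem _, hi]
  · rcases hb with rfl | rfl
    exacts [one_mem _, hj]
  · rcases hc' with rfl | rfl
    exacts [one_mem _, hc]
  · rcases he with rfl | rfl
    exacts [one_mem _, hz]
  · rcases hf with rfl | rfl | rfl
    exacts [one_mem _, hd, mul_mem hd hd]

theorem gens {M : Subgroup KM2} (hn : M.Normal) (hz : z ∈ M) {x : KM2} (hx : x ∈ M) (h96 : 96 ≤ x.val) :
    i ∈ M ∧ j ∈ M ∧ k * l ∈ M ∧ d ∈ M := by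
  obtain ⟨c1, c2, -, -, a, ha, b, hb, c, hc, e, he, e1⟩ := g3 x h96
  have y1 := cm_mem hn hx d
  have hi := c2.mem hn hz y1 i (by simp)
  have hj := c2.mem hn hz y1 j (by simp)
  have hk := c1.mem hn hz hx (k * l) (by simp)
  refine ⟨hi, hj, hk, ?_⟩
  rw [eq_inv_of_mul_eq_one_left e1]
  simp only [List.mem_cons, List.not_mem_nil, or_false] at ha hb hc he
  refine inv_mem (mul_mem (mul_mem (mul_mem (mul_mem ?_ ?_) ?_) ?_) y1)
  · rcases ha with rfl | rfl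
    exacts [one_mem _, hi]
  · rcases hb with rfl | rfl
    exacts [one_mem _, hj]
  · rcases hc with rfl | rfl
    exacts [one_mem _, hk]
  · rcases he with rfl | rfl
    exacts [one_mem _, hz]

end

variable {G : Type*} [Group G] [Finite G] {D : Set G} {Q : G → Subgroup G} {z : G}

theorem out2 (h : Sit D Q 2) (hz : z ∈ D) {N : Subgroup G} [hn : N.Normal] [IsSimpleGroup N]
    (hN : ¬ IsMulCommutative N) (hzN : z ∈ N) :
    ∃ x ∈ N, x ∈ C{z} ∧ ∃ q ∈ Q z, x * q ∉ Q z ∧ x * q * (x * q) * (x * q * (x * q)) = 1 := by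
  obtain ⟨⟨n, nN⟩, c, ne⟩ := exists_cj hN (z := ⟨z, hzN⟩) (by rw [← orderOf_coe]; exact h.ord hz)
  have c1 : n * z * n⁻¹ ∈ C{z} := mem_C1.2 (congrArg Subtype.val c.eq).symm
  have ne1 : n * z * n⁻¹ ≠ z := fun e => ne (Subtype.ext e)
  have hu := h.conj z hz n
  by_cases hm : n * z * n⁻¹ ∈ Q z
  · obtain ⟨y, y1, y2, y3⟩ := factF h hz hu hm ne1
    have y4 : n⁻¹ * y * n ∈ Q z := by rwa [h.eqv z hz, mem_cj] at y2
    refine ⟨y * (n⁻¹ * y * n)⁻¹, ?_, mul_mem y1 (inv_mem (h.le hz y4)), _, y4, ?_⟩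
    · rw [show y * (n⁻¹ * y * n)⁻¹ = y * n⁻¹ * y⁻¹ * n by group]
      exact mul_mem (hn.conj_mem _ (inv_mem nN) y) nN
    · rw [inv_mul_cancel_right]
      refine ⟨y3, ?_⟩
      rcases h.sq_or hu y2 with e | e <;> rw [e]
      exacts [one_mul 1, h.sq hu]
  · exact ⟨_, hn.conj_mem z hzN n, c1, 1, one_mem _, by rwa [mul_one], by rw [mul_one, h.sq hu, one_mul]⟩

omit [Finite G] in
theorem QL_le {P N : Subgroup G} {i j k l : G} (L : QL P z i j k l) (hi : i ∈ N) (hj : j ∈ N) (hk : k ∈ N)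
    (hl : l ∈ N) : P ≤ N := L.gen.le.trans ((closure_le _).2 (by
  rintro _ (rfl | rfl | rfl | rfl)
  exacts [hi, hj, hk, hl]))

end H25.XF

namespace H7.X32

open H25.XF

universe u

variable {G : Type u} [Group G] [Finite G] {D : Set G} {Q : G → Subgroup G}
  {z i j k l a b t s d : G}

theorem Fu.le_A (h : Fu D Q z) (L : LA (Q z) z i j k l d s) {N : Subgroup G} [N.Normal]
    [IsSimpleGroup N] (hN : ¬ IsMulCommutative N) (hz : z ∈ N) : Q z ≤ N := by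
  obtain ⟨x, x1, x2, q, hq, x3, -⟩ := out2 h.sit h.hz hN hz
  obtain ⟨x, rfl⟩ := L.exists_code x2
  have hn : (N.comap L.ι).Normal := inferInstance
  have z1 : KA.z ∈ N.comap L.ι := by rwa [mem_comap, L.ι_z]
  have key : ∀ q ∈ [KA.i, KA.j, KA.k, KA.l], q ∈ N.comap L.ι := by
    rcases fA x with e | e | e
    exacts [absurd (mul_mem (L.ι_mem_P.2 e) hq) x3, e.mem hn z1 x1, e.mem hn z1 (cm_mem hn x1 _)]
  exact QL_le L.toQL (L.ι_i ▸ key KA.i (by simp)) (L.ι_j ▸ key KA.j (by simp)) (L.ι_k ▸ key KA.k (by simp))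
    (L.ι_l ▸ key KA.l (by simp))

theorem Fu.le_M1 (h : Fu D Q z) (L : LM1 (Q z) z i j k l d t) {N : Subgroup G} [N.Normal]
    [IsSimpleGroup N] (hN : ¬ IsMulCommutative N) (hz : z ∈ N) : Q z ≤ N := by
  obtain ⟨x, x1, x2, q, hq, x3, -⟩ := out2 h.sit h.hz hN hz
  obtain ⟨x, rfl⟩ := L.exists_code x2
  have hn : (N.comap L.ι).Normal := inferInstance
  have z1 : KM1.z ∈ N.comap L.ι := by rwa [mem_comap, L.ι_z]
  have key : ∀ q ∈ [KM1.i, KM1.j, KM1.k, KM1.l], q ∈ N.comap L.ι := by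
    rcases fM1 x with e | e | e
    exacts [absurd (mul_mem (L.ι_mem_P.2 e) hq) x3, e.mem hn z1 x1, e.mem hn z1 (cm_mem hn x1 _)]
  exact QL_le L.toQL (L.ι_i ▸ key KM1.i (by simp)) (L.ι_j ▸ key KM1.j (by simp)) (L.ι_k ▸ key KM1.k (by simp))
    (L.ι_l ▸ key KM1.l (by simp))

theorem Fu.u33 (h : Fu D Q z) (L : LM2 (Q z) z i j k l d t) {N : Subgroup G} [N.Normal]
    [IsSimpleGroup N] (hN : ¬ IsMulCommutative N) (hz : z ∈ N) (hQ : ¬ Q z ≤ N) :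
    ∃ (F : Type) (_ : Field F) (_ : Fintype F), Fintype.card F = 9 ∧
      Nonempty (N ≃* Cfsg.PSU 3 F 3) := by
  obtain ⟨x, x1, x2, q, hq, x3, x4⟩ := out2 h.sit h.hz hN hz
  obtain ⟨x, rfl⟩ := L.exists_code x2
  obtain ⟨q, q1, rfl⟩ := L.mem_P.1 hq
  obtain ⟨M, hM⟩ : ∃ M, M = N.comap L.ι := ⟨_, rfl⟩
  have mM : ∀ x, x ∈ M ↔ L.ι x ∈ N := fun x => by rw [hM, mem_comap]
  have hn : M.Normal := hM ▸ inferInstance
  have z1 : KM2.z ∈ M := by rwa [mM, L.ι_z]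
  have xM := (mM x).2 x1
  have h96 : 96 ≤ x.val := g2 q q1 x (((g1 (x * q)).resolve_left fun e => x3 (by
    rw [← map_mul]; exact L.ι_mem_P.2 e)).resolve_left fun e => e (L.ι_inj (by simpa only [map_mul, map_one] using x4)))
  obtain ⟨hi, hj, hc, hd⟩ := gens hn z1 xM h96
  have h0M : ∀ {y}, h0 y → y ∈ M := h0_mem hi hj hc z1 hd
  have hk : KM2.k ∉ M := fun e => hQ (QL_le L.toQL (L.ι_i ▸ (mM _).1 hi) (L.ι_j ▸ (mM _).1 hj)
    (L.ι_k ▸ (mM _).1 e) (L.ι_l ▸ (mM _).1 ((mul_mem_cancel_left e).1 hc)))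
  have nk : ∀ y ∈ M, ¬ h0 (y * KM2.k) := fun y hy e => hk ((mul_mem_cancel_left hy).1 (h0M e))
  have ht : KM2.t ∉ M := fun ht => by
    obtain ⟨v, vD, vQ, vz⟩ := h.fus
    obtain ⟨g, -, e1, e2⟩ := h.sit.swap h.hz vD vQ vz
    obtain ⟨w, w1, rfl⟩ := L.mem_P.1 vQ
    have wM : w ∈ M := (mM w).2 (e1 ▸ ‹N.Normal›.conj_mem z hz g)
    have w2 := (((g5 w).2.2.2 w1).resolve_right (nk w wM)).2
    obtain ⟨y, e3⟩ := L.exists_code (g := g * L.ι (KM2.k * KM2.l) * g⁻¹) (by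
      have := conj_mem_cj g (mem_C1.2 (show L.ι (KM2.k * KM2.l) * L.ι w = L.ι w * L.ι (KM2.k * KM2.l) by
        rw [← map_mul, ← w2, map_mul]))
      rwa [cj_C1, e2] at this)
    have yM : y ∈ M := (mM y).2 (e3 ▸ ‹N.Normal›.conj_mem _ ((mM _).1 hc) g)
    have y2 : y * y = w := L.ι_inj (by
      rw [map_mul, e3, ← e1, show ∀ x : G, g * x * g⁻¹ * (g * x * g⁻¹) = g * (x * x) * g⁻¹ from fun x => by group,
        ← map_mul, g6, L.ι_z])
    have y3 : h0 y ∨ h0 (y * KM2.t) := by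
      rcases (g5 y).1 with e | e | e | e
      exacts [Or.inl e, absurd e (nk y yM), Or.inr e, absurd (mul_assoc y _ _ ▸ e) (nk _ (mul_mem yM ht))]
    rcases (g5 y).2.2.1 y3 (by rw [y2]; exact L.ι_inj (by rw [map_mul, h.sit.sq vD, map_one])) with e | e
    · exact h.sit.ne_one vD (by rw [← y2, e, map_one])
    · exact vz (by rw [← y2, e, L.ι_z])
  have nt : ∀ y ∈ M, ¬ h0 (y * KM2.t) := fun y hy e => ht ((mul_mem_cancel_left hy).1 (h0M e))
  have htk : KM2.t * KM2.k ∈ M := by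
    rcases (g5 x).1 with e | e | e | e
    exacts [absurd e (g3 x h96).2.2.1, absurd e (nk x xM), absurd e (nt x xM),
      (mul_mem_cancel_left xM).1 (h0M e)]
  have eM : ∀ y, y ∈ M2 ↔ y ∈ M := fun y => (g5 y).2.1.trans ⟨fun e => e.elim h0M fun e =>
    (mul_mem_cancel_right htk).1 (h0M e), fun hy => by
      rcases (g5 y).1 with e | e | e | e
      exacts [Or.inl e, absurd e (nk y hy), absurd e (nt y hy), Or.inr e]⟩
  obtain ⟨e⟩ := exists_gu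
  let φ : M2 →* centralizer ({⟨z, hz⟩} : Set N) :=
    (((L.ι.comp M2.subtype).codRestrict N fun y => (mM _).1 ((eM _).1 y.2)).codRestrict _ fun y =>
      mem_C1.2 (Subtype.ext (mem_C1.1 (L.ι_mem y))))
  have hφ : Function.Bijective φ := ⟨fun a b e => Subtype.ext (L.ι_inj (congrArg (fun x => x.1.1) e)), fun y => by
    obtain ⟨w, e⟩ := L.exists_code (g := y.1.1) (mem_C1.2 (congrArg Subtype.val (mem_C1.1 y.2)))
    exact ⟨⟨w, (eM w).2 ((mM w).2 (e ▸ y.1.2))⟩, Subtype.ext (Subtype.ext e)⟩⟩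
  exact ⟨F9, inferInstance, inferInstance, card_F9, Cfsg.Agent.S0485.result 3 (by decide) card9 ⊥ bot_le
    (by simp) ⟨z, hz⟩ (by rw [← orderOf_coe]; exact h.sit.ord h.hz)
    ⟨((MulEquiv.ofBijective φ hφ).symm.trans e).trans QuotientGroup.quotientBot.symm⟩⟩

end H7.X32
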