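import Mathlib
import Cfsg.Agent.H7.Cay

/-!
# Actions on an elementary abelian group of order 16
-/

set_option autoImplicit false

namespace H7.X32

open H29 H7.Cay

/-- `a` or `0`. -/
def sel (b a : ℕ) : ℕ := Nat.mul (Nat.mod b 2) a

theorem sel_xor (x y a : ℕ) : sel (x ^^^ y) a = sel x a ^^^ sel y a := by
  have h : (x ^^^ y) % 2 = (x + y) % 2 := Nat.xor_mod_two_eq
  change (x ^^^ y) % 2 * a = x % 2 * a ^^^ y % 2 * a
  rw [h, Nat.add_mod]
  rcases Nat.mod_two_eq_zero_or_one x with e | e <;> rcases Nat.mod_two_eq_zero_or_one y with f | f <;>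
    simp [e, f]

theorem sel_lt (x : ℕ) {a : ℕ} (h : a < 16) : sel x a < 16 := by
  change x % 2 * a < 16
  rcases Nat.mod_two_eq_zero_or_one x with e | e <;> simp [e, h]

/-- The linear map with the packed images `m`. -/
def lin (m x : ℕ) : ℕ :=
  Nat.xor (Nat.xor (sel x (pk m 4 0)) (sel (Nat.div x 2) (pk m 4 1)))
    (Nat.xor (sel (Nat.div (Nat.div x 2) 2) (pk m 4 2)) (sel (Nat.div (Nat.div (Nat.div x 2) 2) 2) (pk m 4 3)))

theorem lin_lt (m x : ℕ) : lin m x < 16 :=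
  Nat.xor_lt_two_pow (n := 4) (Nat.xor_lt_two_pow (n := 4) (sel_lt _ (pk_lt _ _ _)) (sel_lt _ (pk_lt _ _ _)))
    (Nat.xor_lt_two_pow (n := 4) (sel_lt _ (pk_lt _ _ _)) (sel_lt _ (pk_lt _ _ _)))

theorem lin_xor (m x y : ℕ) : lin m (x ^^^ y) = lin m x ^^^ lin m y := by
  change (sel (x ^^^ y) _ ^^^ sel ((x ^^^ y) / 2) _) ^^^ (sel ((x ^^^ y) / 2 / 2) _ ^^^
    sel ((x ^^^ y) / 2 / 2 / 2) _) = ((sel x _ ^^^ sel (x / 2) _) ^^^ (sel (x / 2 / 2) _ ^^^
    sel (x / 2 / 2 / 2) _)) ^^^ ((sel y _ ^^^ sel (y / 2) _) ^^^ (sel (y / 2 / 2) _ ^^^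
    sel (y / 2 / 2 / 2) _))
  simp only [Nat.xor_div_two, sel_xor]
  ac_rfl

/-- Pack four images. -/
def mk4 (a b c d : ℕ) : ℕ := Nat.add (Nat.add a (Nat.mul 16 b)) (Nat.add (Nat.mul 256 c) (Nat.mul 4096 d))

theorem lin_mk {a b c d : ℕ} (ha : a < 16) (hb : b < 16) (hc : c < 16) (hd : d < 16) :
    lin (mk4 a b c d) 1 = a ∧ lin (mk4 a b c d) 2 = b ∧ lin (mk4 a b c d) 4 = c ∧
      lin (mk4 a b c d) 8 = d := by
  have e : ∀ n, pk (mk4 a b c d) 4 n = (a + 16 * b + (256 * c + 4096 * d)) / 2 ^ (4 * n) % 16 :=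
    fun n => by rw [← Nat.shiftRight_eq_div_pow]; rfl
  have s0 : ∀ a, sel 0 a = 0 ∧ sel 1 a = a ∧ sel 2 a = 0 ∧ sel 4 a = 0 ∧ sel 8 a = 0 := fun a =>
    ⟨Nat.zero_mul a, Nat.one_mul a, Nat.zero_mul a, Nat.zero_mul a, Nat.zero_mul a⟩
  refine ⟨?_, ?_, ?_, ?_⟩
  · change (sel 1 _ ^^^ sel 0 _) ^^^ (sel 0 _ ^^^ sel 0 _) = _
    simp only [s0, Nat.xor_zero, e]; omega
  · change (sel 2 _ ^^^ sel 1 _) ^^^ (sel 0 _ ^^^ sel 0 _) = _
    simp only [s0, Nat.xor_zero, Nat.zero_xor, e]; omega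
  · change (sel 4 _ ^^^ sel 2 _) ^^^ (sel 1 _ ^^^ sel 0 _) = _
    simp only [s0, Nat.xor_zero, Nat.zero_xor, e]; omega
  · change (sel 8 _ ^^^ sel 4 _) ^^^ (sel 2 _ ^^^ sel 1 _) = _
    simp only [s0, Nat.xor_zero, Nat.zero_xor, e]; omega

/-- Composition. -/
noncomputable def cmp (m m' : ℕ) : ℕ :=
  lit m fun m => lit m' fun m' =>
    mk4 (lin m (lin m' 1)) (lin m (lin m' 2)) (lin m (lin m' 4)) (lin m (lin m' 8))

/-- The identity. -/
def idm : ℕ := 0x8421

/-- The map of a word. -/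
noncomputable def wd (ms : ℕ → ℕ) (w : List ℕ) : ℕ :=
  List.rec (motive := fun _ => ℕ) idm (fun l _ ih => cmp (ms l) ih) w

variable {G : Type*} [Group G]

/-- `e` is a homomorphism from the numbers below 16. -/
def EV (e : ℕ → G) : Prop := ∀ x < 16, ∀ y < 16, e (x ^^^ y) = e x * e y

variable {e f : ℕ → G} {g g' : G} {m m' : ℕ}

theorem EV.zero (h : EV e) : e 0 = 1 := by simpa using h 0 (by decide) 0 (by decide)

theorem EV.sq (h : EV e) {x : ℕ} (hx : x < 16) : e x * e x = 1 := by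
  rw [← h x hx x hx, Nat.xor_self, h.zero]

theorem EV.comm (h : EV e) {x y : ℕ} (hx : x < 16) (hy : y < 16) : e x * e y = e y * e x := by
  rw [← h x hx y hy, ← h y hy x hx, Nat.xor_comm]

theorem EV.ext (h : EV e) (h' : EV f) (h1 : e 1 = f 1) (h2 : e 2 = f 2) (h4 : e 4 = f 4)
    (h8 : e 8 = f 8) : ∀ x < 16, e x = f x := by
  have k : ∀ x < 16, ∀ y < 16, e x = f x → e y = f y → e (x ^^^ y) = f (x ^^^ y) :=
    fun x hx y hy a b => by rw [h x hx y hy, h' x hx y hy, a, b]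
  have h0 : e 0 = f 0 := h.zero.trans h'.zero.symm
  have h3 : e 3 = f 3 := k 1 (by decide) 2 (by decide) h1 h2
  have a : ∀ x < 4, e x = f x := fun x hx => by interval_cases x <;> assumption
  have b : ∀ x < 8, e x = f x := fun x hx => by
    by_cases c : x < 4
    · exact a x c
    · have := k (x - 4) (by omega) 4 (by decide) (a _ (by omega)) h4
      rwa [show x - 4 ^^^ 4 = x by interval_cases x <;> first | rfl | omega] at this
  intro x hx
  by_cases c : x < 8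
  · exact b x c
  · have := k (x - 8) (by omega) 8 (by decide) (b _ (by omega)) h8
    rwa [show x - 8 ^^^ 8 = x by interval_cases x <;> first | rfl | omega] at this

theorem EV.lin (h : EV e) (m : ℕ) : EV fun x => e (lin m x) := fun x _ y _ => by
  simp only [lin_xor, h _ (lin_lt m x) _ (lin_lt m y)]

theorem EV.cj (h : EV e) (g : G) : EV fun x => g * e x * g⁻¹ := fun x hx y hy => by
  simp only [h x hx y hy]; group

theorem EV.map {H : Type*} [Group H] (h : EV e) (φ : G →* H) : EV fun x => φ (e x) :=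
  fun x hx y hy => by simp only [h x hx y hy, map_mul]

/-- `g` acts as the linear map `m`. -/
def Act (e : ℕ → G) (g : G) (m : ℕ) : Prop := ∀ x < 16, g * e x * g⁻¹ = e (lin m x)

theorem EV.act (h : EV e) (h1 : g * e 1 * g⁻¹ = e (X32.lin m 1)) (h2 : g * e 2 * g⁻¹ = e (X32.lin m 2))
    (h4 : g * e 4 * g⁻¹ = e (X32.lin m 4)) (h8 : g * e 8 * g⁻¹ = e (X32.lin m 8)) : Act e g m :=
  (h.cj g).ext (h.lin m) h1 h2 h4 h8

theorem EV.act_mk (h : EV e) {a b c d : ℕ} (ha : a < 16) (hb : b < 16) (hc : c < 16) (hd : d < 16)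
    (h1 : g * e 1 * g⁻¹ = e a) (h2 : g * e 2 * g⁻¹ = e b) (h4 : g * e 4 * g⁻¹ = e c)
    (h8 : g * e 8 * g⁻¹ = e d) : Act e g (mk4 a b c d) := by
  obtain ⟨a1, a2, a3, a4⟩ := lin_mk ha hb hc hd
  exact h.act (by rwa [a1]) (by rwa [a2]) (by rwa [a3]) (by rwa [a4])

theorem Act.mul (h : EV e) (a : Act e g m) (b : Act e g' m') : Act e (g * g') (cmp m m') := by
  have k : ∀ x < 16, g * g' * e x * (g * g')⁻¹ = e (lin m (lin m' x)) := fun x hx => by
    rw [← a _ (lin_lt _ _), ← b x hx]; group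
  exact h.act_mk (lin_lt _ _) (lin_lt _ _) (lin_lt _ _) (lin_lt _ _) (k 1 (by decide))
    (k 2 (by decide)) (k 4 (by decide)) (k 8 (by decide))

theorem act_one (e : ℕ → G) : Act e 1 idm := fun x hx => by
  rw [show lin idm x = x by revert x; decide]; simp

theorem Act.word (h : EV e) {gs : ℕ → G} {ms : ℕ → ℕ} (a : ∀ l, Act e (gs l) (ms l)) :
    ∀ w, Act e (ev gs w) (wd ms w)
  | [] => act_one e
  | l :: w => by rw [ev_cons]; exact (a l).mul h (Act.word h a w)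

theorem Act.map {H : Type*} [Group H] (φ : G →* H) (a : Act e g m) :
    Act (fun x => φ (e x)) (φ g) m := fun x hx => by
  simpa using congrArg φ (a x hx)

theorem Act.of_map {H : Type*} [Group H] {φ : G →* H} (hi : Function.Injective φ)
    (a : Act (fun x => φ (e x)) (φ g) m) : Act e g m := fun x hx =>
  hi (by simpa using a x hx)

theorem act_nth {gs : List G} {ms : List ℕ} (h : List.Forall₂ (Act e) gs ms) (l : ℕ) :
    Act e (gs.getD l 1) (nth idm ms l) := by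
  induction h generalizing l with
  | nil => exact act_one e
  | cons a _ ih =>
    cases l with
    | zero => exact a
    | succ l => exact ih l

end H7.X32
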