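import Mathlib
import Cfsg.Agent.H7.XP3
import Cfsg.Agent.H7.XV
import Cfsg.Agent.H7.XKE

/-!
# Impossible centralisers
-/

set_option autoImplicit false
set_option maxRecDepth 100000
set_option linter.all false
set_option synthInstance.maxSize 4000

namespace H7.X32

open H29 H7.Cay Subgroup H24 H6.XS KB

/-- Membership in a set of codes. -/
abbrev inM (m : ℕ) (w : KB) : Prop := tb m w.val = true

/-- `Ω₄⁺(2)` -/
def mO : ℕ := 0xfeb5aa082051455ddf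
/-- `3² ⟨s⟩` -/
def mS : ℕ := 0x51455ddf
/-- `3² ⟨t⟩` -/
def mT : ℕ := 0xfe108000000000199f

/-- Powers of a map. -/
noncomputable def pw (m n : ℕ) : ℕ := Nat.rec (motive := fun _ => ℕ) idm (fun _ ih => cmp m ih) n

variable {G : Type*} [Group G] {D : Set G} {Q : G → Subgroup G} {z v i j k l : G}

theorem Act.pow {e : ℕ → G} (h : EV e) {g : G} {m : ℕ} (a : Act e g m) : ∀ n, Act e (g ^ n) (pw m n)
  | 0 => by rw [pow_zero]; exact act_one e
  | n + 1 => by rw [pow_succ']; exact a.mul h (Act.pow h a n)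

theorem conjD {w : ℕ} (h : Sit D Q w) {x : G} (g : G) : g * x * g⁻¹ ∈ D ↔ x ∈ D :=
  ⟨fun a => by simpa [mul_assoc] using h.conj _ a g⁻¹, fun a => h.conj _ a g⟩

variable [Finite G]

namespace Cx

variable (c : Cx D Q z v i j k l) {p q : KQ} {w : KB} {g x y : G}
include c

theorem pow48 {d : G} (hd : d ∈ D) (hg : g ∈ C{d}) : g ^ 48 = 1 := by
  obtain ⟨r, e⟩ := c.sit.trans d hd z c.hz
  obtain ⟨q, a⟩ := c.L.ivr c.sit c.hz ((cjC e).2 hg)
  have key : ∀ w : KB, w * w * w * (w * w * w) * (w * w * w * (w * w * w)) = 1 := by decide +kernel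
  have b := (a.mul a).mul a
  have b := b.mul b
  have := QL.Q4 c.sit c.hz (((b.mul b).mem_Q c.sit c.hz).2 (key _))
  rw [conj_mul, conj_mul, conj_mul, conj_mul, conj_pow, conj_eq_one_iff] at this
  rw [← this, show g * g * g * (g * g * g) * (g * g * g * (g * g * g)) = g ^ 12 by
    simp only [pow_succ, pow_zero, one_mul, mul_assoc], ← pow_mul]

section

variable (ha : c.L.HH a) (hb : c.L.HH b)
include ha hb

theorem hhD {m n : KB} (hm : m ∈ [1, a, a⁻¹]) (hn : n ∈ [1, b, b⁻¹]) : c.L.HH (m * n) := by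
  simp only [List.mem_cons, List.not_mem_nil, or_false] at hm hn
  refine QL.HH.mul ?_ ?_
  · rcases hm with rfl | rfl | rfl
    exacts [QL.hh_one, ha, ha.inv]
  · rcases hn with rfl | rfl | rfl
    exacts [QL.hh_one, hb, hb.inv]

theorem allD (hx : x ∈ Q z) (h2 : x * x = 1) (h1 : x ≠ 1) : x ∈ D := by
  obtain ⟨p, rfl⟩ := c.L.mem_P'.1 hx
  have key : ∀ p : KQ, p * p = 1 → p ≠ 1 → p = KQ.z ∨ ∃ m ∈ [1, a, a⁻¹], ∃ n ∈ [1, b, b⁻¹],
      ∃ q ∈ [1, KQ.i, KQ.j], aut q (m * n) KQ.v = p := by decide +kernel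
  rcases key p (c.L.ι_inj (by simpa using h2)) (fun e => h1 (by simp [e])) with
    rfl | ⟨m, hm, n, hn, q, -, rfl⟩
  · simpa using c.hz
  · obtain ⟨g, a⟩ := c.hhD ha hb hm hn
    rw [← (a.lmul q).congr rfl (mul_one _) rfl, c.ev]
    exact c.sit.conj _ c.hv _

theorem allV (hx : x ∈ Q v) (h2 : x * x = 1) (h1 : x ≠ 1) : x ∈ D := by
  obtain ⟨y, -, -, y2⟩ := c.exists_y
  exact (conjD c.sit y).1 (c.allD ha hb ((cjQ c.sit c.hv y2).2 hx) (by rw [conj_mul, h2]; simp)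
    (by simpa using h1))

theorem coset (hw : w ∈ [s, t, s * t]) (hx : x ∈ Q v) (h2 : x * x = 1) (a1 : c.L.Iv x q w)
    (a2 : c.L.Iv y p w) (h3 : y * y = 1) : y ∈ D := by
  have key : ∀ w ∈ [s, t, s * t], w ≠ 1 ∧ w * w = 1 ∧ ∀ q : KQ,
      (q * act w q = 1 ∨ q * act w q = 1 * KQ.z) → ∀ p : KQ, p * aut q w p = 1 →
        ∃ r : KQ, p = r * aut q w r⁻¹ ∨ p = r * aut q w r⁻¹ * KQ.z := by decide +kernel
  obtain ⟨k1, k2, k3⟩ := key w hw
  have n : x ∉ Q z := fun e => k1 ((a1.mem_Q c.sit c.hz).1 e)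
  obtain ⟨m, hm⟩ := c.L.mem_P'.1 (((a2.mul a1.inv).mem_Q c.sit c.hz).2 (mul_inv_cancel _))
  obtain rfl : y = c.L.ι m * x := by rw [hm]; group
  obtain ⟨r, e⟩ := k3 q (((a1.mul a1).congr h2 rfl k2).uniq QL.iv_one).2 m (c.L.ι_inj (by
    rw [map_mul, ← a1, map_one, ← h3, inv_eq_of_mul_eq_one_left h2]; group))
  have cx : x * z = z * x := mem_C1.1 a1.cent
  rcases e with rfl | rfl
  · refine (conjD c.sit (c.L.ι r)⁻¹).1 ?_
    rw [map_mul, ← a1, map_inv]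
    simpa [mul_assoc] using c.allV ha hb hx h2 fun e => n (e ▸ one_mem _)
  · refine (conjD c.sit (c.L.ι r)⁻¹).1 ?_
    rw [map_mul, map_mul, ← a1, map_inv, c.L.ι_z, mul_assoc _ z, ← cx]
    have := c.allV ha hb (mul_mem hx c.zQ) (by
      rw [mul_assoc, ← mul_assoc z, ← cx, mul_assoc, c.L.zz, mul_one, h2])
      fun e => n (by rw [eq_inv_of_mul_eq_one_left e]; exact inv_mem (c.sit.mem c.hz))
    have e := c.L.z_comm r
    convert this using 1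
    calc _ = x * (c.L.ι r)⁻¹ * (z * c.L.ι r) := by group
      _ = _ := by rw [← e]; group

theorem red (hg : g ∈ C{z}) (h2 : g * g = 1) (hn : g ∉ D) (h1 : g ≠ 1) {m : ℕ} {T : List KB}
    (hm : inM m (c.L.rh g)) (key : ∀ w : KB, inM m w → w * w = 1 → ∃ r ∈ [1, a, a⁻¹],
      ∃ n ∈ [1, b, b⁻¹], r * n * w * (r * n)⁻¹ = 1 ∨ r * n * w * (r * n)⁻¹ ∈ T) :
    ∃ y p, ∃ w ∈ T, c.L.Iv y p w ∧ y * y = 1 ∧ y ∉ D := by
  obtain ⟨q, a1⟩ := c.L.ivr c.sit c.hz hg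
  obtain ⟨r, hr, n, hn', e⟩ := key _ hm (((a1.mul a1).congr h2 rfl rfl).uniq QL.iv_one).1
  obtain ⟨f, a2⟩ := c.hhD ha hb hr hn'
  have a3 := (a2.mul a1).mul a2.inv
  have b1 : f * g * f⁻¹ * (f * g * f⁻¹) = 1 := by rw [conj_mul, h2]; simp
  have b2 : f * g * f⁻¹ ∉ D := mt (conjD c.sit f).1 hn
  exact ⟨_, _, _, e.resolve_left fun e => b2 (c.allD ha hb ((a3.mem_Q c.sit c.hz).2 e) b1
    (by simpa using h1)), a3, b1, b2⟩

theorem omega8 (h8 : c.L.ι KQ.e1 ∈ Q v) (a1 : c.L.HH w) :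
    ∃ m ∈ [1, a, a⁻¹], ∃ n ∈ [1, b, b⁻¹], m * n * w ∈ [1, s, t, s * t] := by
  have key : ∀ w : KB, ∃ m ∈ [1, a, a⁻¹], ∃ n ∈ [1, b, b⁻¹],
      act (m * n * w) KQ.v = KQ.v ∨ act (m * n * w) KQ.v = KQ.z * KQ.v := by decide +kernel
  obtain ⟨m, hm, n, hn, e⟩ := key w
  exact ⟨m, hm, n, hn, c.stab8 h8 ((c.hhD ha hb hm hn).mul a1) e⟩

theorem kill8 [IsSimpleGroup G] (h8 : c.L.ι KQ.e1 ∈ Q v) (hu : c.L.HH (s * t)) : False := by
  let em : ℕ → KQ := fun x => KK.of (nth 0 [0, 16, 15, 31, 9, 25, 22, 6] (Nat.mod x 8))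
  have E0 : EV em := by unfold EV; decide +kernel
  have E : EV fun x => c.L.ι (em x) := E0.map _
  have e1 : c.L.ι (em 1) = z := c.L.ι_z
  have e2 : c.L.ι (em 2) = v := c.ev
  have e4 : c.L.ι (em 4) = c.L.ι KQ.e1 := rfl
  have e8 : c.L.ι (em 8) = c.L.ι (em 0) := rfl
  obtain ⟨y, -, y1, y2⟩ := c.exists_y
  obtain ⟨p, hp⟩ := c.L.mem_P'.1 ((cjQ c.sit c.hv y2).2 h8)
  have m1 : c.L.ι p ∈ Q v := hp ▸ (cjQ c.sit c.hz y1).2 (c.L.ι_mem _)
  have k1 : ∀ p : KQ, p * p = 1 → p * KQ.v = KQ.v * p → p * KQ.e1 * (p * KQ.e1) = 1 →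
      ∃ n < 8, p = em n := by decide +kernel
  obtain ⟨n, hn, rfl⟩ := k1 p (c.f1 m1).1 (c.f1 m1).2 (c.f1 (by rw [map_mul]; exact mul_mem m1 h8)).1
  have Y : Act (fun x => c.L.ι (em x)) y (mk4 2 1 n 0) := E.act_mk (by decide) (by decide) (by omega)
    (by decide) (by simp only [e1, e2, y1]) (by simp only [e1, e2, y2]) hp.symm
    (by simp only [e8, E.zero]; simp)
  have n4 : 4 ≤ n := by
    by_contra h
    have key : ∀ n < 4, ∃ x < 16, em x ≠ 1 ∧ em (lin (mk4 2 1 n 0) x) = 1 := by decide +kernel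
    obtain ⟨x, hx, a1, a2⟩ := key n (by omega)
    have := Y x hx
    simp only [a2, map_one, conj_eq_one_iff] at this
    exact a1 (c.L.ι_inj (by simpa using this))
  obtain ⟨d, a1⟩ := ha.mul hb.inv
  have A1 : Act (fun x => c.L.ι (em x)) d 1857 := fun x hx => by
    rw [a1, (by decide +kernel : ∀ x < 16, aut 1 (a * b⁻¹) (em x) = em (lin 1857 x)) x hx]
  have A2 : Act (fun x => c.L.ι (em x)) (c.L.ι KQ.i) 1073 := fun x hx => by
    rw [QL.iv_ι, (by decide +kernel : ∀ x < 16, aut KQ.i 1 (em x) = em (lin 1073 x)) x hx]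
  have k2 : ∀ n < 8, 4 ≤ n → ∃ w ∈ [[0, 1], [0, 2, 1]], (fun m => (∀ x < 8, lin m x < 8) ∧
      (∀ x < 8, lin m x = x → x = 0) ∧ (∀ x < 8, ∃ r < 8, lin m r ^^^ x = r) ∧
      em (lin (pw m 48) 1) ≠ em 1) (wd (nth idm [mk4 2 1 n 0, 1857, 1073]) w) := by decide +kernel
  obtain ⟨wo, -, b1, b2, b3, b4⟩ := k2 n hn n4
  have A := Act.word E (act_nth (.cons Y (.cons A1 (.cons A2 .nil)))) wo
  generalize H29.ev (G := G) _ wo = g at A
  generalize wd _ wo = m at A b1 b2 b3 b4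
  have A0 := A
  replace A : ∀ x < 16, g * c.L.ι (em x) * g⁻¹ = c.L.ι (em (lin m x)) := A
  replace E : (EV fun x => c.L.ι (em x)) ∧ ∀ x < 16, ∀ y < 16,
    c.L.ι (em (x ^^^ y)) = c.L.ι (em x) * c.L.ι (em y) := ⟨E, E⟩
  obtain ⟨E, E'⟩ := E
  have emi : ∀ x < 8, ∀ y < 8, em x = em y → x = y := by decide +kernel
  have sur : ∀ x < 8, ∃ r < 8, lin m r = x := by
    have f : Function.Injective fun x : Fin 8 => (⟨lin m x, b1 x x.2⟩ : Fin 8) := fun x y e =>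
      Fin.ext (emi _ x.2 _ y.2 (c.L.ι_inj (by
        have e : lin m x = lin m y := congrArg Fin.val e
        have := A x (by omega)
        simp only [e, ← A y (by omega)] at this
        simpa using this)))
    exact fun x hx => let ⟨r, e⟩ := Finite.surjective_of_injective f ⟨x, hx⟩
      ⟨r, r.2, congrArg Fin.val e⟩
  let P : G → Prop := fun x => ∀ r < 8, x ∈ C{c.L.ι (em r)}
  have P1 : ∀ x, P x → P (g * x * g⁻¹) := fun x hx r hr => by
    obtain ⟨r, h1, rfl⟩ := sur r hr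
    exact (cjC (A r (by omega))).2 (hx r h1)
  have P2 : ∀ {x q w}, c.L.Iv x q w → (P x ↔ ∀ r < 8, aut q w (em r) = em r) := fun a =>
    forall₂_congr fun r _ => by rw [mem_C1_iff_conj, a, c.L.ι_inj.eq_iff]
  have P3 : ∀ x, P x → ∃ q w, c.L.Iv x q w := fun x hx =>
    ⟨_, _, (c.L.ivr c.sit c.hz (e1 ▸ hx 1 (by decide))).choose_spec⟩
  have k3 : ∀ (q : KQ) (w : KB), (∀ r < 8, aut q w (em r) = em r) →
      w = s * t ∨ w = 1 ∧ ∃ n < 8, q = em n := by decide +kernel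
  have P4 : ∀ x, P x → x ∈ Q z → ∃ n < 8, x = c.L.ι (em n) := fun x hx hq => by
    obtain ⟨q, rfl⟩ := c.L.mem_P'.1 hq
    rcases k3 _ _ ((P2 (QL.iv_ι q)).1 hx) with e | ⟨-, n, hn, rfl⟩
    exacts [absurd e (by decide +kernel), ⟨n, hn, rfl⟩]
  obtain ⟨ν, a2⟩ := hu
  have c1 : P ν := (P2 a2).2 (by decide +kernel)
  have c2 : ∀ x, P x → x ∉ Q z → ∃ n < 8, x = c.L.ι (em n) * ν := fun x hx hq => by
    obtain ⟨q, w, a3⟩ := P3 x hx
    rcases k3 _ _ ((P2 a3).1 hx) with rfl | ⟨rfl, -⟩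
    · obtain ⟨n, hn, e⟩ := P4 (x * ν⁻¹) (fun r hr => mul_mem (hx r hr) (inv_mem (c1 r hr)))
        (((a3.mul a2.inv).mem_Q c.sit c.hz).2 (mul_inv_cancel _))
      exact ⟨n, hn, by rw [← e]; group⟩
    · exact absurd ((a3.mem_Q c.sit c.hz).2 rfl) hq
  have nQ : ν ∉ Q z := fun e => absurd ((a2.mem_Q c.sit c.hz).1 e) (by decide +kernel)
  obtain ⟨n1, h1, f1⟩ := c2 _ (P1 ν c1) fun e => by
    obtain ⟨n, hn, e⟩ := P4 _ (P1 ν c1) e
    obtain ⟨r, h1, rfl⟩ := sur n hn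
    rw [← A r (by omega)] at e
    exact nQ (by rw [show ν = c.L.ι (em r) by simpa using e]; exact c.L.ι_mem _)
  obtain ⟨r, h2, f2⟩ := b3 n1 h1
  have a4 := a2.lmul (em r)
  have g1 : g * (c.L.ι (em r) * ν) * g⁻¹ = c.L.ι (em r) * ν := by
    rw [← conj_mul, f1, A r (by omega), ← mul_assoc, ← E' _ (lin_lt _ _) _ (by omega), f2]
  have c3 : P (c.L.ι (em r) * ν) := fun x hx =>
    mul_mem (mem_C1.2 (E.comm (by omega) (by omega))) (c1 x hx)
  generalize c.L.ι (em r) * ν = μ at a4 g1 c3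
  have g2 : μ * μ = 1 := by
    obtain ⟨n, hn, e⟩ := P4 (μ * μ) (fun x hx => mul_mem (c3 x hx) (c3 x hx))
      (((a4.mul a4).mem_Q c.sit c.hz).2 (by decide +kernel))
    have := A n (by omega)
    simp only [← e, ← conj_mul, g1] at this
    rw [e, b2 n hn (emi _ (b1 n hn) _ hn (c.L.ι_inj (this.symm.trans e))), E.zero]
  have g3 : μ ∉ D := fun hd => b4 (c.L.ι_inj (by
    have := A0.pow E 48 1 (by decide)
    rw [c.pow48 hd (mem_C1_iff_conj.2 g1)] at this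
    simpa using this.symm))
  have g4 : μ ≠ 1 := fun e => absurd ((a4.mem_Q c.sit c.hz).1 (e ▸ one_mem _)) (by decide +kernel)
  have om : ∀ x ∈ C{z}, inM mO (c.L.rh x) := fun x hx => by
    obtain ⟨m, hm, n, hn, e⟩ := c.omega8 ha hb h8 (QL.hh_rh c.sit c.hz hx)
    exact (by decide +kernel : ∀ w : KB, ∀ m ∈ [1, a, a⁻¹], ∀ n ∈ [1, b, b⁻¹],
      m * n * w ∈ [1, s, t, s * t] → inM mO w) _ m hm n hn e
  obtain ⟨x, q, x1, x2, x3⟩ := c.ex8 h8
  have fin : ∀ w ∈ [s, t, s * t], ∀ M, c.L.Iv x q w → ¬ inM M (s * t) →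
      (∀ u u' : KB, inM mO u → inM mO u' → (inM M (u * u') ↔ (inM M u ↔ inM M u'))) →
      (∀ u : KB, inM M u → u * u = 1 → ∃ r ∈ [1, a, a⁻¹], ∃ n ∈ [1, b, b⁻¹],
        r * n * u * (r * n)⁻¹ = 1 ∨ r * n * u * (r * n)⁻¹ ∈ [w]) → False := by
    intro w hw M x3 k1 k2 k3
    obtain ⟨f, f1, f2⟩ := thom (c.sit.index_ne_two c.hz) (c.sit.odd_index c.hz)
      (p := fun x => inM M (c.L.rh x)) (fun x hx y hy => by
        simp only [QL.rh_mul c.sit c.hz hx hy]; exact k2 _ _ (om x hx) (om y hy)) a4.cent g2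
      (by rwa [a4.rh])
    obtain ⟨y, p, w', h1, h2, h3, h4⟩ := c.red ha hb f1 (by rw [conj_mul, g2]; simp)
      (mt (conjD c.sit f).1 g3) (by simpa using g4) f2 k3
    obtain rfl := List.mem_singleton.1 h1
    exact h4 (c.coset ha hb hw x2 x1 x3 h2 h3)
  rcases x3 with x3 | x3
  · exact fin _ (by simp) mS x3 (by decide +kernel) (by decide +kernel) (by decide +kernel)
  · exact fin _ (by simp) mT x3 (by decide +kernel) (by decide +kernel) (by decide +kernel)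

end

theorem tv (hq : q = 1 ∨ q = KQ.k) (a1 : c.L.Iv x q u) : x ∉ D := fun hx => by
  have nz : z ∉ Q x := fun e =>
    absurd ((a1.mem_Q c.sit c.hz).1 (c.sit.symm hx c.hz e)) (by decide +kernel)
  have fx : ∀ p, c.L.ι p ∈ C{x} ↔ aut q u p = p := fun p => by
    rw [mem_C1_comm, mem_C1_iff_conj, a1, c.L.ι_inj.eq_iff]
  have k1 : ∀ q : KQ, q = 1 ∨ q = KQ.k → ∀ p : KQ, aut q u p = p → p = 1 ∨ p = KQ.z ∨
      ∃ r : KQ, aut q u r = r ∧ KQ.z = r * p * r⁻¹ * p⁻¹ := by decide +kernel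
  have I : ∀ g ∈ Q z, g ∈ Q x → g = 1 := fun g h1 h2 => by
    obtain ⟨p, rfl⟩ := c.L.mem_P'.1 h1
    rcases k1 q hq p ((fx p).1 (c.sit.le hx h2)) with rfl | rfl | ⟨r, e, f⟩
    · simp
    · exact absurd (by simpa using h2) nz
    · refine absurd ?_ nz
      rw [← c.L.ι_z, f]
      simp only [map_mul, map_inv]
      exact mul_mem ((cjQ c.sit hx (mem_C1_iff_conj.1 ((fx r).2 e))).2 h2) (inv_mem h2)
  have k2 : ∀ q : KQ, q = 1 ∨ q = KQ.k → ∀ w : KB, w * u = u * w → ∀ r : KQ,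
      (∀ p ∈ [KQ.k, KQ.l, KQ.i * KQ.j * KQ.l], aut q u p = p → aut r w p = p) → w = 1 ∨ w = u := by
    decide +kernel
  have le : Q x ⊓ C{z} ≤ zpowers x := fun y hy => by
    obtain ⟨r, a2⟩ := c.L.ivr c.sit c.hz hy.2
    rw [c.sit.mem_zp hx]
    refine (k2 q hq _ (((a2.mul a1).congr (mem_C1.1 (c.sit.le hx hy.1)) rfl rfl).uniq
      (a1.mul a2)).1 r fun p _ e => c.L.ι_inj ?_).imp
      (fun e => I y ((a2.mem_Q c.sit c.hz).2 e) hy.1) fun e => ?_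
    · rw [← a2, ← mul_inv_eq_one]
      refine I _ (by rw [a2]; exact mul_mem (c.L.ι_mem _) (inv_mem (c.L.ι_mem _))) ?_
      rw [mul_assoc, mul_assoc, ← mul_assoc (c.L.ι p)]
      exact mul_mem hy.1 ((cjQ c.sit hx (mem_C1_iff_conj.1 ((fx p).2 e))).2 (inv_mem hy.1))
    · exact mul_inv_eq_one.1 (I _ (((a2.mul a1.inv).mem_Q c.sit c.hz).2 (by rw [e, mul_inv_cancel]))
        (mul_mem hy.1 (inv_mem (c.sit.mem hx))))
  have h1 := c.sit.card_cent hx c.L.zz (mem_C1_comm.1 a1.cent)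
  have h2 := card_le_of_le le
  rw [Nat.card_zpowers, c.sit.ord hx] at h2
  omega

theorem kill4 [IsSimpleGroup G] (ha : c.L.HH a) (hb : c.L.HH b)
    (h4 : c.L.ι KQ.e1 ∉ Q v ∧ c.L.ι KQ.e2 ∉ Q v) (hu : c.L.HH u) : False := by
  obtain ⟨τ, a1⟩ := hu
  obtain ⟨x, q, hq, a2, h2⟩ : ∃ x q, (q = 1 ∨ q = KQ.k) ∧ c.L.Iv x q u ∧ x * x = 1 := by
    rcases ((a1.mul1 a1).congr rfl rfl (by decide +kernel)).one_or c.sit c.hz with e | e
    · exact ⟨τ, 1, .inl rfl, a1, e⟩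
    · refine ⟨_, _, .inr (mul_one _), a1.lmul KQ.k, ?_⟩
      rw [mul_assoc, ← mul_assoc τ, a1.swap, (by decide +kernel : act u KQ.k = KQ.k), mul_assoc, e,
        ← mul_assoc, c.L.ι_k, c.L.kk, c.L.zz]
  obtain ⟨f, f1, f2⟩ := thom (c.sit.index_ne_two c.hz) (c.sit.odd_index c.hz)
    (p := fun x => inM mO (c.L.rh x)) (fun x hx y hy => by
      simp only [QL.rh_mul c.sit c.hz hx hy]
      exact (by decide +kernel : ∀ u u' : KB, inM mO (u * u') ↔ (inM mO u ↔ inM mO u')) _ _)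
    a2.cent h2 (by rw [a2.rh]; decide +kernel)
  obtain ⟨y, p, w, h1, h3, h5, h6⟩ := c.red ha hb f1 (by rw [conj_mul, h2]; simp)
    (mt (conjD c.sit f).1 (c.tv hq a2))
    (by simpa using fun e : x = 1 =>
      absurd ((a2.mem_Q c.sit c.hz).1 (e ▸ one_mem _)) (by decide +kernel))
    f2 (T := [s, s * t, t]) (by decide +kernel)
  obtain ⟨x1, q1, x2, q2, b1, b2, c1, c2, d1, d2, -⟩ := c.ex4 h4
  simp only [List.mem_cons, List.not_mem_nil, or_false] at h1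
  rcases h1 with rfl | rfl | rfl
  · exact h6 (c.coset ha hb (by simp) d1 c1 b1 h3 h5)
  · exact h6 (c.coset ha hb (by simp) d2 c2 b2 h3 h5)
  · obtain ⟨σ, ν, s1, s2, t1, t2, t3⟩ := c.eps4 h4
    have := ((s1.mul1 s2).congr rfl rfl (by decide +kernel)).sq_one c.sit c.hz (by decide +kernel)
      (by decide +kernel) h3 h5
    refine c.L.z1 ?_
    calc z = z * (ν * (σ * σ) * ν) := by rw [t1, mul_one, t2, mul_one]
      _ = σ * ν * (σ * ν) := by rw [← mul_assoc, ← mul_assoc, ← t3]; group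
      _ = 1 := this

theorem killE {a b s : G} (ha : c.L.HH KB.a) (hb : c.L.HH KB.b) (L : LE (Q z) z i j k l a b s) :
    False := by
  let am : ℕ → KE := fun x =>
    KK.of (nth 0 [0, 16, 15, 31, 5, 21, 10, 26, 160, 176, 175, 191, 165, 181, 170, 186] x)
  have E0 : EV am := by unfold EV; decide +kernel
  have E : EV fun x => L.ι (am x) := E0.map _
  have e1 : L.ι (am 1) = z := L.ι_z
  have e2 : L.ι (am 2) = v := by
    rw [← c.ev, (by decide +kernel : am 2 = KE.i * KE.j * KE.k * KE.l),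
      (by decide +kernel : KQ.v = KQ.i * KQ.j * KQ.k * KQ.l)]; simp
  obtain ⟨y, -, y1, y2⟩ := c.exists_y
  have cz : ∀ x < 16, L.ι (am x) ∈ C{z} ∧ L.ι (am x) ∈ C{v} := fun x hx =>
    ⟨L.ι_mem _, e2 ▸ mem_C1.2 (E.comm hx (by decide))⟩
  have f : ∀ x < 16, ∃ α, L.ι α = y * L.ι (am x) * y⁻¹ := fun x hx =>
    L.exists_code ((cjC y2).2 (cz x hx).2)
  have f1 : ∀ x < 16, ∀ α, L.ι α = y * L.ι (am x) * y⁻¹ → 4 ≤ x →
      α * am 2 = am 2 * α ∧ α * α = 1 ∧ ∀ n < 4, α ≠ am n := fun x hx α e h4 => by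
    refine ⟨L.ι_inj ?_, L.ι_inj ?_, fun n hn e' => ?_⟩
    · rw [map_mul, map_mul, e2, ← mem_C1, e]; exact (cjC y1).2 (cz x hx).1
    · rw [map_mul, e, conj_mul, E.sq hx]; simp
    · have : ∃ m < 4, y * L.ι (am m) * y⁻¹ = L.ι (am n) := by
        interval_cases n
        · exact ⟨0, by decide, by simp only [E.zero]; simp⟩
        · exact ⟨2, by decide, by rw [e1, e2, y2]⟩
        · exact ⟨1, by decide, by rw [e1, e2, y1]⟩
        · refine ⟨3, by decide, ?_⟩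
          have := E 1 (by decide) 2 (by decide)
          change L.ι (am 3) = L.ι (am 1) * L.ι (am 2) at this
          rw [this, ← conj_mul, e1, e2, y1, y2, c.zv_comm]
      obtain ⟨m, hm, e3⟩ := this
      rw [← e', e] at e3
      exact (by decide +kernel : ∀ m < 4, ∀ x < 16, 4 ≤ x → am m ≠ am x) m hm x hx h4
        (L.ι_inj (by simpa using e3))
  obtain ⟨α, a1⟩ := f 4 (by decide)
  obtain ⟨β, a2⟩ := f 8 (by decide)
  have k1 : ∀ α : KE, α * am 2 = am 2 * α ∧ α * α = 1 ∧ (∀ n < 4, α ≠ am n) → ∀ β : KE,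
      β * am 2 = am 2 * β ∧ β * β = 1 ∧ (∀ n < 4, β ≠ am n) →
      α * β * am 2 = am 2 * (α * β) ∧ α * β * (α * β) = 1 ∧ (∀ n < 4, α * β ≠ am n) →
      ∃ m < 16, α = am m ∧ ∃ n < 16, β = am n ∧ 4 ≤ m ∧ 4 ≤ n ∧ 4 ≤ m ^^^ n := by decide +kernel
  obtain ⟨m, hm, rfl, n, hn, rfl, b1⟩ := k1 α (f1 4 (by decide) _ a1 le_rfl) β
    (f1 8 (by decide) _ a2 (by decide)) (f1 12 (by decide) _ (by
      rw [map_mul, a1, a2, conj_mul, ← E 4 (by decide) 8 (by decide)]; rfl) (by decide))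
  have Y : Act (fun x => L.ι (am x)) y (mk4 2 1 m n) := E.act_mk (by decide) (by decide) hm hn
    (by simp only [e1, e2, y1]) (by simp only [e1, e2, y2]) a1.symm a2.symm
  have A1 : Act am KE.i 54321 := by unfold Act; decide +kernel
  have A2 : Act am KE.j 62769 := by unfold Act; decide +kernel
  have A3 : Act am (KE.a * KE.b) 34369 := by unfold Act; decide +kernel
  have k2 : ∀ m < 16, ∀ n < 16, 4 ≤ m ∧ 4 ≤ n ∧ 4 ≤ m ^^^ n → ∃ w ∈ [[0, 0], [0, 2, 1, 0],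
      [0, 1, 0, 1, 0], [0, 3, 3, 0, 3, 0, 3, 1, 0], [0, 3, 3, 0, 3, 2, 0, 3, 0]], (fun r =>
      lin r 1 = 1 ∧ mk4 1 (lin r 2) (lin r 4) (lin r 8) ∉ [33377, 33825, 34369, 45681, 46369, 46929,
        54129, 54321, 55105, 62305, 62769, 63057])
      (wd (nth idm [mk4 2 1 m n, 54321, 62769, 34369]) w) := by decide +kernel
  obtain ⟨wo, -, b2, b3⟩ := k2 m hm n hn b1
  have A := Act.word E (act_nth (.cons Y (.cons (A1.map L.ι) (.cons (A2.map L.ι)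
    (.cons (A3.map L.ι) .nil))))) wo
  generalize H29.ev (G := G) _ wo = g at A
  generalize wd _ wo = r at A b2 b3
  obtain ⟨γ, rfl⟩ := L.exists_code (g := g) (mem_C1_iff_conj.2 (by
    have := A 1 (by decide); simpa only [b2, e1] using this))
  have B := A.of_map L.ι_inj
  have k3 : ∀ γ : KE, ∀ x < 16, γ * am 8 * γ⁻¹ = am x → ∀ y < 16, γ * am 2 * γ⁻¹ = am y →
      ∀ w < 16, γ * am 4 * γ⁻¹ = am w → mk4 1 y w x ∈ [33377, 33825, 34369, 45681, 46369, 46929,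
        54129, 54321, 55105, 62305, 62769, 63057] := by decide +kernel
  exact b3 (k3 γ _ (lin_lt _ _) (B 8 (by decide)) _ (lin_lt _ _) (B 2 (by decide)) _ (lin_lt _ _)
    (B 4 (by decide)))

end Cx

end H7.X32
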