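import Mathlib
import Cfsg.Agent.H7.XP4

/-!
# Letters for `C(z)`
-/

set_option autoImplicit false
set_option maxRecDepth 100000
set_option linter.all false
set_option synthInstance.maxSize 4000

namespace H7.X32

open H29 H7.Cay Subgroup H24 H6.XS KB

variable {G : Type*} [Group G] [Finite G] {D : Set G} {Q : G → Subgroup G} {z v i j k l : G}

namespace QL

variable {L : QL (Q z) z i j k l} (h : Sit D Q 2) (hz : z ∈ D) {g g' x : G} {q : KQ} {w d : KB}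
include h hz

theorem hh_rebase (r : KB) : (L.rebase 1 r).HH w ↔ L.HH (r * w * r⁻¹) := by
  constructor
  · rintro ⟨g, a⟩
    obtain ⟨q, b⟩ := L.ivr h hz a.cent
    rw [(a.uniq (b.rebase 1 r)).1]
    simpa [mul_assoc] using b.hh
  · rintro ⟨g, a⟩
    simpa [mul_assoc] using (a.rebase 1 r).hh

theorem Iv.inv3 (a : L.Iv g 1 d) (b : L.Iv g' 1 w) (h3 : g * g * g = 1) (e : w * d * w⁻¹ = d⁻¹) :
    g' * g * g'⁻¹ = g⁻¹ :=
  a.inv1.uniq3 h hz (((b.mul1 a).mul1 b.inv1).congr rfl rfl e)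
    (by rw [← mul_inv_rev, ← mul_inv_rev, ← mul_assoc, h3, inv_one])
    (by rw [conj_mul, conj_mul, h3]; simp)

theorem mem3 {K : Subgroup KB} {m : KB} (hd : d ∈ K) (hm : m ∈ [1, d, d⁻¹]) : m ∈ K := by
  simp only [List.mem_cons, List.not_mem_nil, or_false] at hm
  rcases hm with rfl | rfl | rfl
  exacts [one_mem _, hd, inv_mem hd]

theorem cent2 (a : L.Iv g 1 d) (b : L.Iv g' 1 w)
    (H : ∀ y, L.HH y → y ∈ [1, d, d⁻¹] ∨ y * w⁻¹ ∈ [1, d, d⁻¹]) :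
    C{z} = closure {i, j, k, l, g, g'} := by
  refine cent_eq (L := L) h hz ?_ (by simp [Set.insert_subset_iff]) fun y hy => ?_
  · simpa [a.cent, b.cent] using
      And.intro (h.le hz (L.ι_mem KQ.i)) (And.intro (h.le hz (L.ι_mem KQ.j))
        (And.intro (h.le hz (L.ι_mem KQ.k)) (h.le hz (L.ι_mem KQ.l))))
  · have a1 : d ∈ L.KS (closure {i, j, k, l, g, g'}) := ⟨g, Subgroup.subset_closure (by simp), a⟩
    have a2 : w ∈ L.KS (closure {i, j, k, l, g, g'}) := ⟨g', Subgroup.subset_closure (by simp), b⟩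
    rcases H y hy with e | e
    · exact mem3 h hz a1 e
    · simpa using mul_mem (mem3 h hz a1 e) a2

theorem mkLM (hd : d = a ∨ d = a * b) (a1 : L.HH d) (a2 : L.Iv x q t) (h2 : x * x = 1)
    (H : ∀ y, L.HH y → y ∈ [1, d, d⁻¹] ∨ y * t⁻¹ ∈ [1, d, d⁻¹]) :
    ∃ g g', LM1 (Q z) z i j k l g g' ∨ LM2 (Q z) z i j k l g g' := by
  obtain ⟨g, b1, b2⟩ := a1.lift3 h hz (by rcases hd with rfl | rfl <;> decide +kernel)
  obtain ⟨g', b3⟩ := a2.hh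
  have M : LM (Q z) z i j k l g g' := ⟨L, b3.ac1 (p1 := KQ.j⁻¹) (p2 := KQ.i⁻¹) (p3 := KQ.l⁻¹)
    (p4 := KQ.k⁻¹) (by decide +kernel) (by simp) (by simp) (by simp) (by simp),
    b3.sq_one h hz (by decide +kernel) (by decide +kernel) a2 h2, b2,
    b1.inv3 h hz b3 b2 (by rcases hd with rfl | rfl <;> decide +kernel), cent2 h hz b1 b3 H⟩
  rcases hd with rfl | rfl
  · exact ⟨g, g', .inr ⟨M, b1.ac1 (p1 := KQ.j) (p2 := KQ.i * KQ.j) (p3 := KQ.k)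
      (p4 := KQ.l) (by decide +kernel) (by simp) (by simp) (by simp) (by simp)⟩⟩
  · exact ⟨g, g', .inl ⟨M, b1.ac1 (p1 := KQ.j) (p2 := KQ.i * KQ.j) (p3 := KQ.l)
      (p4 := KQ.k * KQ.l) (by decide +kernel) (by simp) (by simp) (by simp) (by simp)⟩⟩

theorem Iv.acs (a : L.Iv g 1 s) : Ac g i j k l k l i j :=
  a.ac1 (p1 := KQ.k) (p2 := KQ.l) (p3 := KQ.i) (p4 := KQ.j) (by decide +kernel) (by simp) (by simp)
    (by simp) (by simp)

theorem mkLA (a1 : L.HH (a * b⁻¹)) (a2 : L.Iv x q s) (h2 : x * x = 1)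
    (H : ∀ y, L.HH y → y ∈ [1, a * b⁻¹, (a * b⁻¹)⁻¹] ∨ y * s⁻¹ ∈ [1, a * b⁻¹, (a * b⁻¹)⁻¹]) :
    ∃ g g', LA (Q z) z i j k l g g' := by
  obtain ⟨g, b1, b2⟩ := a1.lift3 h hz (by decide +kernel)
  obtain ⟨g', b3⟩ := a2.hh
  exact ⟨g, g', L, b1.ac1 (p1 := KQ.j) (p2 := KQ.i * KQ.j) (p3 := KQ.k * KQ.l) (p4 := KQ.k)
    (by decide +kernel) (by simp) (by simp) (by simp) (by simp), b3.acs h hz, b2,
    b3.sq_one h hz (by decide +kernel) (by decide +kernel) a2 h2,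
    b1.inv3 h hz b3 b2 (by decide +kernel), cent2 h hz b1 b3 H⟩

theorem mkLD (ha : L.HH a) (hb : L.HH b) :
    ∃ g g', L.Iv g 1 a ∧ L.Iv g' 1 b ∧ LD (Q z) z i j k l g g' := by
  obtain ⟨g, a1, a2⟩ := ha.lift3 h hz (by decide +kernel)
  obtain ⟨g', b1, b2⟩ := hb.lift3 h hz (by decide +kernel)
  exact ⟨g, g', a1, b1, L, a1.ac1 (p1 := KQ.j) (p2 := KQ.i * KQ.j) (p3 := KQ.k) (p4 := KQ.l)
    (by decide +kernel) (by simp) (by simp) (by simp) (by simp), b1.ac1 (p1 := KQ.i) (p2 := KQ.j)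
    (p3 := KQ.l) (p4 := KQ.k * KQ.l) (by decide +kernel) (by simp) (by simp) (by simp) (by simp),
    a2, b2, mul_inv_eq_iff_eq_mul.1 (b1.uniq3 h hz (((a1.mul1 b1).mul1 a1.inv1).congr rfl rfl
      (by decide +kernel)) b2 (by rw [conj_mul, conj_mul, b2]; simp))⟩

theorem centD {S : Set G} (h1 : ∀ s ∈ S, s ∈ C{z}) (h2 : {i, j, k, l} ⊆ S) (a1 : L.Iv g 1 a)
    (a2 : L.Iv g' 1 b) (h3 : g ∈ S) (h4 : g' ∈ S) (H : ∀ y, L.HH y → ∃ m ∈ [1, a, a⁻¹],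
      ∃ n ∈ [1, b, b⁻¹], m * n * y ∈ L.KS (closure S)) : C{z} = closure S :=
  cent_eq (L := L) h hz h1 h2 fun y hy => by
    obtain ⟨m, hm, n, hn, e⟩ := H y hy
    have b1 : a ∈ L.KS (closure S) := ⟨g, Subgroup.subset_closure h3, a1⟩
    have b2 : b ∈ L.KS (closure S) := ⟨g', Subgroup.subset_closure h4, a2⟩
    exact (mul_mem_cancel_left (mul_mem (mem3 h hz b1 hm) (mem3 h hz b2 hn))).1 e

theorem letters (L : QL (Q z) z i j k l) : i ∈ C{z} ∧ j ∈ C{z} ∧ k ∈ C{z} ∧ l ∈ C{z} := by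
  simpa using And.intro (h.le hz (L.ι_mem KQ.i)) (And.intro (h.le hz (L.ι_mem KQ.j))
    (And.intro (h.le hz (L.ι_mem KQ.k)) (h.le hz (L.ι_mem KQ.l))))

theorem mkLB (a1 : L.Iv g 1 a) (a2 : L.Iv g' 1 b) (M : LD (Q z) z i j k l g g') (a3 : L.Iv x 1 t) :
    LB (Q z) z i j k l g g' x :=
  ⟨L, M.aa, M.ab, a3.ac1 (p1 := KQ.j⁻¹) (p2 := KQ.i⁻¹) (p3 := KQ.l⁻¹) (p4 := KQ.k⁻¹)
    (by decide +kernel) (by simp) (by simp) (by simp) (by simp), M.a3, M.b3, M.cab,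
    a1.inv3 h hz a3 M.a3 (by decide +kernel), a2.inv3 h hz a3 M.b3 (by decide +kernel)⟩

theorem sab (a1 : L.Iv g 1 a) (a2 : L.Iv g' 1 b) (M : LD (Q z) z i j k l g g') (a3 : L.Iv x 1 s) :
    x * g * x⁻¹ = g' :=
  a2.uniq3 h hz (((a3.mul1 a1).mul1 a3.inv1).congr rfl rfl (by decide +kernel)) M.b3
    (by rw [conj_mul, conj_mul, M.a3]; simp)

end QL

namespace Cx

variable (c : Cx D Q z v i j k l)
include c

theorem small (h48 : c.L.ι KQ.e1 ∈ Q v ∨ c.L.ι KQ.e1 ∉ Q v ∧ c.L.ι KQ.e2 ∉ Q v) :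
    (c.L.HH a ∧ c.L.HH b) ∨ (∃ d s, LA (Q z) z i j k l d s) ∨
      ∃ i j k l d t, LM1 (Q z) z i j k l d t ∨ LM2 (Q z) z i j k l d t := by
  rcases h48 with h8 | h4
  · obtain ⟨x, q, x1, -, x2⟩ := c.ex8 h8
    rcases x2 with x2 | x2
    · refine (QL.dich c.sit c.hz x2.hh (by decide +kernel)).imp_right fun ⟨d, hd, a1, H⟩ => .inl ?_
      have key : ∀ d ∈ [a, b, a * b, a * b⁻¹], s ∉ [1, d, d⁻¹] ∧
          (s * d * s⁻¹ = d⁻¹ → d = a * b⁻¹) := by decide +kernel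
      obtain ⟨e, H⟩ := (H _ x2.hh).resolve_left (key d hd).1
      obtain rfl := (key d hd).2 e
      exact QL.mkLA c.sit c.hz a1 x2 x1 H
    · refine (QL.dich c.sit c.hz x2.hh (by decide +kernel)).imp_right fun ⟨d, hd, a1, H⟩ => .inr ?_
      have key : ∀ d ∈ [a, b, a * b, a * b⁻¹], t ∉ [1, d, d⁻¹] ∧ ∃ r ∈ [1, s, u], r⁻¹ * t * r = t ∧
          ∃ e ∈ [a, a * b], (r * e * r⁻¹ = d ∨ r * e * r⁻¹ = d⁻¹) ∧ ∀ y : KB,
            (r * y * r⁻¹ ∈ [1, d, d⁻¹] ∨ r * y * r⁻¹ * t⁻¹ ∈ [1, d, d⁻¹]) →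
            y ∈ [1, e, e⁻¹] ∨ y * t⁻¹ ∈ [1, e, e⁻¹] := by decide +kernel
      obtain ⟨k1, r, -, k2, e, he, k3, k4⟩ := key d hd
      obtain ⟨-, H⟩ := (H _ x2.hh).resolve_left k1
      exact ⟨_, _, _, _, QL.mkLM (L := c.L.rebase 1 r) c.sit c.hz (by simpa using he)
        ((QL.hh_rebase c.sit c.hz r).2 (by rcases k3 with e | e <;> rw [e]; exacts [a1, a1.inv]))
        ((x2.rebase 1 r).congr rfl rfl k2) x1 fun y hy =>
          k4 y (H _ ((QL.hh_rebase c.sit c.hz r).1 hy))⟩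
  · obtain ⟨σ, ν, s1, s2, -⟩ := c.eps4 h4
    refine (QL.dich c.sit c.hz s1.hh (by decide +kernel)).imp_right fun ⟨d, hd, a1, H⟩ => ?_
    have key : ∀ d ∈ [a, b, a * b, a * b⁻¹], s ∉ [1, d, d⁻¹] ∧ s * t ∉ [1, d, d⁻¹] ∧
        s * t * s⁻¹ ∉ [1, d, d⁻¹] := by decide +kernel
    obtain ⟨k1, k2, k3⟩ := key d hd
    exact absurd ((((H _ s1.hh).resolve_left k1).2 _ s2.hh).resolve_left k2) k3

theorem le_of_D (ha : c.L.HH a) (hb : c.L.HH b) {N : Subgroup G} [hN : N.Normal] (hz : z ∈ N) :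
    Q z ≤ N := by
  have m : ∀ p : KQ, p * p = 1 → c.L.ι p ∈ N := fun p hp => by
    by_cases e : c.L.ι p = 1
    · exact e ▸ one_mem _
    · obtain ⟨g, e⟩ := c.sit.trans z c.hz _ (c.allD ha hb (c.L.ι_mem p) (by rw [← map_mul, hp, map_one]) e)
      exact e ▸ hN.conj_mem _ hz g
  intro x hx
  obtain ⟨p, rfl⟩ := c.L.mem_P'.1 hx
  obtain ⟨q, h1, r, h2, rfl⟩ := (by decide +kernel : ∀ p : KQ, ∃ q : KQ, q * q = 1 ∧
    ∃ r : KQ, r * r = 1 ∧ p = q * r) p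
  rw [map_mul]
  exact mul_mem (m q h1) (m r h2)

theorem big [IsSimpleGroup G] (h48 : c.L.ι KQ.e1 ∈ Q v ∨ c.L.ι KQ.e1 ∉ Q v ∧ c.L.ι KQ.e2 ∉ Q v)
    (ha : c.L.HH a) (hb : c.L.HH b) :
    (∃ a b t, LG (Q z) z i j k l a b t) ∨ ∃ a b t s, LU (Q z) z i j k l a b t s := by
  obtain ⟨α, β, a1, a2, M⟩ := QL.mkLD c.sit c.hz ha hb
  have lt := QL.letters c.sit c.hz c.L
  rcases h48 with h8 | h4
  · obtain ⟨x, q, x1, -, x2⟩ := c.ex8 h8
    have H : ∀ w ∈ [s, t], ∀ g, c.L.Iv g 1 w → C{z} = closure {i, j, k, l, α, β, g} := by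
      intro w hw g a3
      refine QL.centD c.sit c.hz (by simp [lt, a1.cent, a2.cent, a3.cent])
        (by simp [Set.insert_subset_iff]) a1 a2 (by simp) (by simp) fun y hy => ?_
      obtain ⟨m, hm, n, hn, e⟩ := c.omega8 ha hb h8 hy
      refine ⟨m, hm, n, hn, ?_⟩
      have b1 := (c.hhD ha hb hm hn).mul hy
      generalize m * n * y = y at e b1
      have key : ∀ w ∈ [s, t], ∀ y ∈ [1, s, t, s * t], y = 1 ∨ y = w ∨ y = s * t ∨
          y * w = s * t := by decide +kernel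
      rcases key w hw y e with rfl | rfl | rfl | e
      · exact one_mem _
      · exact ⟨g, Subgroup.subset_closure (by simp), a3⟩
      · exact (c.kill8 ha hb h8 b1).elim
      · exact (c.kill8 ha hb h8 (e ▸ b1.mul a3.hh)).elim
    rcases x2 with x2 | x2 <;> obtain ⟨g, a3⟩ := x2.hh
    · exact (c.killE ha hb ⟨M, a3.acs c.sit c.hz,
        a3.sq_one c.sit c.hz (by decide +kernel) (by decide +kernel) x2 x1,
        QL.sab c.sit c.hz a1 a2 M a3, H _ (by simp) g a3⟩).elim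
    · exact .inl ⟨α, β, g, QL.mkLB c.sit c.hz a1 a2 M a3,
        a3.sq_one c.sit c.hz (by decide +kernel) (by decide +kernel) x2 x1, H _ (by simp) g a3⟩
  · obtain ⟨σ, ν, s1, s2, t1, t2, t3⟩ := c.eps4 h4
    have s3 : c.L.Iv (σ * ν) 1 t := (s1.mul1 s2).congr rfl rfl (by decide +kernel)
    refine .inr ⟨α, β, σ * ν, σ, QL.mkLB c.sit c.hz a1 a2 M s3, ?_, s1.acs c.sit c.hz, t1,
      QL.sab c.sit c.hz a1 a2 M s1, ?_, QL.centD c.sit c.hz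
        (by simp [lt, a1.cent, a2.cent, s1.cent, s3.cent]) (by simp [Set.insert_subset_iff]) a1 a2
        (by simp) (by simp) fun y hy => ?_⟩
    · calc σ * ν * (σ * ν) = σ * ν * σ⁻¹ * (σ * σ) * ν := by group
        _ = z := by rw [t1, t3, mul_one, mul_assoc, t2, mul_one]
    · rw [← mul_assoc, t1, one_mul, mul_inv_rev, inv_eq_of_mul_eq_one_left t2]
    have b1 : s ∈ c.L.KS (closure {i, j, k, l, α, β, σ * ν, σ}) :=
      ⟨σ, Subgroup.subset_closure (by simp), s1⟩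
    have b2 : t ∈ c.L.KS (closure {i, j, k, l, α, β, σ * ν, σ}) :=
      ⟨_, Subgroup.subset_closure (by simp), s3⟩
    have key : ∀ y : KB, ∃ m ∈ [1, a, a⁻¹], ∃ n ∈ [1, b, b⁻¹], ∃ e ∈ [1, s, s⁻¹], ∃ f ∈ [1, t, t⁻¹],
        m * n * y = e * f ∨ m * n * y * (e * f) = u := by decide +kernel
    obtain ⟨m, hm, n, hn, e, he, f, hf, k⟩ := key y
    refine ⟨m, hm, n, hn, ?_⟩
    have b3 := mul_mem (QL.mem3 c.sit c.hz b1 he) (QL.mem3 c.sit c.hz b2 hf)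
    rcases k with k | k
    · exact k ▸ b3
    · obtain ⟨_, -, b4⟩ := b3
      exact (c.kill4 ha hb h4 (k ▸ ((c.hhD ha hb hm hn).mul hy).mul b4.hh)).elim

end Cx

theorem Fu.cases (h : Fu D Q z) (hp : Plus (Q z) z) :
    (∃ i j k l d s, LA (Q z) z i j k l d s) ∨
      (∃ i j k l d t, LM1 (Q z) z i j k l d t ∨ LM2 (Q z) z i j k l d t) ∨
      (∀ N : Subgroup G, N.Normal → z ∈ N → Q z ≤ N) ∧ (IsSimpleGroup G →
        (∃ i j k l a b t, LG (Q z) z i j k l a b t) ∨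
          ∃ i j k l a b t s, LU (Q z) z i j k l a b t s) := by
  obtain ⟨v, i, j, k, l, c, h48⟩ := h.cx hp
  have h48 := h48.imp (· c.L) (· c.L)
  rcases c.small h48 with ⟨ha, hb⟩ | H | H
  · exact .inr (.inr ⟨fun N _ hz => c.le_of_D ha hb hz, fun _ => (c.big h48 ha hb).imp
      (fun H => ⟨_, _, _, _, H⟩) fun H => ⟨_, _, _, _, H⟩⟩)
  · exact .inl ⟨_, _, _, _, H⟩
  · exact .inr (.inl H)

end H7.X32
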