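import Mathlib
import Cfsg.Agent.H7.XP5

/-!
# From letters to the fused involution
-/

set_option autoImplicit false
set_option maxRecDepth 100000
set_option linter.all false
set_option synthInstance.maxSize 4000

namespace H7.X32

open H29 H7.Cay Subgroup H24 H6.XS KB

variable {G : Type*} [Group G] [Finite G] {D : Set G} {Q : G → Subgroup G}
  {z i j k l a b t s : G}

namespace LB

variable {P : Subgroup G} (L : LB P z i j k l a b t)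

theorem iva : L.toQL.Iv a 1 KB.a := QL.iv_of_ac (p1 := KQ.j) (p2 := KQ.i * KQ.j) (p3 := KQ.k)
  (p4 := KQ.l) L.aa (by decide +kernel) (by simp) (by simp) (by simp) (by simp)
theorem ivb : L.toQL.Iv b 1 KB.b := QL.iv_of_ac (p1 := KQ.i) (p2 := KQ.j) (p3 := KQ.l)
  (p4 := KQ.k * KQ.l) L.ab (by decide +kernel) (by simp) (by simp) (by simp) (by simp)
theorem ivt : L.toQL.Iv t 1 KB.t := QL.iv_of_ac (p1 := KQ.j⁻¹) (p2 := KQ.i⁻¹) (p3 := KQ.l⁻¹)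
  (p4 := KQ.k⁻¹) L.at' (by decide +kernel) (by simp) (by simp) (by simp) (by simp)

end LB

theorem LU.ivs {P : Subgroup G} (L : LU P z i j k l a b t s) : L.toQL.Iv s 1 KB.s :=
  QL.iv_of_ac (p1 := KQ.k) (p2 := KQ.l) (p3 := KQ.i) (p4 := KQ.j) L.as (by decide +kernel) (by simp)
    (by simp) (by simp) (by simp)

theorem QL.ι_v {P : Subgroup G} (L : QL P z i j k l) : L.ι KQ.v = i * j * k * l := by
  rw [(by decide +kernel : KQ.v = KQ.i * KQ.j * KQ.k * KQ.l)]; simp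
theorem QL.ι_e1 {P : Subgroup G} (L : QL P z i j k l) : L.ι KQ.e1 = i * l := by
  rw [(by decide +kernel : KQ.e1 = KQ.i * KQ.l)]; simp
theorem QL.ι_e2 {P : Subgroup G} (L : QL P z i j k l) : L.ι KQ.e2 = i * k := by
  rw [(by decide +kernel : KQ.e2 = KQ.i * KQ.k)]; simp

theorem Fu.cxB (h : Fu D Q z) (L : LB (Q z) z i j k l a b t) :
    Cx D Q z (i * j * k * l) i j k l := by
  refine ⟨h.sit, h.hz, ?_, L.toQL, L.toQL.ι_v⟩
  obtain ⟨v, hv, h1, h2⟩ := h.fus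
  obtain ⟨p, rfl⟩ := L.toQL.mem_P'.1 h1
  have key : ∀ p : KQ, p * p = 1 → p ≠ 1 → p ≠ KQ.z → ∃ m ∈ [1, KB.a, KB.a⁻¹],
      ∃ n ∈ [1, KB.b, KB.b⁻¹], ∃ q ∈ [1, KQ.i], aut q (m * n) p = KQ.v := by decide +kernel
  obtain ⟨m, hm, n, hn, q, -, e⟩ := key p (L.toQL.ι_inj (by simpa using h.sit.sq hv))
    (fun e => h.sit.ne_one hv (by simp [e])) fun e => h2 (by simp [e])
  have a1 : KB.a ∈ L.toQL.KS ⊤ := ⟨a, trivial, L.iva⟩
  have a2 : KB.b ∈ L.toQL.KS ⊤ := ⟨b, trivial, L.ivb⟩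
  obtain ⟨g, -, a3⟩ := mul_mem (QL.mem3 h.sit h.hz a1 hm) (QL.mem3 h.sit h.hz a2 hn)
  rw [← L.toQL.ι_v, ← e, ← (a3.lmul q).congr rfl (mul_one _) rfl]
  exact h.sit.conj _ hv _

/-- In the case of `U₄(3)`, `Q z ∩ Q v = ⟨z, v⟩`. -/
theorem Fu.cardE [IsSimpleGroup G] (h : Fu D Q z) (L : LU (Q z) z i j k l a b t s) :
    (h.cxB L.toLB).L.ι KQ.e1 ∉ Q (i * j * k * l) ∧ (h.cxB L.toLB).L.ι KQ.e2 ∉ Q (i * j * k * l) := by
  have c := h.cxB L.toLB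
  refine ⟨fun e => c.kill8 L.iva.hh L.ivb.hh e (L.ivs.mul1 L.ivt).hh, fun e => ?_⟩
  have c' : Cx D Q z (i * j * k * l) _ _ _ _ := ⟨c.sit, c.hz, c.hv, c.L.rebase KQ.i u, by
    rw [c.L.rebase_ι, (by decide +kernel : aut KQ.i u KQ.v = KQ.v), c.ev]⟩
  refine c'.kill8 ((L.iva.inv1.rebase KQ.i u).congr rfl rfl (by decide +kernel)).hh
    ((L.ivb.rebase KQ.i u).congr rfl rfl (by decide +kernel)).hh ?_
    ((L.ivs.rebase KQ.i u).congr rfl rfl (by decide +kernel)).hh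
  rw [c.L.rebase_ι, (by decide +kernel : aut KQ.i u KQ.e1 = KQ.v * KQ.e2), map_mul, c.ev]
  exact mul_mem (h.sit.mem c.hv) e

end H7.X32
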