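import Mathlib
import Cfsg.Agent.H7.X32D
import Cfsg.Agent.H28.XUN

/-!
# Extraspecial subgroups of order 32: the case `U₄(3)`
-/

set_option autoImplicit false
set_option maxRecDepth 100000
set_option linter.all false

namespace H7.X32

open Subgroup H24 H6.XS H28.XU

universe u

variable {G : Type u} [Group G] [Finite G] {D : Set G} {Q : G → Subgroup G} {z i j k l a b t s d : G}

theorem Fu.u43 [IsSimpleGroup G] (h : Fu D Q z) (L : LU (Q z) z i j k l a b t s) :
    ∃ (F : Type) (_ : Field F) (_ : Fintype F), Fintype.card F = 9 ∧ Nonempty (G ≃* Cfsg.PSU 4 F 3) := by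
  have ez : L.ι (c 16) = z := L.ι_z
  have ev : L.ι (c 15) = i * j * k * l := by
    rw [(by decide +kernel : c 15 = KU.i * KU.j * KU.k * KU.l)]; simp
  have e5 : L.ι (c 5) = i * k := by rw [(by decide +kernel : c 5 = KU.i * KU.k)]; simp
  have e9 : L.ι (c 9) = i * l := by rw [(by decide +kernel : c 9 = KU.i * KU.l)]; simp
  have E : Em L.ι := ⟨L.ι_inj, fun g a => L.exists_code (mem_C1.2 (ez ▸ a))⟩
  have X := h.cxB L.toLB
  obtain ⟨y, -, y1, y2⟩ := X.exists_y
  obtain ⟨a1, a2⟩ := h.cardE L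
  rw [QL.ι_e1] at a1
  rw [QL.ι_e2] at a2
  obtain ⟨r, hr⟩ := E.good (y := y) (W := Q (i * j * k * l)) (by rwa [Cj, ez, ev]) (by rwa [Cj, ez, ev])
    (by rw [ez]; exact X.zQ) (by rw [ev]; exact h.sit.mem X.hv) (by rwa [e5]) (by rwa [e9])
    fun g a p hp =>
      (cjQ h.sit h.hz (by rwa [Cj, ez, ev] at a)).2 (L.ι_mem_P.2 hp)
  obtain ⟨f⟩ := hr.iso E fun H a p => by
    have := L.ι_mem p
    rw [L.cent] at this
    refine (closure_le H).2 ?_ this
    simpa [Set.insert_subset_iff] using a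
  letI : Fintype (GaloisField 3 2) := Fintype.ofFinite _
  have hF : Fintype.card (GaloisField 3 2) = 9 := by
    rw [← Nat.card_eq_fintype_card, GaloisField.card 3 2 (by decide)]; rfl
  obtain ⟨e⟩ := H10.U43P.psu _ hF
  exact ⟨_, _, _, hF, ⟨f.symm.trans e⟩⟩

end H7.X32
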