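import Mathlib
import Cfsg.Agent.H7.XP5
import Cfsg.Agent.H7.XEG
import Cfsg.Agent.H7.XEU
import Cfsg.Agent.H7.XEA
import Cfsg.Agent.H7.XEM
import Cfsg.Agent.H7.XEN
import Cfsg.Agent.H7.XER
import Cfsg.Agent.H27.PF14

/-!
# Extraspecial subgroups of order 32
-/

set_option autoImplicit false

namespace H7.X32

open Subgroup H24 H6.XS

universe u

variable {G : Type u} [Group G] [Finite G] {D : Set G} {Q : G → Subgroup G} {z : G}

/-- The list of the conclusion. -/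
def Li (L : Type u) [Group L] : Prop :=
  (∃ (F : Type) (_ : Field F) (_ : Fintype F), Fintype.card F = 9 ∧
      (Nonempty (L ≃* Cfsg.PSU 3 F 3) ∨ Nonempty (L ≃* Cfsg.PSU 4 F 3))) ∨
    (∃ (F : Type) (_ : Field F) (_ : Fintype F), Fintype.card F = 4 ∧
      Nonempty (L ≃* Cfsg.PSU 4 F 2)) ∨
    (∃ (F : Type) (_ : Field F) (_ : Fintype F), Fintype.card F = 3 ∧
      (Nonempty (L ≃* Matrix.ProjectiveSpecialLinearGroup (Fin 4) F) ∨
        Nonempty (L ≃* ↥(Cfsg.Lie.chevG2.group F)))) ∨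
    Nonempty (L ≃* ↥(alternatingGroup (Fin 8))) ∨ Nonempty (L ≃* ↥(alternatingGroup (Fin 9))) ∨
    Cfsg.Spor.IsoM12 L ∨ Cfsg.Spor.IsoJ2 L ∨ Cfsg.Spor.IsoJ3 L

theorem Fu.simple [IsSimpleGroup G] (h : Fu D Q z) : Li G := by
  by_cases hp : Plus (Q z) z
  · rcases h.cases hp with ⟨_, _, _, _, _, _, L⟩ | ⟨_, _, _, _, _, _, L⟩ | ⟨-, H⟩
    · exact .inr (.inr (.inr ((h.alt L).imp_right .inl)))
    · exact .inr (.inr (.inr (.inr (.inr (.inl (h.m12 L))))))
    · rcases H inferInstance with ⟨_, _, _, _, _, _, _, L⟩ | ⟨_, _, _, _, _, _, _, _, L⟩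
      · exact .inr (.inr (.inl ⟨ZMod 3, inferInstance, inferInstance, rfl, .inr (h.g2 L)⟩))
      · obtain ⟨F, _, _, e, φ⟩ := h.u43 L
        exact .inl ⟨F, _, _, e, .inr φ⟩
  · exact .inr (.inr (.inr (.inr (.inr (.inr (h.minus hp))))))

theorem Fu.normal (h : Fu D Q z) {N : Subgroup G} [N.Normal] [IsSimpleGroup N]
    (hN : ¬ IsMulCommutative N) (hz : z ∈ N) : Li N := by
  obtain ⟨v, hv, h1, h2⟩ := h.fus
  by_cases hQ : Q z ≤ N
  · exact Fu.simple (z := ⟨z, hz⟩) ⟨h.sit.restrict h.hz hQ, h.hz, ⟨v, hQ h1⟩, hv, h1,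
      fun e => h2 (congrArg Subtype.val e)⟩
  by_cases hp : Plus (Q z) z
  · rcases h.cases hp with ⟨_, _, _, _, _, _, L⟩ | ⟨_, _, _, _, _, _, L | L⟩ | ⟨H, -⟩
    · exact absurd (h.le_A L hN hz) hQ
    · exact absurd (h.le_M1 L hN hz) hQ
    · obtain ⟨F, _, _, e, φ⟩ := h.u33 L hN hz hQ
      exact .inl ⟨F, _, _, e, .inl φ⟩
    · exact absurd (H N inferInstance hz) hQ
  · obtain ⟨g, rfl⟩ := h.sit.trans z h.hz v hv
    rcases h.minus_le hp (A := Q z ⊓ N) ⟨h.sit.mem h.hz, hz⟩ inf_le_left (fun c hc =>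
      mem_N_of_finite fun x hx => ⟨(mem_N.1 (h.sit.norm h.hz hc) x).1 hx.1,
        Normal.conj_mem inferInstance _ hx.2 c⟩) with e | e
    · have : g * z * g⁻¹ ∈ zpowers z := e ▸ ⟨h1, Normal.conj_mem inferInstance _ hz g⟩
      exact absurd (((h.sit.mem_zp h.hz).1 this).resolve_right h2) (h.sit.ne_one hv)
    · exact absurd (e ▸ inf_le_right) hQ

theorem s1759 (hz : orderOf z = 2)
    (hE : Cfsg.IsExtraspecial 2 (Cfsg.generalizedFittingSubgroup C{z}))
    (h32 : Nat.card (Cfsg.generalizedFittingSubgroup C{z}) = 32)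
    (hL : IsSimpleGroup (Cfsg.generalizedFittingSubgroup G))
    (hL' : ¬ IsMulCommutative (Cfsg.generalizedFittingSubgroup G)) :
    Li (Cfsg.generalizedFittingSubgroup G) := by
  have h := sit_of (w := 2) hz hE le_rfl h32
  have zD : z ∈ conjugatesOf z := IsConj.refl z
  have key : ∀ N : Subgroup G, N.Normal → N = ⊥ ∨ Cfsg.generalizedFittingSubgroup G ≤ N := by
    intro N hN
    rcases (hN.subgroupOf (Cfsg.generalizedFittingSubgroup G)).eq_bot_or_eq_top with e | e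
    · have d := subgroupOf_eq_bot.1 e
      exact .inl (d.eq_bot_of_le (le_trans (fun x hx => mem_centralizer_iff.2 fun y hy =>
        (commute_of_normal_of_disjoint N _ hN inferInstance d x y hx hy).eq.symm)
        H23.centralizer_fstar_le))
    · exact .inr (subgroupOf_eq_top.1 e)
  have nO : NoOdd G := fun N hN k => (key N hN).resolve_right fun e => by
    have := H27.Feit_Thompson _ (k.of_dvd_nat (card_dvd_of_le e))
    exact hL' ⟨⟨IsSimpleGroup.comm_iff_isSolvable.2 this⟩⟩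
  by_cases f : ∃ d ∈ conjugatesOf z, d ∈ H25.Bd.fs C{z} ∧ d ≠ z
  · exact Fu.normal ⟨h, zD, f⟩ hL' (h.minN nO zD inferInstance fun e => hL' (by
      rw [e]; infer_instance))
  · obtain ⟨b, hb⟩ := h.exists_col nO zD fun e => by
      rcases key (center G) inferInstance with e1 | e1
      · exact h.ne_one zD (by simpa [e1] using e)
      · exact hL' ⟨⟨fun x y => Subtype.ext (mem_center_iff.1 (e1 y.2) x)⟩⟩
    obtain ⟨e, φ | φ⟩ := h.wc2 (h.wc_of zD f) nO hb
    · exact .inr (.inl ⟨H0.F4, inferInstance, inferInstance, H0.F4.card, e ▸ φ⟩)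
    · exact .inr (.inr (.inl ⟨ZMod 3, inferInstance, inferInstance, rfl, .inl (e ▸ φ)⟩))

end H7.X32
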