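import Mathlib
import Cfsg.Agent.H7.ZL0
import Cfsg.Agent.H6.XZL1

/-! Width four, free case: the fast test for a pair of opposite points. -/

set_option autoImplicit false
set_option maxRecDepth 100000
set_option linter.all false

namespace H7.ZL

open Subgroup H24 H15 H15.XP H6.XS

def allN (n : ℕ) (f : ℕ → Bool) : Bool := Nat.rec true (fun i r => f i && r) n

theorem allN_iff {n : ℕ} {f : ℕ → Bool} : allN n f = true ↔ ∀ i < n, f i = true := by
  induction n with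
  | zero => simp [allN]
  | succ n ih =>
    change (f n && allN n f) = true ↔ _
    rw [Bool.and_eq_true, ih, Nat.forall_lt_succ_right, and_comm]

def fld (T k m i : ℕ) : ℕ := Nat.mod (Nat.shiftRight T (Nat.mul k i)) m

def lk (T a : ℕ) : ℕ := Nat.mod (Nat.shiftRight T (Nat.mul 8 a)) 256

def ix (U w : ℕ) : ℕ := Nat.mod (Nat.shiftRight U (Nat.mul 6 w)) 64

def ya (U w a : ℕ) : ℕ := lk YT (Nat.add (Nat.mul 256 (ix U w)) a)

def UL (L : ℕ) : ℕ := fld ULT 48 (2 ^ 48) L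

def run (g n : ℕ) : ℕ → ℕ → ℕ → ℕ → ℕ :=
  Nat.rec (fun _ _ _ a => a)
    (fun _ ih ws U U' a => ih (Nat.div ws 8) U' U (lk g (ya U (Nat.mod ws 8) a))) n

def tstA (e b f : ℕ) : Bool :=
  Nat.blt b 16 && ((Nat.beq b 1 && Nat.blt e 16 && Nat.ble 16 f) || (Nat.beq f 1 && Nat.ble 16 e))

def tstC (U b f f1 : ℕ) : Bool :=
  Nat.beq b 1 && Nat.ble 128 f && !(Nat.beq (ya U (Nat.mod (Nat.div (Nat.xor f f1) 16) 8) f) f1)

def chk1 (g U U' ty e w n ws : ℕ) : Bool :=
  cond (Nat.beq ty 0) (tstA e (run g n ws U' U (lk g 1)) (run g n ws U' U (lk g e)))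
    (tstC (cond (Nat.beq (Nat.mod n 2) 0) U' U) (run g n ws U' U (lk g 1)) (run g n ws U' U (lk g e))
      (run g n ws U' U (lk g (ya U w e))))

def chk2 (g U U' ce : ℕ) : Bool :=
  chk1 g U U' (Nat.mod (Nat.div ce 2) 2) (Nat.mod (Nat.div ce 4) 256) (Nat.mod (Nat.div ce 1024) 8)
    (Nat.mod (Nat.div ce 8192) 8) (Nat.div ce 65536)

def chk (g U U' ce : ℕ) : Bool := cond (Nat.beq (Nat.mod ce 2) 0) (chk2 g U U' ce) (chk2 g U' U ce)

def okL (X : List ℕ) (g U j L i : ℕ) : Bool :=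
  cond (Nat.beq i 0) (X.contains (512 * j + L)) (chk g U (UL L) (fld DICT 32 4294967296 i))

def okJ (X : List ℕ) (g U I j : ℕ) : Bool := allN 512 fun L => okL X g U j L (fld I 10 1024 L)

def okT (X : List ℕ) (r : ℕ) (IX : List ℕ) : Bool :=
  allN 30 fun j => okJ X (GT.getD j 0) (UL r) (IX.getD j 0) j

theorem lk_lt (T a : ℕ) : lk T a < 256 := Nat.mod_lt _ (by decide)

theorem ya_lt (U w a : ℕ) : ya U w a < 256 := lk_lt _ _

theorem ix_lt (U w : ℕ) : ix U w < 64 := Nat.mod_lt _ (by decide)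

theorem tab1 : allN 64 (fun i => allN 256 fun a => app (MT.getD i []) a == lk YT (256 * i + a) &&
    (decide (a < 128) || (a ^^^ lk YT (256 * i + a)) / 16 % 8 == i / 8)) = true := by decide +kernel

theorem tab2 : allN 512 (fun L => lR L == (List.range 8).map (fun w => MT.getD (ix (UL L) w) []) &&
    allN 8 fun w => ix (UL L) w / 8 == w) = true := by decide +kernel

theorem tab3 : allN 30 (fun j => isoB (GM.getD j []) (GM.getD j []) && app (GM.getD j []) 1 == 128 &&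
    allN 256 fun a => app (GM.getD j []) a == lk (GT.getD j 0) a) = true := by decide +kernel

def zm (a : ℕ) : Bool := Nat.beq (Nat.mod (Nat.shiftRight ZM a) 2) 1

theorem tab4 : allN 256 (fun a => !(a != 0 && qN a == 0 && polN a 1 == 0 && polN a 128 == 0) ||
    (zm a && ZS.contains a)) = true := by decide +kernel

def cmb (a b d : ℕ) : List ℕ := [a, b, d, Nat.xor a b, Nat.xor a d, Nat.xor b d, Nat.xor (Nat.xor a b) d]

theorem tab5 : ZS.all (fun a => ZS.all fun b => !(zm (Nat.xor a b)) || ZS.all fun d =>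
    !(zm (Nat.xor a d) && zm (Nat.xor b d) && zm (Nat.xor (Nat.xor a b) d)) ||
    !(allN 30 fun j => !((cmb a b d).contains (lk (GT.getD j 0) 2) &&
      (cmb a b d).contains (lk (GT.getD j 0) 4) && (cmb a b d).contains (lk (GT.getD j 0) 8)))) = true := by
  decide +kernel

variable {V : Type*} [AddCommGroup V] [Module (ZMod 2) V] [Finite V] {q : QuadraticForm (ZMod 2) V}
variable {H : Subgroup (ofQuad q).Isom} {S : Set V} {E : V → Submodule (ZMod 2) V}
  {R : V → Subgroup (ofQuad q).Isom} {c c' : ℕ → V} {g U U' : ℕ}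

structure One (S : Set V) (E : V → Submodule (ZMod 2) V) (R : V → Subgroup (ofQuad q).Isom)
    (c : ℕ → V) (U : ℕ) : Prop where
  cd : Cd q c
  s : c 1 ∈ S
  memE : ∀ a < 256, c a ∈ E (c 1) ↔ a < 16
  toR : ∀ w < 8, ∃ y ∈ R (c 1), ∀ a < 256, y.1 (c a) = c (ya U w a)
  ofR : ∀ y ∈ R (c 1), ∃ w < 8, ∀ a < 256, y.1 (c a) = c (ya U w a)
  cls : ∀ w < 8, ix U w / 8 = w

structure Two (S : Set V) (E : V → Submodule (ZMod 2) V) (R : V → Subgroup (ofQuad q).Isom)
    (g : ℕ) (c c' : ℕ → V) (U U' : ℕ) : Prop where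
  l : One S E R c U
  r : One S E R c' U'
  lr : ∀ a < 256, c' (lk g a) = c a
  rl : ∀ a < 256, c (lk g a) = c' a

theorem Two.symm (h : Two S E R g c c' U U') : Two S E R g c' c U' U := ⟨h.r, h.l, h.rl, h.lr⟩

theorem tab1' {i a : ℕ} (hi : i < 64) (ha : a < 256) : app (MT.getD i []) a = lk YT (256 * i + a) ∧
    (128 ≤ a → (a ^^^ lk YT (256 * i + a)) / 16 % 8 = i / 8) := by
  have := allN_iff.1 (allN_iff.1 tab1 i hi) a ha
  simp only [Bool.and_eq_true, Bool.or_eq_true, beq_iff_eq, decide_eq_true_eq] at this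
  exact ⟨this.1, fun h => this.2.resolve_left (by omega)⟩

theorem one_of {L : ℕ} (hc : Cd q c) (h1 : c 1 ∈ S) (hL : L < 512)
    (h : At c E R ⟨1, List.range 16, lR L⟩) : One S E R c (UL L) := by
  have := allN_iff.1 tab2 L hL
  simp only [Bool.and_eq_true, beq_iff_eq, allN_iff] at this
  rw [this.1] at h
  refine ⟨hc, h1, fun a ha => (h.memE a ha).trans List.mem_range, fun w hw => ?_, fun y hy => ?_, this.2⟩
  · obtain ⟨y, hy, e⟩ := h.toR _ (List.mem_map.2 ⟨w, List.mem_range.2 hw, rfl⟩)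
    exact ⟨y, hy, fun a ha => by rw [e.2 a ha, (tab1' (ix_lt _ _) ha).1]; rfl⟩
  · obtain ⟨_, hM, e⟩ := h.ofR y hy
    obtain ⟨w, hw, rfl⟩ := List.mem_map.1 hM
    exact ⟨w, List.mem_range.1 hw, fun a ha => by rw [e.2 a ha, (tab1' (ix_lt _ _) ha).1]; rfl⟩

variable (hv : VD H S E R 4)
include hv

theorem run_ok (n : ℕ) : ∀ (ws : ℕ) {c c' : ℕ → V} {U U' : ℕ}, Two S E R g c c' U U' →
    ∃ d, One S E R d (cond (Nat.beq (Nat.mod n 2) 0) U U') ∧ ∃ h ∈ H, ∀ a < 256,
      run g n ws U U' a < 256 ∧ h.1 (c a) = d (run g n ws U U' a) := by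
  induction n with
  | zero => exact fun ws c c' U U' t => ⟨c, t.l, 1, one_mem _, fun a ha => ⟨ha, rfl⟩⟩
  | succ n ih =>
    intro ws c c' U U' t
    obtain ⟨d, h1, h, hh, h2⟩ := ih (Nat.div ws 8) t.symm
    obtain ⟨y, hy, e⟩ := t.l.toR (Nat.mod ws 8) (Nat.mod_lt _ (by decide))
    refine ⟨d, ?_, h * y, mul_mem hh (hv.le _ t.l.s hy), fun a ha => ?_⟩
    · change One S E R d (cond (Nat.beq ((n + 1) % 2) 0) U U')
      change One S E R d (cond (Nat.beq (n % 2) 0) U' U) at h1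
      rcases Nat.mod_two_eq_zero_or_one n with k | k <;> rw [Nat.add_mod, k] <;> rwa [k] at h1
    · rw [Form.Isom.mul_apply, e a ha, ← t.lr _ (ya_lt _ _ _)]
      exact h2 _ (lk_lt _ _)

theorem chk1_ok (t : Two S E R g c c' U U') {ty e w n ws : ℕ} (he : e < 256) (hw : w < 8) :
    chk1 g U U' ty e w n ws ≠ true := by
  obtain ⟨d, o, h, hh, k⟩ := run_ok hv n ws t.symm
  have k' : ∀ a < 256, run g n ws U' U (lk g a) < 256 ∧ h.1 (c a) = d (run g n ws U' U (lk g a)) :=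
    fun a ha => t.lr a ha ▸ k _ (lk_lt _ _)
  obtain ⟨b1, b2⟩ := k' 1 (by decide)
  obtain ⟨f1, f2⟩ := k' e he
  obtain ⟨g1, g2⟩ := k' _ (ya_lt U w e)
  have eE := hv.eqE h hh _ t.l.s (c e)
  rw [b2, f2, t.l.memE e he] at eE
  unfold chk1
  generalize run g n ws U' U (lk g 1) = b at *
  generalize run g n ws U' U (lk g e) = f at *
  generalize run g n ws U' U (lk g (ya U w e)) = f' at *
  generalize cond (Nat.beq (Nat.mod n 2) 0) U' U = W at *
  cases Nat.beq ty 0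
  · simp only [cond, tstC, Bool.and_eq_true, Nat.beq_eq, Nat.ble_eq, Bool.not_eq_true', ne_eq]
    rintro ⟨⟨rfl, a2⟩, a3⟩
    obtain ⟨y, hy, e1⟩ := t.l.toR w hw
    obtain ⟨w', w1, w2⟩ := o.ofR _ (b2 ▸ (hv.eqR h hh _ t.l.s y).2 hy)
    have := w2 f f1
    rw [← f2, Form.Isom.mul_apply, Form.Isom.mul_apply, Form.Isom.inv_apply_apply, e1 e he, g2,
      o.cd.eq_iff g1 (ya_lt _ _ _)] at this
    have z := (tab1' (ix_lt W w') f1).2 a2
    rw [o.cls w' w1] at z
    subst this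
    change Nat.beq (ya W ((f ^^^ lk YT (256 * ix W w' + f)) / 16 % 8) f) _ = false at a3
    rw [z, Nat.beq_refl] at a3
    cases a3
  · simp only [cond, tstA, Bool.and_eq_true, Bool.or_eq_true, Nat.beq_eq, Nat.ble_eq, Nat.blt_eq, ne_eq]
    rintro ⟨a1, ⟨⟨rfl, a2⟩, a3⟩ | ⟨rfl, a2⟩⟩
    · have := (o.memE f f1).1 (eE.2 a2)
      omega
    · have := eE.1 (hv.symm _ (b2 ▸ hv.inv h hh _ t.l.s) _ o.s ((o.memE b b1).2 a1))
      omega

theorem chk_ok (t : Two S E R g c c' U U') (ce : ℕ) : chk g U U' ce ≠ true := by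
  unfold chk
  cases Nat.beq (Nat.mod ce 2) 0
  · exact chk1_ok hv t.symm (Nat.mod_lt _ (by decide)) (Nat.mod_lt _ (by decide))
  · exact chk1_ok hv t (Nat.mod_lt _ (by decide)) (Nat.mod_lt _ (by decide))

theorem okT_ok {X IX : List ℕ} {r j L : ℕ} (h : okT X r IX = true) (hj : j < 30) (hL : L < 512)
    (t : Two S E R (GT.getD j 0) c c' (UL r) (UL L)) : 512 * j + L ∈ X := by
  have := allN_iff.1 (allN_iff.1 h j hj) L hL
  unfold okL at this
  revert this
  cases Nat.beq _ 0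
  · exact fun e => absurd e (chk_ok hv t _)
  · exact fun e => List.contains_iff_mem.1 e

end H7.ZL
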