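import Mathlib
import Cfsg.Agent.H7.ZL1

/-! Width four, free case: certificates on lists of points. -/

set_option autoImplicit false
set_option maxRecDepth 100000
set_option linter.all false

namespace H7.ZL

open Subgroup H24 H15 H15.XP H6.XS

inductive Ce
  | k1 (d d' : ℕ × List ℕ)
  | ax (d1 d2 d3 d4 : ℕ × List ℕ) (y x : ℕ)
  | nm (M N : List ℕ) (ds : List (ℕ × List ℕ))

structure Ex where
  g1 : List (ℕ × ℕ)
  g2 : List (ℕ × ℕ)
  ex : List (ℕ × List ℕ × List ℕ × List Ce)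

def p0 (L : ℕ) : Pt := ⟨1, List.range 16, lR L⟩

def pt (n : ℕ) : Pt := (p0 (n % 512)).mv (GM.getD (n / 512) []) (GM.getD (n / 512) [])

def gens (ps : List Pt) : List (List ℕ) := ps.flatMap (·.R)

def der (ps : List Pt) (d : ℕ × List ℕ) : Pt :=
  (ps.getD d.1 (p0 0)).mv (evM (gens ps) d.2) (evM (gens ps) d.2.reverse)

def okD (ps : List Pt) (d : ℕ × List ℕ) : Bool :=
  decide (d.1 < ps.length) && H6.XS.cmp (evM (gens ps) d.2) (evM (gens ps) d.2.reverse) == idM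

def axB (v r e e' : Pt) (y : List ℕ) (x : ℕ) : Bool :=
  polN v.u r.u == 0 && v.E.contains e.u && r.E.contains e.u && e.u != v.u && v.R.contains y &&
    decide (x < 256) && polN v.u x == 1 && v.E.contains (app y x ^^^ x ^^^ r.u) && !(e.R.contains y) &&
    e'.u == e.u ^^^ v.u && !(e'.R.contains y)

def res (ps : List Pt) (oq : Option (List Pt)) : Ce → Bool
  | .k1 d d' => okD ps d && okD ps d' && (der ps d).u == (der ps d').u && !(der ps d).sameB (der ps d')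
  | .ax d1 d2 d3 d4 y x => okD ps d1 && okD ps d2 && okD ps d3 && okD ps d4 &&
      axB (der ps d1) (der ps d2) (der ps d3) (der ps d4) ((der ps d1).R.getD y []) x
  | .nm M N ds => oq.any fun qs => isoB N M && ds.all (okD ps) &&
      qs.all fun p => ds.any fun d => ((der ps d).mv M N).sameB p

def grow (gs : List (List ℕ)) : List (ℕ × ℕ) → List ℕ → List ℕ
  | [], acc => acc
  | p :: cs, acc => grow gs cs (cond (acc.contains p.2) (app (evM gs [p.1]) p.2 :: acc) acc)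

def extB (d : Dat) (x : Ex) (r : ℕ) (X : List ℕ) (oq : Option (List Pt)) : Bool :=
  d.S.all (fun a => decide (a < 256) && (grow (gens d.pts) x.g1 [1]).contains a) &&
  d.pts.all (fun p => d.S.contains p.u) && d.pts.any (fun p => p.sameB (p0 r)) &&
  allN 256 (fun a => a == 0 || qN a != 0 || d.S.contains a ||
    (grow (gens d.pts) x.g2 (x.ex.map Prod.fst)).contains a) &&
  x.ex.all fun t => isoB t.2.2.1 t.2.1 && app t.2.2.1 128 == t.1 &&
    ((p0 r).mv t.2.1 t.2.2.1).sameB (p0 r) &&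
    X.all fun n => t.2.2.2.any (res ((pt n).mv t.2.2.1 t.2.1 :: d.pts) oq)

theorem grow_ok {P : ℕ → Prop} {gs : List (List ℕ)} (h : ∀ i a, P a → P (app (evM gs [i]) a)) :
    ∀ (cs : List (ℕ × ℕ)) (acc : List ℕ), (∀ a ∈ acc, P a) → ∀ a ∈ grow gs cs acc, P a
  | [], _, k => k
  | p :: cs, acc, k => grow_ok h cs _ (by
    cases e : acc.contains p.2
    · exact k
    · exact List.forall_mem_cons.2 ⟨h _ _ (k _ (List.contains_iff_mem.1 e)), k⟩)

variable {V : Type*} [AddCommGroup V] [Module (ZMod 2) V] [Finite V] {q : QuadraticForm (ZMod 2) V}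
variable {H : Subgroup (ofQuad q).Isom} {S : Set V} {E : V → Submodule (ZMod 2) V}
  {R : V → Subgroup (ofQuad q).Isom} {c : ℕ → V} {ps : List Pt} {M N : List ℕ} {p p' : Pt}

def St (S : Set V) (E : V → Submodule (ZMod 2) V) (R : V → Subgroup (ofQuad q).Isom) (c : ℕ → V)
    (ps : List Pt) : Prop := Cd q c ∧ ∀ p ∈ ps, c p.u ∈ S ∧ At c E R p

theorem chg (E : V → Submodule (ZMod 2) V) (R : V → Subgroup (ofQuad q).Isom) (hc : Cd q c)
    (e : isoB N M = true) : ∃ c', Cd q c' ∧ (∀ a < 256, c' a = c (app N a)) ∧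
      (∀ a < 256, c' (app M a) = c a) ∧ (∀ p, At c E R p → At c' E R (p.mv M N)) ∧
      ∀ p, At c' E R p → At c E R (p.mv N M) := by
  obtain ⟨h, h1⟩ := hc.exists_isom e
  simp only [isoB, Bool.and_eq_true, decide_eq_true_eq, beq_iff_eq] at e
  have h2 := hc.rp_inv h1 e.1.1.1.2 e.1.1.2
  have k : ∀ a < 256, h.1 (c (app M a)) = c a := fun a ha => by
    rw [← h2.2 a ha, Form.Isom.apply_inv_apply]
  refine ⟨_, hc.comp h, h1.2, k, fun p hp => hp.chg hc h1 h2, fun p hp => ?_⟩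
  have := hp.chg (h := h⁻¹) (M := N) (N := M) (hc.comp h) ⟨h2.1, fun a ha => by
    beta_reduce; rw [Form.Isom.inv_apply_apply, k a ha]⟩ ⟨h1.1, fun a ha => by
    beta_reduce; rw [inv_inv, h1.2 a ha]⟩
  simpa only [Form.Isom.inv_apply_apply] using this

theorem mem_R (hc : Cd q c) (hp : At c E R p) {y : (ofQuad q).Isom} (hy : y ∈ R (c p.u))
    (h : Rp c y M) : M ∈ p.R :=
  let ⟨_, a, b⟩ := hp.ofR y hy; hc.uniq b h ▸ a

theorem same_of (hc : Cd q c) (hp : At c E R p) (hp' : At c E R p') (e : p.u = p'.u) :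
    p.sameB p' = true := by
  simp only [Pt.sameB, Bool.and_eq_true, beq_iff_eq, List.all_eq_true, List.contains_iff_mem]
  refine ⟨⟨⟨⟨e, fun a ha => ?_⟩, fun a ha => ?_⟩, fun M hM => ?_⟩, fun M hM => ?_⟩
  · exact (hp'.memE a (hp.ltE a ha)).1 (e ▸ (hp.memE a (hp.ltE a ha)).2 ha)
  · exact (hp.memE a (hp'.ltE a ha)).1 (e ▸ (hp'.memE a (hp'.ltE a ha)).2 ha)
  · obtain ⟨y, a, b⟩ := hp.toR M hM
    exact mem_R hc hp' (e ▸ a) b
  · obtain ⟨y, a, b⟩ := hp'.toR M hM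
    exact mem_R hc hp (e ▸ a) b

theorem same_u (e : p.sameB p' = true) : p.u = p'.u := by
  simp only [Pt.sameB, Bool.and_eq_true, beq_iff_eq] at e
  exact e.1.1.1.1

theorem axB_ok (ax : AX S E R) (hc : Cd q c) {v r e e' : Pt} (hv : c v.u ∈ S ∧ At c E R v)
    (hr : c r.u ∈ S ∧ At c E R r) (he : c e.u ∈ S ∧ At c E R e) (he' : At c E R e') {x : ℕ} :
    axB v r e e' M x ≠ true := by
  simp only [axB, Bool.and_eq_true, beq_iff_eq, List.contains_iff_mem, bne_iff_ne, decide_eq_true_eq,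
    Bool.not_eq_true', ne_eq, ← Bool.not_eq_true]
  rintro ⟨⟨⟨⟨⟨⟨⟨⟨⟨⟨a1, a2⟩, a3⟩, a4⟩, a5⟩, a6⟩, a7⟩, a8⟩, a9⟩, a10⟩, a11⟩
  obtain ⟨y, hy, m⟩ := hv.2.toR M a5
  have l := app_lt m.1 x
  rcases ax _ hv.1 _ hr.1 _ he.1 ((hc.pol0 hv.2.lt hr.2.lt).2 a1) ((hv.2.memE _ he.2.lt).2 a2)
    ((hr.2.memE _ he.2.lt).2 a3) (fun k => a4 ((hc.eq_iff he.2.lt hv.2.lt).1 k)) y hy (c x)
    ((hc.pol1 hv.2.lt a6).2 a7) (by
      rw [m.2 x a6, ← hc.add _ l _ a6, ← hc.add _ (xor_lt l a6) _ hr.2.lt]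
      exact (hv.2.memE _ (xor_lt (xor_lt l a6) hr.2.lt)).2 a8) with k | ⟨-, k⟩
  · exact a9 (mem_R hc he.2 k m)
  · exact a11 (mem_R hc he' (by rwa [a10, hc.add _ he.2.lt _ hv.2.lt]) m)

variable (hv : VD H S E R 4)
include hv

theorem St.ev (h : St S E R c ps) (w : List ℕ) : ∃ y ∈ H, Rp c y (evM (gens ps) w) :=
  h.1.evM (fun M hM => by
    obtain ⟨p, hp, m⟩ := List.mem_flatMap.1 hM
    obtain ⟨y, a, b⟩ := (h.2 p hp).2.toR M m
    exact ⟨y, hv.le _ (h.2 p hp).1 a, b⟩) w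

theorem St.der (h : St S E R c ps) {d : ℕ × List ℕ} (e : okD ps d = true) :
    c (der ps d).u ∈ S ∧ At c E R (der ps d) := by
  simp only [okD, Bool.and_eq_true, decide_eq_true_eq, beq_iff_eq] at e
  obtain ⟨y, a, b⟩ := h.ev hv d.2
  obtain ⟨y', -, b'⟩ := h.ev hv d.2.reverse
  have m := h.2 (ps.getD d.1 (p0 0)) (by rw [List.getD_eq_getElem _ _ e.1]; exact List.getElem_mem _)
  exact ⟨b.2 _ m.2.lt ▸ hv.inv y a _ m.1, m.2.mv hv h.1 m.1 a b (h.1.rp_inv b b'.1 e.2)⟩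

theorem St.res (ax : AX S E R) (h : St S E R c ps) {oq : Option (List Pt)} {ce : Ce}
    (e : res ps oq ce = true) : ∃ qs, oq = some qs ∧ ∃ c', St S E R c' qs := by
  cases ce with
  | k1 d d' =>
    simp only [ZL.res, Bool.and_eq_true, beq_iff_eq, Bool.not_eq_true'] at e
    rw [same_of h.1 (h.der hv e.1.1.1).2 (h.der hv e.1.1.2).2 e.1.2] at e
    cases e.2
  | ax d1 d2 d3 d4 y x =>
    simp only [ZL.res, Bool.and_eq_true] at e
    exact absurd e.2 (axB_ok ax h.1 (h.der hv e.1.1.1.1) (h.der hv e.1.1.1.2) (h.der hv e.1.1.2)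
      (h.der hv e.1.2).2)
  | nm M N ds =>
    cases oq with
    | none => cases e
    | some qs =>
      simp only [ZL.res, Option.any_some, Bool.and_eq_true, List.all_eq_true, List.any_eq_true] at e
      obtain ⟨c', a1, -, a3, a4, -⟩ := chg E R h.1 e.1.1
      refine ⟨qs, rfl, c', a1, fun p hp => ?_⟩
      obtain ⟨d, d1, d2⟩ := e.2 p hp
      have m := h.der hv (e.1.2 d d1)
      exact ⟨same_u d2 ▸ (a3 _ m.2.lt).symm ▸ m.1, (a4 _ m.2).same d2⟩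

theorem pair (hf : ¬ Eich S R) (hi : IrrV H) {X IX : List ℕ} {r : ℕ} (hr : r < 512)
    (e : okT X r IX = true) (hc : Cd q c) (h1 : c 1 ∈ S) (h0 : At c E R (p0 r)) (hx : c 128 ∈ S) :
    ∃ n ∈ X, (pt n).u = 128 ∧ At c E R (pt n) := by
  obtain ⟨k, hk, k1, k2, k3⟩ := ZL.frame hv (ZL.fe_all hv hf hx)
    ((hc.pol1 (a := 128) (b := 1) (by decide) (by decide)).2 (by decide)) (hv.sing h1)
  have z : ∀ a < 256, ∀ m ∈ [2, 4, 8, 6, 10, 12, 14], c a = k m →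
      c a ∈ E (c 128) ∧ zm a = true ∧ a ∈ ZS := fun a ha m hm e => by
    obtain ⟨m1, m2, m3, m4, m5⟩ := (by decide : ∀ m ∈ [2, 4, 8, 6, 10, 12, 14],
      m < 16 ∧ m ≠ 0 ∧ qN m = 0 ∧ polN m 128 = 0 ∧ polN m 1 = 0) m hm
    have m6 : m < 256 := by omega
    have t := allN_iff.1 tab4 a ha
    simp only [Bool.or_eq_true, Bool.not_eq_true', Bool.and_eq_true, List.contains_iff_mem,
      ← Bool.not_eq_true, bne_iff_ne, beq_iff_eq] at t
    exact ⟨e ▸ (k3 m m6).2 m1, t.resolve_left (not_not.2 ⟨⟨⟨fun a0 => m2 (hk.inj m m6 (by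
      rw [← e, a0, hc.zero])), (hc.q0 ha).1 (e ▸ (hk.q0 m6).2 m3)⟩,
      (hc.pol0 ha (by decide)).1 (by rw [e, ← k2]; exact (hk.pol0 m6 (by decide)).2 m4)⟩,
      (hc.pol0 ha (by decide)).1 (by rw [e, ← k1]; exact (hk.pol0 m6 (by decide)).2 m5)⟩)⟩
  obtain ⟨a, ha, ea⟩ := hc.surj (k 2)
  obtain ⟨b, hb, eb⟩ := hc.surj (k 4)
  obtain ⟨d, hd, ed⟩ := hc.surj (k 8)
  have e1 : c (a ^^^ b) = k 6 := by rw [hc.add a ha b hb, ea, eb, ← hk.add] <;> first | rfl | decide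
  have z1 := z a ha 2 (by decide) ea
  have z2 := z b hb 4 (by decide) eb
  have z3 := z d hd 8 (by decide) ed
  have z4 := z _ (xor_lt ha hb) 6 (by decide) e1
  have z5 := z _ (xor_lt ha hd) 10 (by decide)
    (by rw [hc.add a ha d hd, ea, ed, ← hk.add] <;> first | rfl | decide)
  have z6 := z _ (xor_lt hb hd) 12 (by decide)
    (by rw [hc.add b hb d hd, eb, ed, ← hk.add] <;> first | rfl | decide)
  have z7 := z _ (xor_lt (xor_lt ha hb) hd) 14 (by decide)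
    (by rw [hc.add _ (xor_lt ha hb) d hd, e1, ed, ← hk.add] <;> first | rfl | decide)
  have t := tab5
  simp only [List.all_eq_true, Bool.or_eq_true, Bool.not_eq_true', ← Bool.not_eq_true, allN_iff,
    Bool.and_eq_true, List.contains_iff_mem, not_forall, not_not] at t
  obtain ⟨j, hj, ⟨t1, t2⟩, t3⟩ := (((t a z1.2.2 b z2.2.2).resolve_left (not_not.2 z4.2.1)) d
    z3.2.2).resolve_left (not_not.2 ⟨⟨z5.2.1, z6.2.1⟩, z7.2.1⟩)
  have cm : ∀ x ∈ cmb a b d, c x ∈ E (c 128) := by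
    simp only [cmb, List.forall_mem_cons]
    exact ⟨z1.1, z2.1, z3.1, z4.1, z5.1, z6.1, z7.1, by simp⟩
  have s := allN_iff.1 tab3 j hj
  simp only [Bool.and_eq_true, beq_iff_eq, allN_iff] at s
  obtain ⟨c', a1, a2, a3, -, a5⟩ := chg E R hc s.1.1
  have b1 : c' 1 = c 128 := by rw [a2 1 (by decide), s.1.2]
  have b2 : ∀ m < 256, lk (GT.getD j 0) m ∈ cmb a b d → c' m ∈ E (c 128) := fun m hm k => by
    rw [a2 m hm, s.2 m hm]; exact cm _ k
  have b3 : ∀ m ∈ [0, 1, 2, 4, 8], c' m ∈ E (c 128) := by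
    simp only [List.forall_mem_cons]
    exact ⟨a1.zero ▸ zero_mem _, by rw [b1]; exact hv.memE _ hx, b2 2 (by decide) t1, b2 4 (by decide) t2,
      b2 8 (by decide) t3, by simp⟩
  obtain ⟨L, hL, m⟩ := hv.free_nf hi hf a1 (b1 ▸ hx) fun a ha => by
    rw [b1]
    refine ⟨fun k => (by decide +kernel : ∀ a < 256, polN a 1 = 0 → polN a 2 = 0 → polN a 4 = 0 →
      polN a 8 = 0 → a < 16) a ha ?_ ?_ ?_ ?_, fun k => ?_⟩
    iterate 4 exact (a1.pol0 ha (by decide)).1 (hv.perpE hx k (b3 _ (by decide)))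
    obtain ⟨i, i1, i2, j, j1, j2, l, l1, l2, n, n1, n2, rfl⟩ := (by decide +kernel : ∀ a < 16,
      ∃ i ∈ [0, 1, 2, 4, 8], i < 256 ∧ ∃ j ∈ [0, 1, 2, 4, 8], j < 256 ∧ ∃ l ∈ [0, 1, 2, 4, 8], l < 256 ∧
      ∃ n ∈ [0, 1, 2, 4, 8], n < 256 ∧ a = i ^^^ j ^^^ l ^^^ n) a k
    rw [a1.add _ (xor_lt (xor_lt i2 j2) l2) _ n2, a1.add _ (xor_lt i2 j2) _ l2, a1.add _ i2 _ j2]
    exact add_mem (add_mem (add_mem (b3 _ i1) (b3 _ j1)) (b3 _ l1)) (b3 _ n1)
  refine ⟨_, okT_ok hv e hj hL ⟨one_of hc h1 hr h0, one_of a1 (b1 ▸ hx) hL m,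
    fun a ha => s.2 a ha ▸ a3 a ha, fun a ha => s.2 a ha ▸ (a2 a ha).symm⟩, ?_⟩
  rw [pt, show (512 * j + L) % 512 = L by omega, show (512 * j + L) / 512 = j by omega]
  exact ⟨s.1.2, a5 _ m⟩

/-- the list of possible opposite points -/
def Pr (S : Set V) (E : V → Submodule (ZMod 2) V) (R : V → Subgroup (ofQuad q).Isom) (r : ℕ)
    (X : List ℕ) : Prop :=
  ∀ c, Cd q c → c 1 ∈ S → At c E R (p0 r) → c 128 ∈ S → ∃ n ∈ X, (pt n).u = 128 ∧ At c E R (pt n)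

omit hv in
theorem st2 {r n : ℕ} (hc : Cd q c) (h1 : c 1 ∈ S) (h0 : At c E R (p0 r)) (hx : c 128 ∈ S)
    (h : (pt n).u = 128 ∧ At c E R (pt n)) : St S E R c [p0 r, pt n] :=
  ⟨hc, by simp only [List.forall_mem_cons]; exact ⟨⟨h1, h0⟩, ⟨h.1 ▸ hx, h.2⟩, by simp⟩⟩

theorem ext (ax : AX S E R) {d : Dat} {x : Ex} {r : ℕ} {X : List ℕ} {oq : Option (List Pt)}
    (e : extB d x r X oq = true) (P : Pr S E R r X) (h : St S E R c d.pts) :
    Cs c S E R d ∨ ∃ qs, oq = some qs ∧ ∃ c', St S E R c' qs := by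
  simp only [extB, Bool.and_eq_true, List.all_eq_true, List.any_eq_true, decide_eq_true_eq, allN_iff,
    List.contains_iff_mem, Bool.or_eq_true, beq_iff_eq, bne_iff_ne] at e
  obtain ⟨⟨⟨⟨e1, e2⟩, p, p1, p2⟩, e3⟩, e4⟩ := e
  have h1 : c 1 ∈ S := by rw [← show p.u = 1 from same_u p2]; exact (h.2 p p1).1
  have h0 := (h.2 p p1).2.same p2
  have mv : ∀ i a, a < 256 → app (evM (gens d.pts) [i]) a < 256 ∧
      (c (app (evM (gens d.pts) [i]) a) ∈ S ↔ c a ∈ S) := fun i a ha => by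
    obtain ⟨y, k1, k2⟩ := h.ev hv [i]
    rw [← k2.2 a ha]
    exact ⟨app_lt k2.1 a, fun k => by simpa using hv.inv _ (inv_mem k1) _ k, hv.inv y k1 _⟩
  by_cases hn : ∃ t ∈ x.ex, c t.1 ∈ S
  · obtain ⟨t, t1, t2⟩ := hn
    obtain ⟨⟨⟨f1, f2⟩, f3⟩, f4⟩ := e4 t t1
    obtain ⟨c', a1, a2, a3, a4, a5⟩ := chg E R h.1 f1
    obtain ⟨n, n1, n2, n3⟩ := P c' a1
      (by rwa [← show app t.2.1 1 = 1 from same_u f3, a3 1 (by decide)])
      ((a4 _ h0).same f3) (by rwa [a2 128 (by decide), f2])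
    obtain ⟨ce, -, k⟩ := f4 n n1
    refine Or.inr (St.res hv ax (c := c) ⟨h.1, List.forall_mem_cons.2 ⟨⟨?_, a5 _ n3⟩, h.2⟩⟩ k)
    change c (app _ (pt n).u) ∈ S
    rwa [n2, f2]
  refine Or.inl ⟨h.1, fun a ha => (e1 a ha).1, fun a ha => ⟨fun k => ?_, fun k => ?_⟩,
    fun p hp => ⟨e2 p hp, (h.2 p hp).2⟩⟩
  · rcases e3 a ha with ((f | f) | f) | f
    · exact absurd (by rw [f, h.1.zero]) (hv.ne0 _ k)
    · exact absurd ((h.1.q0 ha).1 (hv.sing k)) f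
    · exact f
    · refine absurd k (grow_ok (P := fun a => a < 256 ∧ c a ∉ S) (fun i a k =>
        ⟨(mv i a k.1).1, mt (mv i a k.1).2.1 k.2⟩) _ _ (fun a ha => ?_) a f).2
      obtain ⟨t, t1, rfl⟩ := List.mem_map.1 ha
      obtain ⟨⟨⟨f1, f2⟩, -⟩, -⟩ := e4 t t1
      simp only [isoB, Bool.and_eq_true, decide_eq_true_eq] at f1
      exact ⟨f2 ▸ app_lt f1.1.1.1.1 _, fun k => hn ⟨t, t1, k⟩⟩
  · exact (grow_ok (P := fun a => a < 256 ∧ c a ∈ S) (fun i a k =>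
      ⟨(mv i a k.1).1, (mv i a k.1).2.2 k.2⟩) _ _ (by simpa using h1) a (e1 a k).2).2

end H7.ZL
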