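import Mathlib
import Cfsg.Agent.H7.ZL2

set_option autoImplicit false
set_option maxRecDepth 100000
set_option linter.all false

namespace H7.ZL

open H6.XS

def XA0 : List (ℕ × Ce) := [(11266, .ax (0, []) (0, [15]) (0, [13]) (0, [1, 13]) 5 128),
  (11268, .ax (0, []) (0, [15]) (0, [11]) (0, [1, 11]) 3 128),
  (11272, .ax (0, []) (0, [15]) (0, [14]) (0, [2, 14]) 6 128),
  (11277, .ax (0, []) (0, [13]) (0, [14]) (0, [2, 14]) 7 128),
  (11296, .ax (0, []) (0, [15]) (0, [11]) (0, [1, 11]) 3 128),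
  (11314, .ax (0, []) (0, [14]) (0, [13]) (0, [1, 13]) 7 128),
  (11328, .ax (0, []) (0, [15]) (0, [14]) (0, [2, 14]) 6 128),
  (11331, .ax (0, []) (0, [11]) (0, [13]) (0, [1, 13]) 7 128),
  (11392, .ax (0, []) (0, [15]) (0, [13]) (0, [1, 13]) 5 128),
  (11416, .ax (0, []) (0, [11]) (0, [13]) (0, [1, 13]) 7 128),
  (11616, .ax (0, []) (0, [13]) (0, [14]) (0, [2, 14]) 7 128),
  (11652, .ax (0, []) (0, [14]) (0, [13]) (0, [1, 13]) 7 128),
  (11876, .ax (0, []) (0, [9]) (0, [11]) (0, [1, 11]) 4 128),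
  (11894, .ax (0, []) (0, [9]) (0, [14]) (0, [2, 14]) 6 128),
  (11914, .ax (0, []) (0, [9]) (0, [13]) (0, [1, 13]) 2 128),
  (11922, .ax (0, []) (0, [9]) (0, [13]) (0, [1, 13]) 2 128),
  (11938, .ax (0, []) (0, [9]) (0, [13]) (0, [1, 13]) 2 128),
  (11940, .ax (0, []) (0, [9]) (0, [11]) (0, [1, 11]) 4 128),
  (11946, .ax (0, []) (0, [9]) (0, [13]) (0, [1, 13]) 2 128),
  (11950, .ax (0, []) (0, [9]) (0, [14]) (0, [2, 14]) 6 128),
  (12004, .ax (0, []) (0, [9]) (0, [11]) (0, [1, 11]) 4 128),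
  (12006, .ax (0, []) (0, [9]) (0, [14]) (0, [2, 14]) 6 128),
  (12068, .ax (0, []) (0, [9]) (0, [11]) (0, [1, 11]) 4 128),
  (12174, .ax (0, []) (0, [9]) (0, [14]) (0, [2, 14]) 6 128),
  (12361, .ax (0, []) (0, [11]) (0, [13]) (0, [1, 13]) 7 128),
  (12362, .ax (0, []) (0, [12]) (0, [14]) (0, [2, 14]) 1 128),
  (12364, .ax (0, []) (0, [12]) (0, [14]) (0, [2, 14]) 1 128),
  (12366, .ax (0, []) (0, [12]) (0, [14]) (0, [2, 14]) 1 128),
  (12426, .ax (0, []) (0, [12]) (0, [13]) (0, [1, 13]) 2 128),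
  (12434, .ax (0, []) (0, [11]) (0, [13]) (0, [1, 13]) 7 128),
  (12450, .ax (0, []) (0, [12]) (0, [13]) (0, [1, 13]) 2 128),
  (12458, .ax (0, []) (0, [12]) (0, [13]) (0, [1, 13]) 2 128),
  (12494, .ax (0, []) (0, [12]) (0, [11]) (0, [1, 11]) 3 128),
  (12508, .ax (0, []) (0, [12]) (0, [11]) (0, [1, 11]) 3 128),
  (12515, .ax (0, []) (0, [12]) (0, [11]) (0, [1, 11]) 3 128),
  (12522, .ax (0, []) (0, [12]) (0, [11]) (0, [1, 11]) 3 128),
  (13014, .ax (0, []) (0, [9]) (0, [11, 3, 11]) (1, [12, 3]) 4 128),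
  (13385, .ax (0, []) (0, [10]) (0, [14]) (0, [2, 14]) 1 128),
  (13386, .ax (0, []) (0, [10]) (0, [14]) (0, [2, 14]) 1 128),
  (13388, .ax (0, []) (0, [10]) (0, [14]) (0, [2, 14]) 1 128),
  (13390, .ax (0, []) (0, [10]) (0, [14]) (0, [2, 14]) 1 128),
  (13412, .ax (0, []) (0, [10]) (0, [11]) (0, [1, 11]) 4 128),
  (13422, .ax (0, []) (0, [10]) (0, [13]) (0, [1, 13]) 5 128),
  (13476, .ax (0, []) (0, [10]) (0, [11]) (0, [1, 11]) 4 128),
  (13485, .ax (0, []) (0, [10]) (0, [13]) (0, [1, 13]) 5 128),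
  (13540, .ax (0, []) (0, [10]) (0, [11]) (0, [1, 11]) 4 128),
  (13548, .ax (0, []) (0, [10]) (0, [13]) (0, [1, 13]) 5 128),
  (13604, .ax (0, []) (0, [10]) (0, [11]) (0, [1, 11]) 4 128),
  (13674, .ax (0, []) (0, [10]) (0, [13]) (0, [1, 13]) 5 128),
  (14126, .ax (0, []) (0, [9]) (0, [13, 4, 11]) (1, [10, 5]) 2 128),
  (14569, .ax (0, []) (0, [10]) (0, [11, 3, 11]) (1, [12, 3]) 4 128),
  (14848, .ax (0, []) (0, [9]) (0, [14, 4, 11]) (1, [10, 1]) 6 128)]

def XS0 : List ℕ := [5632, 11264, 11943, 12746, 13436]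

def NM0 : List Ce := [.nm [1, 2, 15, 8, 49, 32, 96, 162] [1, 2, 15, 8, 49, 32, 96, 162] [(0, []), (1, [9, 5])],
  .nm [1, 4, 14, 8, 56, 16, 84, 128] [1, 14, 2, 8, 32, 56, 98, 128] [(0, []), (1, [])],
  .nm [1, 2, 14, 8, 56, 32, 98, 128] [1, 2, 14, 8, 56, 32, 98, 128] [(0, []), (1, [])],
  .nm [1, 8, 14, 2, 98, 32, 56, 128] [1, 8, 14, 2, 98, 32, 56, 128] [(0, []), (1, [])],
  .nm [1, 8, 2, 4, 64, 16, 32, 128] [1, 4, 8, 2, 32, 64, 16, 128] [(0, []), (1, [])]]

def XS1 : List ℕ := [14016]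

def NM1 : List Ce := [.nm [1, 4, 2, 8, 32, 16, 64, 128] [1, 4, 2, 8, 32, 16, 64, 128] [(0, []), (1, [])]]

def XS2 : List ℕ := [712, 1384, 3478, 5849]

def NM2 : List Ce := [.nm [1, 8, 10, 12, 122, 24, 32, 128] [1, 6, 10, 2, 34, 64, 118, 128] [(0, []), (1, [])],
  .nm [1, 10, 6, 2, 70, 40, 118, 128] [1, 8, 12, 10, 122, 42, 20, 128] [(0, []), (1, [])],
  .nm [1, 4, 2, 8, 34, 20, 64, 128] [1, 4, 2, 8, 34, 20, 64, 128] [(0, []), (1, [])],
  .nm [1, 4, 6, 12, 122, 20, 68, 128] [1, 6, 2, 10, 34, 124, 66, 128] [(0, []), (1, [])]]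

def XS3 : List ℕ := [11641, 12153, 12701, 13273, 13785, 14291, 14749, 15315]

def NM3 : List Ce := [.nm [1, 12, 6, 8, 48, 24, 118, 128] [1, 14, 10, 8, 40, 56, 84, 128] [(0, []), (1, [])],
  .nm [1, 2, 6, 10, 118, 34, 64, 128] [1, 2, 6, 10, 118, 34, 64, 128] [(0, []), (1, [])],
  .nm [1, 14, 4, 12, 28, 96, 94, 128] [1, 10, 4, 12, 24, 122, 90, 128] [(0, []), (1, [])],
  .nm [1, 8, 10, 6, 124, 62, 34, 128] [1, 6, 14, 2, 108, 70, 54, 128] [(0, []), (1, [])],
  .nm [1, 4, 14, 8, 56, 24, 90, 128] [1, 14, 2, 8, 40, 48, 110, 128] [(0, []), (1, [])],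
  .nm [1, 14, 12, 4, 28, 90, 108, 128] [1, 6, 8, 12, 20, 122, 62, 128] [(0, []), (1, [])],
  .nm [1, 2, 4, 12, 16, 108, 68, 128] [1, 2, 4, 12, 16, 108, 68, 128] [(0, []), (1, [])],
  .nm [1, 4, 2, 8, 34, 20, 64, 128] [1, 4, 2, 8, 34, 20, 64, 128] [(0, []), (1, [])]]

def e27 : Ex := ⟨[(9, 1), (10, 1), (11, 1), (12, 1), (13, 1), (14, 1), (15, 1), (2, 5), (4, 9), (2, 29), (4, 29), (6, 29), (1, 15), (1, 95), (2, 95), (3, 95), (1, 63), (4, 63), (5, 63), (1, 255), (2, 255), (3, 255), (4, 255), (5, 255), (6, 255), (7, 255)],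
  [(1, 162), (2, 162), (3, 162), (4, 162), (5, 162), (6, 162), (7, 162), (9, 162), (10, 162), (11, 162), (1, 132), (2, 132), (3, 132), (4, 132), (5, 132), (6, 132), (7, 132), (14, 132), (1, 136), (2, 136), (3, 136), (4, 136), (5, 136), (6, 136), (7, 136), (13, 136), (1, 142), (2, 142), (3, 142), (4, 142), (5, 142), (6, 142), (7, 142), (11, 142), (9, 187), (10, 187), (11, 187), (12, 187), (13, 187), (14, 187), (15, 187), (9, 130), (10, 130), (11, 130), (12, 130), (13, 130), (14, 130), (15, 130), (9, 147), (10, 147), (11, 147), (12, 147), (13, 147), (14, 147), (15, 147), (9, 224), (12, 224), (13, 224), (9, 252), (9, 194), (10, 194), (11, 194), (9, 215), (10, 215), (11, 215), (12, 215), (13, 215), (14, 215), (15, 215), (2, 118), (7, 138), (9, 165), (11, 165), (12, 165), (13, 165), (15, 165), (10, 196), (9, 250), (10, 250), (11, 250), (9, 168), (10, 201), (11, 201), (12, 201), (14, 201), (15, 201), (9, 246), (10, 246), (11, 246),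 (11, 159), (12, 159), (13, 159), (14, 159), (15, 159), (9, 236), (9, 240), (12, 240), (13, 240), (2, 217), (2, 65), (3, 198), (3, 110), (1, 42), (1, 2)],
  [(162, [1, 2, 5, 8, 25, 32, 66, 162], [1, 2, 5, 8, 25, 32, 66, 162], [.nm [1, 8, 15, 2, 97, 32, 48, 168] [1, 8, 15, 2, 96, 32, 49, 162] [(1, []), (0, [])], .k1 (0, [21]) (0, []), .k1 (0, [21]) (0, []), .k1 (0, [21]) (0, []), .k1 (0, [21]) (0, [])]),
   (132, [1, 2, 4, 8, 16, 33, 64, 132], [1, 2, 4, 8, 16, 33, 64, 132], [.k1 (0, [17]) (0, []), .k1 (0, [17]) (0, []), .k1 (0, [18]) (0, [9]), .k1 (0, [17]) (0, []), .k1 (0, [17]) (0, [])]),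
   (136, [1, 2, 4, 8, 16, 32, 65, 136], [1, 2, 4, 8, 16, 32, 65, 136], [.k1 (0, [18]) (0, []), .k1 (0, [18]) (0, []), .k1 (0, [17]) (0, [9]), .k1 (0, [18]) (0, []), .k1 (0, [18]) (0, [])]),
   (142, [1, 2, 4, 8, 17, 33, 65, 142], [1, 2, 4, 8, 17, 33, 65, 142], [.k1 (0, [20]) (0, []), .k1 (0, [20]) (0, []), .k1 (0, [17]) (0, [13]), .k1 (0, [20]) (0, []), .k1 (0, [20]) (0, [])])]⟩

def e81 : Ex := ⟨[(9, 1), (10, 1), (11, 1), (12, 1), (13, 1), (14, 1), (15, 1), (2, 17), (4, 17), (6, 17), (1, 33), (4, 33), (5, 33), (1, 65), (2, 65), (3, 65), (1, 57), (4, 57), (5, 57), (1, 85), (2, 85), (3, 85), (1, 99), (2, 99), (3, 99), (1, 255), (2, 255), (3, 255), (4, 255), (5, 255), (6, 255), (7, 255), (9, 25), (11, 25), (13, 25), (14, 25), (15, 25), (9, 21), (10, 21), (12, 21), (14, 21), (15, 21), (10, 28), (12, 28), (10, 41), (11, 41), (13, 41), (14, 41), (15, 41), (9, 42), (12, 42), (9, 70), (13, 70), (11, 49), (12, 49), (13, 49), (14, 49),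 (15, 49), (9, 62), (10, 62), (9, 94), (11, 94), (10, 110), (11, 110), (2, 5), (2, 175), (5, 175), (3, 187), (4, 187), (1, 123), (4, 123), (5, 123), (7, 123), (1, 235), (6, 235), (4, 9), (1, 231), (6, 231), (1, 3), (1, 15)],
  [(1, 134), (2, 134), (3, 134), (4, 134), (5, 134), (6, 134), (7, 134), (9, 134), (1, 138), (2, 138), (3, 138), (4, 138), (5, 138), (6, 138), (7, 138), (9, 138), (1, 140), (2, 140), (3, 140), (4, 140), (5, 140), (6, 140), (7, 140), (10, 140), (9, 151), (10, 151), (13, 151), (9, 190), (10, 190), (11, 190), (9, 198), (12, 198), (13, 198), (9, 155), (11, 155), (12, 155), (9, 170), (12, 170), (13, 170), (9, 222), (10, 222), (11, 222), (10, 156), (12, 156), (14, 156), (10, 173), (11, 173), (12, 173), (9, 238), (10, 238), (11, 238)],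
  [(134, [1, 2, 4, 8, 17, 33, 64, 134], [1, 2, 4, 8, 17, 33, 64, 134], [.k1 (0, [19]) (0, []), .k1 (0, [20]) (0, []), .k1 (0, [19]) (0, []), .k1 (0, [20]) (0, []), .k1 (0, [19]) (0, [])]),
   (138, [1, 2, 4, 8, 17, 32, 65, 138], [1, 2, 4, 8, 17, 32, 65, 138], [.k1 (0, [18]) (0, []), .k1 (0, [21]) (0, []), .k1 (0, [18]) (0, []), .k1 (0, [18]) (0, []), .k1 (0, [21]) (0, [])]),
   (140, [1, 2, 4, 8, 16, 33, 65, 140], [1, 2, 4, 8, 16, 33, 65, 140], [.k1 (0, [17]) (0, []), .k1 (0, [22]) (0, []), .k1 (0, [22]) (0, []), .k1 (0, [17]) (0, []), .k1 (0, [17]) (0, [])])]⟩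

def e15 : Ex := ⟨[(9, 1), (10, 1), (11, 1), (12, 1), (13, 1), (14, 1), (15, 1), (4, 9), (3, 65), (3, 249), (4, 249), (5, 249), (6, 249), (7, 249)],
  [(1, 152), (2, 152), (3, 152), (4, 152), (5, 152), (6, 152), (7, 152), (10, 152), (1, 130), (2, 130), (3, 130), (4, 130), (5, 130), (6, 130), (7, 130), (9, 130), (11, 130), (10, 136), (12, 136), (14, 136), (12, 176), (10, 168), (9, 218), (10, 218), (11, 218), (9, 207), (10, 207), (11, 207), (12, 207), (13, 207), (14, 207), (15, 207), (9, 240), (12, 240), (13, 240), (9, 236), (10, 236), (11, 236), (9, 147), (10, 147), (11, 147), (12, 147), (13, 147), (14, 147), (15, 147), (9, 162), (10, 162), (11, 162), (12, 162), (13, 162), (14, 162), (15, 162), (9, 187), (10, 187), (11, 187), (12, 187), (13, 187), (14, 187), (15, 187), (9, 208), (10, 208), (11, 208), (12, 208), (13, 208), (14, 208), (15, 208), (9, 231), (10, 231), (11, 231), (12, 231), (13, 231), (14, 231), (15, 231), (9, 250),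 (10, 250), (11, 250), (12, 250), (13, 250), (14, 250), (15, 250), (4, 170), (5, 170), (6, 170), (7, 170), (4, 108), (5, 108), (6, 108), (7, 108), (2, 165), (6, 165), (2, 181), (4, 181), (5, 181), (6, 181), (7, 181), (4, 55), (5, 55), (3, 255), (7, 255), (3, 119), (4, 119), (5, 119), (6, 119), (7, 119), (3, 84), (4, 84), (5, 84), (6, 84), (7, 84), (4, 34), (5, 34), (4, 29), (6, 29), (2, 159), (4, 159), (5, 159), (6, 159), (7, 159)],
  [(152, [1, 3, 4, 8, 16, 40, 69, 152], [1, 3, 4, 8, 16, 40, 69, 152], [.ax (0, []) (2, [12]) (2, []) (0, [18]) 2 1]),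
   (130, [1, 2, 4, 8, 17, 32, 64, 130], [1, 2, 4, 8, 17, 32, 64, 130], [.k1 (0, [22]) (0, [])])]⟩

def e75 : Ex := ⟨[(9, 1), (10, 1), (11, 1), (12, 1), (13, 1), (14, 1), (15, 1), (1, 15), (2, 17), (4, 17), (6, 17), (1, 151), (2, 151), (3, 151), (4, 151), (5, 151), (6, 151), (7, 151), (1, 71), (2, 71), (3, 71), (1, 203), (2, 203), (3, 203), (4, 203), (5, 203), (6, 203), (7, 203), (1, 255), (2, 255), (3, 255), (4, 255), (5, 255), (6, 255), (7, 255), (1, 123), (2, 123), (3, 123), (9, 24), (12, 24), (13, 24), (14, 20), (15, 20), (9, 189), (11, 189), (12, 189), (13, 189), (14, 189), (15, 189), (14, 212), (15, 212), (14, 192), (15, 192), (9, 68), (10, 68), (11, 68), (9, 235), (10, 235), (11, 235), (13, 235), (14, 235), (15, 235), (9, 215), (10, 215), (11, 215), (12, 215), (13, 215), (14, 215), (9, 112), (10, 112), (11, 112), (1, 144), (3, 144), (1, 43)],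
  [(1, 130), (2, 130), (3, 130), (4, 130), (5, 130), (6, 130), (7, 130), (10, 130), (9, 147), (10, 147), (11, 147), (12, 147), (14, 147), (15, 147), (9, 160), (9, 184), (12, 184), (13, 184), (9, 196), (10, 196), (11, 196), (9, 208), (10, 208), (11, 208), (9, 229), (10, 229), (11, 229), (12, 229), (13, 229), (14, 229), (15, 229), (2, 21), (6, 21), (2, 13), (1, 125), (2, 125), (1, 69), (3, 69), (3, 201), (4, 201), (5, 201), (1, 32), (5, 32), (1, 176), (2, 176), (3, 176), (7, 176), (1, 152), (3, 152), (5, 152), (6, 152), (10, 29), (11, 29), (10, 25), (11, 25), (10, 12), (14, 12), (10, 138), (12, 136)],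
  [(130, [1, 2, 4, 8, 17, 32, 64, 130], [1, 2, 4, 8, 17, 32, 64, 130], [.k1 (0, [20]) (0, []), .k1 (0, [17]) (0, []), .k1 (0, [17]) (0, []), .k1 (0, [17]) (0, [])])]⟩

def e9 : Ex := ⟨[(9, 1), (10, 1), (11, 1), (12, 1), (13, 1), (14, 1), (15, 1), (1, 147)],
  [(1, 130), (2, 130), (3, 130), (4, 130), (5, 130), (6, 130), (7, 130), (9, 130), (10, 130), (11, 130), (12, 130), (13, 130), (14, 130), (15, 130), (9, 144), (10, 144), (11, 144), (12, 144), (13, 144), (14, 144), (15, 144), (9, 165), (10, 165), (11, 165), (12, 165), (13, 165), (14, 165), (15, 165), (9, 190), (10, 190), (11, 190), (12, 190), (13, 190), (14, 190), (15, 190), (9, 205), (10, 205), (11, 205), (12, 205), (13, 205), (14, 205), (15, 205), (9, 218), (10, 218), (11, 218), (12, 218), (13, 218), (14, 218), (15, 218), (9, 233), (10, 233), (11, 233), (12, 233), (13, 233), (14, 233), (15, 233), (10, 246), (3, 42), (4, 42), (6, 42), (7, 42), (2, 236), (3, 236), (5, 236),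 (6, 236), (7, 236), (1, 196), (4, 196), (5, 196), (6, 196), (7, 196), (2, 108), (4, 108), (5, 108), (7, 108), (1, 68), (2, 68), (6, 68), (7, 68), (1, 2), (1, 170), (2, 170), (3, 170), (4, 170), (7, 170), (2, 56), (3, 56), (5, 56), (6, 56), (4, 8), (1, 136), (2, 136), (4, 136), (6, 136), (7, 136), (1, 184), (4, 184), (5, 184), (6, 184), (7, 184), (3, 16), (4, 16), (5, 16), (6, 16), (1, 215), (2, 215), (3, 215), (6, 215), (7, 215), (1, 11), (1, 80), (4, 80), (5, 80), (6, 80), (1, 14), (1, 7), (2, 4), (2, 13), (1, 118), (2, 118), (3, 118), (4, 118), (5, 118), (6, 118), (7, 118)],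
  [(130, [1, 2, 4, 8, 17, 32, 64, 130], [1, 2, 4, 8, 17, 32, 64, 130], [.k1 (2, [1]) (0, [22]), .k1 (2, [1]) (0, [22]), .nm [1, 2, 8, 14, 62, 96, 34, 128] [1, 2, 14, 4, 90, 66, 98, 128] [(1, []), (2, []), (0, [])], .k1 (2, [1]) (0, [22]), .k1 (2, [1]) (0, [22]), .k1 (2, [3]) (0, [21]), .k1 (2, [1]) (0, [22]), .k1 (2, [1]) (0, [22])])]⟩

def e135 : Ex := ⟨[(9, 1), (10, 1), (11, 1), (12, 1), (13, 1), (14, 1), (15, 1), (17, 1), (18, 1), (19, 1), (20, 1), (21, 1), (22, 1), (23, 1), (1, 147), (17, 147), (18, 147), (19, 147), (20, 147), (21, 147), (22, 147), (23, 147), (17, 167), (18, 167), (19, 167), (20, 167), (21, 167), (22, 167), (23, 167), (17, 235), (18, 235), (19, 235), (20, 235), (21, 235), (22, 235), (23, 235), (17, 189), (18, 189), (19, 189), (20, 189), (21, 189), (22, 189), (23, 189), (17, 217), (18, 217), (19, 217), (20, 217), (21, 217), (22, 217), (23, 217), (18, 245), (17, 207), (18, 207), (19, 207), (20, 207), (21, 207),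 (22, 207), (23, 207), (1, 144), (9, 144), (10, 144), (12, 144), (13, 144), (14, 144), (9, 165), (10, 165), (11, 165), (12, 165), (15, 165), (10, 246), (9, 190), (11, 190), (12, 190), (13, 190), (14, 190), (9, 218), (12, 218), (13, 218), (14, 218), (15, 218), (9, 205), (10, 205), (11, 205), (13, 205), (15, 205), (10, 233), (11, 233), (12, 233), (13, 233), (15, 233), (18, 128), (19, 128), (22, 128), (23, 128), (3, 81), (4, 81), (11, 81), (12, 81), (14, 81), (15, 81), (2, 17), (5, 17), (1, 211), (6, 211), (7, 211), (9, 211), (10, 211), (13, 211), (14, 211), (15, 211), (9, 198), (1, 134), (6, 134), (9, 134), (11, 134), (13, 134), (10, 68), (4, 54), (9, 67), (12, 67), (13, 67), (14, 67), (1, 111), (6, 111), (1, 11), (4, 250), (12, 250), (13, 250), (9, 84), (12, 84), (15, 84), (12, 71), (15, 71), (3, 33)],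
  [],
  []⟩

theorem xa0 : XA0.all (fun t => res [p0 0, pt t.1] none t.2) = true := by decide +kernel

theorem nm0 : XS0.all (fun n => NM0.any (res [p0 0, pt n] (some d27.pts))) = true := by decide +kernel
theorem nm1 : XS1.all (fun n => NM1.any (res [p0 192, pt n] (some d15.pts))) = true := by decide +kernel
theorem nm2 : XS2.all (fun n => NM2.any (res [p0 200, pt n] (some d75.pts))) = true := by decide +kernel
theorem nm3 : XS3.all (fun n => NM3.any (res [p0 473, pt n] (some d9.pts))) = true := by decide +kernel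

theorem x27 : extB d27 e27 0 XS0 (some d81.pts) = true := by decide +kernel
theorem x81 : extB d81 e81 0 XS0 none = true := by decide +kernel
theorem x15 : extB d15 e15 192 XS1 none = true := by decide +kernel
theorem x75 : extB d75 e75 200 XS2 none = true := by decide +kernel
theorem x9 : extB d9 e9 473 XS3 (some d135.pts) = true := by decide +kernel
theorem x135 : extB d135 e135 473 XS3 none = true := by decide +kernel

end H7.ZL
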