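import Mathlib
import Cfsg.Agent.H7.ZL2

set_option autoImplicit false
set_option maxRecDepth 100000
set_option linter.all false

namespace H7.ZL

open H6.XS

def unp (x : ℕ) : List ℕ :=
  [fld x 8 256 0, fld x 8 256 1, fld x 8 256 2, fld x 8 256 3, fld x 8 256 4, fld x 8 256 5,
    fld x 8 256 6, fld x 8 256 7]

def okA (L x : ℕ) : Bool :=
  isoB (unp (x >>> 72)) (unp (x >>> 8)) && app (unp (x >>> 72)) 128 == 128 &&
    [0, 192, 200, 473, 17].any fun r => [0, 192, 200, 473, 17].getD (x % 256) 0 == r &&
      ((p0 L).mv (unp (x >>> 8)) (unp (x >>> 72))).sameB (p0 r)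

def okAs (k : ℕ) : Bool := allN 32 fun i => okA (32 * k + i) (fld TA 136 (2 ^ 136) (32 * k + i))

theorem tabA0 : okAs 0 = true := by decide +kernel
theorem tabA1 : okAs 1 = true := by decide +kernel
theorem tabA2 : okAs 2 = true := by decide +kernel
theorem tabA3 : okAs 3 = true := by decide +kernel
theorem tabA4 : okAs 4 = true := by decide +kernel

end H7.ZL
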