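import Mathlib
import Cfsg.Agent.H7.ZL4

set_option autoImplicit false
set_option maxRecDepth 100000
set_option linter.all false

namespace H7.ZL

open H6.XS

theorem tabA5 : okAs 5 = true := by decide +kernel
theorem tabA6 : okAs 6 = true := by decide +kernel
theorem tabA7 : okAs 7 = true := by decide +kernel
theorem tabA8 : okAs 8 = true := by decide +kernel
theorem tabA9 : okAs 9 = true := by decide +kernel
theorem tabA10 : okAs 10 = true := by decide +kernel

end H7.ZL
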