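import Mathlib
import Cfsg.Agent.H7.ZL4

set_option autoImplicit false
set_option maxRecDepth 100000
set_option linter.all false

namespace H7.ZL

open H6.XS

theorem tabA11 : okAs 11 = true := by decide +kernel
theorem tabA12 : okAs 12 = true := by decide +kernel
theorem tabA13 : okAs 13 = true := by decide +kernel
theorem tabA14 : okAs 14 = true := by decide +kernel
theorem tabA15 : okAs 15 = true := by decide +kernel

end H7.ZL
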