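import Mathlib
import Cfsg.Agent.H7.ZL1

set_option autoImplicit false
set_option maxRecDepth 100000

namespace H7.ZL

theorem bulk0 : okT [5632, 11264, 11943, 12746, 13436, 11266, 11268, 11272, 11277, 11296, 11314, 11328, 11331, 11392, 11416, 11616, 11652, 11876, 11894, 11914, 11922, 11938, 11940, 11946, 11950, 12004, 12006, 12068, 12174, 12361, 12362, 12364, 12366, 12426, 12434, 12450, 12458, 12494, 12508, 12515, 12522, 13014, 13385, 13386, 13388, 13390, 13412, 13422, 13476, 13485, 13540, 13548, 13604, 13674, 14126, 14569, 14848] 0 IX0 = true := by decide +kernel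

end H7.ZL
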