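import Mathlib
import Cfsg.Agent.H7.ZL1

set_option autoImplicit false
set_option maxRecDepth 100000

namespace H7.ZL

theorem bulk3 : okT [11641, 12153, 12701, 13273, 13785, 14291, 14749, 15315] 473 IX3 = true := by decide +kernel

end H7.ZL
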