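import Mathlib
import Cfsg.Agent.H27.K3A0
import Cfsg.Agent.H4.K3SC

/-!
# Thin groups with three primes: the configuration `4^3 L3(2)`
-/

set_option autoImplicit false
set_option linter.unusedSectionVars false
set_option linter.unusedVariables false

namespace H7.K3

open Cfsg H24 H26 H26.Gold H23.TC H27.K3A Subgroup

universe u

variable {G : Type u} [Group G] [Finite G] {V Q W V' Q' W' A B K I P U : Subgroup G} {g x z : G}

/-- the squaring map of an abelian subgroup -/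
def sqHom (hB : Abl B) : B →* G := MonoidHom.mk' (fun b => (b : G) * b) fun a b => by
  simp only [coe_mul]
  exact sq_mul_comm (hB.comm a.2 b.2)

theorem card_sq (hB : Abl B) : ♯B = ♯((sqHom hB).ker.map B.subtype) * ♯(sqHom hB).range := by
  rw [card_map_of_injective B.subtype_injective, ← (sqHom hB).ker.card_mul_index, index_ker]

theorem card_sq_le (hB : Abl B) (h1 : ∀ b ∈ B, b * b = 1 → b ∈ K) (h2 : ∀ b ∈ B, b * b ∈ I) :
    ♯B ≤ ♯K * ♯I := by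
  rw [card_sq hB]
  refine Nat.mul_le_mul (card_le_of_le ?_) (card_le_of_le ?_)
  · rintro _ ⟨q, hq, rfl⟩; exact h1 _ q.2 hq
  · rintro _ ⟨q, rfl⟩; exact h2 _ q.2

theorem card_sq_ge (hB : Abl B) (h1 : ∀ k ∈ K, k ∈ B ∧ k * k = 1)
    (h2 : ∀ i ∈ I, ∃ b ∈ B, b * b = i) : ♯K * ♯I ≤ ♯B := by
  rw [card_sq hB]
  refine Nat.mul_le_mul (card_le_of_le fun k hk => ?_) (card_le_of_le fun i hi => ?_)
  · exact ⟨⟨k, (h1 k hk).1⟩, (h1 k hk).2, rfl⟩
  · obtain ⟨b, hb, e⟩ := h2 i hi; exact ⟨⟨b, hb⟩, e⟩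

theorem card_mod7 (hg : g ∈ N[A]) (h : g ^ 7 = 1) : ♯A ≡ ♯(A ⊓ C{g}) [MOD 7] := by
  classical
  let f : Function.End A := fun a => ⟨g * a * g⁻¹, H24.conj_mem hg a.2⟩
  have hf : ∀ (k : ℕ) (a : A), ((f ^ k) a : G) = g ^ k * a * (g ^ k)⁻¹ := fun k => by
    induction k with
    | zero => intro a; simp; rfl
    | succ k ih => intro a; rw [pow_succ]; exact (ih (f a)).trans (by simp only [f]; group)
  have : Fact (Nat.Prime 7) := ⟨by norm_num⟩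
  have := Fintype.ofFinite A
  have c := Equiv.Perm.card_fixedPoints_modEq (f := f) (p := 7) (n := 1)
    (funext fun a => Subtype.ext ((hf _ a).trans (by rw [pow_one, h]; simp; rfl)))
  rw [← Nat.card_eq_fintype_card, ← Nat.card_eq_fintype_card] at c
  refine c.trans (by
    rw [Nat.card_congr (β := ↥(A ⊓ C{g}))
      ⟨fun a => ⟨a.1.1, a.1.2, mem_C1.2 (eq_mul_of_mul_inv_eq (congrArg Subtype.val a.2)).symm⟩,
        fun a => ⟨⟨a.1, a.2.1⟩, Subtype.ext (mul_inv_eq_of_eq_mul (mem_C1.1 a.2.2).symm)⟩,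
        fun _ => rfl, fun _ => rfl⟩])

theorem dvd8 {n : ℕ} (h : n ∣ 8) : n = 1 ∨ n = 2 ∨ n = 4 ∨ n = 8 := by
  have := Nat.le_of_dvd (by norm_num) h
  interval_cases n <;> simp_all

theorem sq_cent (hV : EA V) (hU : U ≤ V) (hc : x ∈ C[U])
    (h : ∀ v ∈ V, v⁻¹ * (x * v * x⁻¹) ∈ U) : x * x ∈ C[V] := mem_C.2 fun v hv => by
  have h1 := h v hv
  have h2 := hV.sq (hU h1)
  have h3 := mem_C.1 hc _ h1
  generalize e : v⁻¹ * (x * v * x⁻¹) = c at *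
  have e' : x * v = v * c * x := by rw [← e]; group
  calc v * (x * x) = v * (c * c) * x * x := by rw [h2]; group
    _ = v * c * x * c * x := by rw [mul_assoc (v * c) x c, ← h3]; group
    _ = x * v * c * x := by rw [e']
    _ = x * (v * c * x) := by group
    _ = x * x * v := by rw [← e']; group

theorem sq_cent' (hV : EA V) (cV : ♯V = 8) (hU : U ≤ V) (cU : 8 ≤ ♯U * ♯U) (hc : x ∈ C[U])
    (hx : x ∈ N[V]) : x * x ∈ C[V] := by
  have hi : Ix2 U V := ix2_of_card hU (by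
    rcases dvd8 (cV ▸ card_dvd_of_le hU) with e | e | e | e <;> rw [e] at cU ⊢ <;> omega)
  refine sq_cent hV hU hc fun v hv => ?_
  by_cases e : v ∈ U
  · rw [conj_of_comm (mem_C.1 hc v e).symm, inv_mul_cancel]; exact one_mem _
  · refine hi.inv_mul hv (cN hx hv) e fun e' => e ?_
    have := H24.conj_mem' (C_le_N _ hc) e'
    rwa [show x⁻¹ * (x * v * x⁻¹) * x = v by group] at this

/-- `V = 2^3`, `Q = C(V)` abelian of rank three, `W = 4^3` -/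
structure Cf (V Q W : Subgroup G) : Prop where
  ea : EA V
  cV : ♯V = 8
  hC : C[V] = Q
  ab : Abl Q
  two : TwoG Q
  om : ∀ q ∈ Q, q * q = 1 → q ∈ V
  WQ : W ≤ Q
  cW : 64 ≤ ♯W
  sq : ∀ w ∈ W, w * w ∈ V
  rt : ∀ v ∈ V, ∃ w ∈ W, w * w = v
  ix : ∀ A, TwoG A → A ≤ N[V] → ♯A ≤ 8 * ♯(A ⊓ Q : Subgroup G)

namespace Cf

theorem cj (h : Cf V Q W) (g : G) : Cf (cj g V) (cj g Q) (cj g W) := by
  refine ⟨H4.K3.ea_cj h.ea g, (card_cj _ _).trans h.cV, by rw [← cj_C, h.hC], h.ab.cj g,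
    h.two.cj g, fun q hq e => ?_, cj_mono g h.WQ, (card_cj g W).symm ▸ h.cW, fun w hw => ?_,
    fun v hv => ?_, fun A hA hN => ?_⟩
  · obtain ⟨y, hy, rfl⟩ := mem_cj'.1 hq
    rw [← H23.TC.conj_mul] at e
    exact conj_mem_cj g (h.om y hy (conj_eq_one_iff'.1 e))
  · obtain ⟨y, hy, rfl⟩ := mem_cj'.1 hw
    rw [← H23.TC.conj_mul]
    exact conj_mem_cj g (h.sq y hy)
  · obtain ⟨y, hy, rfl⟩ := mem_cj'.1 hv
    obtain ⟨w, hw, rfl⟩ := h.rt y hy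
    exact ⟨_, conj_mem_cj g hw, (H23.TC.conj_mul _ _ _).symm⟩
  · have := h.ix (H24.cj g⁻¹ A) (hA.cj _) (by rw [cj_le_iff, inv_inv, cj_N]; exact hN)
    rwa [card_cj, ← card_cj g (_ ⊓ _), cj_inf, cj_cj_inv] at this

theorem VQ (h : Cf V Q W) : V ≤ Q := h.hC ▸ h.ea.le_C

theorem NQ (h : Cf V Q W) : N[V] ≤ N[Q] := h.hC ▸ norm_C le_rfl

theorem cent (h : Cf V Q W) (hU : U ≤ V) : W ≤ C[U] := h.ab.cents h.WQ (hU.trans h.VQ)

theorem wc (h : Cf V Q W) (h' : Cf V' Q' W') (hW : W' ≤ N[V]) : V' = V := by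
  have h1 := h.ix W' (h'.two.of_le h'.WQ) hW
  have h2 : ♯(W' ⊓ Q : Subgroup G) ≤ ♯(V ⊓ V' : Subgroup G) * ♯(V ⊓ V' : Subgroup G) :=
    card_sq_le (h.ab.of_le inf_le_right)
      (fun b hb e => ⟨h.om b hb.2 e, h'.om b (h'.WQ hb.1) e⟩) fun b hb =>
      ⟨h.om _ (mul_mem hb.2 hb.2) (h'.ea.sq (h'.sq b hb.1)), h'.sq b hb.1⟩
  have h3 := h'.cW
  refine eq_of_card_eq (fun v hv => ?_) (h'.cV.trans h.cV.symm)
  obtain ⟨w, hw, rfl⟩ := h'.rt v hv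
  exact h.om _ (h.hC ▸ sq_cent' h.ea h.cV inf_le_left (by omega) (h'.cent inf_le_right hw) (hW hw))
    (h'.ea.sq hv)

theorem norm (h : Cf V Q W) (hP : TwoG P) (hW : W ≤ P) : P ≤ N[V] := by
  by_contra hn
  obtain ⟨y, hy, yN, yE⟩ := exists_norm_lt hP (inf_le_left : P ⊓ N[V] ≤ P)
    fun e => hn (e.trans inf_le_right)
  refine yE ⟨hy, mem_N_iff_cj.2 (h.wc (h.cj y) ?_)⟩
  exact (cj_le_of_mem_N (le_inf hW ((h.cent le_rfl).trans (C_le_N _))) yN).trans inf_le_right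

theorem ti (th : Th G) (h : Cf V Q W) (h' : Cf V' Q' W') (hz : z ∈ V) (hz' : z ∈ V') (z1 : z ≠ 1) :
    V' = V := by
  have z2 := h.ea.sq hz
  have cz : ∀ {V Q W : Subgroup G}, Cf V Q W → z ∈ V → W ≤ C{z} := fun h hz w hw =>
    mem_C1.2 (h.ab.comm (h.WQ hw) (h.VQ hz))
  have nO : ∀ {V Q W : Subgroup G}, Cf V Q W → z ∈ V → O[{2}, C{z}] ≤ N[V] := fun h hz =>
    le_sup_left.trans (h.norm ((pcore_pi _ _).sup (h.two.of_le h.WQ)
      ((cz h hz).trans (pcore_nml _ _).norm)) le_sup_right)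
  have i0 := th.ix z z1 z2 W (h.two.of_le h.WQ) (cz h hz)
  have i1 := (th.ix z z1 z2 W' (h'.two.of_le h'.WQ) (cz h' hz')).card_le
  have n0 := nO h hz
  have n1 := nO h' hz'
  generalize O[{2}, C{z}] = R at *
  have VR : V ≤ R := fun v hv => by
    obtain ⟨w, hw, rfl⟩ := h.rt v hv
    by_cases e : w ∈ R
    exacts [mul_mem e e, i0 w hw w hw e e]
  have h2 : ♯(R ⊓ W' : Subgroup G) ≤ ♯V' * ♯(V ⊓ V' : Subgroup G) :=
    card_sq_le (h'.ab.of_le (inf_le_right.trans h'.WQ)) (fun b hb e => h'.om b (h'.WQ hb.2) e)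
      fun a ha => by
        have a2 := h'.sq a ha.2
        refine ⟨h.om _ (h.hC ▸ sq_cent h.ea inf_le_left (h'.cent inf_le_right ha.2) fun v hv => ?_)
          (h'.ea.sq a2), a2⟩
        have c1 : v⁻¹ * (a * v * a⁻¹) ∈ V := mul_mem (inv_mem hv) (cN (n0 ha.1) hv)
        refine ⟨c1, h'.om _ ?_ (h.ea.sq c1)⟩
        rw [show v⁻¹ * (a * v * a⁻¹) = v⁻¹ * a * v * a⁻¹ by group]
        exact mul_mem (cN' (h'.NQ (n1 (VR hv))) (h'.WQ ha.2)) (inv_mem (h'.WQ ha.2))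
  have h3 := h'.cW
  rw [h'.cV] at h2
  have hU : ¬ V ⊓ V' ≤ zpowers z := fun e => by
    have := card_le_of_le e
    rw [Nat.card_zpowers, ord2 z1 z2] at this
    omega
  obtain ⟨u, hu, un⟩ := SetLike.not_le_iff_exists.1 hU
  rw [mem_zp z2, not_or] at un
  have zU : z ∈ V ⊓ V' := ⟨hz, hz'⟩
  rcases th.three z z1 z2 C[V ⊓ V'] (fun c hc => mem_C1.2 (mem_C.1 hc z zU).symm) with t | ⟨x, hx, x3⟩
  · exact h.wc h' ((h'.cent inf_le_right).trans (h.norm t (h.cent inf_le_left)))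
  · exact (un.2 (th.rk x x3 u (mem_C1.2 (mem_C.1 hx u hu)) z (mem_C1.2 (mem_C.1 hx z zU)) un.1
      (h.ea.sq hu.1) z1 z2 (h.ea.comm hu.1 hz))).elim

theorem cent1 (th : Th G) (h : Cf V Q W) (hz : z ∈ V) (z1 : z ≠ 1) : C{z} ≤ N[V] := fun c hc =>
  mem_N_iff_cj.2 (h.ti th (h.cj c) hz (by
    rw [← mem_C1_iff_conj.1 hc]; exact conj_mem_cj c hz) z1)

theorem mem (th : Th G) (h : Cf V Q W) (h' : Cf V' Q' W') (hz : z ∈ V') (hN : z ∈ N[V]) :
    z ∈ V := by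
  by_contra hn
  have z1 : z ≠ 1 := fun e => hn (e ▸ one_mem _)
  have tr : ∀ c ∈ V, c ∈ Q' → c = 1 := fun c hc hc' => by_contra fun c1 =>
    hn (h.ti th h' hc (h'.om c hc' (h.ea.sq hc)) c1 ▸ hz)
  have cU := H4.K3.card_le_sq h.ea hN (h'.ea.sq hz)
  have UN : V ⊓ C{z} ≤ N[V'] := inf_le_right.trans (h'.cent1 th hz z1)
  have UV : V ⊓ C{z} ≤ V := inf_le_left
  rw [h.cV] at cU
  generalize V ⊓ C{z} = U at *
  have hne : U ≠ ⊥ := fun e => by rw [e, card_bot] at cU; omega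
  obtain ⟨⟨e, he⟩, e1⟩ := (ne_bot_iff_exists_ne_one).1 hne
  replace e1 : e ≠ 1 := fun e' => e1 (Subtype.ext e')
  have e2 := h.ea.sq (UV he)
  refine e1 (tr e (UV he) (h'.hC ▸ mem_C.2 fun v hv => ?_))
  obtain ⟨q, hq, rfl⟩ := h'.rt v hv
  have q0 := h'.WQ hq
  have q1 := cN (h'.NQ (UN he)) q0
  have dQ := mul_mem q0 q1
  have dN : q * (e * q * e⁻¹) ∈ N[V] := h.cent1 th (UV he) e1 (mem_C1.2 (comm_of_conj (by
    calc _ = e * q * e⁻¹ * (e * e * q * (e * e)⁻¹) := by group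
      _ = _ := by rw [e2, one_mul, inv_one, mul_one]; exact h'.ab.comm q1 q0)).symm)
  have d2 : q * (e * q * e⁻¹) * (q * (e * q * e⁻¹)) = q * q * (e * (q * q) * e⁻¹) := by
    rw [sq_mul_comm (h'.ab.comm q0 q1), H23.TC.conj_mul]
  have dV : q * q * (e * (q * q) * e⁻¹) ∈ V' := mul_mem hv (cN (UN he) hv)
  generalize q * (e * q * e⁻¹) = d at *
  have dC : d ∈ C[U] := mem_C.2 fun x hx => by
    have := tr (x⁻¹ * (d * x * d⁻¹)) (mul_mem (inv_mem (UV hx)) (cN dN (UV hx))) (by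
      rw [show x⁻¹ * (d * x * d⁻¹) = x⁻¹ * d * x * d⁻¹ by group]
      exact mul_mem (cN' (h'.NQ (UN hx)) dQ) (inv_mem dQ))
    exact (comm_of_conj (inv_mul_eq_one.1 this).symm).symm
  have d3 := sq_cent' h.ea h.cV UV cU dC dN
  rw [d2, h.hC] at d3
  have := tr _ (h.om _ d3 (h'.ea.sq dV)) (h'.VQ dV)
  exact (comm_of_conj ((inv_eq_of_mul_eq_one_right this).symm.trans (h'.ea.inv hv))).symm

end Cf

theorem exists_cf (hV : EA V) (cV : ♯V = 8) (hC : C[V] = Q) (hQ : Abl Q) (h2 : TwoG Q)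
    (hO : ∀ q ∈ Q, q * q = 1 → q ∈ V) (hne : Q ≠ V) (cM : ♯N[V] = ♯Q * 168) :
    ∃ W, Cf V Q W := by
  have VQ : V ≤ Q := hC ▸ hV.le_C
  have NQ : N[V] ≤ N[Q] := hC ▸ norm_C le_rfl
  have QN : Q ≤ N[V] := hC ▸ C_le_N _
  obtain ⟨x, xN, x7⟩ := exists_orderOf_eq (by norm_num : Nat.Prime 7)
    (cM ▸ Dvd.dvd.mul_left (by norm_num) _ : 7 ∣ ♯N[V])
  have x7' : x ^ 7 = 1 := by rw [← x7, pow_orderOf_eq_one]
  have xQ : x ∉ Q := fun e => by
    obtain ⟨k, hk⟩ := (h2.piElt e).exists_pow p2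
    have := (by norm_num : Nat.Prime 7).dvd_of_dvd_pow (x7 ▸ hk ▸ dvd_rfl : 7 ∣ 2 ^ k)
    omega
  have fx : ♯(V ⊓ C{x} : Subgroup G) = 1 := by
    have m := card_mod7 xN x7'
    rw [cV] at m
    rcases dvd8 (cV ▸ card_dvd_of_le (inf_le_left : V ⊓ C{x} ≤ V)) with e | e | e | e
    · exact e
    · rw [e] at m; exact absurd m (by decide)
    · rw [e] at m; exact absurd m (by decide)
    · have := eq_of_card_eq (inf_le_left : V ⊓ C{x} ≤ V) (e.trans cV.symm)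
      exact (xQ (hC ▸ mem_C.2 fun v hv => mem_C1.1 (this.ge hv).2)).elim
  have IN : x ∈ N[V ⊓ (sqHom hQ).range] :=
    zpowers_le.1 (le_N_iff.2 fun a ha y hy => by
      obtain ⟨h1, q, rfl⟩ := hy
      have aN := zpowers_le.2 xN ha
      exact ⟨cN aN h1, ⟨_, cN (NQ aN) q.2⟩, (H23.TC.conj_mul _ _ _).symm⟩)
  have hI : V ⊓ (sqHom hQ).range = V := by
    have m := card_mod7 IN x7'
    have f1 : ♯(V ⊓ (sqHom hQ).range ⊓ C{x} : Subgroup G) = 1 :=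
      Nat.eq_one_of_dvd_one (fx ▸ card_dvd_of_le (inf_le_inf_right _ inf_le_left))
    rw [f1] at m
    rcases dvd8 (cV ▸ card_dvd_of_le (inf_le_left : V ⊓ (sqHom hQ).range ≤ V)) with e | e | e | e
    · obtain ⟨q, hq, qV⟩ := SetLike.not_le_iff_exists.1 fun e => hne (le_antisymm e VQ)
      obtain ⟨y, hy, y1, y2⟩ := H4.K3.exists_sq_mem (h2.piElt hq) qV
      have yQ := zpowers_le.2 hq hy
      have : y * y ∈ V ⊓ (sqHom hQ).range := ⟨y2, ⟨y, yQ⟩, rfl⟩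
      rw [card_eq_one.1 e, mem_bot] at this
      exact (y1 (hO y yQ this)).elim
    · rw [e] at m; exact absurd m (by decide)
    · rw [e] at m; exact absurd m (by decide)
    · exact eq_of_card_eq inf_le_left (e.trans cV.symm)
  have WQ : (V.comap (sqHom hQ)).map Q.subtype ≤ Q := map_subtype_le _
  have rt : ∀ v ∈ V, ∃ w ∈ (V.comap (sqHom hQ)).map Q.subtype, w * w = v := fun v hv => by
    obtain ⟨q, e⟩ := (hI.ge hv).2
    exact ⟨q, ⟨q, by rw [SetLike.mem_coe, mem_comap, e]; exact hv, rfl⟩, e⟩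
  refine ⟨_, hV, cV, hC, hQ, h2, hO, WQ, ?_, ?_, rt, fun A hA hN => ?_⟩
  · have := card_sq_ge (K := V) (hQ.of_le WQ) (fun k hk => ⟨⟨⟨k, VQ hk⟩, mul_mem hk hk, rfl⟩, hV.sq hk⟩) rt
    rwa [cV] at this
  · rintro _ ⟨q, hq, rfl⟩; exact hq
  · have h1 := relIndex_dvd_of_nml (⟨QN, NQ⟩ : Q ⊴ N[V]) hN
    have h3 : Q.relIndex N[V] = 168 :=
      Nat.eq_of_mul_eq_mul_left Nat.card_pos ((card_mul_relIndex QN).trans cM)
    obtain ⟨k, hk⟩ := (piNat_singleton p2 (relIndex_ne_zero' Q A)).1 (hA.relIndex Q)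
    have h4 : Q.relIndex A ∣ 8 := by
      rw [h3, hk] at h1
      rw [hk]
      exact (Nat.Coprime.pow_left k (by norm_num : Nat.Coprime 2 21)).dvd_of_dvd_mul_right h1
    rw [← card_inf_mul_relIndex Q A, inf_comm, mul_comm]
    exact Nat.mul_le_mul_right _ (Nat.le_of_dvd (by norm_num) h4)

/-- `V` is strongly closed in a Sylow subgroup -/
theorem qv (th : Th G) {V Q : Subgroup G} (hV : EA V) (cV : ♯V = 8) (hC : C[V] = Q) (hQ : Abl Q)
    (h2 : TwoG Q) (hO : ∀ q ∈ Q, q * q = 1 → q ∈ V) (hne : Q ≠ V) (cM : ♯N[V] = ♯Q * 168) :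
    ∃ S : Sylow 2 G, IsStronglyClosed V (S : Subgroup G) := by
  obtain ⟨W, h⟩ := exists_cf hV cV hC hQ h2 hO hne cM
  obtain ⟨S, hS, hle⟩ := Sylow_superset p2 h2 (le_top : Q ≤ ⊤)
  obtain ⟨S', rfl⟩ := hS.exists_sylow_top p2
  exact ⟨S', h.VQ.trans hle, fun u hu g ht =>
    h.mem th (h.cj g) (conj_mem_cj g hu) (h.norm hS.pi (h.WQ.trans hle) ht)⟩

end H7.K3
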