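import Mathlib
import Cfsg.Agent.H7.J3

/-!
# Orbits of `3 · J₃` on vectors
-/

set_option autoImplicit false
set_option maxRecDepth 100000
set_option linter.all false

namespace H7.J3

open H29 H9 H9.MX H7.JP H7.J3D Cfsg.Spor Matrix

/-- A network from elementary row operations on the bits of the position. -/
noncomputable def elem (l : List (ℕ × ℕ)) : Net :=
  List.rec (motive := fun _ => Net) Net.nil (fun a _ ih => lit (Nat.shiftLeft 1 a.1) fun d =>
    Net.cons d (Nat.land (lowPat 18 a.1) (idp 18 a.2)) ih) l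

noncomputable def nl : List Net := [elem [(14, 2), (2, 14), (1, 7), (7, 1), (4, 10), (10, 4), (15, 3), (3, 15), (3, 9), (9, 3), (2, 9), (3, 9), (14, 9), (15, 9), (5, 11), (11, 5), (0, 6), (6, 0), (7, 13), (13, 7), (1, 13), (7, 13), (16, 10), (4, 16), (10, 16), (6, 12), (12, 6), (4, 10), (16, 10), (17, 10), (0, 12), (6, 12), (2, 8), (8, 2), (2, 8), (9, 8), (14, 8), (11, 17), (10, 11), (17, 11), (5, 17), (10, 17), (11, 17)],
  elem [(14, 6), (6, 14), (6, 8), (8, 6), (17, 3), (3, 17), (15, 7), (7, 15), (3, 7), (7, 3), (15, 3), (16, 2), (2, 16), (4, 10), (10, 4), (7, 9), (9, 7), (8, 10), (4, 8), (10, 8), (10, 12), (12, 10), (12, 2), (2, 12), (16, 12), (9, 5), (5, 9), (5, 11), (11, 5), (11, 13), (13, 11), (3, 13), (5, 13), (7, 13), (9, 13), (11, 13), (15, 13), (17, 13), (4, 2), (6, 2), (8, 2), (10, 2), (12, 2), (14, 2), (16, 2)],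
  elem [(6, 2), (12, 2), (8, 16), (14, 16), (14, 10), (8, 14), (10, 14), (16, 14), (9, 17), (15, 17), (9, 11), (15, 11), (11, 9), (17, 9), (2, 6), (4, 6), (7, 13), (3, 7), (5, 7), (13, 7), (8, 10), (10, 8), (16, 8), (13, 5), (2, 12), (4, 12), (11, 15), (17, 15), (13, 3), (6, 4), (12, 4), (7, 13)]]
noncomputable def nv : ℕ → Net := nth Net.nil nl
theorem hnv : NetsOK 262144 nv := netsOK_of_all (by decide +kernel)

def E2S : List (List ℕ) := [[24, 33, 24, 33, 21, 21, 21, 21, 21, 37, 24, 37, 21, 21, 21, 21, 37, 21, 21, 21, 21, 37, 24, 37, 21, 21, 21, 21, 24, 30, 21, 30, 21], [21, 21, 21, 21, 37, 24, 37, 21, 21, 21, 21, 37, 21, 21, 37, 24, 37, 21, 37, 24, 37, 21, 21], [37], [24, 30, 21, 30, 21, 21, 21, 21, 21, 37, 24, 37, 21, 21, 21, 21, 37, 21, 21, 21, 21, 37, 24, 37, 21, 21, 21, 21, 24, 33, 24, 33, 21], [33, 33, 37], [30, 30, 30, 30], [33, 37, 21, 21, 21, 21, 37, 24, 37, 21, 21, 21, 21, 24, 24, 33, 24, 24, 30, 24, 33, 21, 21, 21,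 21, 21, 21, 37, 24, 37, 21, 21, 21, 21, 33], [30, 30, 37, 24, 30, 21, 30, 21, 21, 21, 21, 21, 37, 24, 37, 21, 21, 21, 21, 24, 33, 24, 33, 21], [24, 30, 21, 30, 21, 33, 21, 21, 21, 21, 37, 24, 37, 21, 21, 21, 21, 37, 24, 33, 24, 33, 21], [37, 24, 30, 21, 30, 21, 21, 21, 37, 24, 37, 21, 37, 24, 37, 21, 21, 30, 24, 33, 24, 33, 21], [30, 24, 37, 24, 24, 37, 33, 21, 37, 30, 21, 21, 21, 21, 21, 37, 24, 37, 21, 21, 21, 21, 24, 30, 21, 30, 21, 30, 21, 21, 21, 21, 37, 24, 37, 21, 21, 21, 21]]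

/-- The three chosen letters. -/
noncomputable def sel (c : ℕ) : ℕ := nth 0 [21, 30, 37] c

/-- A row of a packed matrix applied to bit planes. -/
noncomputable def rowP (X : MM) (i : ℕ) (A B : ℕ → ℕ) (n : ℕ) : ℕ :=
  Nat.rec (motive := fun _ => ℕ) 0 (fun w ih => Nat.xor (Nat.xor ih (Nat.mul (P.ent X.a0 i w) (A w)))
    (Nat.mul (P.ent X.a1 i w) (B w))) n

/-- The network acts as the matrix. -/
noncomputable def chkLin (n : Net) (X : MM) : Bool :=
  allN 9 fun i => and2 (Nat.beq (n.pull (idp 18 (Nat.mul 2 i)))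
      (rowP X i (fun w => idp 18 (Nat.mul 2 w)) (fun w => idp 18 (Nat.succ (Nat.mul 2 w))) 9))
    (Nat.beq (n.pull (idp 18 (Nat.succ (Nat.mul 2 i))))
      (rowP X i (fun w => idp 18 (Nat.succ (Nat.mul 2 w)))
        (fun w => Nat.xor (idp 18 (Nat.mul 2 w)) (idp 18 (Nat.succ (Nat.mul 2 w)))) 9))

theorem lin0 : chkLin (nv 0) (P.lets (lG ++ lI) (sel 0)) = true := by decide +kernel
theorem lin1 : chkLin (nv 1) (P.lets (lG ++ lI) (sel 1)) = true := by decide +kernel
theorem lin2 : chkLin (nv 2) (P.lets (lG ++ lI) (sel 2)) = true := by decide +kernel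
theorem orb1 : chkOrbit 18 nv [0, 1, 2] 1 10 69768 = true := by decide +kernel

/-- The positions of odd weight. -/
noncomputable def oddP (n : ℕ) : ℕ :=
  Nat.rec (motive := fun _ => ℕ) 0 (fun w ih => Nat.xor ih
    (Nat.lor (idp 18 (Nat.mul 2 w)) (idp 18 (Nat.succ (Nat.mul 2 w))))) n

theorem orb2 : sub (ones 262144) (Nat.lor (Nat.lor (orb nv [0, 1, 2] 9 (bit 5)) (oddP 9)) 1) = true := by
  decide +kernel

variable {F : Type*} [Field F] {ω : F}

/-- A bit as a field element. -/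
def bt (F : Type*) [Field F] (b : Bool) : F := if b then 1 else 0

theorem bt_xor (h2 : (2 : F) = 0) (a b : Bool) : bt F (a ^^ b) = bt F a + bt F b := by
  cases a <;> cases b <;> simp [bt]
  linear_combination -h2

theorem bt_mul {a : ℕ} (ha : a ≤ 1) (Y p : ℕ) :
    bt F ((Nat.mul a Y).testBit p) = a * bt F (Y.testBit p) := by
  interval_cases a <;> simp [bt]

theorem bt_rowP (h2 : (2 : F) = 0) {X : MM} (hX : P.Sm2 X) (i : ℕ) (A B : ℕ → ℕ) (p : ℕ) :
    ∀ n, bt F ((rowP X i A B n).testBit p) = ∑ w ∈ Finset.range n,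
      ((P.ent X.a0 i w : F) * bt F ((A w).testBit p) + P.ent X.a1 i w * bt F ((B w).testBit p))
  | 0 => by simp [rowP, bt]
  | n + 1 => by
    rw [Finset.sum_range_succ, ← bt_rowP h2 hX i A B p n, ← bt_mul (hX.1.ent_le P_ok i n),
      ← bt_mul (hX.2.ent_le P_ok i n), ← add_assoc, ← bt_xor h2, ← bt_xor h2, ← Nat.testBit_xor,
      ← Nat.testBit_xor]
    rfl

/-- The vector with a given code. -/
def vec (ω : F) (p : ℕ) (z : F9) : F :=
  bt F (p.testBit (2 * ix z)) + bt F (p.testBit (2 * ix z + 1)) * ω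

theorem tb_idp {p : ℕ} (hp : p < 262144) (j : ℕ) : (idp 18 j).testBit p = p.testBit j := by
  rw [testBit_idp]; simp [hp]

theorem vec_perm (h2 : (2 : F) = 0) (hω : ω ^ 2 + ω + 1 = 0) {n : Net} {X : MM}
    (hn : n.valid 262144 = true) (hX : P.Sm2 X) (h : chkLin n X = true) {p : ℕ} (hp : p < 262144) :
    vec ω (n.perm p) = (IF F ω h2 hω).mat X *ᵥ vec ω p := by
  funext z
  have h1 := allN_true.1 h (ix z) (ix z).2
  rw [and2_true, H29.beq_true, H29.beq_true] at h1
  have hq : n.perm p < 262144 := lt_of_fix (fun i hi => Net.perm_fix hn hi) hp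
  have a0 := congrArg (fun x => bt F (Nat.testBit x p)) h1.1
  have a1 := congrArg (fun x => bt F (Nat.testBit x p)) h1.2
  simp only [Net.testBit_pull hn, bt_rowP h2 hX, tb_idp hq, tb_idp hp, xor_eq, Nat.testBit_xor,
    bt_xor h2, Nat.mul_eq, Nat.succ_eq_add_one] at a0 a1
  rw [vec, a0, a1, Matrix.mulVec, dotProduct]
  have := (IF F ω h2 hω).sum_ix fun k => ((P.ent X.a0 (ix z) k : F) + (P.ent X.a1 (ix z) k : F) * ω) *
    (bt F (p.testBit (2 * k)) + bt F (p.testBit (2 * k + 1)) * ω)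
  refine Eq.trans ?_ this.symm
  rw [Finset.sum_mul, ← Finset.sum_add_distrib]
  refine Finset.sum_congr rfl fun k _ => ?_
  linear_combination (-(P.ent X.a1 (ix z) k : F) * bt F (p.testBit (2 * k + 1))) * hω +
    ((P.ent X.a1 (ix z) k : F) * bt F (p.testBit (2 * k + 1)) * (ω + 1)) * h2

theorem bt_inj (h2 : (2 : F) = 0) (hω : ω ^ 2 + ω + 1 = 0) {a b c d : Bool}
    (h : bt F a + bt F b * ω = bt F c + bt F d * ω) : a = c ∧ b = d := by
  have h0 : ω ≠ 0 := fun h => by simp [h] at hω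
  have h1 : ω ≠ 1 := fun h => by
    rw [h] at hω; exact one_ne_zero (α := F) (by linear_combination hω - h2)
  have h3 : (1 : F) + ω ≠ 0 := fun h => h1 (by linear_combination h - h2)
  cases a <;> cases b <;> cases c <;> cases d <;> simp [bt] at h ⊢ <;>
    first | exact h0 h | exact h0 h.symm | exact h1 h | exact h1 h.symm | exact h3 h | exact h3 h.symm

theorem vec_inj (h2 : (2 : F) = 0) (hω : ω ^ 2 + ω + 1 = 0) {p q : ℕ} (hp : p < 262144)
    (hq : q < 262144) (h : vec ω p = vec ω q) : p = q := by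
  refine Nat.eq_of_testBit_eq fun j => ?_
  by_cases hj : j < 18
  · have := bt_inj h2 hω (congrFun h (ix.symm ⟨j / 2, by omega⟩))
    simp only [Equiv.apply_symm_apply] at this
    rcases Nat.mod_two_eq_zero_or_one j with h3 | h3
    · rw [show j = 2 * (j / 2) by omega]; exact this.1
    · rw [show j = 2 * (j / 2) + 1 by omega]; exact this.2
  · have : 2 ^ 18 ≤ 2 ^ j := Nat.pow_le_pow_right (by decide) (by omega)
    rw [Nat.testBit_lt_two_pow (by omega), Nat.testBit_lt_two_pow (by omega)]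

theorem vec_surj [Fintype F] (hF : Fintype.card F = 4) (hω : ω ^ 2 + ω + 1 = 0) (v : F9 → F) :
    ∃ p < 262144, vec ω p = v := by
  classical
  have : Function.Bijective fun p : Fin 262144 => vec ω p :=
    (Fintype.bijective_iff_injective_and_card _).2
      ⟨fun p q h => Fin.ext (vec_inj (two_eq_zero hF) hω p.2 q.2 h), by
        rw [Fintype.card_fun, hF, Fintype.card_fin]; rfl⟩
  obtain ⟨p, hp⟩ := this.2 v
  exact ⟨p, p.2, hp⟩

theorem bt_oddP (h2 : (2 : F) = 0) (hω : ω ^ 2 + ω + 1 = 0) {p : ℕ} (hp : p < 262144) :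
    ∀ n, bt F ((oddP n).testBit p) = ∑ w ∈ Finset.range n,
      (bt F (p.testBit (2 * w)) + bt F (p.testBit (2 * w + 1)) * ω) ^ 3
  | 0 => by simp [oddP, bt]
  | n + 1 => by
    rw [Finset.sum_range_succ, ← bt_oddP h2 hω hp n, show oddP (n + 1) = oddP n ^^^
      (idp 18 (2 * n) ||| idp 18 (2 * n + 1)) from rfl, Nat.testBit_xor, bt_xor h2, Nat.testBit_or,
      tb_idp hp, tb_idp hp]
    congr 1
    cases p.testBit (2 * n) <;> cases p.testBit (2 * n + 1) <;> simp [bt]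
    · linear_combination (1 - ω) * hω
    · linear_combination -(ω + 2) * hω + h2

theorem vec_one : vec ω 1 = Pi.single (0 : F9) (1 : F) := by
  funext z
  have : ∀ z : F9, (Nat.testBit 1 (2 * ix z) = decide (z = 0)) ∧
    Nat.testBit 1 (2 * ix z + 1) = false := by decide
  rw [vec, (this z).1, (this z).2, Pi.single_apply]
  by_cases h : z = 0 <;> simp [bt, h]

theorem exists_act (h2 : (2 : F) = 0) (hω : ω ^ 2 + ω + 1 = 0) : ∃ e : ℕ → GL F9 F,
    gen e [0, 1, 2] = threeJ3 F ω ∧ (∀ c ∈ [0, 1, 2], ∀ p < 262144,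
      vec ω (sg nv c p) = (e c : Matrix F9 F9 F) *ᵥ vec ω p) ∧
      ∃ g ∈ threeJ3 F ω, (g : Matrix F9 F9 F) = ω • (1 : Matrix F9 F9 F) := by
  obtain ⟨e0, e, h0, a0, h1, a1⟩ := exists_model h2 hω
  have i0 := h0.ivOK (ivl := iv0) (by decide +kernel)
  refine ⟨fun c => e0 (sel c), le_antisymm (gen_le.2 fun c _ => a0 _) ?_, ?_,
    _, a1 ▸ ev_mem_gen hW, m_W h1⟩
  · have h3 := h0.words (wl := E2S) (l' := lE) (by decide +kernel)
    rw [← a1]
    refine gen_le.2 fun c _ => ?_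
    rw [show e c = wE e0 E2S c from Units.ext ((h1.eq c).trans (h3.eq c).symm)]
    have b0 : e0 21 ∈ gen (fun c => e0 (sel c)) [0, 1, 2] := mem_gen (c := 0) (by simp)
    have b1 : e0 30 ∈ gen (fun c => e0 (sel c)) [0, 1, 2] := mem_gen (c := 1) (by simp)
    have b2 : e0 37 ∈ gen (fun c => e0 (sel c)) [0, 1, 2] := mem_gen (c := 2) (by simp)
    refine ev_mem fun d hd => ?_
    have : d ∈ [21, 24, 30, 33, 37] :=
      nth_forall (p := fun w : List ℕ => ∀ d ∈ w, d ∈ [21, 24, 30, 33, 37]) (by simp) (by decide) c d hd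
    simp only [List.mem_cons, List.not_mem_nil, or_false] at this
    rcases this with rfl | rfl | rfl | rfl | rfl
    · exact b0
    · exact (i0 21).symm ▸ inv_mem b0
    · exact b1
    · exact (i0 30).symm ▸ inv_mem b1
    · exact b2
  · intro c hc p hp
    rw [show (e0 (sel c) : Matrix F9 F9 F) = _ from h0.eq _]
    refine vec_perm h2 hω (hnv c) (Par.sm2_lets P_ok h0.sm _) ?_ hp
    simp only [List.mem_cons, List.not_mem_nil, or_false] at hc
    rcases hc with rfl | rfl | rfl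
    exacts [lin0, lin1, lin2]

theorem vec_ev {e : ℕ → GL F9 F} (h : ∀ c ∈ [0, 1, 2], ∀ p < 262144,
    vec ω (sg nv c p) = (e c : Matrix F9 F9 F) *ᵥ vec ω p) :
    ∀ (w : List ℕ), (∀ c ∈ w, c ∈ [0, 1, 2]) → ∀ p < 262144,
      vec ω (ev (sg nv) w p) = (ev e w : GL F9 F) *ᵥ vec ω p
  | [], _, p, _ => by simp
  | c :: w, hw, p, hp => by
    rw [ev_cons, ev_cons, Equiv.Perm.mul_apply, h c (hw c (by simp)) _
      (lt_of_fix (fun i hi => ev_sg_fix hnv w hi) hp),
      vec_ev h w (fun d hd => hw d (by simp [hd])) p hp, Units.val_mul, mulVec_mulVec]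

theorem iso_orbit [Fintype F] (hF : Fintype.card F = 4) (hω : ω ^ 2 + ω + 1 = 0) {v : F9 → F}
    (hv : v ≠ 0) (h : ∑ z, (v z) ^ 3 = 0) :
    ∃ g ∈ threeJ3 F ω, (g : Matrix F9 F9 F) *ᵥ v = vec ω 5 := by
  have h2 := two_eq_zero hF
  obtain ⟨e, h1, h3, -⟩ := exists_act h2 hω
  obtain ⟨p, hp, rfl⟩ := vec_surj hF hω v
  have h4 := sub_true orb2 (i := p) (by simp [testBit_ones, hp])
  simp only [lor_eq, Nat.testBit_or, Bool.or_eq_true] at h4
  rcases h4 with (h4 | h4) | h4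
  · obtain ⟨w, hw, h5⟩ := (Reach.refl nv [0, 1, 2] (bit 5)).orb hnv 9 p h4
    rw [testBit_bit, decide_eq_true_eq] at h5
    exact ⟨_, h1 ▸ ev_mem_gen hw, by rw [← vec_ev h3 w hw p hp, ← h5]⟩
  · have h5 := bt_oddP h2 hω hp 9
    have h6 := (IF F ω h2 hω).sum_ix fun w =>
      (bt F (p.testBit (2 * w)) + bt F (p.testBit (2 * w + 1)) * ω) ^ 3
    rw [h4, show Finset.range 9 = Finset.range P.n from rfl, ← h6] at h5
    exact absurd (h5.trans h) (by simp [bt])
  · rw [Nat.testBit_one_eq_true_iff_self_eq_zero] at h4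
    exact absurd (funext fun z => by simp [h4, vec, bt]) hv

theorem ncard_vec [Fintype F] (hF : Fintype.card F = 4) (hω : ω ^ 2 + ω + 1 = 0) :
    {v | ∃ g ∈ threeJ3 F ω, v = (g : Matrix F9 F9 F) *ᵥ vec ω 1}.ncard = 69768 := by
  have h2 := two_eq_zero hF
  obtain ⟨e, h1, h3, -⟩ := exists_act h2 hω
  have h4 := orb1
  rw [chkOrbit, seqN_eq, and2_true, and2_true, and2_true, H29.beq_true, H29.beq_true] at h4
  obtain ⟨⟨a1, a2⟩, a3, a4⟩ := h4
  generalize hV : orb nv [0, 1, 2] 10 (bit 1) = V at a1 a2 a3 a4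
  have hR : Reach nv [0, 1, 2] (bit 1) V := hV ▸ (Reach.refl nv [0, 1, 2] (bit 1)).orb hnv 10
  have hlt : ∀ p, V.testBit p = true → p < 262144 := fun p hp => by
    obtain ⟨w, -, h5⟩ := hR p hp
    rw [testBit_bit, decide_eq_true_eq] at h5
    by_contra h6
    rw [ev_sg_fix hnv w (not_lt.1 h6)] at h5
    omega
  rw [← a4, ← ncard_bits a3, ← Set.InjOn.ncard_image (f := vec ω) (s := {i | V.testBit i = true})
    fun p hp q hq => vec_inj h2 hω (hlt p hp) (hlt q hq)]
  congr 1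
  ext v
  constructor
  · rintro ⟨g, hg, rfl⟩
    have key : ∀ g ∈ gen e [0, 1, 2], ∀ p < 262144, ∃ q < 262144,
        vec ω q = (g : Matrix F9 F9 F) *ᵥ vec ω p ∧ V.testBit q = V.testBit p := by
      intro g hg
      induction hg using Subgroup.closure_induction with
      | mem x hx =>
        obtain ⟨c, hc, rfl⟩ := hx
        intro p hp
        refine ⟨sg nv c p, lt_of_fix (fun i hi => Net.perm_fix (hnv c) hi) hp, h3 c hc p hp, ?_⟩
        rw [sg, ← Net.testBit_pull (hnv c), H29.beq_true.1 (allL_true.1 a2 c hc)]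
      | one => exact fun p hp => ⟨p, hp, by simp, rfl⟩
      | mul x y _ _ hx hy =>
        intro p hp
        obtain ⟨q, hq, b1, b2⟩ := hy p hp
        obtain ⟨r, hr, b3, b4⟩ := hx q hq
        exact ⟨r, hr, by rw [b3, b1, Units.val_mul, mulVec_mulVec], b4.trans b2⟩
      | inv x _ hx =>
        intro p hp
        obtain ⟨q, hq, b1⟩ := vec_surj hF hω (((x⁻¹ : GL F9 F) : Matrix F9 F9 F) *ᵥ vec ω p)
        obtain ⟨r, hr, b2, b3⟩ := hx q hq
        rw [b1, mulVec_mulVec, ← Units.val_mul, mul_inv_cancel, Units.val_one, one_mulVec] at b2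
        exact ⟨q, hq, b1, by rw [← b3, vec_inj h2 hω hr hp b2]⟩
    obtain ⟨q, -, b1, b2⟩ := key g (h1 ▸ hg) 1 (by decide)
    exact ⟨q, b2.trans (sub_true a1 (by simp [testBit_bit])), b1⟩
  · rintro ⟨p, hp, rfl⟩
    obtain ⟨w, hw, h5⟩ := hR p hp
    rw [testBit_bit, decide_eq_true_eq] at h5
    refine ⟨(ev e w)⁻¹, inv_mem (h1 ▸ ev_mem_gen hw), ?_⟩
    rw [h5, vec_ev h3 w hw p (hlt p hp), mulVec_mulVec, ← Units.val_mul, inv_mul_cancel,
      Units.val_one, one_mulVec]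

theorem ncard_lines {V : Type*} [AddCommGroup V] [Module F V] [Fintype F] {O : Set V}
    (hO : O.Finite) (h0 : (0 : V) ∉ O) (h1 : ∀ v ∈ O, ∀ c : F, c ≠ 0 → c • v ∈ O) :
    O.ncard = (Fintype.card F - 1) * ((fun v => F ∙ v) '' O).ncard := by
  classical
  have key : ∀ L ∈ hO.toFinset.image fun v => F ∙ v,
      (hO.toFinset.filter fun v => (F ∙ v) = L).card = Fintype.card F - 1 := by
    intro L hL
    obtain ⟨v, hv, rfl⟩ := Finset.mem_image.1 hL
    rw [Set.Finite.mem_toFinset] at hv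
    have hv0 : v ≠ 0 := fun h => h0 (h ▸ hv)
    rw [← Fintype.card_units, ← Finset.card_univ, ← Finset.card_image_of_injective Finset.univ
      (f := fun c : Fˣ => c • v) fun a b h => Units.ext (smul_left_injective F hv0 h)]
    congr 1
    ext x
    simp only [Finset.mem_filter, Set.Finite.mem_toFinset, Finset.mem_image, Finset.mem_univ,
      true_and]
    constructor
    · rintro ⟨-, h⟩
      obtain ⟨c, hc⟩ := Submodule.span_singleton_eq_span_singleton.1 h.symm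
      exact ⟨c, hc⟩
    · rintro ⟨c, rfl⟩
      exact ⟨h1 v hv c c.ne_zero, (Submodule.span_singleton_eq_span_singleton.2 ⟨c, rfl⟩).symm⟩
  rw [Set.ncard_eq_toFinset_card O hO, Finset.card_eq_sum_card_image (fun v => F ∙ v),
    Finset.sum_congr rfl key, Finset.sum_const, smul_eq_mul, mul_comm, ← Set.ncard_coe_finset]
  simp

theorem ncard_line [Fintype F] (hF : Fintype.card F = 4) (hω : ω ^ 2 + ω + 1 = 0) :
    {L : Submodule F (F9 → F) | ∃ g ∈ threeJ3 F ω,
      L = F ∙ ((g : Matrix F9 F9 F) *ᵥ (Pi.single (0 : F9) (1 : F) : F9 → F))}.ncard = 23256 := by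
  have h2 := two_eq_zero hF
  obtain ⟨-, -, -, s, hs, h3⟩ := exists_act h2 hω
  have h4 := ncard_vec hF hω
  rw [ncard_lines (F := F) (Set.toFinite _), hF] at h4
  · have : {L : Submodule F (F9 → F) | ∃ g ∈ threeJ3 F ω,
        L = F ∙ ((g : Matrix F9 F9 F) *ᵥ (Pi.single (0 : F9) (1 : F) : F9 → F))} =
        (fun v => F ∙ v) '' {v | ∃ g ∈ threeJ3 F ω, v = (g : Matrix F9 F9 F) *ᵥ vec ω 1} := by
      ext L
      rw [vec_one]
      exact ⟨fun ⟨g, hg, h⟩ => ⟨_, ⟨g, hg, rfl⟩, h.symm⟩,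
        fun ⟨_, ⟨g, hg, h⟩, h'⟩ => ⟨g, hg, by rw [← h', h]⟩⟩
    rw [this]; omega
  · rintro ⟨g, -, h⟩
    have := congrArg (fun v => ((g⁻¹ : GL F9 F) : Matrix F9 F9 F) *ᵥ v) h
    simp only [mulVec_zero, mulVec_mulVec, ← Units.val_mul, inv_mul_cancel, Units.val_one,
      one_mulVec, vec_one] at this
    simpa using congrFun this 0
  · rintro _ ⟨g, hg, rfl⟩ c hc
    have h5 : ∃ k : ℕ, c = ω ^ k := by
      obtain ⟨p, -, h⟩ := vec_surj hF hω (fun _ => c)
      have h6 := congrFun h 0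
      rw [vec] at h6
      generalize p.testBit _ = a at h6
      generalize p.testBit _ = b at h6
      cases a <;> cases b <;> simp [bt] at h6
      · exact absurd h6.symm hc
      · exact ⟨1, by simp [h6]⟩
      · exact ⟨0, by simp [h6]⟩
      · exact ⟨2, by linear_combination -h6 - hω + (ω + 1) * h2⟩
    obtain ⟨k, rfl⟩ := h5
    refine ⟨s ^ k * g, mul_mem (pow_mem hs k) hg, ?_⟩
    rw [Units.val_mul, Units.val_pow_eq_pow_val, h3, smul_pow, one_pow, smul_mul_assoc, one_mul,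
      smul_mulVec]

end H7.J3
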