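import Mathlib
import Cfsg.Agent.H7.Cay

/-!
# The group of codes of a Cayley table
-/

set_option autoImplicit false

namespace H7.X32

open H29 H7.Cay

/-- The test for the regular representation. -/
noncomputable def chkReg (C : Tab) (ivl : List ℕ) (R : List (List ℕ)) : Bool :=
  and2 (and2 (Nat.beq ivl.length C.nl) (allF C.nl fun l => lit (ivOf ivl l) fun m =>
      and2 (lt m C.nl) (Nat.beq (ivOf ivl m) l)))
    (allF C.n fun c => and2 (and2 (allF C.nl fun l => lit (C.step c l) fun d =>
        and2 (lt d C.n) (Nat.beq (C.step d (ivOf ivl l)) c)) (allL R fun r => Nat.beq (C.run r c) c))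
      (or2 (Nat.beq c 0) (and2 (and2 (lt (C.par c) c) (lt (C.let' c) C.nl))
        (Nat.beq (C.step (C.par c) (C.let' c)) c))))

theorem exists_reg {C : Tab} {ivl : List ℕ} {R : List (List ℕ)} (h : chkReg C ivl R = true) :
    ∃ e : ℕ → Equiv.Perm ℕ, IvOK e (ivOf ivl) ∧ (∀ r ∈ R, ev e r = 1) ∧
      ∀ c < C.n, (C.val e c)⁻¹ 0 = c := by
  simp only [chkReg, and2_true, allF_true, lit_eq, lt_true, nbeq, allL_true, or2_true] at h
  obtain ⟨⟨hl, hi⟩, h⟩ := h
  let f : ℕ → ℕ → ℕ := fun l c => if l < C.nl ∧ c < C.n then C.step c l else c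
  have f1 : ∀ l c, f (ivOf ivl l) (f l c) = c := fun l c => by
    by_cases h1 : l < C.nl
    · by_cases h2 : c < C.n
      · have := (h c h2).1.1 l h1
        simp only [f, h1, h2, this.1, (hi l h1).1, and_self, if_true, this.2]
      · simp only [f, h2, and_false, if_false]
    · have : ivOf ivl l = l := by
        rw [ivOf, nth_eq, List.getD_eq_default _ _ (by omega)]
      simp only [f, this, h1, false_and, if_false]
  have i2 : ∀ l, ivOf ivl (ivOf ivl l) = l := fun l => by
    by_cases h1 : l < C.nl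
    · exact (hi l h1).2
    · have : ivOf ivl l = l := by
        rw [ivOf, nth_eq, List.getD_eq_default _ _ (by omega)]
      rw [this, this]
  let σ : ℕ → Equiv.Perm ℕ := fun l => ⟨f (ivOf ivl l), f l, fun c => by
    have := f1 (ivOf ivl l) c; rwa [i2] at this, f1 l⟩
  have σ1 : ∀ l c, (σ l)⁻¹ c = f l c := fun _ _ => rfl
  have key : ∀ (u : List ℕ) c, c < C.n → C.run u c < C.n → (ev σ u)⁻¹ c = C.run u c := by
    intro u
    induction u with
    | nil => intro c _ _; rfl
    | cons y u ih =>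
      intro c hc h1
      have e1 : C.run (y :: u) c = Bool.rec C.n (C.run u (C.step c y)) (lt y C.nl) := rfl
      cases h2 : lt y C.nl with
      | false => rw [e1, h2] at h1; exact absurd h1 (lt_irrefl _)
      | true =>
        rw [e1, h2] at h1 ⊢
        have h3 := lt_true.1 h2
        rw [ev_cons, mul_inv_rev, Equiv.Perm.mul_apply, σ1]
        simp only [f, h3, hc, and_self, if_true]
        exact ih _ ((h c hc).1.1 y h3).1 h1
  have fix : ∀ (u : List ℕ) c, ¬ c < C.n → (ev σ u)⁻¹ c = c := by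
    intro u
    induction u with
    | nil => intro c _; rfl
    | cons y u ih =>
      intro c hc
      rw [ev_cons, mul_inv_rev, Equiv.Perm.mul_apply, σ1]
      simp only [f, hc, and_false, if_false]
      exact ih c hc
  refine ⟨σ, fun l => Equiv.ext fun c => ?_, fun r hr => inv_eq_one.1 (Equiv.ext fun c => ?_), ?_⟩
  · change f (ivOf ivl (ivOf ivl l)) c = f l c
    rw [i2]
  · by_cases hc : c < C.n
    · have := (h c hc).1.2 r hr
      rw [key r c hc (this.symm ▸ hc), this]; rfl
    · exact fix r c hc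
  · intro c
    induction c using Nat.strong_induction_on with
    | _ c ih =>
      intro hc
      rcases (h c hc).2 with rfl | ⟨⟨h1, h2⟩, h3⟩
      · rw [Tab.val_zero]; rfl
      · rw [Tab.val, if_pos h1, mul_inv_rev, Equiv.Perm.mul_apply, ih _ h1 (h1.trans hc), σ1]
        simp only [f, h2, h1.trans hc, and_self, if_true, h3]

/-- The table has a faithful model. -/
class Fa (M : GM) : Prop where
  ex : ∃ φ : ℕ → Equiv.Perm ℕ, M.Sound φ ∧ M.Inj φ

theorem fa_of_reg {C : Tab} {ivl : List ℕ} {R : List (List ℕ)} {M : GM} (h : chkReg C ivl R = true)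
    (hn : M.n = C.n) (hs : ∀ e : ℕ → Equiv.Perm ℕ, IvOK e (ivOf ivl) → (∀ r ∈ R, ev e r = 1) →
      M.Sound (C.val e)) : Fa M := by
  obtain ⟨e, h1, h2, h3⟩ := exists_reg h
  refine ⟨_, hs e h1 h2, fun a ha b hb e1 => ?_⟩
  rw [← h3 a (hn ▸ ha), ← h3 b (hn ▸ hb), e1]

/-- The codes. -/
@[ext] structure KK (M : GM) : Type where
  val : ℕ
  lt : val < M.n

namespace KK

variable {M : GM} [Fa M]

theorem snd : M.Sound (Fa.ex (M := M)).choose := Fa.ex.choose_spec.1

noncomputable instance : Mul (KK M) := ⟨fun a b =>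
  ⟨lit a.val fun x => lit b.val fun y => M.mul x y, snd.mul_lt _ a.lt _ b.lt⟩⟩
noncomputable instance : Inv (KK M) := ⟨fun a => ⟨M.inv a.val, snd.inv_lt _ a.lt⟩⟩
instance : One (KK M) := ⟨⟨0, snd.pos⟩⟩
instance : DecidableEq (KK M) := fun a b => decidable_of_iff (Nat.beq a.val b.val = true)
  (nbeq.trans KK.ext_iff.symm)

section
variable {G : Type*} [Group G] {φ : ℕ → G} (h : M.Sound φ)
include h
theorem v_mul (a b : KK M) : φ (a * b).val = φ a.val * φ b.val := h.map_mul _ a.lt _ b.lt
theorem v_inv (a : KK M) : φ a⁻¹.val = (φ a.val)⁻¹ := h.map_inv _ a.lt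
theorem v_one : φ (1 : KK M).val = 1 := h.zero
end

theorem inj {a b : KK M} (h : (Fa.ex (M := M)).choose a.val = (Fa.ex (M := M)).choose b.val) :
    a = b := KK.ext (Fa.ex.choose_spec.2 _ a.lt _ b.lt h)

noncomputable instance : Group (KK M) := Group.ofLeftAxioms
  (fun a b c => inj (by simp only [v_mul snd, mul_assoc]))
  (fun a => inj (by rw [v_mul snd, v_one snd, one_mul]))
  (fun a => inj (by rw [v_mul snd, v_inv snd, v_one snd, inv_mul_cancel]))

/-- The code with a given number. -/
def of (c : ℕ) : KK M := ⟨Nat.mod c M.n, Nat.mod_lt _ snd.pos⟩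
theorem of_val (a : KK M) : of a.val = a := KK.ext (Nat.mod_eq_of_lt a.lt)
theorem val_of {c : ℕ} (h : c < M.n) : (of c : KK M).val = c := Nat.mod_eq_of_lt h

noncomputable instance (priority := low) decAll (P : KK M → Prop) [DecidablePred P] : Decidable (∀ k, P k) :=
  decidable_of_iff (allF M.n (fun c => decide (P (of c))) = true) <| by
    simp only [allF_true, decide_eq_true_eq]
    exact ⟨fun h k => of_val k ▸ h _ k.lt, fun h _ _ => h _⟩

/-- Search. -/
noncomputable def anyF (n : ℕ) (f : ℕ → Bool) : Bool :=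
  Nat.rec (motive := fun _ => Bool) false (fun m ih => or2 (lit m f) ih) n
theorem anyF_true {n : ℕ} {f : ℕ → Bool} : anyF n f = true ↔ ∃ a < n, f a = true := by
  induction n with
  | zero => simp [anyF]
  | succ m ih =>
    rw [show anyF (m + 1) f = or2 (f m) (anyF m f) from rfl, or2_true, ih,
      Nat.exists_lt_succ_right, or_comm]

noncomputable instance (priority := low) decEx (P : KK M → Prop) [DecidablePred P] : Decidable (∃ k, P k) :=
  decidable_of_iff (anyF M.n (fun c => decide (P (of c))) = true) <| by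
    simp only [anyF_true, decide_eq_true_eq]
    exact ⟨fun ⟨_, _, h⟩ => ⟨_, h⟩, fun ⟨k, h⟩ => ⟨k.val, k.lt, (of_val k).symm ▸ h⟩⟩

/-- The codes as a finite type. -/
def equivFin : KK M ≃ Fin M.n := ⟨fun k => ⟨k.val, k.lt⟩, fun c => ⟨c.1, c.2⟩, fun _ => rfl, fun _ => rfl⟩

instance : Finite (KK M) := Finite.of_equiv _ equivFin.symm

theorem card : Nat.card (KK M) = M.n := by rw [Nat.card_congr equivFin]; simp

/-- The number of codes that pass a test. -/
noncomputable def cnt (n : ℕ) (f : ℕ → Bool) : ℕ :=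
  Nat.rec (motive := fun _ => ℕ) 0 (fun m ih => lit ih fun s => Bool.rec s (Nat.succ s) (lit m f)) n

theorem cnt_eq (f : ℕ → Bool) (n : ℕ) :
    cnt n f = ((Finset.range n).filter fun c => f c = true).card := by
  induction n with
  | zero => rfl
  | succ m ih =>
    rw [show cnt (m + 1) f = Bool.rec (cnt m f) (Nat.succ (cnt m f)) (f m) from rfl, ih,
      Finset.range_add_one, Finset.filter_insert]
    cases h : f m
    · simp
    · rw [if_pos rfl, Finset.card_insert_of_notMem (by simp)]

theorem card_sub (P : KK M → Prop) [DecidablePred P] :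
    Nat.card {k // P k} = cnt M.n fun c => decide (P (of c)) := by
  rw [cnt_eq, ← Nat.card_eq_finsetCard]
  refine Nat.card_congr ⟨fun k => ⟨k.1.val, by simp [k.1.lt, of_val, k.2]⟩,
    fun c => ⟨of c.1, by simpa using (Finset.mem_filter.1 c.2).2⟩, fun k => ?_, fun c => ?_⟩
  · exact Subtype.ext (of_val _)
  · exact Subtype.ext (val_of (by simpa using (Finset.mem_filter.1 c.2).1))

variable {G : Type*} [Group G] {φ : ℕ → G}

/-- The homomorphism of a sound valuation. -/
noncomputable def hom (h : M.Sound φ) : KK M →* G where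
  toFun k := φ k.val
  map_one' := v_one h
  map_mul' := v_mul h

theorem hom_apply (h : M.Sound φ) (k : KK M) : hom h k = φ k.val := rfl

theorem hom_range (h : M.Sound φ) : (hom h).range = h.sub := by
  ext g
  exact ⟨fun ⟨k, hk⟩ => ⟨k.val, k.lt, hk⟩, fun ⟨c, hc, h⟩ => ⟨⟨c, hc⟩, h⟩⟩

theorem inj_iff (h : M.Sound φ) : M.Inj φ ↔ Function.Injective (hom h) :=
  ⟨fun hi a b e => KK.ext (hi _ a.lt _ b.lt e), fun hi a ha b hb e =>
    congrArg KK.val (@hi ⟨a, ha⟩ ⟨b, hb⟩ e)⟩

/-- A homomorphism is a sound valuation. -/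
theorem sound_of_hom (f : KK M →* G) : M.Sound fun c => f (of c) := by
  refine ⟨snd.pos, ?_, snd.mul_lt, snd.inv_lt, fun a ha b hb => ?_, fun a ha => ?_⟩
  · rw [← map_one f]; exact congrArg f (of_val 1)
  · rw [← map_mul]; congr 1
    exact KK.ext (by
      rw [val_of (snd.mul_lt a ha b hb)]
      change _ = M.mul (of a : KK M).val (of b : KK M).val
      rw [val_of ha, val_of hb])
  · rw [← map_inv]; congr 1
    exact KK.ext (by
      rw [val_of (snd.inv_lt a ha)]
      change _ = M.inv (of a : KK M).val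
      rw [val_of ha])

end KK

/-- Every non-trivial normal subgroup contains `z`. -/
def Mono {K : Type*} [Group K] (z : K) (L : List K) : Prop :=
  ∀ k : K, k = 1 ∨ k = z ∨ ∃ p ∈ L, k * p * k⁻¹ * p⁻¹ = z ∨
    ∃ q ∈ L, k * p * k⁻¹ * p⁻¹ * q * (k * p * k⁻¹ * p⁻¹)⁻¹ * q⁻¹ = z

theorem Mono.inj {K G : Type*} [Group K] [Group G] {z : K} {L : List K} (h : Mono z L)
    (f : K →* G) (hz : f z ≠ 1) : Function.Injective f := by
  refine (injective_iff_map_eq_one f).2 fun k hk => ?_
  rcases h k with h | rfl | ⟨p, -, h | ⟨q, -, h⟩⟩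
  · exact h
  · exact absurd hk hz
  · exact absurd (by rw [← h]; simp [hk]) hz
  · exact absurd (by rw [← h]; simp [hk]) hz

/-- Letters with their inverses. -/
def pe {G : Type*} [Group G] (L : List G) (c : ℕ) : G :=
  if c % 2 = 0 then L.getD (c / 2) 1 else (L.getD (c / 2) 1)⁻¹

theorem ivOK_pe {G : Type*} [Group G] (L : List G) {ivl : List ℕ} (h1 : ivl.length = 2 * L.length)
    (h2 : ∀ c < ivl.length, ivOf ivl c / 2 = c / 2 ∧ ivOf ivl c % 2 ≠ c % 2) :
    IvOK (pe L) (ivOf ivl) := fun c => by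
  by_cases h : c < ivl.length
  · obtain ⟨a, b⟩ := h2 c h
    unfold pe
    rw [a]
    by_cases h3 : c % 2 = 0
    · rw [if_pos h3, if_neg (by omega)]
    · rw [if_neg h3, if_pos (by omega), inv_inv]
  · have : ivOf ivl c = c := by rw [ivOf, nth_eq, List.getD_eq_default _ _ (by omega)]
    rw [this]; unfold pe
    rw [List.getD_eq_default _ _ (by omega)]; simp

theorem pe_mem {G : Type*} [Group G] {L : List G} {H : Subgroup G} (h : ∀ x ∈ L, x ∈ H) (c : ℕ) :
    pe L c ∈ H := by
  have : L.getD (c / 2) 1 ∈ H := by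
    rw [List.getD_eq_getElem?_getD]
    cases h1 : L[c / 2]? with
    | none => exact one_mem _
    | some a => exact h a (List.mem_of_getElem? h1)
  unfold pe
  split_ifs
  exacts [this, inv_mem this]

theorem fin_closure_induction {G : Type*} [Group G] {S : Set G} {p : G → Prop}
    (hS : ∀ x ∈ S, IsOfFinOrder x) (h1 : p 1) (h2 : ∀ x y, p x → y ∈ S → p (x * y)) {g : G}
    (h : g ∈ Subgroup.closure S) : p g := by
  have key : ∀ y ∈ S, ∀ (n : ℕ) x, p x → p (x * y ^ n) := fun y hy n => by
    induction n with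
    | zero => intro x hx; simpa using hx
    | succ n ih => intro x hx; rw [pow_succ, ← mul_assoc]; exact h2 _ _ (ih x hx) hy
  refine Subgroup.closure_induction_right h1 (fun x _ y hy hx => h2 x y hx hy) (fun x _ y hy hx => ?_) h
  obtain ⟨n, hn, e⟩ := isOfFinOrder_iff_pow_eq_one.1 (hS y hy)
  have : y⁻¹ = y ^ (n - 1) := by
    rw [inv_eq_iff_mul_eq_one, ← pow_succ', Nat.sub_add_cancel hn, e]
  rw [this]; exact key y hy _ x hx

end H7.X32
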